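import Mathlib
import Groth.Prelude.Def_ComodSub
import Groth.Prelude.Def_W4c1tameactTame
import Groth.Agent.H29.ComodDual
import Groth.Agent.H15.FundComod
import Groth.Agent.H27.HopfInt

/-!
# Linearly reductive Hopf algebras (helper4 library)

* `isSemisimpleComod_of_linRed`: semisimplicity of all finite-dimensional comodules gives
  semisimplicity of every comodule.
* `exists_fixed_lift`: surjective comodule maps are surjective on invariants.
* `exists_integral`, `exists_total_integral`: the normalised integral `A → k`, and the total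
  integral `A → B` for any comodule algebra `B`.
-/

set_option autoImplicit false
universe u v w

open TensorProduct

namespace Groth.Agent.Helper4.LinRed

open Groth.Agent.H29

attribute [local instance] Groth.Agent.H29.dualModule

section Coalg

variable {k : Type u} [Field k] {C : Type v} [AddCommGroup C] [Module k C] [Coalgebra k C]
variable {V : Type w} [AddCommGroup V] [Module k V]

omit [Coalgebra k C] in
/-- Linear functionals on the right factor separate the points of `V ⊗ C`. -/
lemma tensor_ext_rAct (z z' : V ⊗[k] C)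
    (h : ∀ ψ : C →ₗ[k] k, rAct V ψ z = rAct V ψ z') : z = z' := by
  classical
  apply (TensorProduct.equivFinsuppOfBasisRight (Module.Free.chooseBasis k C)).injective
  ext j
  rw [TensorProduct.equivFinsuppOfBasisRight_apply, TensorProduct.equivFinsuppOfBasisRight_apply]
  exact h ((Module.Free.chooseBasis k C).coord j)

variable [HopfRep.Comod k C V]

/-- The kernel of a comodule map is a subcomodule. -/
lemma isSubcomod_ker {W : Type*} [AddCommGroup W] [Module k W] [HopfRep.Comod k C W]
    (f : V →ₗ[k] W) (hf : Hoch.IsComodHom C f) :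
    HopfRep.IsSubcomod (k := k) (A := C) (LinearMap.ker f) := by
  rw [isSubcomod_iff]
  intro ψ w hw
  rw [LinearMap.mem_ker] at hw ⊢
  rw [(isComodHom_iff f).mp hf ψ w, hw, map_zero]

end Coalg

section Bialg

variable {k : Type u} [Field k] {A : Type v} [CommRing A] [Bialgebra k A]

/-- Invariants in terms of the action of the dual algebra. -/
lemma mem_fixedPts_iff {V : Type w} [AddCommGroup V] [Module k V] [HopfRep.Comod k A V] (v : V) :
    v ∈ HopfRep.fixedPts k A V ↔ ∀ ψ : A →ₗ[k] k, dualAct ψ v = ψ 1 • v := by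
  constructor
  · intro hv ψ
    have h : HopfRep.Comod.coact (k := k) (A := A) v = v ⊗ₜ[k] (1 : A) := hv
    rw [dualAct_apply, h, rAct_tmul]
  · intro h
    show HopfRep.Comod.coact (k := k) (A := A) v = v ⊗ₜ[k] (1 : A)
    apply tensor_ext_rAct
    intro ψ
    rw [rAct_tmul, ← dualAct_apply]
    exact h ψ

/-- Linear reductivity (semisimplicity of the finite-dimensional comodules) gives semisimplicity
of every comodule. -/
theorem isSemisimpleComod_of_linRed (hred : HopfRep.IsLinearlyReductive k A)
    (V : Type v) [AddCommGroup V] [Module k V] [HopfRep.Comod k A V] :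
    HopfRep.IsSemisimpleComod k A V := by
  apply isSemisimpleComod_of_isSemisimpleModule
  have key : ∀ v : V, ∃ N : Submodule (DualAlg k A) V, v ∈ N ∧
      IsSemisimpleModule (DualAlg k A) N := by
    intro v
    obtain ⟨W, hfin, hvW, hW⟩ := Groth.Agent.H15.FundComod.fund k A V v
    let cW : HopfRep.Comod k A W := ComodSub.Comod.restr inferInstance W hW
    have hss : HopfRep.IsSemisimpleComod k A W := hred W hfin
    have hssD : IsSemisimpleModule (DualAlg k A) W :=
      isSemisimpleModule_of_isSemisimpleComod k A W hss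
    have hsub : Hoch.IsComodHom A W.subtype := ComodSub.isComodHom_subtype _ W hW
    refine ⟨LinearMap.range (toDualHom (k := k) (C := A) W.subtype hsub), ⟨⟨v, hvW⟩, rfl⟩, ?_⟩
    exact IsSemisimpleModule.range (toDualHom (k := k) (C := A) W.subtype hsub)
  choose N hvN hN using key
  refine isSemisimpleModule_of_isSemisimpleModule_submodule' hN ?_
  rw [eq_top_iff]
  intro v _
  exact Submodule.mem_iSup_of_mem v (hvN v)

/-- For a linearly reductive `A`, a surjective comodule map is surjective on invariants. -/
theorem exists_fixed_lift (hred : HopfRep.IsLinearlyReductive k A)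
    {V : Type v} [AddCommGroup V] [Module k V] [HopfRep.Comod k A V]
    {W : Type w} [AddCommGroup W] [Module k W] [HopfRep.Comod k A W]
    (φ : V →ₗ[k] W) (hφ : Hoch.IsComodHom A φ) (hsurj : Function.Surjective φ)
    (w : W) (hw : w ∈ HopfRep.fixedPts k A W) :
    ∃ v ∈ HopfRep.fixedPts k A V, φ v = w := by
  obtain ⟨V', hV', hc⟩ := isSemisimpleComod_of_linRed hred V (LinearMap.ker φ)
    (isSubcomod_ker φ hφ)
  obtain ⟨v₀, hv₀⟩ := hsurj w
  have hmem : v₀ ∈ LinearMap.ker φ ⊔ V' := by rw [hc.sup_eq_top]; trivial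
  obtain ⟨x, hx, v, hv, hxv⟩ := Submodule.mem_sup.mp hmem
  have hφv : φ v = w := by
    rw [← hv₀, ← hxv, map_add, LinearMap.mem_ker.mp hx, zero_add]
  refine ⟨v, ?_, hφv⟩
  rw [mem_fixedPts_iff]
  intro ψ
  have hd1 : dualAct ψ v - ψ 1 • v ∈ V' :=
    V'.sub_mem ((isSubcomod_iff V').mp hV' ψ v hv) (V'.smul_mem _ hv)
  have hd2 : dualAct ψ v - ψ 1 • v ∈ LinearMap.ker φ := by
    rw [LinearMap.mem_ker, map_sub, (isComodHom_iff φ).mp hφ ψ v, map_smul, hφv,
      (mem_fixedPts_iff w).mp hw ψ, sub_self]
  have h0 : dualAct ψ v - ψ 1 • v ∈ LinearMap.ker φ ⊓ V' := ⟨hd2, hd1⟩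
  rw [hc.inf_eq_bot, Submodule.mem_bot] at h0
  exact sub_eq_zero.mp h0

end Bialg

section Integral

variable {k : Type u} [Field k] {A : Type v} [CommRing A] [Bialgebra k A]

/-- The line spanned by `1` is a subcomodule of the regular comodule. -/
lemma isSubcomod_span_one :
    HopfRep.IsSubcomod (k := k) (A := A) (V := A) (Submodule.span k {(1 : A)}) := by
  intro w hw
  obtain ⟨c, rfl⟩ := Submodule.mem_span_singleton.mp hw
  have h1 : HopfRep.Comod.coact (k := k) (A := A) (c • (1 : A)) =
      (c • (1 : A)) ⊗ₜ[k] (1 : A) := by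
    show CoalgebraStruct.comul (R := k) (c • (1 : A)) = _
    rw [map_smul, Bialgebra.comul_one, Algebra.TensorProduct.one_def, TensorProduct.smul_tmul']
  rw [h1]
  exact Groth.Agent.H15.FundComod.mem_range_rTensor_of_mem k A A _ _ hw 1

/-- The normalised (left) integral of a linearly reductive bialgebra: a comodule map from the
regular comodule to the trivial one sending `1` to `1`. -/
theorem exists_integral (hred : HopfRep.IsLinearlyReductive k A) :
    ∃ I : A →ₗ[k] k, I 1 = 1 ∧
      ∀ a : A, I.rTensor A (CoalgebraStruct.comul (R := k) a) = I a ⊗ₜ[k] (1 : A) := by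
  obtain ⟨A', hA', hc⟩ := isSemisimpleComod_of_linRed hred A (Submodule.span k {(1 : A)})
    isSubcomod_span_one
  obtain ⟨L, hL⟩ : ∃ L : Submodule k A, L = Submodule.span k {(1 : A)} := ⟨_, rfl⟩
  rw [← hL] at hc
  have hLsub : HopfRep.IsSubcomod (k := k) (A := A) (V := A) L := hL ▸ isSubcomod_span_one
  have h1L : (1 : A) ∈ L := hL ▸ Submodule.mem_span_singleton_self 1
  obtain ⟨P, hP⟩ : ∃ P : A →ₗ[k] A, P = L.projection A' hc := ⟨_, rfl⟩
  have hPL : ∀ x ∈ L, P x = x := by
    intro x hx
    rw [hP]
    exact Submodule.projection_apply_of_mem_left hc hx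
  have hPA' : ∀ x ∈ A', P x = 0 := by
    intro x hx
    rw [hP]
    exact Submodule.projection_apply_of_mem_right hc hx
  have hPmem : ∀ a, P a ∈ L := by
    intro a
    rw [hP]
    exact Submodule.projection_apply_mem hc a
  have hPsub : ∀ a, a - P a ∈ A' := by
    intro a
    have h2 : P (a - P a) = 0 := by rw [map_sub, hPL _ (hPmem a), sub_self]
    rw [hP] at h2
    have h3 := (Submodule.projection_apply_eq_zero_iff hc).mp h2
    rwa [← hP] at h3
  have hPhom : Hoch.IsComodHom A P := by
    rw [isComodHom_iff]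
    intro ψ a
    have hsplit : dualAct ψ a = dualAct ψ (P a) + dualAct ψ (a - P a) := by
      rw [← map_add, add_sub_cancel]
    rw [hsplit, map_add, hPL _ ((isSubcomod_iff L).mp hLsub ψ _ (hPmem a)),
      hPA' _ ((isSubcomod_iff A').mp hA' ψ _ (hPsub a)), add_zero]
  refine ⟨Coalgebra.counit ∘ₗ P, ?_, ?_⟩
  · rw [LinearMap.comp_apply, hPL 1 h1L, Bialgebra.counit_one]
  · intro a
    rw [LinearMap.rTensor_comp, LinearMap.comp_apply]
    have h3 : P.rTensor A (CoalgebraStruct.comul (R := k) a) =
        CoalgebraStruct.comul (R := k) (P a) := by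
      have := LinearMap.congr_fun hPhom a
      simp only [LinearMap.comp_apply] at this
      exact this.symm
    rw [h3]
    obtain ⟨c, hc'⟩ : ∃ c : k, c • (1 : A) = P a := by
      have := hPmem a
      rw [hL] at this
      exact Submodule.mem_span_singleton.mp this
    rw [LinearMap.comp_apply, ← hc', map_smul, map_smul, map_smul, Bialgebra.comul_one,
      Algebra.TensorProduct.one_def, LinearMap.rTensor_tmul, Bialgebra.counit_one,
      TensorProduct.smul_tmul', smul_eq_mul, mul_one]

/-- A linearly reductive bialgebra has a total integral into every comodule algebra. -/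
theorem exists_total_integral (hred : HopfRep.IsLinearlyReductive k A)
    (B : Type w) [CommRing B] [Algebra k B] [HopfRep.Comod k A B] [GLin.IsCoactAlg k A B] :
    ∃ α : A →ₗ[k] B, Hoch.IsComodHom A α ∧ α 1 = 1 := by
  obtain ⟨I, hI1, hI⟩ := exists_integral hred
  refine ⟨Algebra.linearMap k B ∘ₗ I, ?_, ?_⟩
  · apply LinearMap.ext
    intro a
    simp only [LinearMap.comp_apply]
    have h1 : HopfRep.Comod.coact (k := k) (A := A) (V := A) a =
        CoalgebraStruct.comul (R := k) a := rfl
    rw [h1, LinearMap.rTensor_comp, LinearMap.comp_apply, hI a, LinearMap.rTensor_tmul,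
      Algebra.linearMap_apply, Algebra.algebraMap_eq_smul_one, map_smul,
      GLin.IsCoactAlg.coact_one (k := k) (A := A) (R := B), Algebra.TensorProduct.one_def,
      TensorProduct.smul_tmul']
  · rw [LinearMap.comp_apply, hI1, Algebra.linearMap_apply, map_one]

end Integral

section Reynolds

variable {k : Type u} [Field k] {A : Type v} [CommRing A] [HopfAlgebra k A]

/-- The Reynolds operator of a comodule algebra over a linearly reductive Hopf algebra. -/
theorem exists_reynolds (hred : HopfRep.IsLinearlyReductive k A)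
    (R : Type w) [CommRing R] [Algebra k R] [HopfRep.Comod k A R] [GLin.IsCoactAlg k A R] :
    ∃ E : R →ₗ[k] R, (∀ r, E r ∈ HopfRep.fixedPts k A R) ∧
      (∀ r ∈ HopfRep.fixedPts k A R, E r = r) ∧
      (∀ c ∈ HopfRep.fixedPts k A R, ∀ b, E (c * b) = c * E b) ∧
      (∀ I : Ideal R, HopfRep.IsSubcomod (k := k) (A := A) (I.restrictScalars k) →
        ∀ y ∈ I, E y ∈ I) := by
  obtain ⟨α, hα, hα1⟩ := exists_total_integral hred R
  haveI := Groth.Agent.H27.HopfInt.isHopfMod_self (k := k) (A := A) (B := R)
  refine ⟨TameAct.reynolds k A R R α, ?_, ?_, ?_, ?_⟩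
  · intro r
    exact Groth.Agent.H27.HopfInt.reynolds_mem_fixedPts α hα r
  · intro r hr
    exact Groth.Agent.H27.HopfInt.reynolds_of_mem_fixedPts α hα1 r hr
  · intro c hc b
    exact Groth.Agent.H27.HopfInt.reynolds_self_mul α c b hc
  · intro I hI y hy
    exact Groth.Agent.H27.HopfInt.reynolds_mem_of_isSubcomod α I hI y hy

/-- The Reynolds operator of a comodule algebra over a linearly reductive Hopf algebra, in the
form that preserves every subcomodule. -/
theorem exists_reynolds' (hred : HopfRep.IsLinearlyReductive k A)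
    (R : Type w) [CommRing R] [Algebra k R] [HopfRep.Comod k A R] [GLin.IsCoactAlg k A R] :
    ∃ E : R →ₗ[k] R, (∀ r, E r ∈ HopfRep.fixedPts k A R) ∧
      (∀ r ∈ HopfRep.fixedPts k A R, E r = r) ∧
      (∀ c ∈ HopfRep.fixedPts k A R, ∀ b, E (c * b) = c * E b) ∧
      (∀ W : Submodule k R, HopfRep.IsSubcomod (k := k) (A := A) W → ∀ y ∈ W, E y ∈ W) := by
  obtain ⟨I, hI1, hI⟩ := exists_integral hred
  obtain ⟨α, hαdef⟩ : ∃ α : A →ₗ[k] R, α = Algebra.linearMap k R ∘ₗ I := ⟨_, rfl⟩
  have hα : Hoch.IsComodHom A α := by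
    rw [hαdef]
    apply LinearMap.ext
    intro a
    simp only [LinearMap.comp_apply]
    have h1 : HopfRep.Comod.coact (k := k) (A := A) (V := A) a =
        CoalgebraStruct.comul (R := k) a := rfl
    rw [h1, LinearMap.rTensor_comp, LinearMap.comp_apply, hI a, LinearMap.rTensor_tmul,
      Algebra.linearMap_apply, Algebra.algebraMap_eq_smul_one, map_smul,
      GLin.IsCoactAlg.coact_one (k := k) (A := A) (R := R), Algebra.TensorProduct.one_def,
      TensorProduct.smul_tmul']
  have hα1 : α 1 = 1 := by
    rw [hαdef, LinearMap.comp_apply, hI1, Algebra.linearMap_apply, map_one]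
  haveI := Groth.Agent.H27.HopfInt.isHopfMod_self (k := k) (A := A) (B := R)
  refine ⟨TameAct.reynolds k A R R α, ?_, ?_, ?_, ?_⟩
  · intro r
    exact Groth.Agent.H27.HopfInt.reynolds_mem_fixedPts α hα r
  · intro r hr
    exact Groth.Agent.H27.HopfInt.reynolds_of_mem_fixedPts α hα1 r hr
  · intro c hc b
    exact Groth.Agent.H27.HopfInt.reynolds_self_mul α c b hc
  · intro W hW y hy
    rw [Groth.Agent.H27.HopfInt.reynolds_eq]
    obtain ⟨z, hz⟩ := hW y hy
    rw [← hz]
    clear hz
    induction z using TensorProduct.induction_on with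
    | zero => simp
    | tmul w a =>
      rw [LinearMap.rTensor_tmul, Groth.Agent.H27.HopfInt.Phi_tmul, hαdef, LinearMap.comp_apply,
        Algebra.linearMap_apply, algebraMap_smul]
      exact W.smul_mem _ w.2
    | add z z' hz hz' =>
      rw [map_add, map_add]
      exact W.add_mem hz hz'

end Reynolds

end Groth.Agent.Helper4.LinRed
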