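import Mathlib

/-!
Associated primes of flat modules over a Noetherian ring.
-/

set_option autoImplicit false

namespace Groth.Agent.Helper4

open scoped TensorProduct
open Function TensorProduct

/-- Lemma K: for a flat module `N` and a finite family `a`, every element killed by all `a i`
lies in `Ann(a) • N`. -/
theorem mem_ker_smul_top_of_flat {B : Type*} [CommRing B] {N : Type*} [AddCommGroup N]
    [Module B N] [Module.Flat B N] {ι : Type*} [Fintype ι] [DecidableEq ι] (a : ι → B) (x : N)
    (hx : ∀ i, a i • x = 0) :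
    x ∈ (LinearMap.ker (LinearMap.pi (fun i => LinearMap.mulLeft B (a i)) : B →ₗ[B] (ι → B))) •
      (⊤ : Submodule B N) := by
  set g : B →ₗ[B] (ι → B) := LinearMap.pi (fun i => LinearMap.mulLeft B (a i)) with hg
  have hex : Exact ((LinearMap.ker g).subtype.lTensor N) (g.lTensor N) :=
    Module.Flat.lTensor_exact N (LinearMap.exact_subtype_ker_map g)
  have h1 : (g.lTensor N) (x ⊗ₜ[B] (1 : B)) = 0 := by
    rw [LinearMap.lTensor_tmul]
    have hg1 : g 1 = ∑ i, a i • (Pi.single i (1 : B) : ι → B) := by
      ext j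
      simp [g, Finset.sum_apply, Pi.single_apply]
    rw [hg1, TensorProduct.tmul_sum]
    refine Finset.sum_eq_zero (fun i _ => ?_)
    rw [TensorProduct.tmul_smul, TensorProduct.smul_tmul', hx i, TensorProduct.zero_tmul]
  obtain ⟨w, hw⟩ := (hex _).mp h1
  have h2 : ∀ w : N ⊗[B] (LinearMap.ker g),
      (TensorProduct.rid B N) (((LinearMap.ker g).subtype.lTensor N) w) ∈
        (LinearMap.ker g) • (⊤ : Submodule B N) := by
    intro w
    induction w using TensorProduct.induction_on with
    | zero => simp
    | tmul n b =>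
      rw [LinearMap.lTensor_tmul, TensorProduct.rid_tmul]
      exact Submodule.smul_mem_smul b.2 trivial
    | add w w' h h' =>
      rw [map_add, map_add]
      exact Submodule.add_mem _ h h'
  have h3 := h2 w
  rw [hw, TensorProduct.rid_tmul, one_smul] at h3
  exact h3

/-- Lemma L: associated primes of a flat module over a Noetherian ring are associated primes of
the ring. -/
theorem associatedPrimes_subset_of_flat {B : Type*} [CommRing B] [IsNoetherianRing B]
    {N : Type*} [AddCommGroup N] [Module B N] [Module.Flat B N] :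
    associatedPrimes B N ⊆ associatedPrimes B B := by
  classical
  intro P hP
  rw [AssociatedPrimes.mem_iff, isAssociatedPrime_iff] at hP ⊢
  obtain ⟨hPprime, x, hPx⟩ := hP
  refine ⟨hPprime, ?_⟩
  by_contra hcon
  push Not at hcon
  -- generators of P
  obtain ⟨s, hs⟩ := (IsNoetherian.noetherian P : P.FG)
  set g : B →ₗ[B] (↥s → B) := LinearMap.pi (fun i => LinearMap.mulLeft B (i : B)) with hg
  have hxs : ∀ i : ↥s, (i : B) • x = 0 := by
    intro i
    have : (i : B) ∈ P := by rw [← hs]; exact Ideal.subset_span i.2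
    rw [hPx, Submodule.mem_colon_singleton, Submodule.mem_bot] at this
    exact this
  have hxmem := mem_ker_smul_top_of_flat (fun i : ↥s => (i : B)) x hxs
  -- every b ∈ ker g is killed by P
  have hker : ∀ b ∈ LinearMap.ker g, ∀ c ∈ P, c * b = 0 := by
    intro b hb c hc
    rw [LinearMap.mem_ker] at hb
    have hb' : ∀ i : ↥s, (i : B) * b = 0 := fun i => congrFun hb i
    rw [← hs] at hc
    refine Submodule.span_induction (p := fun c _ => c * b = 0) ?_ ?_ ?_ ?_ hc
    · intro c hc; exact hb' ⟨c, hc⟩
    · exact zero_mul b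
    · intro c d _ _ h h'; rw [add_mul, h, h', add_zero]
    · intro r c _ h; rw [smul_eq_mul, mul_assoc, h, mul_zero]
  -- for every b ∈ ker g there is s ∉ P with s * b = 0
  have hex : ∀ b ∈ LinearMap.ker g, ∃ t : B, t ∉ P ∧ t * b = 0 := by
    intro b hb
    by_contra hno
    push Not at hno
    apply hcon b
    ext c
    rw [Submodule.mem_colon_singleton, Submodule.mem_bot, smul_eq_mul]
    constructor
    · intro hc; exact hker b hb c hc
    · intro hc
      by_contra hcP
      exact hno c hcP hc
  obtain ⟨T, hT⟩ := (IsNoetherian.noetherian (LinearMap.ker g) : (LinearMap.ker g).FG)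
  have hTmem : ∀ b ∈ T, b ∈ LinearMap.ker g := fun b hb => by
    rw [← hT]; exact Submodule.subset_span hb
  choose! t ht using hex
  set u : B := ∏ b ∈ T, t b with hu
  have huP : u ∉ P := by
    rw [hu, Ideal.IsPrime.prod_mem_iff]
    push Not
    intro b hb
    exact (ht b (hTmem b hb)).1
  have hukill : ∀ b ∈ LinearMap.ker g, u * b = 0 := by
    intro b hb
    rw [← hT] at hb
    refine Submodule.span_induction (p := fun b _ => u * b = 0) ?_ ?_ ?_ ?_ hb
    · intro b hbT
      rw [hu, ← Finset.mul_prod_erase T t hbT, mul_comm (t b), mul_assoc,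
        (ht b (hTmem b hbT)).2, mul_zero]
    · exact mul_zero u
    · intro c d _ _ h h'; rw [mul_add, h, h', add_zero]
    · intro r c _ h; rw [smul_eq_mul, mul_left_comm, h, mul_zero]
  have hux : u • x = 0 := by
    refine Submodule.smul_induction_on hxmem ?_ ?_
    · intro b hb n _
      rw [smul_smul, hukill b hb, zero_smul]
    · intro y z hy hz
      rw [smul_add, hy, hz, add_zero]
  apply huP
  rw [hPx, Submodule.mem_colon_singleton, Submodule.mem_bot]
  exact hux

/-- Transfer of associated primes along `A → A/J`, first direction. -/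
theorem exists_associatedPrime_quotient_of_mem {A : Type*} [CommRing A] [IsNoetherianRing A]
    (J : Ideal A) {N : Type*} [AddCommGroup N] [Module A N] [Module (A ⧸ J) N]
    [IsScalarTower A (A ⧸ J) N] {p : Ideal A} (hp : p ∈ associatedPrimes A N) :
    ∃ P ∈ associatedPrimes (A ⧸ J) N, p = P.comap (Ideal.Quotient.mk J) := by
  rw [AssociatedPrimes.mem_iff, isAssociatedPrime_iff] at hp
  obtain ⟨hprime, x, hpx⟩ := hp
  set P : Ideal (A ⧸ J) := (⊥ : Submodule (A ⧸ J) N).colon {x} with hP
  have hcomap : p = P.comap (Ideal.Quotient.mk J) := by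
    ext a
    rw [hpx, Ideal.mem_comap, hP, Submodule.mem_colon_singleton, Submodule.mem_colon_singleton,
      Submodule.mem_bot, Submodule.mem_bot]
    have : (Ideal.Quotient.mk J a) • x = a • x := by
      rw [← Ideal.Quotient.algebraMap_eq, algebraMap_smul]
    rw [this]
  refine ⟨P, ?_, hcomap⟩
  rw [AssociatedPrimes.mem_iff, isAssociatedPrime_iff]
  refine ⟨?_, x, rfl⟩
  have hmap : P = p.map (Ideal.Quotient.mk J) := by
    rw [hcomap, Ideal.map_comap_of_surjective _ Ideal.Quotient.mk_surjective]
  rw [hmap]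
  apply Ideal.map_isPrime_of_surjective Ideal.Quotient.mk_surjective
  rw [Ideal.mk_ker, hcomap]
  intro a ha
  rw [Ideal.mem_comap, Ideal.Quotient.eq_zero_iff_mem.mpr ha]
  exact P.zero_mem

/-- Transfer of associated primes along `A → A/J`, second direction, for the module `A/J`. -/
theorem comap_mem_associatedPrimes_quotient {A : Type*} [CommRing A] [IsNoetherianRing A]
    (J : Ideal A) {P : Ideal (A ⧸ J)} (hP : P ∈ associatedPrimes (A ⧸ J) (A ⧸ J)) :
    P.comap (Ideal.Quotient.mk J) ∈ associatedPrimes A (A ⧸ J) := by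
  rw [AssociatedPrimes.mem_iff, isAssociatedPrime_iff] at hP ⊢
  obtain ⟨hprime, y, hPy⟩ := hP
  refine ⟨Ideal.comap_isPrime _ _, y, ?_⟩
  ext a
  rw [Ideal.mem_comap, hPy, Submodule.mem_colon_singleton, Submodule.mem_colon_singleton,
    Submodule.mem_bot, Submodule.mem_bot, smul_eq_mul, Algebra.smul_def,
    Ideal.Quotient.algebraMap_eq]

/-- Associated primes (over `A`) of an `A/J`-flat module are associated primes of `A/J`. -/
theorem associatedPrimes_subset_of_flat_quotient {A : Type*} [CommRing A] [IsNoetherianRing A]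
    (J : Ideal A) {N : Type*} [AddCommGroup N] [Module A N] [Module (A ⧸ J) N]
    [IsScalarTower A (A ⧸ J) N] [Module.Flat (A ⧸ J) N] :
    associatedPrimes A N ⊆ associatedPrimes A (A ⧸ J) := by
  intro p hp
  obtain ⟨P, hP, rfl⟩ := exists_associatedPrime_quotient_of_mem J hp
  exact comap_mem_associatedPrimes_quotient J (associatedPrimes_subset_of_flat hP)

open scoped TensorProduct in
/-- Under normal flatness along `J`, the associated primes of `A/J^k` (`k ≥ 1`) are among those
of `A/J`. -/
theorem associatedPrimes_quotient_pow_subset {A : Type*} [CommRing A] [IsNoetherianRing A]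
    (J : Ideal A) (hgr : ∀ k : ℕ, Module.Flat (A ⧸ J) ((A ⧸ J) ⊗[A] ↥(J ^ k))) (k : ℕ) :
    associatedPrimes A (A ⧸ J ^ (k + 1)) ⊆ associatedPrimes A (A ⧸ J) := by
  induction k with
  | zero =>
    have key : ∀ K : Ideal A, K = J → associatedPrimes A (A ⧸ K) ⊆ associatedPrimes A (A ⧸ J) := by
      rintro K rfl; exact subset_rfl
    exact key _ (by rw [zero_add, pow_one])
  | succ k ih =>
    -- the graded piece
    let G := ↥(J ^ (k + 1)) ⧸ (J • ⊤ : Submodule A ↥(J ^ (k + 1)))
    have hGass : associatedPrimes A G ⊆ associatedPrimes A (A ⧸ J) := by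
      haveI := hgr (k + 1)
      rw [← LinearEquiv.AssociatedPrimes.eq
        (TensorProduct.quotTensorEquivQuotSMul (↥(J ^ (k + 1))) J)]
      exact associatedPrimes_subset_of_flat_quotient J
    let f0 : ↥(J ^ (k + 1)) →ₗ[A] A ⧸ J ^ (k + 1 + 1) :=
      (Ideal.Quotient.mkₐ A (J ^ (k + 1 + 1))).toLinearMap ∘ₗ (J ^ (k + 1)).subtype
    have hmapeq : Submodule.map (J ^ (k + 1)).subtype (J • ⊤ : Submodule A ↥(J ^ (k + 1))) =
        J ^ (k + 1 + 1) := by
      rw [Submodule.map_smul'', Submodule.map_subtype_top, smul_eq_mul, ← pow_succ']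
    have hle : (J • ⊤ : Submodule A ↥(J ^ (k + 1))) ≤ LinearMap.ker f0 := by
      intro x hx
      rw [LinearMap.mem_ker]
      show Ideal.Quotient.mk (J ^ (k + 1 + 1)) x.1 = 0
      rw [Ideal.Quotient.eq_zero_iff_mem, ← hmapeq]
      exact ⟨x, hx, rfl⟩
    let f : G →ₗ[A] A ⧸ J ^ (k + 1 + 1) := Submodule.liftQ _ f0 hle
    let g : (A ⧸ J ^ (k + 1 + 1)) →ₗ[A] A ⧸ J ^ (k + 1) :=
      (Ideal.Quotient.factorₐ A (Ideal.pow_le_pow_right (Nat.le_succ (k + 1)))).toLinearMap
    have hf : Function.Injective f := by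
      rw [← LinearMap.ker_eq_bot]
      apply Submodule.ker_liftQ_eq_bot
      intro x hx
      rw [LinearMap.mem_ker] at hx
      have hx' : x.1 ∈ J ^ (k + 1 + 1) := by
        rw [← Ideal.Quotient.eq_zero_iff_mem]; exact hx
      rw [← hmapeq] at hx'
      obtain ⟨y, hy, hyx⟩ := hx'
      have : y = x := Subtype.ext hyx
      rw [← this]; exact hy
    have hfg : Function.Exact f g := by
      intro z
      obtain ⟨a, rfl⟩ := Ideal.Quotient.mk_surjective z
      constructor
      · intro hz
        have ha : a ∈ J ^ (k + 1) := by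
          rw [← Ideal.Quotient.eq_zero_iff_mem]; exact hz
        exact ⟨Submodule.Quotient.mk ⟨a, ha⟩, rfl⟩
      · rintro ⟨w, hw⟩
        obtain ⟨y, rfl⟩ := Submodule.Quotient.mk_surjective _ w
        have hw' : Ideal.Quotient.mk (J ^ (k + 1 + 1)) y.1 = Ideal.Quotient.mk _ a := hw
        have hg : ∀ b : A, g (Ideal.Quotient.mk (J ^ (k + 1 + 1)) b) =
            Ideal.Quotient.mk (J ^ (k + 1)) b := fun b => rfl
        rw [← hw', hg, Ideal.Quotient.eq_zero_iff_mem]
        exact y.2
    intro p hp
    rcases associatedPrimes.subset_union_of_exact hf hfg hp with h | h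
    · exact hGass h
    · exact ih h

end Groth.Agent.Helper4
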