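import Mathlib
import Groth.Agent.Lib.Helper8.LocalCrit

/-!
Helper lemmas for flatness criteria with nilpotent ideals (Stacks 051C / 051D style).
-/

set_option autoImplicit false

namespace Groth.Agent.Helper4

open scoped TensorProduct
open Function TensorProduct

/-- If `S ⊗[R] M` is flat over `S`, then for any injective `S`-linear map `g : P → Q` the `R`-linear
map `P ⊗[R] M → Q ⊗[R] M` is injective. -/
theorem rTensor_restrictScalars_injective_of_flat_baseChange {R S : Type*} [CommRing R]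
    [CommRing S] [Algebra R S]
    {M : Type*} [AddCommGroup M] [Module R M] [Module.Flat S (S ⊗[R] M)]
    {P Q : Type*} [AddCommGroup P] [Module R P] [Module S P] [IsScalarTower R S P]
    [AddCommGroup Q] [Module R Q] [Module S Q] [IsScalarTower R S Q]
    (g : P →ₗ[S] Q) (hg : Injective g) : Injective ((g.restrictScalars R).rTensor M) := by
  have h1 : Injective (g.rTensor (S ⊗[R] M)) :=
    Module.Flat.rTensor_preserves_injective_linearMap g hg
  intro z z' hzz
  obtain ⟨w, rfl⟩ := (AlgebraTensorModule.cancelBaseChange R S S P M).surjective z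
  obtain ⟨w', rfl⟩ := (AlgebraTensorModule.cancelBaseChange R S S P M).surjective z'
  rw [← Groth.Agent.Helper8.LocalCrit.cancelBaseChange_rTensor,
    ← Groth.Agent.Helper8.LocalCrit.cancelBaseChange_rTensor] at hzz
  rw [h1 ((AlgebraTensorModule.cancelBaseChange R S S Q M).injective hzz)]

/-- If `M/IM` is flat over `R/I`, then tensoring with `M` preserves injectivity of maps between
modules killed by `I`. -/
theorem rTensor_injective_of_torsion_of_flat_quotient {R : Type*} [CommRing R] (I : Ideal R)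
    {M : Type*} [AddCommGroup M] [Module R M] [Module.Flat (R ⧸ I) ((R ⧸ I) ⊗[R] M)]
    {P Q : Type*} [AddCommGroup P] [Module R P] [AddCommGroup Q] [Module R Q]
    (hP : ∀ a ∈ I, ∀ x : P, a • x = 0) (hQ : ∀ a ∈ I, ∀ x : Q, a • x = 0)
    (g : P →ₗ[R] Q) (hg : Injective g) : Injective (g.rTensor M) := by
  have hP' : Module.IsTorsionBySet R P I := fun x a => hP a.1 a.2 x
  have hQ' : Module.IsTorsionBySet R Q I := fun x a => hQ a.1 a.2 x
  letI := hP'.module
  letI := hQ'.module
  have h1 : IsScalarTower R (R ⧸ I) P := hP'.isScalarTower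
  have h2 : IsScalarTower R (R ⧸ I) Q := hQ'.isScalarTower
  let g' : P →ₗ[R ⧸ I] Q := g.extendScalarsOfSurjective Ideal.Quotient.mk_surjective
  exact rTensor_restrictScalars_injective_of_flat_baseChange (S := R ⧸ I) g' hg

/-- A commutative square argument: if `J → A` sits over an injective `R'`-linear map `P → Q`
via `ψ`, `ψJ` with `ψJ` injective, and `J`, `P` are killed by `I`, then `J ⊗ M → A ⊗ M` is
injective provided `M/IM` is `R/I`-flat and `R' ⊗ M` is `R'`-flat. -/
theorem rTensor_injective_of_square {R R' : Type*} [CommRing R] [CommRing R'] [Algebra R R']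
    (I : Ideal R) {M : Type*} [AddCommGroup M] [Module R M]
    [Module.Flat (R ⧸ I) ((R ⧸ I) ⊗[R] M)] [Module.Flat R' (R' ⊗[R] M)]
    {A J : Type*} [AddCommGroup A] [Module R A] [AddCommGroup J] [Module R J]
    {Q P : Type*} [AddCommGroup Q] [Module R Q] [Module R' Q] [IsScalarTower R R' Q]
    [AddCommGroup P] [Module R P] [Module R' P] [IsScalarTower R R' P]
    (j : J →ₗ[R] A) (p : P →ₗ[R'] Q) (hp : Injective p)
    (ψ : A →ₗ[R] Q) (ψJ : J →ₗ[R] P) (hψJ : Injective ψJ)
    (hcomm : ∀ x, ψ (j x) = p (ψJ x))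
    (hJ : ∀ a ∈ I, ∀ x : J, a • x = 0) (hP : ∀ a ∈ I, ∀ x : P, a • x = 0) :
    Injective (j.rTensor M) := by
  have h1 : Injective (ψJ.rTensor M) :=
    rTensor_injective_of_torsion_of_flat_quotient I hJ hP ψJ hψJ
  have h2 : Injective ((p.restrictScalars R).rTensor M) :=
    rTensor_restrictScalars_injective_of_flat_baseChange (S := R') p hp
  have hc : ψ ∘ₗ j = (p.restrictScalars R) ∘ₗ ψJ := LinearMap.ext fun x => hcomm x
  have h3 : Injective ((ψ.rTensor M) ∘ (j.rTensor M)) := by
    have : (ψ.rTensor M) ∘ₗ (j.rTensor M) =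
        ((p.restrictScalars R).rTensor M) ∘ₗ (ψJ.rTensor M) := by
      rw [← LinearMap.rTensor_comp, ← LinearMap.rTensor_comp, hc]
    rw [← LinearMap.coe_comp, this, LinearMap.coe_comp]
    exact h2.comp h1
  exact Injective.of_comp h3

/-- Transfer injectivity along `cancelBaseChange`. -/
theorem rTensor_baseChange_injective_of_restrictScalars {R A : Type*} [CommRing R] [CommRing A]
    [Algebra R A]
    {N N' M : Type*} [AddCommGroup N] [Module R N] [Module A N] [IsScalarTower R A N]
    [AddCommGroup N'] [Module R N'] [Module A N'] [IsScalarTower R A N']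
    [AddCommGroup M] [Module R M] (g : N →ₗ[A] N')
    (h : Injective ((g.restrictScalars R).rTensor M)) :
    Injective (g.rTensor (A ⊗[R] M)) := by
  intro z z' hzz
  apply (AlgebraTensorModule.cancelBaseChange R A A N M).injective
  apply h
  rw [← Groth.Agent.Helper8.LocalCrit.cancelBaseChange_rTensor,
    ← Groth.Agent.Helper8.LocalCrit.cancelBaseChange_rTensor, hzz]

/-- If `M/IM` is `R/I`-flat, `A` is an `R`-algebra and `J` an ideal of `A` containing `IA`,
then `(A/J) ⊗[A] (A ⊗[R] M)` is flat over `A/J`. -/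
theorem flat_quotient_baseChange_of_flat_quotient {R : Type*} [CommRing R] (I : Ideal R)
    {M : Type*} [AddCommGroup M] [Module R M] [Module.Flat (R ⧸ I) ((R ⧸ I) ⊗[R] M)]
    {A : Type*} [CommRing A] [Algebra R A] (J : Ideal A)
    (hIJ : I.map (algebraMap R A) ≤ J) :
    Module.Flat (A ⧸ J) ((A ⧸ J) ⊗[A] (A ⊗[R] M)) := by
  let f : R ⧸ I →+* A ⧸ J :=
    Ideal.Quotient.lift I ((algebraMap A (A ⧸ J)).comp (algebraMap R A)) (fun a ha => by
      rw [RingHom.comp_apply, Ideal.Quotient.algebraMap_eq, Ideal.Quotient.eq_zero_iff_mem]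
      exact hIJ (Ideal.mem_map_of_mem _ ha))
  letI : Algebra (R ⧸ I) (A ⧸ J) := f.toAlgebra
  have : IsScalarTower R (R ⧸ I) (A ⧸ J) := IsScalarTower.of_algebraMap_eq (fun r => rfl)
  have hfl : Module.Flat (A ⧸ J) ((A ⧸ J) ⊗[R ⧸ I] ((R ⧸ I) ⊗[R] M)) := inferInstance
  let e1 := AlgebraTensorModule.cancelBaseChange R (R ⧸ I) (A ⧸ J) (A ⧸ J) M
  let e2 := AlgebraTensorModule.cancelBaseChange R A (A ⧸ J) (A ⧸ J) M
  exact Module.Flat.of_linearEquiv (e2.trans e1.symm)

universe u

/-- Stacks 051C: if `M/IM` is `R/I`-flat and `R' ⊗ M` is `R'`-flat then `M/I₂M` is flat over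
`R/I₂`, where `I₂ = φ⁻¹(φ(I²)R')`. -/
theorem flat_quotient_comap_map_sq (R R' : Type u) [CommRing R] [CommRing R'] [Algebra R R']
    (I : Ideal R) (M : Type u) [AddCommGroup M] [Module R M]
    [Module.Flat (R ⧸ I) ((R ⧸ I) ⊗[R] M)] [Module.Flat R' (R' ⊗[R] M)] :
    Module.Flat (R ⧸ ((I ^ 2).map (algebraMap R R')).comap (algebraMap R R'))
      ((R ⧸ ((I ^ 2).map (algebraMap R R')).comap (algebraMap R R')) ⊗[R] M) := by
  set 𝔟 : Ideal R' := (I ^ 2).map (algebraMap R R') with h𝔟
  set I₂ : Ideal R := 𝔟.comap (algebraMap R R') with hI₂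
  let J : Ideal (R ⧸ I₂) := I.map (Ideal.Quotient.mk I₂)
  have hI2le : I ^ 2 ≤ I₂ := Ideal.le_comap_map
  have hJ2 : J ^ 2 = ⊥ := by
    rw [← Ideal.map_pow, Ideal.map_eq_bot_iff_le_ker, Ideal.mk_ker]; exact hI2le
  refine Groth.Agent.Helper8.LocalCrit.flat_of_nilpotent J 2 hJ2 ?_ ?_
  · apply rTensor_baseChange_injective_of_restrictScalars
    let P : Ideal (R' ⧸ 𝔟) := (I.map (algebraMap R R')).map (Ideal.Quotient.mk 𝔟)
    let ψ : (R ⧸ I₂) →ₗ[R] (R' ⧸ 𝔟) :=
      (Ideal.quotientMapₐ 𝔟 (Algebra.ofId R R') (le_of_eq rfl)).toLinearMap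
    have hψ : ∀ r : R, ψ (Ideal.Quotient.mk I₂ r) = Ideal.Quotient.mk 𝔟 (algebraMap R R' r) :=
      fun r => rfl
    have hψinj : Injective ψ := by
      rw [injective_iff_map_eq_zero]
      intro a ha
      obtain ⟨r, rfl⟩ := Ideal.Quotient.mk_surjective a
      rw [hψ, Ideal.Quotient.eq_zero_iff_mem] at ha
      rw [Ideal.Quotient.eq_zero_iff_mem]
      exact ha
    have hJP : ∀ x ∈ J, ψ x ∈ P := by
      intro x hx
      obtain ⟨a, ha, rfl⟩ :=
        (Ideal.mem_map_iff_of_surjective _ Ideal.Quotient.mk_surjective).mp hx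
      rw [hψ]
      exact Ideal.mem_map_of_mem _ (Ideal.mem_map_of_mem _ ha)
    let ψJ : J →ₗ[R] P :=
      { toFun := fun x => ⟨ψ x.1, hJP x.1 x.2⟩
        map_add' := fun x y => Subtype.ext (map_add ψ x.1 y.1)
        map_smul' := fun r x => Subtype.ext (map_smul ψ r x.1) }
    have hψJ : Injective ψJ := fun x y h => Subtype.ext (hψinj (congrArg Subtype.val h))
    refine rTensor_injective_of_square (R' := R') I (J.subtype.restrictScalars R)
      (P.subtype.restrictScalars R') (Submodule.injective_subtype P) ψ ψJ hψJ (fun x => rfl) ?_ ?_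
    · intro a ha x
      apply Subtype.ext
      have h1 : (Ideal.Quotient.mk I₂ a) * x.1 ∈ J ^ 2 := by
        rw [pow_two]; exact Ideal.mul_mem_mul (Ideal.mem_map_of_mem _ ha) x.2
      rw [hJ2, Ideal.mem_bot] at h1
      exact h1
    · intro a ha x
      apply Subtype.ext
      obtain ⟨b, hb, hbx⟩ :=
        (Ideal.mem_map_iff_of_surjective _ Ideal.Quotient.mk_surjective).mp x.2
      have h1 : (Ideal.Quotient.mk 𝔟 (algebraMap R R' a * b)) = 0 := by
        rw [Ideal.Quotient.eq_zero_iff_mem, h𝔟, Ideal.map_pow, pow_two]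
        exact Ideal.mul_mem_mul (Ideal.mem_map_of_mem _ ha) hb
      show a • x.1 = 0
      rw [← hbx, Algebra.smul_def, ← h1, map_mul]
      rfl
  · exact flat_quotient_baseChange_of_flat_quotient I J (le_of_eq rfl)

/-- Stacks 051D: `R → R'` injective, `I` nilpotent, `M/IM` flat over `R/I` and `R' ⊗ M` flat over
`R'` imply `M` flat over `R`. -/
theorem flat_of_injective_of_nilpotent (R R' : Type u) [CommRing R] [CommRing R'] [Algebra R R']
    (hinj : Function.Injective (algebraMap R R')) (I : Ideal R) (hI : IsNilpotent I)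
    (M : Type u) [AddCommGroup M] [Module R M] [Module.Flat (R ⧸ I) ((R ⧸ I) ⊗[R] M)]
    [Module.Flat R' (R' ⊗[R] M)] : Module.Flat R M := by
  let step : Ideal R → Ideal R :=
    fun K => ((K ^ 2).map (algebraMap R R')).comap (algebraMap R R')
  let Is : ℕ → Ideal R := fun n => step^[n] I
  have hsucc : ∀ n, Is (n + 1) = step (Is n) := fun n => Function.iterate_succ_apply' step n I
  have hflat : ∀ n, Module.Flat (R ⧸ Is n) ((R ⧸ Is n) ⊗[R] M) := by
    intro n
    induction n with
    | zero => exact (inferInstance : Module.Flat (R ⧸ I) ((R ⧸ I) ⊗[R] M))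
    | succ n ih =>
      rw [hsucc]
      haveI := ih
      exact flat_quotient_comap_map_sq R R' (Is n) M
  have hmap : ∀ n, (Is n).map (algebraMap R R') ≤ (I.map (algebraMap R R')) ^ (2 ^ n) := by
    intro n
    induction n with
    | zero => simp [Is]
    | succ n ih =>
      rw [hsucc]
      calc (step (Is n)).map (algebraMap R R') ≤ (Is n ^ 2).map (algebraMap R R') :=
            Ideal.map_comap_le
        _ = ((Is n).map (algebraMap R R')) ^ 2 := Ideal.map_pow _ _ _
        _ ≤ ((I.map (algebraMap R R')) ^ (2 ^ n)) ^ 2 := Ideal.pow_right_mono ih 2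
        _ = (I.map (algebraMap R R')) ^ (2 ^ (n + 1)) := by rw [← pow_mul, pow_succ]
  obtain ⟨k, hk⟩ := hI
  have hk' : (I.map (algebraMap R R')) ^ k = ⊥ := by
    rw [← Ideal.map_pow, hk]; exact Ideal.map_bot
  have hbot : Is k = ⊥ := by
    rw [eq_bot_iff]
    intro x hx
    have h1 : algebraMap R R' x ∈ (Is k).map (algebraMap R R') := Ideal.mem_map_of_mem _ hx
    have h2 : algebraMap R R' x ∈ (I.map (algebraMap R R')) ^ k :=
      Ideal.pow_le_pow_right (Nat.lt_two_pow_self).le (hmap k h1)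
    rw [hk', Ideal.mem_bot] at h2
    rw [Ideal.mem_bot]
    exact hinj (h2.trans (map_zero _).symm)
  have key : ∀ K : Ideal R, K = ⊥ → Module.Flat (R ⧸ K) ((R ⧸ K) ⊗[R] M) → Module.Flat R M := by
    rintro K rfl hfl
    refine Groth.Agent.Helper8.LocalCrit.flat_of_nilpotent (⊥ : Ideal R) 1 (pow_one _) ?_ hfl
    intro z z' _
    have : Subsingleton ((⊥ : Ideal R) ⊗[R] M) := inferInstance
    exact Subsingleton.elim _ _
  exact key (Is k) hbot (hflat k)

end Groth.Agent.Helper4
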