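import Mathlib
import Groth.Agent.Lib.Helper4.FlatNilp

/-!
Family versions of the nilpotent flatness criteria (Stacks 051C / 051D) for a finite family of
`R`-algebras, and the application to associated primes of a Noetherian ring (EGA IV 11.4-style).
-/

set_option autoImplicit false

namespace Groth.Agent.Helper4

open scoped TensorProduct
open Function TensorProduct

/-- Generalized square lemma. -/
theorem rTensor_injective_of_square' {R : Type*} [CommRing R]
    (I : Ideal R) {M : Type*} [AddCommGroup M] [Module R M]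
    [Module.Flat (R ⧸ I) ((R ⧸ I) ⊗[R] M)]
    {A J Q P : Type*} [AddCommGroup A] [Module R A] [AddCommGroup J] [Module R J]
    [AddCommGroup Q] [Module R Q] [AddCommGroup P] [Module R P]
    (j : J →ₗ[R] A) (p : P →ₗ[R] Q) (hp : Injective (p.rTensor M))
    (ψ : A →ₗ[R] Q) (ψJ : J →ₗ[R] P) (hψJ : Injective ψJ)
    (hcomm : ∀ x, ψ (j x) = p (ψJ x))
    (hJ : ∀ a ∈ I, ∀ x : J, a • x = 0) (hP : ∀ a ∈ I, ∀ x : P, a • x = 0) :
    Injective (j.rTensor M) := by
  have h1 : Injective (ψJ.rTensor M) :=
    rTensor_injective_of_torsion_of_flat_quotient I hJ hP ψJ hψJ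
  have hc : ψ ∘ₗ j = p ∘ₗ ψJ := LinearMap.ext fun x => hcomm x
  have h3 : Injective ((ψ.rTensor M) ∘ (j.rTensor M)) := by
    have : (ψ.rTensor M) ∘ₗ (j.rTensor M) = (p.rTensor M) ∘ₗ (ψJ.rTensor M) := by
      rw [← LinearMap.rTensor_comp, ← LinearMap.rTensor_comp, hc]
    rw [← LinearMap.coe_comp, this, LinearMap.coe_comp]
    exact hp.comp h1
  exact Injective.of_comp h3

/-- A finite product of maps each of which stays injective after tensoring with `M` stays
injective after tensoring with `M`. -/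
theorem rTensor_pi_injective {R : Type*} [CommRing R] {ι : Type*} [Fintype ι] [DecidableEq ι]
    {M : Type*} [AddCommGroup M] [Module R M]
    {P Q : ι → Type*} [∀ i, AddCommGroup (P i)] [∀ i, Module R (P i)]
    [∀ i, AddCommGroup (Q i)] [∀ i, Module R (Q i)]
    (p : ∀ i, P i →ₗ[R] Q i) (hp : ∀ i, Injective ((p i).rTensor M)) :
    Injective ((LinearMap.pi (fun i => (p i) ∘ₗ LinearMap.proj i) :
      (∀ i, P i) →ₗ[R] (∀ i, Q i)).rTensor M) := by
  rw [← LinearMap.lTensor_inj_iff_rTensor_inj]
  have hp' : ∀ i, Injective ((p i).lTensor M) := fun i =>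
    (LinearMap.lTensor_inj_iff_rTensor_inj _ _).mpr (hp i)
  set pp : (∀ i, P i) →ₗ[R] (∀ i, Q i) := LinearMap.pi (fun i => (p i) ∘ₗ LinearMap.proj i)
  have hnat : ∀ (z : M ⊗[R] (∀ i, P i)) (i : ι),
      TensorProduct.piRight R R M Q (pp.lTensor M z) i =
        (p i).lTensor M (TensorProduct.piRight R R M P z i) := by
    intro z i
    induction z using TensorProduct.induction_on with
    | zero => simp
    | tmul m f => simp [pp]
    | add z z' hz hz' => simp only [map_add, Pi.add_apply, hz, hz']
  intro z z' hzz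
  apply (TensorProduct.piRight R R M P).injective
  funext i
  apply hp' i
  rw [← hnat, ← hnat, hzz]

universe u v

/-- Family version of Stacks 051C. -/
theorem flat_quotient_iInf_comap_map_sq {R : Type u} [CommRing R] {ι : Type*} [Finite ι]
    (R' : ι → Type v) [∀ i, CommRing (R' i)] [∀ i, Algebra R (R' i)]
    (I : Ideal R) (M : Type u) [AddCommGroup M] [Module R M]
    [Module.Flat (R ⧸ I) ((R ⧸ I) ⊗[R] M)] [∀ i, Module.Flat (R' i) (R' i ⊗[R] M)] :
    Module.Flat (R ⧸ (⨅ i, ((I ^ 2).map (algebraMap R (R' i))).comap (algebraMap R (R' i))))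
      ((R ⧸ (⨅ i, ((I ^ 2).map (algebraMap R (R' i))).comap (algebraMap R (R' i)))) ⊗[R] M) := by
  classical
  cases nonempty_fintype ι
  set 𝔟 : ∀ i, Ideal (R' i) := fun i => (I ^ 2).map (algebraMap R (R' i)) with h𝔟
  set I₂ : Ideal R := ⨅ i, (𝔟 i).comap (algebraMap R (R' i)) with hI₂
  let J : Ideal (R ⧸ I₂) := I.map (Ideal.Quotient.mk I₂)
  have hI2le : I ^ 2 ≤ I₂ := le_iInf fun i => Ideal.le_comap_map
  have hJ2 : J ^ 2 = ⊥ := by
    rw [← Ideal.map_pow, Ideal.map_eq_bot_iff_le_ker, Ideal.mk_ker]; exact hI2le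
  refine Groth.Agent.Helper8.LocalCrit.flat_of_nilpotent J 2 hJ2 ?_ ?_
  · apply rTensor_baseChange_injective_of_restrictScalars
    let P : ∀ i, Ideal (R' i ⧸ 𝔟 i) := fun i =>
      (I.map (algebraMap R (R' i))).map (Ideal.Quotient.mk (𝔟 i))
    have hle : ∀ i, I₂ ≤ (𝔟 i).comap (Algebra.ofId R (R' i)) := fun i => iInf_le _ i
    let ψi : ∀ i, (R ⧸ I₂) →ₗ[R] (R' i ⧸ 𝔟 i) := fun i =>
      (Ideal.quotientMapₐ (𝔟 i) (Algebra.ofId R (R' i)) (hle i)).toLinearMap
    have hψ : ∀ (i : ι) (r : R), ψi i (Ideal.Quotient.mk I₂ r) =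
        Ideal.Quotient.mk (𝔟 i) (algebraMap R (R' i) r) := fun i r => rfl
    let ψ : (R ⧸ I₂) →ₗ[R] (∀ i, R' i ⧸ 𝔟 i) := LinearMap.pi ψi
    have hψinj : ∀ a : R ⧸ I₂, (∀ i, ψi i a = 0) → a = 0 := by
      intro a ha
      obtain ⟨r, rfl⟩ := Ideal.Quotient.mk_surjective a
      rw [Ideal.Quotient.eq_zero_iff_mem, hI₂, Ideal.mem_iInf]
      intro i
      have := ha i
      rw [hψ, Ideal.Quotient.eq_zero_iff_mem] at this
      exact this
    have hJP : ∀ i, ∀ x ∈ J, ψi i x ∈ P i := by
      intro i x hx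
      obtain ⟨a, ha, rfl⟩ :=
        (Ideal.mem_map_iff_of_surjective _ Ideal.Quotient.mk_surjective).mp hx
      rw [hψ]
      exact Ideal.mem_map_of_mem _ (Ideal.mem_map_of_mem _ ha)
    let ψJ : J →ₗ[R] (∀ i, P i) :=
      { toFun := fun x i => ⟨ψi i x.1, hJP i x.1 x.2⟩
        map_add' := fun x y => funext fun i => Subtype.ext (map_add (ψi i) x.1 y.1)
        map_smul' := fun r x => funext fun i => Subtype.ext (map_smul (ψi i) r x.1) }
    have hψJ : Injective ψJ := by
      intro x y h
      apply Subtype.ext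
      rw [← sub_eq_zero]
      apply hψinj
      intro i
      rw [map_sub, sub_eq_zero]
      exact congrArg (fun f => (f i).1) h
    let pi : ∀ i, P i →ₗ[R] (R' i ⧸ 𝔟 i) := fun i => (P i).subtype.restrictScalars R
    have hpi : ∀ i, Injective ((pi i).rTensor M) := fun i =>
      rTensor_restrictScalars_injective_of_flat_baseChange (S := R' i)
        ((P i).subtype.restrictScalars (R' i)) (Submodule.injective_subtype (P i))
    refine rTensor_injective_of_square' I (J.subtype.restrictScalars R)
      (LinearMap.pi (fun i => (pi i) ∘ₗ LinearMap.proj i)) (rTensor_pi_injective pi hpi)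
      ψ ψJ hψJ (fun x => rfl) ?_ ?_
    · intro a ha x
      apply Subtype.ext
      have h1 : (Ideal.Quotient.mk I₂ a) * x.1 ∈ J ^ 2 := by
        rw [pow_two]; exact Ideal.mul_mem_mul (Ideal.mem_map_of_mem _ ha) x.2
      rw [hJ2, Ideal.mem_bot] at h1
      exact h1
    · intro a ha x
      funext i
      apply Subtype.ext
      obtain ⟨b, hb, hbx⟩ :=
        (Ideal.mem_map_iff_of_surjective _ Ideal.Quotient.mk_surjective).mp (x i).2
      have h1 : (Ideal.Quotient.mk (𝔟 i) (algebraMap R (R' i) a * b)) = 0 := by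
        rw [Ideal.Quotient.eq_zero_iff_mem]
        show _ ∈ (I ^ 2).map (algebraMap R (R' i))
        rw [Ideal.map_pow, pow_two]
        exact Ideal.mul_mem_mul (Ideal.mem_map_of_mem _ ha) hb
      show a • (x i).1 = 0
      rw [← hbx, Algebra.smul_def, ← h1, map_mul]
      rfl
  · exact flat_quotient_baseChange_of_flat_quotient I J (le_of_eq rfl)

/-- Family version of Stacks 051D. -/
theorem flat_of_jointly_injective_of_nilpotent {R : Type u} [CommRing R] {ι : Type*} [Finite ι]
    (R' : ι → Type v) [∀ i, CommRing (R' i)] [∀ i, Algebra R (R' i)]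
    (hinj : ∀ x : R, (∀ i, algebraMap R (R' i) x = 0) → x = 0) (I : Ideal R) (hI : IsNilpotent I)
    (M : Type u) [AddCommGroup M] [Module R M] [Module.Flat (R ⧸ I) ((R ⧸ I) ⊗[R] M)]
    [∀ i, Module.Flat (R' i) (R' i ⊗[R] M)] : Module.Flat R M := by
  let step : Ideal R → Ideal R :=
    fun K => ⨅ i, ((K ^ 2).map (algebraMap R (R' i))).comap (algebraMap R (R' i))
  let Is : ℕ → Ideal R := fun n => step^[n] I
  have hsucc : ∀ n, Is (n + 1) = step (Is n) := fun n => Function.iterate_succ_apply' step n I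
  have hflat : ∀ n, Module.Flat (R ⧸ Is n) ((R ⧸ Is n) ⊗[R] M) := by
    intro n
    induction n with
    | zero => exact (inferInstance : Module.Flat (R ⧸ I) ((R ⧸ I) ⊗[R] M))
    | succ n ih =>
      rw [hsucc]
      haveI := ih
      exact flat_quotient_iInf_comap_map_sq R' (Is n) M
  have hmap : ∀ n i, (Is n).map (algebraMap R (R' i)) ≤ (I.map (algebraMap R (R' i))) ^ (2 ^ n) := by
    intro n
    induction n with
    | zero => intro i; simp [Is]
    | succ n ih =>
      intro i
      rw [hsucc]
      calc (step (Is n)).map (algebraMap R (R' i))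
          ≤ (((Is n ^ 2).map (algebraMap R (R' i))).comap (algebraMap R (R' i))).map
              (algebraMap R (R' i)) := Ideal.map_mono (iInf_le _ i)
        _ ≤ (Is n ^ 2).map (algebraMap R (R' i)) := Ideal.map_comap_le
        _ = ((Is n).map (algebraMap R (R' i))) ^ 2 := Ideal.map_pow _ _ _
        _ ≤ ((I.map (algebraMap R (R' i))) ^ (2 ^ n)) ^ 2 := Ideal.pow_right_mono (ih i) 2
        _ = (I.map (algebraMap R (R' i))) ^ (2 ^ (n + 1)) := by rw [← pow_mul, pow_succ]
  obtain ⟨k, hk⟩ := hI
  have hk' : ∀ i, (I.map (algebraMap R (R' i))) ^ k = ⊥ := by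
    intro i
    rw [← Ideal.map_pow, hk]; exact Ideal.map_bot
  have hbot : Is k = ⊥ := by
    rw [eq_bot_iff]
    intro x hx
    rw [Ideal.mem_bot]
    apply hinj
    intro i
    have h1 : algebraMap R (R' i) x ∈ (Is k).map (algebraMap R (R' i)) :=
      Ideal.mem_map_of_mem _ hx
    have h2 : algebraMap R (R' i) x ∈ (I.map (algebraMap R (R' i))) ^ k :=
      Ideal.pow_le_pow_right (Nat.lt_two_pow_self).le (hmap k i h1)
    rw [hk' i, Ideal.mem_bot] at h2
    exact h2
  have key : ∀ K : Ideal R, K = ⊥ → Module.Flat (R ⧸ K) ((R ⧸ K) ⊗[R] M) → Module.Flat R M := by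
    rintro K rfl hfl
    refine Groth.Agent.Helper8.LocalCrit.flat_of_nilpotent (⊥ : Ideal R) 1 (pow_one _) ?_ hfl
    intro z z' _
    have : Subsingleton ((⊥ : Ideal R) ⊗[R] M) := inferInstance
    exact Subsingleton.elim _ _
  exact key (Is k) hbot (hflat k)

/-- In a Noetherian ring, an element vanishing in the localization at every associated prime
of the ring is zero. -/
theorem eq_zero_of_forall_associatedPrimes {A : Type*} [CommRing A] [IsNoetherianRing A] (x : A)
    (h : ∀ p : associatedPrimes A A, algebraMap A (Localization.AtPrime p.1) x = 0) : x = 0 := by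
  by_contra hx
  obtain ⟨P, hP, hle⟩ := exists_le_isAssociatedPrime_of_isNoetherianRing A x hx
  have h1 := h ⟨P, hP⟩
  haveI : P.IsPrime := hP.isPrime
  rw [IsLocalization.map_eq_zero_iff P.primeCompl] at h1
  obtain ⟨s, hs⟩ := h1
  apply s.2
  apply hle
  rw [Submodule.mem_colon_singleton, Submodule.mem_bot]
  exact hs

/-- EGA-style criterion: over a Noetherian ring with nilpotent ideal `J`, `M` is flat iff `M/JM`
is flat over `A/J` and `M_p` is flat over `A_p` for all associated primes of `A`. -/
theorem flat_iff_of_nilpotent_of_associatedPrimes {A : Type u} [CommRing A] [IsNoetherianRing A]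
    (J : Ideal A) (hJ : IsNilpotent J) (M : Type u) [AddCommGroup M] [Module A M] :
    Module.Flat A M ↔
      Module.Flat (A ⧸ J) ((A ⧸ J) ⊗[A] M) ∧
        ∀ p : associatedPrimes A A,
          Module.Flat (Localization.AtPrime p.1) (LocalizedModule p.1.primeCompl M) := by
  constructor
  · intro h
    exact ⟨inferInstance, fun p => inferInstance⟩
  · rintro ⟨h1, h2⟩
    haveI : Finite (associatedPrimes A A) := (associatedPrimes.finite A A).to_subtype
    haveI : ∀ p : associatedPrimes A A,
        Module.Flat (Localization.AtPrime p.1) (Localization.AtPrime p.1 ⊗[A] M) := by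
      intro p
      haveI := h2 p
      have hb : IsBaseChange (Localization.AtPrime p.1)
          (LocalizedModule.mkLinearMap p.1.primeCompl M) :=
        (isLocalizedModule_iff_isBaseChange p.1.primeCompl (Localization.AtPrime p.1) _).mp
          inferInstance
      exact Module.Flat.of_linearEquiv hb.equiv
    exact flat_of_jointly_injective_of_nilpotent
      (fun p : associatedPrimes A A => Localization.AtPrime p.1)
      (fun x hx => eq_zero_of_forall_associatedPrimes x hx) J hJ M

end Groth.Agent.Helper4
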