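import Mathlib
import Groth.Agent.Lib.Helper4.FlatNilpFam
import Groth.Agent.Lib.Helper4.AssFlat

/-!
Local flatness criterion for ideally separated modules and an EGA-style criterion via finitely
many primes.
-/

set_option autoImplicit false

namespace Groth.Agent.Helper4

open scoped TensorProduct
open Function TensorProduct

universe u

/-- Local criterion for ideally separated modules: flat modulo all powers of `J` implies flat. -/
theorem flat_of_flat_mod_pow_of_isHausdorff {A : Type u} [CommRing A] [IsNoetherianRing A]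
    (J : Ideal A) (M : Type u) [AddCommGroup M] [Module A M]
    (hsep : ∀ a : Ideal A, IsHausdorff J (↥a ⊗[A] M))
    (h : ∀ n : ℕ, 0 < n → Module.Flat (A ⧸ J ^ n) ((A ⧸ J ^ n) ⊗[A] M)) : Module.Flat A M := by
  rw [Module.Flat.iff_lTensor_injective']
  intro 𝔞
  rw [injective_iff_map_eq_zero]
  intro x hx
  have hxmem : x ∈ (⨅ i : ℕ, (J.map (algebraMap A A)) ^ i • (⊤ : Submodule A (M ⊗[A] 𝔞))) :=
    Groth.Agent.Helper8.LocalCrit.mem_iInf_pow_smul_top (S := A) J 𝔞 x
      (fun n hn => Groth.Agent.Helper8.LocalCrit.mem_range_of_flat_mod (J ^ n) 𝔞 (h n hn) x hx)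
  have hid : J.map (algebraMap A A) = J := by
    rw [Algebra.algebraMap_self]; exact Ideal.map_id J
  rw [hid, Submodule.mem_iInf] at hxmem
  have h0 : (TensorProduct.comm A M 𝔞) x = 0 := by
    apply (hsep 𝔞).haus
    intro n
    rw [SModEq.zero]
    have h1 : Submodule.map (TensorProduct.comm A M 𝔞).toLinearMap (J ^ n • ⊤) ≤ J ^ n • ⊤ := by
      rw [Submodule.map_smul'']
      exact Submodule.smul_mono le_rfl le_top
    exact h1 ⟨x, hxmem n, rfl⟩
  exact (TensorProduct.comm A M 𝔞).injective (h0.trans (map_zero _).symm)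

/-- Flatness of `M/IM` over `R/I` passes to larger ideals. -/
theorem flat_quotient_of_le {R : Type*} [CommRing R] {I I' : Ideal R} (hle : I ≤ I')
    (M : Type*) [AddCommGroup M] [Module R M] [Module.Flat (R ⧸ I) ((R ⧸ I) ⊗[R] M)] :
    Module.Flat (R ⧸ I') ((R ⧸ I') ⊗[R] M) := by
  letI : Algebra (R ⧸ I) (R ⧸ I') := (Ideal.Quotient.factor hle).toAlgebra
  have : IsScalarTower R (R ⧸ I) (R ⧸ I') := IsScalarTower.of_algebraMap_eq (fun r => rfl)
  have hfl : Module.Flat (R ⧸ I') ((R ⧸ I') ⊗[R ⧸ I] ((R ⧸ I) ⊗[R] M)) := inferInstance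
  exact Module.Flat.of_linearEquiv
    (AlgebraTensorModule.cancelBaseChange R (R ⧸ I) (R ⧸ I') (R ⧸ I') M).symm

/-- `A_p ⊗ M` is flat over `A_p` when the localized module is. -/
theorem flat_localization_tensor_of_localizedModule {A : Type*} [CommRing A] (p : Ideal A)
    [p.IsPrime] (M : Type*) [AddCommGroup M] [Module A M]
    (h : Module.Flat (Localization.AtPrime p) (LocalizedModule p.primeCompl M)) :
    Module.Flat (Localization.AtPrime p) (Localization.AtPrime p ⊗[A] M) := by
  have hb : IsBaseChange (Localization.AtPrime p) (LocalizedModule.mkLinearMap p.primeCompl M) :=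
    (isLocalizedModule_iff_isBaseChange p.primeCompl (Localization.AtPrime p) _).mp inferInstance
  exact Module.Flat.of_linearEquiv hb.equiv

/-- Flatness modulo the intersection of the contractions of ideals `𝔪 i` of the local rings at
finitely many primes, provided some power of `J` lies in all contractions. -/
theorem flat_quotient_iInf_comap {A : Type u} [CommRing A] (J : Ideal A) (M : Type u)
    [AddCommGroup M] [Module A M] {ι : Type*} [Finite ι] (p : ι → Ideal A) [∀ i, (p i).IsPrime]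
    (𝔪 : ∀ i, Ideal (Localization.AtPrime (p i))) (m : ℕ)
    (hJm : ∀ i, J ^ m ≤ Ideal.comap (algebraMap A (Localization.AtPrime (p i))) (𝔪 i))
    [Module.Flat (A ⧸ J) ((A ⧸ J) ⊗[A] M)]
    (h2 : ∀ i, Module.Flat (Localization.AtPrime (p i)) (LocalizedModule (p i).primeCompl M)) :
    Module.Flat (A ⧸ (⨅ i, Ideal.comap (algebraMap A (Localization.AtPrime (p i))) (𝔪 i)))
      ((A ⧸ (⨅ i, Ideal.comap (algebraMap A (Localization.AtPrime (p i))) (𝔪 i))) ⊗[A] M) := by
  set 𝔠 : Ideal A := ⨅ i, Ideal.comap (algebraMap A (Localization.AtPrime (p i))) (𝔪 i) with h𝔠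
  have hle : ∀ i, 𝔠 ≤ Ideal.comap (algebraMap A (Localization.AtPrime (p i))) (𝔪 i) :=
    fun i => iInf_le _ i
  letI alg : ∀ i, Algebra (A ⧸ 𝔠) (Localization.AtPrime (p i) ⧸ 𝔪 i) := fun i =>
    (Ideal.quotientMap (𝔪 i) (algebraMap A (Localization.AtPrime (p i))) (hle i)).toAlgebra
  have halg : ∀ (i : ι) (a : A), algebraMap (A ⧸ 𝔠) (Localization.AtPrime (p i) ⧸ 𝔪 i)
      (Ideal.Quotient.mk 𝔠 a) =
      Ideal.Quotient.mk (𝔪 i) (algebraMap A (Localization.AtPrime (p i)) a) := fun i a => rfl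
  have htower : ∀ i, IsScalarTower A (A ⧸ 𝔠) (Localization.AtPrime (p i) ⧸ 𝔪 i) := fun i =>
    IsScalarTower.of_algebraMap_eq (fun a => rfl)
  let I : Ideal (A ⧸ 𝔠) := J.map (Ideal.Quotient.mk 𝔠)
  have hJm' : J ^ m ≤ 𝔠 := le_iInf hJm
  have hI : IsNilpotent I := by
    refine ⟨m, ?_⟩
    show I ^ m = ⊥
    rw [← Ideal.map_pow, Ideal.map_eq_bot_iff_le_ker, Ideal.mk_ker]
    exact hJm'
  haveI hflI : Module.Flat ((A ⧸ 𝔠) ⧸ I) (((A ⧸ 𝔠) ⧸ I) ⊗[A ⧸ 𝔠] ((A ⧸ 𝔠) ⊗[A] M)) :=
    flat_quotient_baseChange_of_flat_quotient J I le_rfl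
  haveI hfl' : ∀ i, Module.Flat (Localization.AtPrime (p i) ⧸ 𝔪 i)
      ((Localization.AtPrime (p i) ⧸ 𝔪 i) ⊗[A ⧸ 𝔠] ((A ⧸ 𝔠) ⊗[A] M)) := by
    intro i
    haveI := htower i
    haveI hloc : Module.Flat (Localization.AtPrime (p i)) (Localization.AtPrime (p i) ⊗[A] M) :=
      flat_localization_tensor_of_localizedModule (p i) M (h2 i)
    have h3 : Module.Flat (Localization.AtPrime (p i) ⧸ 𝔪 i)
        ((Localization.AtPrime (p i) ⧸ 𝔪 i) ⊗[Localization.AtPrime (p i)]
          (Localization.AtPrime (p i) ⊗[A] M)) := inferInstance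
    let e₁ := AlgebraTensorModule.cancelBaseChange A (Localization.AtPrime (p i))
      (Localization.AtPrime (p i) ⧸ 𝔪 i) (Localization.AtPrime (p i) ⧸ 𝔪 i) M
    let e₂ := AlgebraTensorModule.cancelBaseChange A (A ⧸ 𝔠)
      (Localization.AtPrime (p i) ⧸ 𝔪 i) (Localization.AtPrime (p i) ⧸ 𝔪 i) M
    exact Module.Flat.of_linearEquiv (e₂.trans e₁.symm)
  have hinj : ∀ x : A ⧸ 𝔠,
      (∀ i, algebraMap (A ⧸ 𝔠) (Localization.AtPrime (p i) ⧸ 𝔪 i) x = 0) → x = 0 := by
    intro x hx
    obtain ⟨a, rfl⟩ := Ideal.Quotient.mk_surjective x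
    rw [Ideal.Quotient.eq_zero_iff_mem, h𝔠, Ideal.mem_iInf]
    intro i
    have := hx i
    rw [halg, Ideal.Quotient.eq_zero_iff_mem] at this
    exact this
  exact flat_of_jointly_injective_of_nilpotent
    (fun i => Localization.AtPrime (p i) ⧸ 𝔪 i) hinj I hI ((A ⧸ 𝔠) ⊗[A] M)

/-- Flatness modulo the intersection of the `m`-th symbolic powers of finitely many primes
containing `J`. -/
theorem flat_quotient_iInf_comap_pow {A : Type u} [CommRing A] (J : Ideal A) (M : Type u)
    [AddCommGroup M] [Module A M] {ι : Type*} [Finite ι] (p : ι → Ideal A) [∀ i, (p i).IsPrime]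
    (hp : ∀ i, J ≤ p i) [Module.Flat (A ⧸ J) ((A ⧸ J) ⊗[A] M)]
    (h2 : ∀ i, Module.Flat (Localization.AtPrime (p i)) (LocalizedModule (p i).primeCompl M))
    (m : ℕ) :
    Module.Flat (A ⧸ (⨅ i, Ideal.comap (algebraMap A (Localization.AtPrime (p i)))
        (IsLocalRing.maximalIdeal (Localization.AtPrime (p i)) ^ m)))
      ((A ⧸ (⨅ i, Ideal.comap (algebraMap A (Localization.AtPrime (p i)))
        (IsLocalRing.maximalIdeal (Localization.AtPrime (p i)) ^ m))) ⊗[A] M) := by
  refine flat_quotient_iInf_comap J M p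
    (fun i => IsLocalRing.maximalIdeal (Localization.AtPrime (p i)) ^ m) m (fun i => ?_) h2
  rw [← Ideal.map_le_iff_le_comap, Ideal.map_pow]
  refine Ideal.pow_right_mono ?_ m
  rw [← IsLocalization.AtPrime.map_eq_maximalIdeal (p i) (Localization.AtPrime (p i))]
  exact Ideal.map_mono (hp i)

/-- EGA-style criterion: ideally separated module, finitely many primes whose symbolic powers
define a topology finer than the `J`-adic one. -/
theorem flat_iff_of_isHausdorff_of_primes {A : Type u} [CommRing A] [IsNoetherianRing A]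
    (J : Ideal A) (M : Type u) [AddCommGroup M] [Module A M]
    (hsep : ∀ a : Ideal A, IsHausdorff J (↥a ⊗[A] M))
    {ι : Type*} [Finite ι] (p : ι → Ideal A) [∀ i, (p i).IsPrime] (hp : ∀ i, J ≤ p i)
    (htop : ∀ n : ℕ, ∃ m : ℕ,
      ⨅ i, Ideal.comap (algebraMap A (Localization.AtPrime (p i)))
        (IsLocalRing.maximalIdeal (Localization.AtPrime (p i)) ^ m) ≤ J ^ n) :
    Module.Flat A M ↔
      Module.Flat (A ⧸ J) ((A ⧸ J) ⊗[A] M) ∧
        ∀ i, Module.Flat (Localization.AtPrime (p i)) (LocalizedModule (p i).primeCompl M) := by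
  constructor
  · intro h
    exact ⟨inferInstance, fun i => inferInstance⟩
  · rintro ⟨h1, h2⟩
    refine flat_of_flat_mod_pow_of_isHausdorff J M hsep (fun n _ => ?_)
    obtain ⟨m, hm⟩ := htop n
    haveI := flat_quotient_iInf_comap_pow J M p hp h2 m
    exact flat_quotient_of_le hm M

/-- An element lying in the contraction of `𝔫 A_q` for all `q` in a family containing the
associated primes of `A/𝔫` lies in `𝔫`. -/
theorem mem_of_forall_mem_comap_map {A : Type*} [CommRing A] [IsNoetherianRing A] (𝔫 : Ideal A)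
    {ι : Type*} (p : ι → Ideal A) [∀ i, (p i).IsPrime]
    (hass : ∀ q ∈ associatedPrimes A (A ⧸ 𝔫), ∃ i, p i = q) (x : A)
    (hx : ∀ i, x ∈ Ideal.comap (algebraMap A (Localization.AtPrime (p i)))
      (𝔫.map (algebraMap A (Localization.AtPrime (p i))))) : x ∈ 𝔫 := by
  by_contra hx0
  have hne : (Ideal.Quotient.mk 𝔫 x) ≠ 0 := by
    rw [Ne, Ideal.Quotient.eq_zero_iff_mem]; exact hx0
  obtain ⟨P, hP, hle⟩ := exists_le_isAssociatedPrime_of_isNoetherianRing A
    (Ideal.Quotient.mk 𝔫 x) hne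
  obtain ⟨i, rfl⟩ := hass P hP
  have h1 := hx i
  rw [Ideal.mem_comap, IsLocalization.mem_map_algebraMap_iff (p i).primeCompl] at h1
  obtain ⟨⟨a, s⟩, has⟩ := h1
  rw [← map_mul, IsLocalization.eq_iff_exists (p i).primeCompl] at has
  obtain ⟨t, ht⟩ := has
  have hmem : (t : A) * (s : A) ∈ p i := by
    apply hle
    rw [Submodule.mem_colon_singleton, Submodule.mem_bot, Algebra.smul_def,
      Ideal.Quotient.algebraMap_eq, ← map_mul, Ideal.Quotient.eq_zero_iff_mem]
    have : (t : A) * (s : A) * x = (t : A) * (a : A) := by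
      rw [mul_assoc, mul_comm (s : A) x]; exact ht
    rw [this]
    exact Ideal.mul_mem_left _ _ a.2
  rcases (inferInstance : (p i).IsPrime).mem_or_mem hmem with h | h
  · exact t.2 h
  · exact s.2 h

/-- EGA-style criterion under normal flatness along `J`, via the associated primes of `A/J`. -/
theorem flat_iff_of_isHausdorff_of_normallyFlat {A : Type u} [CommRing A] [IsNoetherianRing A]
    (J : Ideal A) (M : Type u) [AddCommGroup M] [Module A M]
    (hsep : ∀ a : Ideal A, IsHausdorff J (↥a ⊗[A] M))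
    (hgr : ∀ k : ℕ, Module.Flat (A ⧸ J) ((A ⧸ J) ⊗[A] ↥(J ^ k))) :
    Module.Flat A M ↔
      Module.Flat (A ⧸ J) ((A ⧸ J) ⊗[A] M) ∧
        ∀ q : associatedPrimes A (A ⧸ J),
          Module.Flat (Localization.AtPrime q.1) (LocalizedModule q.1.primeCompl M) := by
  constructor
  · intro h
    exact ⟨inferInstance, fun q => inferInstance⟩
  · rintro ⟨h1, h2⟩
    refine flat_of_flat_mod_pow_of_isHausdorff J M hsep (fun n hn => ?_)
    obtain ⟨k, rfl⟩ : ∃ k, n = k + 1 := ⟨n - 1, by omega⟩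
    haveI : Finite (associatedPrimes A (A ⧸ J)) := (associatedPrimes.finite A (A ⧸ J)).to_subtype
    have hfl := flat_quotient_iInf_comap J M (fun q : associatedPrimes A (A ⧸ J) => q.1)
      (fun q => (J ^ (k + 1)).map (algebraMap A (Localization.AtPrime q.1))) (k + 1)
      (fun q => Ideal.le_comap_map) h2
    have heq : (⨅ q : associatedPrimes A (A ⧸ J),
        Ideal.comap (algebraMap A (Localization.AtPrime q.1))
          ((J ^ (k + 1)).map (algebraMap A (Localization.AtPrime q.1)))) = J ^ (k + 1) := by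
      apply le_antisymm
      · intro x hx
        rw [Ideal.mem_iInf] at hx
        refine mem_of_forall_mem_comap_map (J ^ (k + 1))
          (fun q : associatedPrimes A (A ⧸ J) => q.1) ?_ x hx
        intro q hq
        exact ⟨⟨q, associatedPrimes_quotient_pow_subset J hgr k hq⟩, rfl⟩
      · exact le_iInf fun q => Ideal.le_comap_map
    have key : ∀ K : Ideal A, K = J ^ (k + 1) → Module.Flat (A ⧸ K) ((A ⧸ K) ⊗[A] M) →
        Module.Flat (A ⧸ J ^ (k + 1)) ((A ⧸ J ^ (k + 1)) ⊗[A] M) := by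
      rintro K rfl h; exact h
    exact key _ heq hfl

end Groth.Agent.Helper4
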