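import Mathlib
import Groth.Prelude.Def_CAlg

/-!
# Elementary consequences of depth at least one or two for modules over local rings
-/

set_option autoImplicit false
set_option linter.style.haveILetI false

universe u v w

open scoped Pointwise

namespace Groth.Agent.Helper4.DepthTwoAlg

variable {R : Type u} [CommRing R] [IsLocalRing R]

theorem exists_of_one_le_depth (M : Type v) [AddCommGroup M] [Module R M]
    (h : (1 : ℕ∞) ≤ LocCoh.depth R M) :
    IsLocalRing.maximalIdeal R • (⊤ : Submodule R M) = ⊤ ∨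
      ∃ r ∈ IsLocalRing.maximalIdeal R, IsSMulRegular M r := by
  by_cases htop : IsLocalRing.maximalIdeal R • (⊤ : Submodule R M) = ⊤
  · exact Or.inl htop
  · right
    by_contra hcon
    push Not at hcon
    unfold LocCoh.depth LocCoh.idealDepth at h
    rw [if_neg htop] at h
    have hle : (⨆ (rs : List R) (_ : RingTheory.Sequence.IsWeaklyRegular M rs ∧
        ∀ r ∈ rs, r ∈ IsLocalRing.maximalIdeal R), (rs.length : ℕ∞)) ≤ 0 := by
      refine iSup₂_le ?_
      intro rs hrs
      cases rs with
      | nil => simp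
      | cons r rs' =>
        exfalso
        have hreg : IsSMulRegular M r :=
          ((RingTheory.Sequence.isWeaklyRegular_cons_iff M r rs').mp hrs.1).1
        exact hcon r (hrs.2 r List.mem_cons_self) hreg
    have h2 : (1 : ℕ∞) ≤ 0 := h.trans hle
    simp at h2

theorem exists_of_two_le_depth (M : Type v) [AddCommGroup M] [Module R M]
    (h : (2 : ℕ∞) ≤ LocCoh.depth R M) :
    IsLocalRing.maximalIdeal R • (⊤ : Submodule R M) = ⊤ ∨
      ∃ r₁ ∈ IsLocalRing.maximalIdeal R, ∃ r₂ ∈ IsLocalRing.maximalIdeal R,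
        IsSMulRegular M r₁ ∧ IsSMulRegular (QuotSMulTop r₁ M) r₂ := by
  by_cases htop : IsLocalRing.maximalIdeal R • (⊤ : Submodule R M) = ⊤
  · exact Or.inl htop
  · right
    by_contra hcon
    push Not at hcon
    unfold LocCoh.depth LocCoh.idealDepth at h
    rw [if_neg htop] at h
    have hle : (⨆ (rs : List R) (_ : RingTheory.Sequence.IsWeaklyRegular M rs ∧
        ∀ r ∈ rs, r ∈ IsLocalRing.maximalIdeal R), (rs.length : ℕ∞)) ≤ 1 := by
      refine iSup₂_le ?_
      intro rs hrs
      match rs, hrs with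
      | [], _ => simp
      | [r], _ => simp
      | r₁ :: r₂ :: rest, hrs =>
        exfalso
        have h1 := (RingTheory.Sequence.isWeaklyRegular_cons_iff M r₁ (r₂ :: rest)).mp hrs.1
        have h2 : IsSMulRegular (QuotSMulTop r₁ M) r₂ :=
          ((RingTheory.Sequence.isWeaklyRegular_cons_iff (QuotSMulTop r₁ M) r₂ rest).mp h1.2).1
        exact hcon r₁ (hrs.2 r₁ List.mem_cons_self) r₂
          (hrs.2 r₂ (List.mem_cons_of_mem _ List.mem_cons_self)) h1.1 h2
    have h2 : (2 : ℕ∞) ≤ 1 := h.trans hle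
    exact absurd h2 (by norm_num)

/-- Nakayama. -/
theorem eq_zero_of_smul_top_eq_top (M : Type v) [AddCommGroup M] [Module R M] [Module.Finite R M]
    (h : IsLocalRing.maximalIdeal R • (⊤ : Submodule R M) = ⊤) (t : M) : t = 0 := by
  have h1 : (⊤ : Submodule R M) = ⊥ :=
    Submodule.eq_bot_of_le_smul_of_le_jacobson_bot (IsLocalRing.maximalIdeal R) ⊤
      Module.Finite.fg_top (le_of_eq h.symm) (IsLocalRing.maximalIdeal_le_jacobson ⊥)
  have h2 : t ∈ (⊤ : Submodule R M) := Submodule.mem_top
  rw [h1] at h2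
  exact (Submodule.mem_bot R).mp h2

/-- An element killed by the maximal ideal witnesses that the maximal ideal is associated. -/
theorem isAssociatedPrime_of_smul_eq_zero (G : Type w) [AddCommGroup G] [Module R G]
    (g : G) (hg0 : g ≠ 0) (hg : ∀ a ∈ IsLocalRing.maximalIdeal R, a • g = 0) :
    IsAssociatedPrime (IsLocalRing.maximalIdeal R) G := by
  have hcolon : (⊥ : Submodule R G).colon ({g} : Set G) = IsLocalRing.maximalIdeal R := by
    apply le_antisymm
    · apply IsLocalRing.le_maximalIdeal
      intro htop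
      have h1 : (1 : R) ∈ (⊥ : Submodule R G).colon ({g} : Set G) := htop ▸ Submodule.mem_top
      rw [Submodule.mem_colon_singleton, one_smul, Submodule.mem_bot] at h1
      exact hg0 h1
    · intro a ha
      rw [Submodule.mem_colon_singleton, Submodule.mem_bot]
      exact hg a ha
  refine Submodule.isAssociatedPrime_def.mpr
    ⟨(IsLocalRing.maximalIdeal.isMaximal R).isPrime, g, ?_⟩
  rw [hcolon]
  exact ((IsLocalRing.maximalIdeal.isMaximal R).isPrime.radical).symm

theorem not_one_le_depth_of_isAssociatedPrime [IsNoetherianRing R] (M : Type v) [AddCommGroup M]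
    [Module R M] [Module.Finite R M]
    (h : IsAssociatedPrime (IsLocalRing.maximalIdeal R) M) :
    ¬ (1 : ℕ∞) ≤ LocCoh.depth R M := by
  intro hd
  obtain ⟨-, t, ht⟩ := isAssociatedPrime_iff.mp h
  have ht0 : t ≠ 0 := by
    intro h0
    apply (IsLocalRing.maximalIdeal.isMaximal R).ne_top
    rw [ht, h0]
    ext z
    simp [Submodule.mem_colon_singleton]
  rcases exists_of_one_le_depth M hd with htop | ⟨r, hr, hreg⟩
  · exact ht0 (eq_zero_of_smul_top_eq_top M htop t)
  · rw [ht, Submodule.mem_colon_singleton, Submodule.mem_bot] at hr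
    exact ht0 (hreg (by show r • t = r • 0; rw [hr, smul_zero]))

/-- The key extension statement: if `F ⊆ G` with `depth F ≥ 2` and the maximal ideal is not
associated to `G`, then any element of `G` multiplied into `F` by the maximal ideal is in `F`. -/
theorem mem_range_of_two_le_depth (F : Type v) [AddCommGroup F] [Module R F] [Module.Finite R F]
    (G : Type w) [AddCommGroup G] [Module R G] (φ : F →+ G)
    (hsmul : ∀ (a : R) (t : F), φ (a • t) = a • φ t) (hinj : Function.Injective φ)
    (hd : (2 : ℕ∞) ≤ LocCoh.depth R F)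
    (hass : ¬ IsAssociatedPrime (IsLocalRing.maximalIdeal R) G)
    (g : G) (hg : ∀ a ∈ IsLocalRing.maximalIdeal R, ∃ t : F, φ t = a • g) :
    ∃ t : F, φ t = g := by
  by_contra hcon
  push Not at hcon
  have hg0 : g ≠ 0 := fun h0 => hcon 0 (by rw [map_zero, h0])
  rcases exists_of_two_le_depth F hd with htop | ⟨r₁, hr₁, r₂, hr₂, hreg₁, hreg₂⟩
  · apply hass
    refine isAssociatedPrime_of_smul_eq_zero G g hg0 ?_
    intro a ha
    obtain ⟨t, ht⟩ := hg a ha
    rw [← ht, eq_zero_of_smul_top_eq_top F htop t, map_zero]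
  · obtain ⟨f₁, hf₁⟩ := hg r₁ hr₁
    obtain ⟨f₂, hf₂⟩ := hg r₂ hr₂
    -- `r₂ f₁ = r₁ f₂`
    have h12 : r₂ • f₁ = r₁ • f₂ := by
      apply hinj
      rw [hsmul, hsmul, hf₁, hf₂, smul_comm]
    have hf₁mem : f₁ ∈ r₁ • (⊤ : Submodule R F) := by
      have h0 : (Submodule.Quotient.mk f₁ : QuotSMulTop r₁ F) = 0 := by
        apply hreg₂
        show r₂ • (Submodule.Quotient.mk f₁ : QuotSMulTop r₁ F) = r₂ • (0 : QuotSMulTop r₁ F)
        rw [smul_zero, ← Submodule.Quotient.mk_smul, h12]
        exact (Submodule.Quotient.mk_eq_zero _).mpr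
          ((Submodule.mem_smul_pointwise_iff_exists _ _ _).mpr ⟨f₂, Submodule.mem_top, rfl⟩)
      exact (Submodule.Quotient.mk_eq_zero _).mp h0
    obtain ⟨f', -, hf'⟩ := (Submodule.mem_smul_pointwise_iff_exists _ _ _).mp hf₁mem
    -- the corrected element
    have hh0 : g - φ f' ≠ 0 := by
      intro h0
      exact hcon f' (sub_eq_zero.mp h0).symm
    have hr₁h : r₁ • (g - φ f') = 0 := by
      rw [smul_sub, ← hf₁, ← hsmul, hf', sub_self]
    apply hass
    refine isAssociatedPrime_of_smul_eq_zero G (g - φ f') hh0 ?_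
    intro a ha
    obtain ⟨e, he⟩ := hg a ha
    have he' : φ (e - a • f') = a • (g - φ f') := by
      rw [map_sub, he, hsmul, smul_sub]
    have he0 : e - a • f' = 0 := by
      apply hreg₁
      show r₁ • (e - a • f') = r₁ • (0 : F)
      rw [smul_zero]
      apply hinj
      rw [hsmul, he', map_zero, smul_comm, hr₁h, smul_zero]
    rw [← he', he0, map_zero]

end Groth.Agent.Helper4.DepthTwoAlg
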