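import Mathlib
import Groth.Prelude.Def_CAlg
import Groth.Prelude.Def_CurvBase
import Groth.Agent.Lead.StalkExact
import Groth.Agent.Lead.QCoh2
import Groth.Agent.Lead.QCoh9
import Groth.Agent.Lib.Helper4.DepthTwoAlg

/-!
# Morphisms of quasi-coherent modules which are isomorphisms away from depth two
-/

set_option autoImplicit false
set_option linter.style.haveILetI false

universe u

open CategoryTheory CategoryTheory.Limits AlgebraicGeometry Opposite TopologicalSpace
open Groth.Agent.Lead.QCoh Groth.Agent.Lead.EpiStalk Groth.Agent.Lead.FinType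
  Groth.Agent.Lead.StalkExact

namespace Groth.Agent.Helper4.CohDepth

variable {X : Scheme.{u}}

/-- Stalks of modules of finite type are finitely generated. -/
theorem finite_stalk (F : X.Modules) [SheafOfModules.IsFiniteType (R := X.ringCatSheaf) F]
    (x : X) : Module.Finite (X.presheaf.stalk x) (F.presheaf.stalk x) := by
  obtain ⟨U, hxU, I, hI, s, hs⟩ := exists_span_germ_eq_top F x
  rw [Module.finite_def, ← hs x hxU]
  exact Submodule.fg_span (Set.finite_range _)

theorem isIso_of_depth [IsLocallyNoetherian X] {F G : X.Modules} (φ : F ⟶ G)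
    [F.IsQuasicoherent] [SheafOfModules.IsFiniteType (R := X.ringCatSheaf) F]
    [G.IsQuasicoherent]
    (h : ∀ x : X, Function.Bijective (stalkMap φ x) ∨
      ((2 : ℕ∞) ≤ LocCoh.depth (X.presheaf.stalk x) (F.presheaf.stalk x) ∧
        ¬ Curv2.IsAssPoint G x)) :
    IsIso φ := by
  haveI hK : (kernel φ).IsQuasicoherent := (isQuasicoherent_kernel_cokernel φ).1
  haveI hC : (cokernel φ).IsQuasicoherent := (isQuasicoherent_kernel_cokernel φ).2
  -- the kernel vanishes
  have hKzero : ∀ x : X, Subsingleton ((kernel φ).presheaf.stalk x) := by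
    intro x
    by_contra hns
    rw [not_subsingleton_iff_nontrivial] at hns
    obtain ⟨y, -, hy⟩ := exists_weakAssPoint_specializes (kernel φ) x hns
    have hyF : Curv2.IsWeakAssPoint F y := by
      obtain ⟨m, hm⟩ := hy
      refine ⟨stalkMap (kernel.ι φ) y m, ?_⟩
      rw [ker_toSpanSingleton_of_injective (stalkMap (kernel.ι φ) y)
        (stalkMap_smul (kernel.ι φ) y) (stalkMap_injective_of_mono (kernel.ι φ) y)]
      exact hm
    have hyass : Curv2.IsAssPoint F y := (isAssPoint_iff F y).mpr hyF
    haveI := finite_stalk F y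
    have hnd := DepthTwoAlg.not_one_le_depth_of_isAssociatedPrime (F.presheaf.stalk y) hyass
    have hbij : Function.Bijective (stalkMap φ y) := by
      rcases h y with hb | ⟨hd, -⟩
      · exact hb
      · exact absurd (le_trans (by norm_num) hd) hnd
    have hsub := ((bijective_stalkMap_iff φ y).mp hbij).1
    haveI hnt := nontrivial_stalk_of_isWeakAssPoint (kernel φ) y hy
    exact not_subsingleton _ hsub
  have hKz : IsZero (kernel φ) := isZero_of_subsingleton_stalk (kernel φ) hKzero
  haveI hmono : Mono φ := Preadditive.mono_of_kernel_zero (hKz.eq_of_src _ _)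
  -- the cokernel vanishes
  have hCzero : ∀ x : X, Subsingleton ((cokernel φ).presheaf.stalk x) := by
    intro x
    by_contra hns
    rw [not_subsingleton_iff_nontrivial] at hns
    obtain ⟨y, -, hy⟩ := exists_weakAssPoint_specializes (cokernel φ) x hns
    have hyass : Curv2.IsAssPoint (cokernel φ) y := (isAssPoint_iff _ y).mpr hy
    obtain ⟨-, q, hq⟩ := isAssociatedPrime_iff.mp hyass
    have hq0 : q ≠ 0 := by
      intro h0
      apply (IsLocalRing.maximalIdeal.isMaximal (X.presheaf.stalk y)).ne_top
      rw [hq, h0]
      ext z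
      simp [Submodule.mem_colon_singleton]
    obtain ⟨g, hgq⟩ := stalkMap_surjective_of_epi (cokernel.π φ) y q
    let S : ShortComplex X.Modules := ShortComplex.mk φ (cokernel.π φ) (cokernel.condition φ)
    have hS : S.Exact := ShortComplex.exact_of_g_is_cokernel S (cokernelIsCokernel φ)
    have hgm : ∀ a ∈ IsLocalRing.maximalIdeal (X.presheaf.stalk y),
        ∃ t, stalkMap φ y t = a • g := by
      intro a ha
      apply stalk_exact_of_exact S hS y (a • g)
      show stalkMap (cokernel.π φ) y (a • g) = 0
      rw [stalkMap_smul, hgq]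
      rw [hq, Submodule.mem_colon_singleton, Submodule.mem_bot] at ha
      exact ha
    have hgnot : ¬ ∃ t, stalkMap φ y t = g := by
      rintro ⟨t, ht⟩
      apply hq0
      rw [← hgq, ← ht, ← stalkMap_comp, cokernel.condition, stalkMap_zero]
    rcases h y with hb | ⟨hd, hnass⟩
    · exact hgnot (hb.2 g)
    · haveI := finite_stalk F y
      exact hgnot (DepthTwoAlg.mem_range_of_two_le_depth (F.presheaf.stalk y)
        (G.presheaf.stalk y) (stalkMap φ y) (stalkMap_smul φ y)
        (stalkMap_injective_of_mono φ y) hd hnass g hgm)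
  have hCz : IsZero (cokernel φ) := isZero_of_subsingleton_stalk (cokernel φ) hCzero
  haveI hepi : Epi φ := Preadditive.epi_of_cokernel_zero (hCz.eq_of_tgt _ _)
  exact isIso_of_mono_of_epi φ

end Groth.Agent.Helper4.CohDepth
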