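import Mathlib
import Groth.Prelude.Def_BlowUp2
import Groth.Agent.H20.IdealSh

/-!
Pullback of effective Cartier ideal sheaves: local formula for `IdealSheafData.comap` in terms of
`appLE`, and the reduced case.
-/

set_option autoImplicit false

open CategoryTheory CategoryTheory.Limits AlgebraicGeometry AlgebraicGeometry.Scheme TopologicalSpace

namespace Groth.Agent.Helper4.EffCartierPull

universe u
variable {X Y : Scheme.{u}}

open Groth.Agent.H20.IdealSh

lemma affTop_eq (U : X.affineOpens) : affTop U = U := Subtype.ext (affTop_coe U)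

theorem ideal_comap_appLE (f : X ⟶ Y) (K : Y.IdealSheafData) (U : X.affineOpens)
    (V : Y.affineOpens) (e : U.1 ≤ f ⁻¹ᵁ V.1) :
    (K.comap f).ideal U = (K.ideal V).map (f.appLE V.1 U.1 e).hom := by
  suffices H : ∀ (U' : X.affineOpens) (V' : Y.affineOpens) (_ : affTop U = U') (_ : affTop V = V')
      (e' : U'.1 ≤ f ⁻¹ᵁ V'.1),
      (K.comap f).ideal U' = (K.ideal V').map (f.appLE V'.1 U'.1 e').hom from
    H U V (affTop_eq U) (affTop_eq V) e
  intro U' V' hU hV e'
  subst hU hV
  rw [ideal_comap_local f K U V e]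
  have h1 : (f.resLE V.1 U.1 e).appTop = f.appLE (affTop V).1 (affTop U).1 e' := by
    rw [Scheme.Hom.appTop, Scheme.Hom.app_eq_appLE, Scheme.Hom.resLE_appLE]
    rfl
  rw [h1]
  rfl

/-- Every point of a quasi-sober T0 space has a generization which is a maximal point. -/
lemma exists_generic_specializes {T : Type*} [TopologicalSpace T] [QuasiSober T] [T0Space T]
    (z : T) : ∃ ξ : T, ξ ⤳ z ∧ ∀ y : T, y ⤳ ξ → y = ξ := by
  have hirr : IsIrreducible (irreducibleComponent z) := isIrreducible_irreducibleComponent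
  have hcl : IsClosed (irreducibleComponent z) := isClosed_irreducibleComponent
  obtain ⟨ξ, hξ⟩ := QuasiSober.sober hirr hcl
  rw [isGenericPoint_def] at hξ
  refine ⟨ξ, ?_, ?_⟩
  · rw [specializes_iff_mem_closure, hξ]; exact mem_irreducibleComponent
  · intro y hy
    have h1 : closure {ξ} ⊆ closure {y} := specializes_iff_closure_subset.mp hy
    have h2 : closure ({y} : Set T) = irreducibleComponent z :=
      eq_irreducibleComponent isIrreducible_singleton.closure.isPreirreducible (hξ ▸ h1)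
    have h3 : ξ ⤳ y := by
      rw [specializes_iff_closure_subset, h2, hξ]
    exact (hy.antisymm h3).eq

theorem isEffCartier_comap_of_reduced [IsReduced X] (f : X ⟶ Y) (𝓘 : Y.IdealSheafData)
    (hD : BlowUp.IsEffCartierIdeal 𝓘)
    (h : ∀ ξ : X, (∀ y : X, y ⤳ ξ → y = ξ) → f ξ ∉ 𝓘.support) :
    BlowUp.IsEffCartierIdeal (𝓘.comap f) := by
  intro x
  obtain ⟨V, hxV, g, hg, hgI⟩ := hD (f x)
  obtain ⟨_, ⟨U, hU, rfl⟩, hxU, hUV⟩ :=
      X.isBasis_affineOpens.exists_subset_of_mem_open (show x ∈ (f ⁻¹ᵁ V.1 : Set X) from hxV)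
        (f ⁻¹ᵁ V.1).isOpen
  refine ⟨⟨U, hU⟩, hxU, (f.appLE V.1 U hUV).hom g, ?_, ?_⟩
  · rw [mem_nonZeroDivisors_iff_right]
    intro t ht
    rw [← AlgebraicGeometry.basicOpen_eq_bot_iff]
    by_contra hne
    obtain ⟨z, hz⟩ : ∃ z, z ∈ X.basicOpen t := by
      by_contra hcon
      push_neg at hcon
      apply hne
      ext z
      simp [hcon z]
    obtain ⟨ξ, hξz, hξ⟩ := exists_generic_specializes z
    have hξt : ξ ∈ X.basicOpen t := hξz.mem_open (X.basicOpen t).isOpen hz
    have hξU : ξ ∈ U := X.basicOpen_le t hξt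
    have hfξ := h ξ hξ
    have hfξV : f ξ ∈ V.1 := hUV hξU
    rw [IdealSheafData.mem_support_iff_of_mem hfξV, hgI, Scheme.zeroLocus_span,
      Scheme.zeroLocus_singleton] at hfξ
    have hfξg : f ξ ∈ Y.basicOpen g := by simpa using hfξ
    have hξs : ξ ∈ X.basicOpen ((f.appLE V.1 U hUV).hom g) := by
      rw [Scheme.Hom.appLE, CommRingCat.hom_comp, RingHom.comp_apply]
      rw [Scheme.basicOpen_res, ← Scheme.preimage_basicOpen]
      exact ⟨hξU, hfξg⟩
    have : ξ ∈ X.basicOpen (t * (f.appLE V.1 U hUV).hom g) := by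
      rw [Scheme.basicOpen_mul]; exact ⟨hξt, hξs⟩
    rw [ht, Scheme.basicOpen_zero] at this
    exact this
  · rw [ideal_comap_appLE f 𝓘 ⟨U, hU⟩ V hUV, hgI, Ideal.map_span, Set.image_singleton]

end Groth.Agent.Helper4.EffCartierPull
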