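import Mathlib
import Groth.Prelude.Def_BlowUp2
import Groth.Prelude.Def_MeroSh
import Groth.Agent.Lib.Helper4.EffCartierPull

/-!
Consequences of the universal property of blowing up: `b` is an isomorphism over the complement of
the centre; reducedness; pullback of effective Cartier divisors and regular sections.
-/

set_option autoImplicit false
set_option linter.style.haveILetI false

open CategoryTheory CategoryTheory.Limits AlgebraicGeometry AlgebraicGeometry.Scheme TopologicalSpace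

namespace Groth.Agent.Helper4.BlowupIso

universe u
variable {X X' : Scheme.{u}}

open Groth.Agent.Helper4.EffCartierPull

lemma isEffCartier_top : BlowUp.IsEffCartierIdeal (⊤ : X.IdealSheafData) := by
  intro x
  obtain ⟨_, ⟨U, hU, rfl⟩, hxU, -⟩ :=
    X.isBasis_affineOpens.exists_subset_of_mem_open (Set.mem_univ x) isOpen_univ
  refine ⟨⟨U, hU⟩, hxU, 1, one_mem _, ?_⟩
  rw [IdealSheafData.ideal_top, Pi.top_apply, Ideal.span_singleton_one]

/-- The open complement of the support of an ideal sheaf. -/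
def compl (𝓘 : X.IdealSheafData) : X.Opens :=
  ⟨(𝓘.support : Set X)ᶜ, 𝓘.support.isClosed.isOpen_compl⟩

lemma comap_eq_top_of_forall_notMem {Y : Scheme.{u}} (𝓘 : X.IdealSheafData) (g : Y ⟶ X)
    (hg : ∀ y : Y, g y ∉ 𝓘.support) : 𝓘.comap g = ⊤ := by
  rw [← IdealSheafData.support_eq_bot_iff, IdealSheafData.support_comap]
  refine le_antisymm ?_ bot_le
  intro y hy
  exact (hg y hy).elim

theorem isIso_morphismRestrict_compl (𝓘 : X.IdealSheafData) (b : X' ⟶ X)
    (hb : BlowUp.IsBlowUp b 𝓘) : IsIso (b ∣_ compl 𝓘) := by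
  set V := compl 𝓘 with hV
  have hVmem : ∀ z : V.toScheme, V.ι z ∉ 𝓘.support := fun z => z.2
  obtain ⟨h, hh, -⟩ := hb.2 V.toScheme V.ι
    (by rw [comap_eq_top_of_forall_notMem 𝓘 V.ι hVmem]; exact isEffCartier_top)
  have hU'mem : ∀ z : (b ⁻¹ᵁ V).toScheme, ((b ⁻¹ᵁ V).ι ≫ b) z ∉ 𝓘.support := by
    intro z
    rw [Scheme.Hom.comp_apply]
    exact z.2
  obtain ⟨h₀, -, huniq⟩ := hb.2 (b ⁻¹ᵁ V).toScheme ((b ⁻¹ᵁ V).ι ≫ b)
    (by rw [comap_eq_top_of_forall_notMem 𝓘 _ hU'mem]; exact isEffCartier_top)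
  have e1 : (b ⁻¹ᵁ V).ι = h₀ := huniq _ rfl
  have e2 : (b ∣_ V) ≫ h = h₀ := huniq _ (by
    show ((b ∣_ V) ≫ h) ≫ b = _
    rw [Category.assoc, hh, morphismRestrict_ι])
  have e3 : (b ∣_ V) ≫ h = (b ⁻¹ᵁ V).ι := e2.trans e1.symm
  have hrange : Set.range h ⊆ Set.range (b ⁻¹ᵁ V).ι := by
    rw [Scheme.Opens.range_ι]
    rintro _ ⟨z, rfl⟩
    show b (h z) ∈ V
    have : b (h z) = V.ι z := by rw [← Scheme.Hom.comp_apply, hh]
    rw [this]
    exact z.2
  refine ⟨IsOpenImmersion.lift (b ⁻¹ᵁ V).ι h hrange, ?_, ?_⟩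
  · rw [← cancel_mono (b ⁻¹ᵁ V).ι, Category.assoc, IsOpenImmersion.lift_fac, e3, Category.id_comp]
  · rw [← cancel_mono V.ι, Category.assoc, morphismRestrict_ι, IsOpenImmersion.lift_fac_assoc, hh,
      Category.id_comp]

theorem isIso_stalkMap_of_notMem (𝓘 : X.IdealSheafData) (b : X' ⟶ X)
    (hb : BlowUp.IsBlowUp b 𝓘) (y : X') (hy : b y ∉ 𝓘.support) : IsIso (b.stalkMap y) := by
  haveI := isIso_morphismRestrict_compl 𝓘 b hb
  set V := compl 𝓘
  let y' : (b ⁻¹ᵁ V).toScheme := ⟨y, hy⟩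
  have h1 : IsOpenImmersion ((b ⁻¹ᵁ V).ι ≫ b) := by
    rw [← morphismRestrict_ι]; infer_instance
  have h2 : IsIso (((b ⁻¹ᵁ V).ι ≫ b).stalkMap y') := inferInstance
  rw [Scheme.Hom.stalkMap_comp] at h2
  have h3 : IsIso ((b ⁻¹ᵁ V).ι.stalkMap y') := inferInstance
  exact @IsIso.of_isIso_comp_right _ _ _ _ _ (b.stalkMap y) ((b ⁻¹ᵁ V).ι.stalkMap y') h3 h2

lemma germ_mem_nonZeroDivisors {X : Scheme.{u}} {W : X.Opens} (hW : IsAffineOpen W)
    (σ : Γ(X, W)) (hσ : σ ∈ nonZeroDivisors Γ(X, W)) (x : X) (hx : x ∈ W) :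
    X.presheaf.germ W x hx σ ∈ nonZeroDivisors (X.presheaf.stalk x) := by
  let x₀ : W := ⟨x, hx⟩
  have hloc := hW.isLocalization_stalk x₀
  exact @IsLocalization.map_nonZeroDivisors_le Γ(X, W) _ (hW.primeIdealOf x₀).asIdeal.primeCompl
    (X.presheaf.stalk x) _ (TopCat.Presheaf.algebra_section_stalk X.presheaf x₀) hloc
    _ ⟨σ, hσ, rfl⟩

lemma mem_nonZeroDivisors_of_germ {X : Scheme.{u}} {W : X.Opens} (σ : Γ(X, W))
    (h : ∀ (x : X) (hx : x ∈ W),
      X.presheaf.germ W x hx σ ∈ nonZeroDivisors (X.presheaf.stalk x)) :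
    σ ∈ nonZeroDivisors Γ(X, W) := by
  rw [mem_nonZeroDivisors_iff_right]
  intro t ht
  apply TopCat.Presheaf.section_ext X.sheaf W t 0
  intro x hx
  have h1 := (mem_nonZeroDivisors_iff_right.mp (h x hx)) (X.presheaf.germ W x hx t)
    (by rw [← map_mul, ht, map_zero])
  change X.presheaf.germ W x hx t = X.presheaf.germ W x hx 0
  rw [h1, map_zero]

lemma mem_nonZeroDivisors_of_germ_basicOpen {X : Scheme.{u}} {W : X.Opens} (hW : IsAffineOpen W)
    (e σ : Γ(X, W)) (he : e ∈ nonZeroDivisors Γ(X, W))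
    (h : ∀ (x : X) (hx : x ∈ X.basicOpen e),
      X.presheaf.germ W x (X.basicOpen_le e hx) σ ∈ nonZeroDivisors (X.presheaf.stalk x)) :
    σ ∈ nonZeroDivisors Γ(X, W) := by
  rw [mem_nonZeroDivisors_iff_right]
  intro t ht
  have hres : (X.presheaf.map (homOfLE (X.basicOpen_le e)).op).hom t = 0 := by
    apply TopCat.Presheaf.section_ext X.sheaf (X.basicOpen e) _ 0
    intro x hx
    have h1 := (mem_nonZeroDivisors_iff_right.mp (h x hx))
      (X.presheaf.germ W x (X.basicOpen_le e hx) t) (by rw [← map_mul, ht, map_zero])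
    change X.presheaf.germ (X.basicOpen e) x hx
      ((X.presheaf.map (homOfLE (X.basicOpen_le e)).op).hom t) =
        X.presheaf.germ (X.basicOpen e) x hx 0
    rw [map_zero]
    exact (TopCat.Presheaf.germ_res_apply X.presheaf (homOfLE (X.basicOpen_le e)) x hx t).trans h1
  obtain ⟨n, hn⟩ :=
    exists_pow_mul_eq_zero_of_res_basicOpen_eq_zero_of_isAffineOpen X hW t e hres
  exact (mem_nonZeroDivisors_iff_left.mp (pow_mem he n)) t hn

lemma notMem_support_of_mem_basicOpen (𝓘 : X.IdealSheafData) (b : X' ⟶ X) (W : X'.affineOpens)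
    (e : Γ(X', W.1)) (heI : (𝓘.comap b).ideal W = Ideal.span {e}) (y : X')
    (hy : y ∈ X'.basicOpen e) : b y ∉ 𝓘.support := by
  intro hcon
  have h1 : y ∈ (𝓘.comap b).support := by
    rw [IdealSheafData.support_comap]; exact hcon
  rw [IdealSheafData.mem_support_iff_of_mem (X'.basicOpen_le e hy), heI, Scheme.zeroLocus_span,
    Scheme.zeroLocus_singleton] at h1
  exact h1 hy

lemma map_mem_nonZeroDivisors_of_bijective {R S : Type*} [CommRing R] [CommRing S] (f : R →+* S)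
    (hf : Function.Bijective f) {a : R} (ha : a ∈ nonZeroDivisors R) :
    f a ∈ nonZeroDivisors S := by
  rw [mem_nonZeroDivisors_iff_right]
  intro t ht
  obtain ⟨t', rfl⟩ := hf.2 t
  have h1 : t' * a = 0 := hf.1 (by rw [map_mul, ht, map_zero])
  rw [(mem_nonZeroDivisors_iff_right.mp ha) t' h1, map_zero]

theorem isReduced_of_isBlowUp [IsReduced X] (𝓘 : X.IdealSheafData) (b : X' ⟶ X)
    (hb : BlowUp.IsBlowUp b 𝓘) : IsReduced X' := by
  haveI : ∀ x : X', _root_.IsReduced (X'.presheaf.stalk x) := by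
    intro x'
    obtain ⟨W, hxW, e, he, heI⟩ := hb.1 x'
    have hred : _root_.IsReduced Γ(X', W.1) := by
      constructor
      intro t ht
      have hres : (X'.presheaf.map (homOfLE (X'.basicOpen_le e)).op).hom t = 0 := by
        apply TopCat.Presheaf.section_ext X'.sheaf (X'.basicOpen e) _ 0
        intro y hy
        have hyS : b y ∉ 𝓘.support := notMem_support_of_mem_basicOpen 𝓘 b W e heI y hy
        haveI := isIso_stalkMap_of_notMem 𝓘 b hb y hyS
        haveI : _root_.IsReduced (X'.presheaf.stalk y) :=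
          isReduced_of_injective (inv (b.stalkMap y)).hom
            (asIso (b.stalkMap y)).symm.commRingCatIsoToRingEquiv.injective
        change X'.presheaf.germ (X'.basicOpen e) y hy
          ((X'.presheaf.map (homOfLE (X'.basicOpen_le e)).op).hom t) =
            X'.presheaf.germ (X'.basicOpen e) y hy 0
        rw [map_zero]
        exact ((ht.map (X'.presheaf.map (homOfLE (X'.basicOpen_le e)).op).hom).map
          (X'.presheaf.germ (X'.basicOpen e) y hy).hom).eq_zero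
      obtain ⟨n, hn⟩ :=
        exists_pow_mul_eq_zero_of_res_basicOpen_eq_zero_of_isAffineOpen X' W.2 t e hres
      exact (mem_nonZeroDivisors_iff_left.mp (pow_mem he n)) t hn
    let x₀ : W.1 := ⟨x', hxW⟩
    have hloc := W.2.isLocalization_stalk x₀
    exact @isReduced_localizationPreserves Γ(X', W.1) _ (W.2.primeIdealOf x₀).asIdeal.primeCompl
      (X'.presheaf.stalk x') _ (TopCat.Presheaf.algebra_section_stalk X'.presheaf x₀) hloc hred
  exact isReduced_of_isReduced_stalk X'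

theorem regSub_pullback (𝓘 : X.IdealSheafData) (b : X' ⟶ X) (hb : BlowUp.IsBlowUp b 𝓘)
    (U : X.Opens) (s : Γ(X, U)) (hs : s ∈ Mero.regSub X U) :
    b.app U s ∈ Mero.regSub X' (b ⁻¹ᵁ U) := by
  rintro ⟨x', hx'⟩
  show X'.presheaf.germ (b ⁻¹ᵁ U) x' hx' (b.app U s) ∈ nonZeroDivisors _
  obtain ⟨W₀, hxW₀, e₀, he₀, he₀I⟩ := hb.1 x'
  obtain ⟨r, hrle, hxr⟩ := W₀.2.exists_basicOpen_le (V := b ⁻¹ᵁ U) ⟨x', hx'⟩ hxW₀
  have hWaff : IsAffineOpen (X'.basicOpen r) := W₀.2.basicOpen r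
  let e : Γ(X', X'.basicOpen r) := algebraMap Γ(X', W₀.1) Γ(X', X'.basicOpen r) e₀
  have heI : (𝓘.comap b).ideal (X'.affineBasicOpen r) = Ideal.span {e} := by
    rw [← (𝓘.comap b).map_ideal_basicOpen W₀ r, he₀I, Ideal.map_span, Set.image_singleton]
    rfl
  have he : e ∈ nonZeroDivisors Γ(X', X'.basicOpen r) := by
    haveI := W₀.2.isLocalization_basicOpen r
    exact IsLocalization.map_nonZeroDivisors_le (Submonoid.powers r) _ ⟨e₀, he₀, rfl⟩
  set σ : Γ(X', X'.basicOpen r) := (X'.presheaf.map (homOfLE hrle).op).hom (b.app U s) with hσ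
  have hσnzd : σ ∈ nonZeroDivisors Γ(X', X'.basicOpen r) := by
    apply mem_nonZeroDivisors_of_germ_basicOpen hWaff e σ he
    intro y hy
    have hyW : y ∈ X'.basicOpen r := X'.basicOpen_le e hy
    have hyS : b y ∉ 𝓘.support :=
      notMem_support_of_mem_basicOpen 𝓘 b (X'.affineBasicOpen r) e heI y hy
    haveI := isIso_stalkMap_of_notMem 𝓘 b hb y hyS
    have h1 : X'.presheaf.germ (X'.basicOpen r) y hyW σ =
        (b.stalkMap y).hom (X.presheaf.germ U (b y) (hrle hyW) s) := by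
      rw [hσ]
      erw [TopCat.Presheaf.germ_res_apply X'.presheaf (homOfLE hrle) y hyW (b.app U s)]
      exact (Scheme.Hom.germ_stalkMap_apply b U y (hrle hyW) s).symm
    rw [h1]
    exact map_mem_nonZeroDivisors_of_bijective (b.stalkMap y).hom
      (ConcreteCategory.bijective_of_isIso (b.stalkMap y)) (hs ⟨b y, hrle hyW⟩)
  have h3 := germ_mem_nonZeroDivisors hWaff σ hσnzd x' hxr
  rw [hσ] at h3
  erw [TopCat.Presheaf.germ_res_apply X'.presheaf (homOfLE hrle) x' hxr (b.app U s)] at h3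
  exact h3

theorem isEffCartier_comap_blowup (𝓘 : X.IdealSheafData) (b : X' ⟶ X)
    (hb : BlowUp.IsBlowUp b 𝓘) (𝓓 : X.IdealSheafData) (hD : BlowUp.IsEffCartierIdeal 𝓓) :
    BlowUp.IsEffCartierIdeal (𝓓.comap b) := by
  intro x'
  obtain ⟨V, hxV, g, hg, hgI⟩ := hD (b x')
  obtain ⟨_, ⟨W, hW, rfl⟩, hxW, hWV⟩ :=
    X'.isBasis_affineOpens.exists_subset_of_mem_open
      (show x' ∈ (b ⁻¹ᵁ V.1 : Set X') from hxV) (b ⁻¹ᵁ V.1).isOpen
  refine ⟨⟨W, hW⟩, hxW, (b.appLE V.1 W hWV).hom g, ?_, ?_⟩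
  · have h1 : g ∈ Mero.regSub X V.1 := fun x => germ_mem_nonZeroDivisors V.2 g hg x.1 x.2
    have h2 := regSub_pullback 𝓘 b hb V.1 g h1
    have h3 := Mero.regSub_res (homOfLE hWV) h2
    apply mem_nonZeroDivisors_of_germ
    intro y hy
    exact h3 ⟨y, hy⟩
  · rw [ideal_comap_appLE b 𝓓 ⟨W, hW⟩ V hWV, hgI, Ideal.map_span, Set.image_singleton]

end Groth.Agent.Helper4.BlowupIso
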