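import Mathlib
import Groth.Prelude.Def_MeroSh
import Groth.Agent.Lib.Helper4.BlowupIso

/-!
Regular sections and the sheaf of meromorphic functions: pullback along morphisms sending maximal
points to maximal points, injectivity of restriction to schematically dense opens, and
`h`-power torsion of meromorphic functions vanishing on `X_h`.
-/

set_option autoImplicit false
set_option linter.style.haveILetI false

open CategoryTheory AlgebraicGeometry AlgebraicGeometry.Scheme TopologicalSpace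

namespace Groth.Agent.Helper4.MeroReg2

universe u

open Groth.Agent.Helper4.BlowupIso Groth.Agent.Helper4.EffCartierPull

attribute [local instance] specializationOrder in
lemma krullDimLE_zero_of_isMax {Y : Scheme.{u}} (η : Y) (hmax : ∀ z : Y, z ⤳ η → z = η) :
    Ring.KrullDimLE 0 (Y.presheaf.stalk η) := by
  have hismax : IsMax η := by
    intro y hy
    have : y = η := hmax y hy
    rw [this]
  have hco : Order.coheight η ≤ ((0 : ℕ) : ℕ∞) := by
    rw [Order.coheight_eq_zero.mpr hismax]; simp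
  exact krullDimLE_of_coheight_le hco

lemma isUnit_of_mem_nonZeroDivisors_of_isMax {Y : Scheme.{u}} (η : Y)
    (hmax : ∀ z : Y, z ⤳ η → z = η) (a : Y.presheaf.stalk η)
    (ha : a ∈ nonZeroDivisors (Y.presheaf.stalk η)) : IsUnit a := by
  haveI := krullDimLE_zero_of_isMax η hmax
  by_contra hu
  have h3 : IsNilpotent a :=
    Ring.KrullDimLE.isNilpotent_iff_mem_maximalIdeal.mpr ((IsLocalRing.mem_maximalIdeal _).mpr hu)
  obtain ⟨n, hn⟩ := h3
  have h4 := pow_mem ha n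
  rw [hn] at h4
  exact nonZeroDivisors.ne_zero h4 rfl

theorem regSub_pullback_of_reduced {X Y : Scheme.{u}} [IsReduced X] (f : X ⟶ Y)
    (hf : ∀ ξ : X, (∀ z : X, z ⤳ ξ → z = ξ) → ∀ z : Y, z ⤳ f ξ → z = f ξ)
    (U : Y.Opens) (s : Γ(Y, U)) (hs : s ∈ Mero.regSub Y U) :
    f.app U s ∈ Mero.regSub X (f ⁻¹ᵁ U) := by
  rintro ⟨x, hx⟩
  show X.presheaf.germ (f ⁻¹ᵁ U) x hx (f.app U s) ∈ nonZeroDivisors _
  obtain ⟨_, ⟨W, hW, rfl⟩, hxW, hWU⟩ :=
    X.isBasis_affineOpens.exists_subset_of_mem_open hx (f ⁻¹ᵁ U).isOpen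
  have hWU' : W ≤ f ⁻¹ᵁ U := hWU
  set σ : Γ(X, W) := X.presheaf.map (homOfLE hWU').op (f.app U s) with hσ
  have hσnzd : σ ∈ nonZeroDivisors Γ(X, W) := by
    rw [mem_nonZeroDivisors_iff_right]
    intro t ht
    rw [← AlgebraicGeometry.basicOpen_eq_bot_iff]
    by_contra hne
    obtain ⟨z, hz⟩ : ∃ z, z ∈ X.basicOpen t := by
      by_contra hcon
      push_neg at hcon
      exact hne (le_bot_iff.mp (fun z hz => (hcon z hz).elim))
    obtain ⟨ξ, hξz, hξ⟩ := exists_generic_specializes z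
    have hξt : ξ ∈ X.basicOpen t := hξz.mem_open (X.basicOpen t).isOpen hz
    have hξW : ξ ∈ W := X.basicOpen_le t hξt
    have hfξU : f ξ ∈ U := hWU' hξW
    have hunit : IsUnit (Y.presheaf.germ U (f ξ) hfξU s) :=
      isUnit_of_mem_nonZeroDivisors_of_isMax (f ξ) (hf ξ hξ) _ (hs ⟨f ξ, hfξU⟩)
    have hfξs : f ξ ∈ Y.basicOpen s := (Y.mem_basicOpen s (f ξ) hfξU).mpr hunit
    have hξσ : ξ ∈ X.basicOpen σ := by
      rw [hσ, Scheme.basicOpen_res, ← Scheme.preimage_basicOpen]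
      exact ⟨hξW, hfξs⟩
    have : ξ ∈ X.basicOpen (t * σ) := by
      rw [Scheme.basicOpen_mul]; exact ⟨hξt, hξσ⟩
    rw [ht, Scheme.basicOpen_zero] at this
    exact this
  have h3 := germ_mem_nonZeroDivisors hW σ hσnzd x hxW
  rw [hσ, TopCat.Presheaf.germ_res_apply] at h3
  exact h3

/-! ### Local fractions -/

lemma exists_frac {X : Scheme.{u}} {U : X.Opens} (t : Γ(Mero.kmod X, U)) (x : X) (hx : x ∈ U) :
    ∃ (W : X.Opens) (_ : x ∈ W) (hWU : W ≤ U) (a : Γ(X, W)) (b : Mero.regSub X W),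
      ∀ (y : X) (hy : y ∈ W), t.1 ⟨y, hWU hy⟩ =
        LocalizedModule.mk (X.presheaf.germ W y hy a) (Mero.regGerm ⟨y, hy⟩ b) := by
  obtain ⟨W, hxW, i, a, b, w⟩ := t.2 ⟨x, hx⟩
  exact ⟨W, hxW, i.le, a, b, fun y hy => w ⟨y, hy⟩⟩

lemma exists_frac_affine {X : Scheme.{u}} {U : X.Opens} (t : Γ(Mero.kmod X, U)) (x : X)
    (hx : x ∈ U) :
    ∃ (W : X.Opens) (_ : IsAffineOpen W) (_ : x ∈ W) (hWU : W ≤ U) (a : Γ(X, W))
      (b : Mero.regSub X W),
      ∀ (y : X) (hy : y ∈ W), t.1 ⟨y, hWU hy⟩ =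
        LocalizedModule.mk (X.presheaf.germ W y hy a) (Mero.regGerm ⟨y, hy⟩ b) := by
  obtain ⟨W, hxW, hWU, a, b, w⟩ := exists_frac t x hx
  obtain ⟨_, ⟨W', hW', rfl⟩, hxW', hW'W⟩ :=
    X.isBasis_affineOpens.exists_subset_of_mem_open hxW W.isOpen
  have hle : W' ≤ W := hW'W
  refine ⟨W', hW', hxW', hle.trans hWU, X.presheaf.map (homOfLE hle).op a,
    ⟨X.presheaf.map (homOfLE hle).op b.1, Mero.regSub_res (homOfLE hle) b.2⟩, ?_⟩
  intro y hy
  rw [w y (hle hy)]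
  exact Mero.mk_congr (TopCat.Presheaf.germ_res_apply X.presheaf (homOfLE hle) y hy a).symm
    (TopCat.Presheaf.germ_res_apply X.presheaf (homOfLE hle) y hy b.1).symm

lemma mk_eq_mk_iff {X : Scheme.{u}} (y : X) (a a' : X.presheaf.stalk y)
    (s s' : Mero.regStalk X y) :
    (LocalizedModule.mk a s : Mero.KStalk X y) = LocalizedModule.mk a' s' ↔
      (s' : X.presheaf.stalk y) * a = s * a' := by
  rw [LocalizedModule.mk_eq]
  constructor
  · rintro ⟨u, hu⟩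
    have hu' : (u : X.presheaf.stalk y) * ((s' : X.presheaf.stalk y) * a) =
        u * ((s : X.presheaf.stalk y) * a') := hu
    have hnzd := Mero.regStalk_le_nonZeroDivisors y u.2
    exact (mul_cancel_left_mem_nonZeroDivisors hnzd).mp hu'
  · intro h
    refine ⟨1, ?_⟩
    show (1 : X.presheaf.stalk y) * ((s' : X.presheaf.stalk y) * a) =
      1 * ((s : X.presheaf.stalk y) * a')
    rw [h]

lemma mk_eq_zero_iff {X : Scheme.{u}} (y : X) (a : X.presheaf.stalk y)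
    (s : Mero.regStalk X y) :
    (LocalizedModule.mk a s : Mero.KStalk X y) = 0 ↔ a = 0 := by
  rw [← LocalizedModule.zero_mk s, mk_eq_mk_iff, mul_zero]
  have hnzd := Mero.regStalk_le_nonZeroDivisors y s.2
  constructor
  · intro h
    exact (mem_nonZeroDivisors_iff_left.mp hnzd) a h
  · intro h; rw [h, mul_zero]

theorem kmod_res_injective (X : Scheme.{u}) (U V : X.Opens) (hVU : V ≤ U)
    (hV : ∀ W : X.Opens, W ≤ U →
      Function.Injective ⇑(X.presheaf.map (homOfLE (inf_le_left : W ⊓ V ≤ W)).op)) :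
    Function.Injective ⇑((Mero.kmod X).presheaf.map (homOfLE hVU).op) := by
  intro t₁ t₂ h
  apply Subtype.ext
  funext ⟨x, hxU⟩
  obtain ⟨W₁, hx₁, hW₁U, a₁, b₁, w₁⟩ := exists_frac t₁ x hxU
  obtain ⟨W₂, hx₂, hW₂U, a₂, b₂, w₂⟩ := exists_frac t₂ x hxU
  have hWU : W₁ ⊓ W₂ ≤ U := inf_le_left.trans hW₁U
  let r₁ := X.presheaf.map (homOfLE (inf_le_left : W₁ ⊓ W₂ ≤ W₁)).op
  let r₂ := X.presheaf.map (homOfLE (inf_le_right : W₁ ⊓ W₂ ≤ W₂)).op
  have key : r₂ b₂.1 * r₁ a₁ = r₁ b₁.1 * r₂ a₂ := by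
    apply hV (W₁ ⊓ W₂) hWU
    apply TopCat.Presheaf.section_ext X.sheaf (W₁ ⊓ W₂ ⊓ V) _ _
    intro y hy
    have e1 := w₁ y hy.1.1
    have e2 := w₂ y hy.1.2
    have e3 : t₁.1 ⟨y, hWU hy.1⟩ = t₂.1 ⟨y, hWU hy.1⟩ := by
      have := congrArg (fun t => t.1 ⟨y, hy.2⟩) h
      exact this
    have e4 := (mk_eq_mk_iff y _ _ _ _).mp (e1.symm.trans (e3.trans e2))
    change X.presheaf.germ (W₁ ⊓ W₂ ⊓ V) y hy
        (X.presheaf.map (homOfLE (inf_le_left : W₁ ⊓ W₂ ⊓ V ≤ W₁ ⊓ W₂)).op (r₂ b₂.1 * r₁ a₁)) =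
      X.presheaf.germ (W₁ ⊓ W₂ ⊓ V) y hy
        (X.presheaf.map (homOfLE (inf_le_left : W₁ ⊓ W₂ ⊓ V ≤ W₁ ⊓ W₂)).op (r₁ b₁.1 * r₂ a₂))
    rw [TopCat.Presheaf.germ_res_apply, TopCat.Presheaf.germ_res_apply, map_mul, map_mul]
    simp only [r₁, r₂, TopCat.Presheaf.germ_res_apply]
    exact e4
  rw [w₁ x hx₁, w₂ x hx₂, mk_eq_mk_iff]
  have := congrArg (X.presheaf.germ (W₁ ⊓ W₂) x ⟨hx₁, hx₂⟩) key
  rw [map_mul, map_mul] at this
  simp only [r₁, r₂, TopCat.Presheaf.germ_res_apply] at this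
  exact this

theorem exists_pow_mul_eq_zero (X : Scheme.{u}) [CompactSpace X] (h : Γ(X, ⊤))
    (f : Γ(Mero.kmod X, ⊤))
    (hf : (Mero.kmod X).presheaf.map (homOfLE (le_top : X.basicOpen h ≤ ⊤)).op f = 0) :
    ∃ n : ℕ, Mero.toK X ⊤ h ^ n * f = 0 := by
  have hf' : ∀ (y : X) (_ : y ∈ X.basicOpen h), f.1 ⟨y, trivial⟩ = 0 := by
    intro y hy
    have := congrArg (fun t => t.1 ⟨y, hy⟩) hf
    exact this
  have hloc : ∀ x : X, ∃ (W : X.Opens) (n : ℕ), x ∈ W ∧ ∀ (y : X) (_ : y ∈ W) (m : ℕ), n ≤ m →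
      (Mero.toK X ⊤ (h ^ m)).1 ⟨y, trivial⟩ * f.1 ⟨y, trivial⟩ = 0 := by
    intro x
    obtain ⟨W, hW, hxW, hWU, a, b, w⟩ := exists_frac_affine f x trivial
    set hW' : Γ(X, W) := X.presheaf.map (homOfLE hWU).op h with hhW
    have hres : (X.presheaf.map (homOfLE (X.basicOpen_le hW')).op).hom a = 0 := by
      apply TopCat.Presheaf.section_ext X.sheaf (X.basicOpen hW') _ 0
      intro y hy
      have hyW : y ∈ W := X.basicOpen_le hW' hy
      have hyh : y ∈ X.basicOpen h := by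
        have := hy
        rw [hhW, Scheme.basicOpen_res] at this
        exact this.2
      have e1 := w y hyW
      rw [hf' y hyh] at e1
      have e2 : X.presheaf.germ W y hyW a = 0 := (mk_eq_zero_iff y _ _).mp e1.symm
      change X.presheaf.germ (X.basicOpen hW') y hy
        (X.presheaf.map (homOfLE (X.basicOpen_le hW')).op a) =
          X.presheaf.germ (X.basicOpen hW') y hy 0
      rw [map_zero, TopCat.Presheaf.germ_res_apply]
      exact e2
    obtain ⟨n, hn⟩ :=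
      exists_pow_mul_eq_zero_of_res_basicOpen_eq_zero_of_isAffineOpen X hW a hW' hres
    refine ⟨W, n, hxW, ?_⟩
    intro y hy m hm
    rw [w y hy]
    show (LocalizedModule.mk (X.presheaf.germ ⊤ y trivial (h ^ m)) 1 : Mero.KStalk X y) *
      LocalizedModule.mk _ _ = 0
    refine (LocalizedModule.mk_mul_mk (S := Mero.regStalk X y)).trans ?_
    refine (mk_eq_zero_iff y _ _).mpr ?_
    have e5 : X.presheaf.germ ⊤ y trivial (h ^ m) = X.presheaf.germ W y hy (hW' ^ m) := by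
      rw [hhW, ← map_pow, TopCat.Presheaf.germ_res_apply]
    rw [e5, ← map_mul]
    have e6 : hW' ^ m * a = 0 := by
      obtain ⟨k, rfl⟩ := Nat.exists_eq_add_of_le hm
      rw [pow_add, mul_right_comm, hn, zero_mul]
    rw [e6, map_zero]
  choose W n hxW hWn using hloc
  obtain ⟨t, ht⟩ := isCompact_univ.elim_finite_subcover (fun x => (W x : Set X))
    (fun x => (W x).isOpen) (fun y _ => Set.mem_iUnion.mpr ⟨y, hxW y⟩)
  refine ⟨t.sup n, ?_⟩
  rw [← map_pow]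
  apply Subtype.ext
  funext ⟨y, hy⟩
  obtain ⟨x, hxt, hyx⟩ := Set.mem_iUnion₂.mp (ht (Set.mem_univ y))
  exact hWn x y hyx (t.sup n) (Finset.le_sup hxt)

end Groth.Agent.Helper4.MeroReg2
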