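import Mathlib
import Groth.Prelude.Def_CurvBase
import Groth.Prelude.Def_BlowUp2
import Groth.Agent.Lib.Helper4.EffCartierPull
import Groth.Agent.Lib.Helper4.MeroReg2

/-!
# Weakly associated points of the structure sheaf and pull-back of effective Cartier divisors
-/

namespace Groth.Agent.Helper4.WeakAss

open AlgebraicGeometry CategoryTheory TopologicalSpace Opposite

universe u

set_option linter.style.haveILetI false

/-- If `p` is minimal over the annihilator of `c`, then in the localization at `p` the radical of the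
annihilator of `c/1` is the maximal ideal. -/
theorem radical_ann_eq_maximalIdeal {A S : Type*} [CommRing A] [CommRing S] [Algebra A S]
    (p : Ideal A) [p.IsPrime] [IsLocalization.AtPrime S p] [IsLocalRing S] (c : A)
    (hp : p ∈ Ideal.minimalPrimes (LinearMap.ker (LinearMap.toSpanSingleton A A c))) :
    Ideal.radical (LinearMap.ker (LinearMap.toSpanSingleton S S (algebraMap A S c))) =
      IsLocalRing.maximalIdeal S := by
  set J : Ideal S := LinearMap.ker (LinearMap.toSpanSingleton S S (algebraMap A S c)) with hJ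
  set I : Ideal A := LinearMap.ker (LinearMap.toSpanSingleton A A c) with hI
  have hmemJ : ∀ s : S, s ∈ J ↔ s * algebraMap A S c = 0 := fun s => by
    rw [hJ, LinearMap.mem_ker, LinearMap.toSpanSingleton_apply, smul_eq_mul]
  have hmemI : ∀ a : A, a ∈ I ↔ a * c = 0 := fun a => by
    rw [hI, LinearMap.mem_ker, LinearMap.toSpanSingleton_apply, smul_eq_mul]
  have hIp : I ≤ p := hp.1.2
  have hcomap : (IsLocalRing.maximalIdeal S).comap (algebraMap A S) = p :=
    IsLocalization.AtPrime.under_maximalIdeal S p
  have hJmax : J ≤ IsLocalRing.maximalIdeal S := by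
    apply IsLocalRing.le_maximalIdeal
    intro htop
    have h1 : (1 : S) ∈ J := htop ▸ Submodule.mem_top
    rw [hmemJ, one_mul] at h1
    obtain ⟨u, hu⟩ := (IsLocalization.map_eq_zero_iff p.primeCompl S c).mp h1
    have : (u : A) ∈ I := (hmemI _).mpr hu
    exact u.2 (hIp this)
  rw [Ideal.radical_eq_sInf]
  apply le_antisymm
  · exact sInf_le ⟨hJmax, inferInstance⟩
  · apply le_sInf
    rintro q ⟨hJq, hq⟩
    have hIq : I ≤ q.comap (algebraMap A S) := by
      intro a ha
      rw [Ideal.mem_comap]
      apply hJq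
      rw [hmemJ, ← map_mul, (hmemI a).mp ha, map_zero]
    have hqp : q.comap (algebraMap A S) ≤ p := by
      rw [← hcomap]
      exact Ideal.comap_mono (IsLocalRing.le_maximalIdeal hq.ne_top)
    have hpq : p ≤ q.comap (algebraMap A S) := hp.2 ⟨inferInstance, hIq⟩ hqp
    rw [← IsLocalization.AtPrime.map_eq_maximalIdeal p S]
    exact (Ideal.map_mono hpq).trans Ideal.map_comap_le

/-- A zero divisor lies in a prime minimal over an annihilator of a nonzero element. -/
theorem exists_minimalPrimes_of_mul_eq_zero {A : Type*} [CommRing A] (a c : A) (hac : a * c = 0)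
    (hc : c ≠ 0) :
    ∃ p ∈ Ideal.minimalPrimes (LinearMap.ker (LinearMap.toSpanSingleton A A c)), a ∈ p := by
  have hne : (LinearMap.ker (LinearMap.toSpanSingleton A A c) : Ideal A) ≠ ⊤ := by
    intro htop
    have h1 : (1 : A) ∈ (LinearMap.ker (LinearMap.toSpanSingleton A A c) : Ideal A) :=
      htop ▸ Submodule.mem_top
    rw [LinearMap.mem_ker, LinearMap.toSpanSingleton_apply, one_smul] at h1
    exact hc h1
  obtain ⟨p, hp⟩ := Ideal.nonempty_minimalPrimes hne
  refine ⟨p, hp, hp.1.2 ?_⟩
  rw [LinearMap.mem_ker, LinearMap.toSpanSingleton_apply, smul_eq_mul, hac]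

variable {X : Scheme.{u}}

/-- sections of the structure module are sections of the structure sheaf -/
example (U : X.Opens) : ((Coh.structureModule X).presheaf.obj (op U) : Type u) = Γ(X, U) := rfl

/-- restriction in the structure module is restriction in the structure sheaf -/
theorem structureModule_map {U V : X.Opens} (i : U ⟶ V) (t : Γ(X, V)) :
    ((Coh.structureModule X).presheaf.map i.op (show ↑((Coh.structureModule X).presheaf.obj (op V)) from t) :
      ↑((Coh.structureModule X).presheaf.obj (op U))) = (X.presheaf.map i.op t : Γ(X, U)) := rfl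

theorem germ_structureModule_eq_zero_iff {W : X.Opens} (x : X) (hx : x ∈ W) (t : Γ(X, W)) :
    (Coh.structureModule X).presheaf.germ W x hx
        (show ↑((Coh.structureModule X).presheaf.obj (op W)) from t) = 0 ↔
      X.presheaf.germ W x hx t = 0 := by
  constructor
  · intro h
    have h0 : (Coh.structureModule X).presheaf.germ W x hx
        (show ↑((Coh.structureModule X).presheaf.obj (op W)) from t) =
        (Coh.structureModule X).presheaf.germ W x hx 0 := by rw [h, map_zero]
    obtain ⟨V, hxV, i1, i2, e⟩ := TopCat.Presheaf.germ_eq _ x hx hx _ _ h0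
    rw [map_zero] at e
    have e' : X.presheaf.map i1.op t = 0 := e
    rw [← TopCat.Presheaf.germ_res_apply X.presheaf i1 x hxV t, e', map_zero]
  · intro h
    have h0 : X.presheaf.germ W x hx t = X.presheaf.germ W x hx 0 := by rw [h, map_zero]
    obtain ⟨V, hxV, i1, i2, e⟩ := TopCat.Presheaf.germ_eq _ x hx hx _ _ h0
    rw [map_zero] at e
    have e' : (Coh.structureModule X).presheaf.map i1.op
        (show ↑((Coh.structureModule X).presheaf.obj (op W)) from t) = 0 := e
    rw [← TopCat.Presheaf.germ_res_apply (Coh.structureModule X).presheaf i1 x hxV, e', map_zero]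

theorem smul_germ_eq_zero_iff {U : X.Opens} (x : X) (hx : x ∈ U) (c : Γ(X, U))
    (r : X.presheaf.stalk x) :
    r • ((Coh.structureModule X).presheaf.germ U x hx
        (show ↑((Coh.structureModule X).presheaf.obj (op U)) from c)) = 0 ↔
      r * X.presheaf.germ U x hx c = 0 := by
  obtain ⟨W, hxW, r', rfl⟩ := X.presheaf.exists_germ_eq (x := x) r
  have hxW' : x ∈ W ⊓ U := ⟨hxW, hx⟩
  let i1 : W ⊓ U ⟶ W := homOfLE inf_le_left
  let i2 : W ⊓ U ⟶ U := homOfLE inf_le_right
  have e1 : X.presheaf.germ W x hxW r' =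
      X.presheaf.germ (W ⊓ U) x hxW' (X.presheaf.map i1.op r') :=
    (TopCat.Presheaf.germ_res_apply X.presheaf i1 x hxW' r').symm
  have e2 : X.presheaf.germ U x hx c =
      X.presheaf.germ (W ⊓ U) x hxW' (X.presheaf.map i2.op c) :=
    (TopCat.Presheaf.germ_res_apply X.presheaf i2 x hxW' c).symm
  have e3 : (Coh.structureModule X).presheaf.germ U x hx
        (show ↑((Coh.structureModule X).presheaf.obj (op U)) from c) =
      (Coh.structureModule X).presheaf.germ (W ⊓ U) x hxW'
        (show ↑((Coh.structureModule X).presheaf.obj (op (W ⊓ U))) from X.presheaf.map i2.op c) :=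
    (TopCat.Presheaf.germ_res_apply (Coh.structureModule X).presheaf i2 x hxW' _).symm
  rw [e1, e2, e3, ← map_mul]
  have e4 := PresheafOfModules.germ_smul (R := X.presheaf) (Coh.structureModule X).val x (W ⊓ U) hxW'
    (X.presheaf.map i1.op r') (X.presheaf.map i2.op c)
  exact e4 ▸ germ_structureModule_eq_zero_iff x hxW'
    (X.presheaf.map i1.op r' * X.presheaf.map i2.op c)

theorem fromSpec_mem {U : X.Opens} (hU : IsAffineOpen U) (y : PrimeSpectrum Γ(X, U)) :
    hU.fromSpec y ∈ U := by
  have : hU.fromSpec y ∈ hU.fromSpec.opensRange := ⟨y, rfl⟩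
  rwa [hU.opensRange_fromSpec] at this

theorem isWeakAssPoint_of_minimalPrimes {U : X.Opens} (hU : IsAffineOpen U)
    (c : Γ(X, U)) (y : PrimeSpectrum Γ(X, U))
    (hy : y.asIdeal ∈ Ideal.minimalPrimes
      (LinearMap.ker (LinearMap.toSpanSingleton Γ(X, U) Γ(X, U) c))) :
    Curv2.IsWeakAssPoint (Coh.structureModule X) (hU.fromSpec y) := by
  have hx : hU.fromSpec y ∈ U := fromSpec_mem hU y
  have key := @radical_ann_eq_maximalIdeal Γ(X, U) (X.presheaf.stalk (hU.fromSpec y)) _ _
    (TopCat.Presheaf.algebra_section_stalk X.presheaf ⟨hU.fromSpec y, hx⟩) y.asIdeal _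
    (hU.isLocalization_stalk' y hx) _ c hy
  refine ⟨(Coh.structureModule X).presheaf.germ U _ hx
    (show ↑((Coh.structureModule X).presheaf.obj (op U)) from c), ?_⟩
  rw [← key]
  congr 1
  ext r
  rw [LinearMap.mem_ker, LinearMap.mem_ker, LinearMap.toSpanSingleton_apply,
    LinearMap.toSpanSingleton_apply, smul_eq_mul]
  exact smul_germ_eq_zero_iff _ hx c r

/-- The pull-back of an effective Cartier divisor `D` along `f` is defined as soon as `f` maps
no weakly associated point of `X` into `D`. -/
theorem isEffCartier_comap_of_weakAss {X Y : Scheme.{u}} (f : X ⟶ Y) (𝓘 : Y.IdealSheafData)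
    (hD : BlowUp.IsEffCartierIdeal 𝓘)
    (h : ∀ x : ↥X, Curv2.IsWeakAssPoint (Coh.structureModule X) x → f x ∉ 𝓘.support) :
    BlowUp.IsEffCartierIdeal (𝓘.comap f) := by
  intro x
  obtain ⟨V, hxV, g, hg, hgI⟩ := hD (f x)
  obtain ⟨_, ⟨U, hU, rfl⟩, hxU, hUV⟩ := X.isBasis_affineOpens.exists_subset_of_mem_open
    (show x ∈ (f ⁻¹ᵁ V.1 : Set X) from hxV) (f ⁻¹ᵁ V.1).isOpen
  have hideal : (𝓘.comap f).ideal ⟨U, hU⟩ = Ideal.span {(f.appLE V.1 U hUV).hom g} := by
    rw [EffCartierPull.ideal_comap_appLE f 𝓘 ⟨U, hU⟩ V hUV, hgI, Ideal.map_span, Set.image_singleton]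
  refine ⟨⟨U, hU⟩, hxU, (f.appLE V.1 U hUV).hom g, ?_, hideal⟩
  rw [mem_nonZeroDivisors_iff_left]
  intro c hac
  by_contra hc0
  obtain ⟨p, hp, hap⟩ := exists_minimalPrimes_of_mul_eq_zero _ c hac hc0
  haveI : p.IsPrime := hp.1.1
  let y : PrimeSpectrum Γ(X, U) := ⟨p, inferInstance⟩
  have hw := isWeakAssPoint_of_minimalPrimes hU c y hp
  have hx' : hU.fromSpec y ∈ U := fromSpec_mem hU y
  apply h _ hw
  have h1 : hU.fromSpec y ∈ (𝓘.comap f).support := by
    rw [Scheme.IdealSheafData.mem_support_iff_of_mem (U := ⟨U, hU⟩) hx', hideal,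
      Scheme.zeroLocus_span, Scheme.zeroLocus_singleton]
    intro hb
    rw [SetLike.mem_coe, X.mem_basicOpen _ _ hx'] at hb
    have := (@IsLocalization.AtPrime.isUnit_to_map_iff Γ(X, U) _ (X.presheaf.stalk (hU.fromSpec y)) _
      (TopCat.Presheaf.algebra_section_stalk X.presheaf ⟨hU.fromSpec y, hx'⟩) p _
      (hU.isLocalization_stalk' y hx') _).mp hb
    exact this hap
  rwa [Scheme.IdealSheafData.support_comap] at h1

/-- Weakly associated points of the structure sheaf, expressed in the local ring. -/
theorem isWeakAssPoint_structureModule_iff (x : X) :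
    Curv2.IsWeakAssPoint (Coh.structureModule X) x ↔
      ∃ m' : X.presheaf.stalk x, Ideal.radical (LinearMap.ker
        (LinearMap.toSpanSingleton (X.presheaf.stalk x) (X.presheaf.stalk x) m')) =
        IsLocalRing.maximalIdeal (X.presheaf.stalk x) := by
  constructor
  · rintro ⟨m, hm⟩
    obtain ⟨W, hxW, c, rfl⟩ := (Coh.structureModule X).presheaf.exists_germ_eq (x := x) m
    refine ⟨X.presheaf.germ W x hxW c, ?_⟩
    rw [← hm]
    congr 1
    ext r
    rw [LinearMap.mem_ker, LinearMap.mem_ker, LinearMap.toSpanSingleton_apply,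
      LinearMap.toSpanSingleton_apply, smul_eq_mul]
    exact (smul_germ_eq_zero_iff x hxW c r).symm
  · rintro ⟨m', hm'⟩
    obtain ⟨W, hxW, c, rfl⟩ := X.presheaf.exists_germ_eq (x := x) m'
    refine ⟨(Coh.structureModule X).presheaf.germ W x hxW
      (show ↑((Coh.structureModule X).presheaf.obj (op W)) from c), ?_⟩
    rw [← hm']
    congr 1
    ext r
    rw [LinearMap.mem_ker, LinearMap.mem_ker, LinearMap.toSpanSingleton_apply,
      LinearMap.toSpanSingleton_apply, smul_eq_mul]
    exact smul_germ_eq_zero_iff x hxW c r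

/-- In a reduced local ring, if the radical of the annihilator of an element is the maximal ideal,
then the maximal ideal is the only prime. -/
theorem maximalIdeal_le_of_radical_ann {R : Type*} [CommRing R] [IsLocalRing R] [IsReduced R]
    (m : R) (hm : Ideal.radical (LinearMap.ker (LinearMap.toSpanSingleton R R m)) =
      IsLocalRing.maximalIdeal R) (q : Ideal R) [hq : q.IsPrime] :
    IsLocalRing.maximalIdeal R ≤ q := by
  have hmem : ∀ a : R, a ∈ (LinearMap.ker (LinearMap.toSpanSingleton R R m) : Ideal R) ↔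
      a * m = 0 := fun a => by
    rw [LinearMap.mem_ker, LinearMap.toSpanSingleton_apply, smul_eq_mul]
  -- primes not containing `m` contain the maximal ideal
  have key : ∀ (q' : Ideal R), q'.IsPrime → m ∉ q' → IsLocalRing.maximalIdeal R ≤ q' := by
    intro q' hq' hmq
    rw [← hm, hq'.radical_le_iff]
    intro a ha
    have h0 : a * m ∈ q' := by rw [(hmem a).mp ha]; exact q'.zero_mem
    exact (hq'.mem_or_mem h0).resolve_right hmq
  by_contra hcon
  have hmq : m ∈ q := by
    by_contra h
    exact hcon (key q hq h)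
  have hall : ∀ (q' : Ideal R), q'.IsPrime → m ∈ q' := by
    intro q' hq'
    by_contra h
    have h1 := key q' hq' h
    exact h (h1 (IsLocalRing.le_maximalIdeal hq.ne_top hmq))
  have hnil : m ∈ nilradical R := by
    rw [nilradical_eq_sInf, Ideal.mem_sInf]
    intro J hJ
    exact hall J hJ
  have hm0 : m = 0 := by
    rw [nilradical_eq_zero, Ideal.zero_eq_bot, Ideal.mem_bot] at hnil
    exact hnil
  have htop : (LinearMap.ker (LinearMap.toSpanSingleton R R m) : Ideal R) = ⊤ := by
    rw [Ideal.eq_top_iff_one, hmem, hm0, mul_zero]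
  rw [htop, Ideal.radical_top] at hm
  exact (IsLocalRing.maximalIdeal.isMaximal R).ne_top hm.symm

theorem isWeakAssPoint_structureModule_iff_of_isReduced [IsReduced X] (x : X) :
    Curv2.IsWeakAssPoint (Coh.structureModule X) x ↔ ∀ y : ↥X, y ⤳ x → y = x := by
  rw [isWeakAssPoint_structureModule_iff]
  constructor
  · rintro ⟨m, hm⟩ y hy
    have hy' : y ∈ Set.range (X.fromSpecStalk x) := by
      rw [Scheme.range_fromSpecStalk]; exact hy
    obtain ⟨q, rfl⟩ := hy'
    have hq : q = IsLocalRing.closedPoint (X.presheaf.stalk x) := by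
      apply PrimeSpectrum.ext
      have h1 := maximalIdeal_le_of_radical_ann m hm q.asIdeal
      exact le_antisymm (IsLocalRing.le_maximalIdeal q.isPrime.ne_top) h1
    rw [hq, Scheme.fromSpecStalk_closedPoint]
  · intro hmax
    haveI := MeroReg2.krullDimLE_zero_of_isMax x hmax
    have hbot : IsLocalRing.maximalIdeal (X.presheaf.stalk x) = ⊥ := by
      rw [eq_bot_iff]
      intro a ha
      have : IsNilpotent a := Ring.KrullDimLE.isNilpotent_iff_mem_maximalIdeal.mpr ha
      rw [Ideal.mem_bot]
      exact this.eq_zero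
    refine ⟨1, ?_⟩
    have hker : (LinearMap.ker (LinearMap.toSpanSingleton (X.presheaf.stalk x)
        (X.presheaf.stalk x) 1) : Ideal (X.presheaf.stalk x)) = ⊥ := by
      rw [eq_bot_iff]
      intro a ha
      rw [LinearMap.mem_ker, LinearMap.toSpanSingleton_apply, smul_eq_mul, mul_one] at ha
      rw [Ideal.mem_bot]
      exact ha
    rw [hker, hbot]
    exact nilradical_eq_zero _

end Groth.Agent.Helper4.WeakAss
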