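import Mathlib
import Groth.Prelude.Def_CAlg
import Groth.Prelude.Def_CurvBase
import Groth.Agent.Lead.StalkExact
import Groth.Agent.Lead.QCoh2
import Groth.Agent.Lead.FinType2
import Groth.Agent.Lib.Helper4.DepthTwoAlg
import Groth.Agent.Lib.Helper4.CohDepth
import Groth.Agent.Lib.Helper4.WeakAss

/-!
# The algebraic Hartogs lemma for coherent modules

On a locally Noetherian scheme, sections of a coherent module extend uniquely across a closed
subset along which the stalks of the module have depth at least two.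
-/

set_option autoImplicit false
set_option linter.style.haveILetI false

universe u

open CategoryTheory CategoryTheory.Limits AlgebraicGeometry Opposite TopologicalSpace
open Groth.Agent.Lead.QCoh Groth.Agent.Lead.FinType
open scoped Pointwise

namespace Groth.Agent.Helper4.HartogsMod

variable {X : Scheme.{u}} (F : X.Modules)

theorem sec_ext (U : X.Opens) (s t : Γ(F, U))
    (h : ∀ (x : X) (hx : x ∈ U), F.presheaf.germ U x hx s = F.presheaf.germ U x hx t) : s = t :=
  TopCat.Presheaf.section_ext ((SheafOfModules.toSheaf _).obj F) U s t h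

theorem glue {ι : Type u} (Uι : ι → X.Opens) (V : X.Opens) (hle : ∀ i, Uι i ≤ V)
    (hcov : V ≤ iSup Uι) (sf : ∀ i, Γ(F, Uι i))
    (hcompat : ∀ i j, F.presheaf.map (homOfLE (inf_le_left : Uι i ⊓ Uι j ≤ Uι i)).op (sf i) =
      F.presheaf.map (homOfLE (inf_le_right : Uι i ⊓ Uι j ≤ Uι j)).op (sf j)) :
    ∃ s : Γ(F, V), ∀ i, F.presheaf.map (homOfLE (hle i)).op s = sf i := by
  have hc : TopCat.Presheaf.IsCompatible ((SheafOfModules.toSheaf _).obj F).1 Uι sf := by
    intro i j
    exact hcompat i j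
  obtain ⟨g, hg, -⟩ := TopCat.Sheaf.existsUnique_gluing' ((SheafOfModules.toSheaf _).obj F) Uι V
    (fun i => homOfLE (hle i)) hcov sf hc
  exact ⟨g, hg⟩

variable [IsLocallyNoetherian X] [F.IsQuasicoherent]
  [SheafOfModules.IsFiniteType (R := X.ringCatSheaf) F]

theorem affine_injective {W : X.Opens} (hW : IsAffineOpen W) (W' : X.Opens)
    (hdepth : ∀ x : X, x ∈ W → x ∉ W' →
      (1 : ℕ∞) ≤ LocCoh.depth (X.presheaf.stalk x) (F.presheaf.stalk x))
    (s : Γ(F, W)) (hs : ∀ (y : X) (hy : y ∈ W), y ∈ W' → F.presheaf.germ W y hy s = 0) :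
    s = 0 := by
  by_contra hne
  have hex : ∃ (x : X) (hx : x ∈ W), F.presheaf.germ W x hx s ≠ 0 := by
    by_contra hcon
    push Not at hcon
    apply hne
    apply sec_ext F W s 0
    intro x hx
    rw [hcon x hx, map_zero]
  obtain ⟨x, hxW, hx⟩ := hex
  obtain ⟨y, hyW, -, -, hN⟩ := exists_weakAss_germ_specializes F hW s x hxW hx
  have hyweak : Curv2.IsWeakAssPoint F y := by
    refine ⟨F.presheaf.germ W y hyW s, hN _ (fun α => ?_)⟩
    rw [LinearMap.mem_ker, LinearMap.toSpanSingleton_apply]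
  have hyass : Curv2.IsAssPoint F y := (isAssPoint_iff F y).mpr hyweak
  haveI := CohDepth.finite_stalk F y
  have hnd := DepthTwoAlg.not_one_le_depth_of_isAssociatedPrime (F.presheaf.stalk y) hyass
  have hyW' : y ∈ W' := by
    by_contra hyW'
    exact hnd (hdepth y hyW hyW')
  have h0 := hs y hyW hyW'
  have h1 := hN ⊤ (fun α => by
    rw [h0, smul_zero]
    exact ⟨fun _ => rfl, fun _ => Submodule.mem_top⟩)
  rw [Ideal.radical_top] at h1
  exact (IsLocalRing.maximalIdeal.isMaximal _).ne_top h1.symm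

/-- If the stalks of `F` have depth at least one outside `W'`, some function on the affine open
`W` is `F`-regular and invertible only inside `W'`. -/
theorem exists_regular {W : X.Opens} (hW : IsAffineOpen W) (W' : X.Opens)
    (hdepth : ∀ x : X, x ∈ W → x ∉ W' →
      (1 : ℕ∞) ≤ LocCoh.depth (X.presheaf.stalk x) (F.presheaf.stalk x)) :
    ∃ b : Γ(X, W), IsSMulRegular Γ(F, W) b ∧ X.basicOpen b ≤ W' := by
  haveI : IsNoetherianRing Γ(X, W) := IsLocallyNoetherian.component_noetherian ⟨W, hW⟩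
  haveI : Module.Finite Γ(X, W) Γ(F, W) := finite_sections_of_isFiniteType F hW
  let I : Ideal Γ(X, W) :=
    { carrier := {f | X.basicOpen f ≤ W'}
      zero_mem' := by
        show X.basicOpen (0 : Γ(X, W)) ≤ W'
        rw [Scheme.basicOpen_zero]; exact bot_le
      add_mem' := by
        intro f g hf hg
        exact (X.basicOpen_add_le f g).trans (sup_le hf hg)
      smul_mem' := by
        intro c f hf
        show X.basicOpen (c * f) ≤ W'
        rw [Scheme.basicOpen_mul]
        exact inf_le_right.trans hf }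
  have hImem : ∀ f, f ∈ I ↔ X.basicOpen f ≤ W' := fun f => Iff.rfl
  by_contra hcon
  push Not at hcon
  have hfin : (associatedPrimes Γ(X, W) Γ(F, W)).Finite := associatedPrimes.finite _ _
  have hsub : (I : Set Γ(X, W)) ⊆
      ⋃ p ∈ (↑hfin.toFinset : Set (Ideal Γ(X, W))), ((id p : Ideal Γ(X, W)) : Set _) := by
    rw [Set.Finite.coe_toFinset]
    intro b hb
    have h1 : b ∈ ({r : Γ(X, W) | IsSMulRegular Γ(F, W) r}ᶜ : Set Γ(X, W)) :=
      fun hbn => hcon b hbn hb
    rw [← biUnion_associatedPrimes_eq_compl_regular Γ(X, W) Γ(F, W)] at h1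
    exact h1
  obtain ⟨p, hpF, hIp⟩ := (Ideal.subset_union_prime (s := hfin.toFinset) (f := id) ⊥ ⊥
    (fun q hq _ _ => (hfin.mem_toFinset.mp hq).isPrime)).mp hsub
  have hpAss : IsAssociatedPrime p Γ(F, W) := hfin.mem_toFinset.mp hpF
  obtain ⟨hpprime, c, hpc⟩ := isAssociatedPrime_iff.mp hpAss
  haveI := hpprime
  let y : PrimeSpectrum Γ(X, W) := ⟨p, hpprime⟩
  obtain ⟨x, hxdef⟩ : ∃ x : X, x = hW.fromSpec y := ⟨_, rfl⟩
  have hxW : x ∈ W := hxdef ▸ WeakAss.fromSpec_mem hW y
  letI algx : Algebra Γ(X, W) (X.presheaf.stalk x) :=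
    TopCat.Presheaf.algebra_section_stalk X.presheaf ⟨x, hxW⟩
  haveI hlocx : IsLocalization.AtPrime (X.presheaf.stalk x) p := by
    subst hxdef
    exact hW.isLocalization_stalk' y hxW
  have halg : ∀ r : Γ(X, W), algebraMap Γ(X, W) (X.presheaf.stalk x) r =
      X.presheaf.germ W x hxW r := fun r => rfl
  have hgc0 : F.presheaf.germ W x hxW c ≠ 0 := by
    intro h0
    obtain ⟨a, hxa, hac⟩ := (germ_eq_zero_iff F hW x hxW c).mp h0
    have hap : a ∈ p := by
      rw [hpc, Submodule.mem_colon_singleton, Submodule.mem_bot]; exact hac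
    have hu : IsUnit (X.presheaf.germ W x hxW a) := (X.mem_basicOpen a x hxW).mp hxa
    exact (IsLocalization.AtPrime.isUnit_to_map_iff (X.presheaf.stalk x) p a).mp hu hap
  have hkill : ∀ α ∈ IsLocalRing.maximalIdeal (X.presheaf.stalk x),
      α • F.presheaf.germ W x hxW c = 0 := by
    intro α hα
    obtain ⟨a, s, rfl⟩ := IsLocalization.exists_mk'_eq p.primeCompl α
    have hap : a ∈ p := by
      have h1 : algebraMap Γ(X, W) (X.presheaf.stalk x) a ∈
          IsLocalRing.maximalIdeal (X.presheaf.stalk x) := by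
        rw [← IsLocalization.mk'_spec' (X.presheaf.stalk x) a s]
        exact Ideal.mul_mem_left _ _ hα
      exact (IsLocalization.AtPrime.to_map_mem_maximal_iff (X.presheaf.stalk x) p a).mp h1
    have hac : a • c = 0 := by
      rw [hpc, Submodule.mem_colon_singleton, Submodule.mem_bot] at hap; exact hap
    have hsu : IsUnit (algebraMap Γ(X, W) (X.presheaf.stalk x) (s : Γ(X, W))) :=
      IsLocalization.map_units _ s
    apply hsu.smul_eq_zero.mp
    rw [← mul_smul, IsLocalization.mk'_spec', halg a, ← germ_smul, hac, map_zero]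
  have hass : IsAssociatedPrime (IsLocalRing.maximalIdeal (X.presheaf.stalk x))
      (F.presheaf.stalk x) :=
    DepthTwoAlg.isAssociatedPrime_of_smul_eq_zero _ _ hgc0 hkill
  haveI := CohDepth.finite_stalk F x
  have hnd := DepthTwoAlg.not_one_le_depth_of_isAssociatedPrime (F.presheaf.stalk x) hass
  have hxW' : x ∈ W' := by
    by_contra hxW'
    exact hnd (hdepth x hxW hxW')
  obtain ⟨f, hfW', hxf⟩ := hW.exists_basicOpen_le ⟨x, hxW'⟩ hxW
  have hfp : f ∈ p := hIp ((hImem f).mpr hfW')
  have hu : IsUnit (X.presheaf.germ W x hxW f) := (X.mem_basicOpen f x hxW).mp hxf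
  exact (IsLocalization.AtPrime.isUnit_to_map_iff (X.presheaf.stalk x) p f).mp hu hfp

omit [IsLocallyNoetherian X] [SheafOfModules.IsFiniteType (R := X.ringCatSheaf) F] in
theorem germ_regular {W : X.Opens} (hW : IsAffineOpen W) (b : Γ(X, W))
    (hb : IsSMulRegular Γ(F, W) b) (y : X) (hy : y ∈ W) :
    IsSMulRegular (F.presheaf.stalk y) (X.presheaf.germ W y hy b) := by
  rw [isSMulRegular_iff_right_eq_zero_of_smul]
  intro τ hτ
  obtain ⟨a, m, hya, ham⟩ := exists_smul_eq_germ F hW y hy τ
  have hu : IsUnit (X.presheaf.germ W y hy a) := (X.mem_basicOpen a y hy).mp hya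
  have h1 : F.presheaf.germ W y hy (b • m) = 0 := by
    rw [germ_smul, ← ham, smul_comm, hτ, smul_zero]
  obtain ⟨a', hya', ha'⟩ := (germ_eq_zero_iff F hW y hy (b • m)).mp h1
  have h2 : a' • m = 0 := by
    apply hb
    show b • (a' • m) = b • (0 : Γ(F, W))
    rw [smul_zero, smul_comm, ha']
  have h3 : F.presheaf.germ W y hy m = 0 := (germ_eq_zero_iff F hW y hy m).mpr ⟨a', hya', h2⟩
  rw [h3] at ham
  exact hu.smul_eq_zero.mp ham

theorem affine_surjective {W : X.Opens} (hW : IsAffineOpen W) (W' : X.Opens) (hle : W' ≤ W)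
    (hdepth : ∀ x : X, x ∈ W → x ∉ W' →
      (2 : ℕ∞) ≤ LocCoh.depth (X.presheaf.stalk x) (F.presheaf.stalk x))
    (t : Γ(F, W')) : ∃ c : Γ(F, W), F.presheaf.map (homOfLE hle).op c = t := by
  haveI : IsNoetherianRing Γ(X, W) := IsLocallyNoetherian.component_noetherian ⟨W, hW⟩
  haveI : Module.Finite Γ(X, W) Γ(F, W) := finite_sections_of_isFiniteType F hW
  have hdepth1 : ∀ x : X, x ∈ W → x ∉ W' →
      (1 : ℕ∞) ≤ LocCoh.depth (X.presheaf.stalk x) (F.presheaf.stalk x) :=
    fun x hx hx' => le_trans (by norm_num) (hdepth x hx hx')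
  obtain ⟨b, hb, hbW'⟩ := exists_regular F hW W' hdepth1
  have hbg : ∀ (y : X) (hy : y ∈ W),
      IsSMulRegular (F.presheaf.stalk y) (X.presheaf.germ W y hy b) :=
    fun y hy => germ_regular F hW b hb y hy
  obtain ⟨n, a, ha⟩ := exists_section_of_basicOpen F hW b (F.presheaf.map (homOfLE hbW').op t)
  -- germs on the basic open
  have hgerm1 : ∀ (y : X) (hyb : y ∈ X.basicOpen b),
      F.presheaf.germ W y (X.basicOpen_le b hyb) a =
        X.presheaf.germ W y (X.basicOpen_le b hyb) b ^ n •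
          F.presheaf.germ W' y (hbW' hyb) t := by
    intro y hyb
    have h1 := congrArg (F.presheaf.germ (X.basicOpen b) y hyb) ha
    rw [TopCat.Presheaf.germ_res_apply, germ_smul, map_pow, TopCat.Presheaf.germ_res_apply,
      TopCat.Presheaf.germ_res_apply] at h1
    exact h1
  -- the relation on all of `W'`
  have hgerm2 : ∀ (y : X) (hy : y ∈ W'),
      F.presheaf.germ W y (hle hy) a =
        X.presheaf.germ W y (hle hy) b ^ n • F.presheaf.germ W' y hy t := by
    intro y hy
    obtain ⟨_, ⟨N, hN, rfl⟩, hyN, hNW'⟩ :=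
      X.isBasis_affineOpens.exists_subset_of_mem_open hy W'.isOpen
    have hNW'' : N ≤ W' := hNW'
    have hNW : N ≤ W := hNW''.trans hle
    obtain ⟨b', hb'⟩ : ∃ b' : Γ(X, N), b' = X.presheaf.map (homOfLE hNW).op b := ⟨_, rfl⟩
    obtain ⟨d, hd⟩ : ∃ d : Γ(F, N), d = F.presheaf.map (homOfLE hNW).op a -
        b' ^ n • F.presheaf.map (homOfLE hNW'').op t := ⟨_, rfl⟩
    have hgb : ∀ (z : X) (hz : z ∈ N),
        X.presheaf.germ N z hz b' = X.presheaf.germ W z (hNW hz) b := fun z hz => by
      rw [hb']; exact TopCat.Presheaf.germ_res_apply X.presheaf (homOfLE hNW) z hz b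
    have hgd : ∀ (z : X) (hz : z ∈ N), F.presheaf.germ N z hz d =
        F.presheaf.germ W z (hNW hz) a -
          X.presheaf.germ W z (hNW hz) b ^ n • F.presheaf.germ W' z (hNW'' hz) t := by
      intro z hz
      rw [hd, map_sub, germ_smul, map_pow, hgb, TopCat.Presheaf.germ_res_apply,
        TopCat.Presheaf.germ_res_apply]
    have hres : F.presheaf.map (homOfLE (X.basicOpen_le b')).op d = 0 := by
      apply sec_ext F
      intro z hz
      have hzN : z ∈ N := X.basicOpen_le b' hz
      have hzb : z ∈ X.basicOpen b := by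
        rw [X.mem_basicOpen b z (hNW hzN), ← hgb z hzN]
        exact (X.mem_basicOpen b' z hzN).mp hz
      rw [TopCat.Presheaf.germ_res_apply, map_zero, hgd z hzN, hgerm1 z hzb, sub_self]
    obtain ⟨k, hk⟩ := exists_pow_smul_eq_zero F hN b' d hres
    have h1 := congrArg (F.presheaf.germ N y hyN) hk
    rw [germ_smul, map_pow, map_zero, hgb] at h1
    have h2 : F.presheaf.germ N y hyN d = 0 :=
      (isSMulRegular_iff_right_eq_zero_of_smul.mp ((hbg y (hle hy)).pow k)) _ h1
    rw [hgd] at h2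
    exact sub_eq_zero.mp h2
  -- divisibility
  have hdiv : ∃ c : Γ(F, W), b ^ n • c = a := by
    by_contra hcon
    let K : Ideal Γ(X, W) :=
      ((b ^ n) • (⊤ : Submodule Γ(X, W) Γ(F, W))).colon ({a} : Set Γ(F, W))
    have hK : ∀ r, r ∈ K ↔ ∃ c : Γ(F, W), b ^ n • c = r • a := by
      intro r
      show r ∈ ((b ^ n) • (⊤ : Submodule Γ(X, W) Γ(F, W))).colon ({a} : Set Γ(F, W)) ↔ _
      rw [Submodule.mem_colon_singleton, Submodule.mem_smul_pointwise_iff_exists]
      constructor
      · rintro ⟨c, -, hc⟩; exact ⟨c, hc⟩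
      · rintro ⟨c, hc⟩; exact ⟨c, Submodule.mem_top, hc⟩
    have h1K : (1 : Γ(X, W) ⧸ K) ≠ 0 := by
      intro h
      have h1 : (1 : Γ(X, W)) ∈ K := by
        rw [← Ideal.Quotient.eq_zero_iff_mem, map_one]; exact h
      obtain ⟨c, hc⟩ := (hK 1).mp h1
      rw [one_smul] at hc
      exact hcon ⟨c, hc⟩
    obtain ⟨P, hPass, -⟩ :=
      exists_le_isAssociatedPrime_of_isNoetherianRing Γ(X, W) (1 : Γ(X, W) ⧸ K) h1K
    obtain ⟨hPprime, q, hPq⟩ := isAssociatedPrime_iff.mp hPass
    obtain ⟨t', rfl⟩ := Ideal.Quotient.mk_surjective q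
    have hP : ∀ r, r ∈ P ↔ ∃ c : Γ(F, W), b ^ n • c = r • (t' • a) := by
      intro r
      rw [hPq, Submodule.mem_colon_singleton, Submodule.mem_bot, Algebra.smul_def,
        Ideal.Quotient.algebraMap_eq, ← map_mul, Ideal.Quotient.eq_zero_iff_mem, hK, mul_smul]
    haveI := hPprime
    let yP : PrimeSpectrum Γ(X, W) := ⟨P, hPprime⟩
    obtain ⟨z, hzdef⟩ : ∃ z : X, z = hW.fromSpec yP := ⟨_, rfl⟩
    have hzW : z ∈ W := hzdef ▸ WeakAss.fromSpec_mem hW yP
    letI algz : Algebra Γ(X, W) (X.presheaf.stalk z) :=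
      TopCat.Presheaf.algebra_section_stalk X.presheaf ⟨z, hzW⟩
    haveI hlocz : IsLocalization.AtPrime (X.presheaf.stalk z) P := by
      subst hzdef
      exact hW.isLocalization_stalk' yP hzW
    have halg : ∀ r : Γ(X, W), algebraMap Γ(X, W) (X.presheaf.stalk z) r =
        X.presheaf.germ W z hzW r := fun r => rfl
    have hnotP : ∀ r : Γ(X, W), z ∈ X.basicOpen r → r ∉ P := by
      intro r hzr hrP
      exact (IsLocalization.AtPrime.isUnit_to_map_iff (X.presheaf.stalk z) P r).mp
        ((X.mem_basicOpen r z hzW).mp hzr) hrP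
    -- the germ of `w = t' a` is not divisible by `b ^ n`
    have hnd : ¬ ∃ τ : F.presheaf.stalk z,
        X.presheaf.germ W z hzW b ^ n • τ = F.presheaf.germ W z hzW (t' • a) := by
      rintro ⟨τ, hτ⟩
      obtain ⟨s', m', hzs', hsm'⟩ := exists_smul_eq_germ F hW z hzW τ
      have h0 : F.presheaf.germ W z hzW (s' • (t' • a) - b ^ n • m') = 0 := by
        rw [map_sub, germ_smul, germ_smul (a := b ^ n), map_pow, ← hτ, ← hsm', smul_comm,
          sub_self]
      obtain ⟨s'', hzs'', hs''⟩ := (germ_eq_zero_iff F hW z hzW _).mp h0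
      have hmem : s'' * s' ∈ P := by
        rw [hP]
        refine ⟨s'' • m', ?_⟩
        rw [smul_sub, sub_eq_zero] at hs''
        rw [mul_smul, hs'', smul_comm]
      exact (hPprime.mem_or_mem hmem).elim (hnotP s'' hzs'') (hnotP s' hzs')
    -- the maximal ideal multiplies it into `b ^ n F_z`
    have hmw : ∀ α ∈ IsLocalRing.maximalIdeal (X.presheaf.stalk z),
        ∃ τ : F.presheaf.stalk z,
          (DistribMulAction.toAddMonoidHom (F.presheaf.stalk z)
            (X.presheaf.germ W z hzW b ^ n)) τ = α • F.presheaf.germ W z hzW (t' • a) := by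
      intro α hα
      obtain ⟨r, s, rfl⟩ := IsLocalization.exists_mk'_eq P.primeCompl α
      have hrP : r ∈ P := by
        have h1 : algebraMap Γ(X, W) (X.presheaf.stalk z) r ∈
            IsLocalRing.maximalIdeal (X.presheaf.stalk z) := by
          rw [← IsLocalization.mk'_spec' (X.presheaf.stalk z) r s]
          exact Ideal.mul_mem_left _ _ hα
        exact (IsLocalization.AtPrime.to_map_mem_maximal_iff (X.presheaf.stalk z) P r).mp h1
      obtain ⟨c, hc⟩ := (hP r).mp hrP
      have hsu : IsUnit (algebraMap Γ(X, W) (X.presheaf.stalk z) (s : Γ(X, W))) :=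
        IsLocalization.map_units _ s
      obtain ⟨v, hv⟩ := hsu
      refine ⟨(↑v⁻¹ : X.presheaf.stalk z) • F.presheaf.germ W z hzW c, ?_⟩
      show X.presheaf.germ W z hzW b ^ n • ((↑v⁻¹ : X.presheaf.stalk z) •
        F.presheaf.germ W z hzW c) = _
      have h3 : X.presheaf.germ W z hzW r =
          (v : X.presheaf.stalk z) * IsLocalization.mk' (X.presheaf.stalk z) r s := by
        rw [hv]; exact (IsLocalization.mk'_spec' (X.presheaf.stalk z) r s).symm
      rw [smul_comm, ← map_pow, ← germ_smul, hc, germ_smul, h3, mul_smul, ← mul_smul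
        (↑v⁻¹ : X.presheaf.stalk z), Units.inv_mul, one_smul]
    have hzW' : z ∉ W' := by
      intro hzW'
      apply hnd
      refine ⟨X.presheaf.germ W z hzW t' • F.presheaf.germ W' z hzW' t, ?_⟩
      rw [germ_smul, hgerm2 z hzW', smul_comm]
    have hd2 := hdepth z hzW hzW'
    haveI := CohDepth.finite_stalk F z
    have hnass : ¬ IsAssociatedPrime (IsLocalRing.maximalIdeal (X.presheaf.stalk z))
        (F.presheaf.stalk z) := fun hass =>
      DepthTwoAlg.not_one_le_depth_of_isAssociatedPrime (F.presheaf.stalk z) hass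
        (le_trans (by norm_num) hd2)
    obtain ⟨τ, hτ⟩ := DepthTwoAlg.mem_range_of_two_le_depth (F.presheaf.stalk z)
      (F.presheaf.stalk z)
      (DistribMulAction.toAddMonoidHom (F.presheaf.stalk z) (X.presheaf.germ W z hzW b ^ n))
      (fun a' t'' => by
        show X.presheaf.germ W z hzW b ^ n • (a' • t'') =
          a' • (X.presheaf.germ W z hzW b ^ n • t'')
        rw [smul_comm])
      ((hbg z hzW).pow n) hd2 hnass (F.presheaf.germ W z hzW (t' • a)) hmw
    exact hnd ⟨τ, hτ⟩
  obtain ⟨c, hc⟩ := hdiv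
  refine ⟨c, ?_⟩
  apply sec_ext F
  intro y hy
  rw [TopCat.Presheaf.germ_res_apply]
  have h1 : X.presheaf.germ W y (hle hy) b ^ n • F.presheaf.germ W y (hle hy) c =
      X.presheaf.germ W y (hle hy) b ^ n • F.presheaf.germ W' y hy t := by
    rw [← hgerm2 y hy, ← map_pow, ← germ_smul, hc]
  exact ((hbg y (hle hy)).pow n) h1

end Groth.Agent.Helper4.HartogsMod
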