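import Mathlib
import Groth.Prelude.Def_CAlg
import Groth.Agent.Lib.Helper4.DepthTwoAlg

/-!
# A criterion for depth at least two
-/

set_option autoImplicit false
set_option linter.style.haveILetI false

universe u v w

open scoped Pointwise

namespace Groth.Agent.Helper4.DepthTwoAlg

variable {R : Type u} [CommRing R] [IsLocalRing R]

theorem exists_regular_of_not_ass [IsNoetherianRing R] (M : Type v) [AddCommGroup M]
    [Module R M] [Module.Finite R M]
    (h : ¬ IsAssociatedPrime (IsLocalRing.maximalIdeal R) M) :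
    ∃ r ∈ IsLocalRing.maximalIdeal R, IsSMulRegular M r := by
  by_contra hcon
  push Not at hcon
  apply h
  have hsub : ((IsLocalRing.maximalIdeal R : Ideal R) : Set R) ⊆
      ⋃ p ∈ ((↑(associatedPrimes.finite R M).toFinset : Set (Ideal R))), (p : Set R) := by
    intro r hr
    have : r ∈ ({ r : R | IsSMulRegular M r }ᶜ : Set R) := hcon r hr
    rw [← biUnion_associatedPrimes_eq_compl_regular R M] at this
    simpa using this
  obtain ⟨p, hp, hle⟩ := (Ideal.subset_union_prime (R := R)
    (s := (associatedPrimes.finite R M).toFinset) (f := fun p => p)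
    (IsLocalRing.maximalIdeal R) (IsLocalRing.maximalIdeal R)
    (fun i hi _ _ => by
      have : i ∈ associatedPrimes R M := by simpa using hi
      exact this.isPrime)).mp hsub
  have hp' : p ∈ associatedPrimes R M := by simpa using hp
  have hpp : p.IsPrime := hp'.isPrime
  have : IsLocalRing.maximalIdeal R = p :=
    (IsLocalRing.maximalIdeal.isMaximal R).eq_of_le hpp.ne_top hle
  rw [this]
  exact hp'

theorem two_le_depth_of [IsNoetherianRing R] (N : Type v) [AddCommGroup N] [Module R N]
    [Module.Finite R N]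
    (h1 : ¬ IsAssociatedPrime (IsLocalRing.maximalIdeal R) N)
    (h2 : ∀ r ∈ IsLocalRing.maximalIdeal R, IsSMulRegular N r → ∀ w : N,
      (∀ a ∈ IsLocalRing.maximalIdeal R, ∃ t : N, r • t = a • w) → ∃ t : N, r • t = w) :
    (2 : ℕ∞) ≤ LocCoh.depth R N := by
  unfold LocCoh.depth LocCoh.idealDepth
  split_ifs with htop
  · exact le_top
  · obtain ⟨r₁, hr₁, hreg₁⟩ := exists_regular_of_not_ass N h1
    have hnass : ¬ IsAssociatedPrime (IsLocalRing.maximalIdeal R) (QuotSMulTop r₁ N) := by
      intro hass
      obtain ⟨-, q, hq⟩ := isAssociatedPrime_iff.mp hass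
      obtain ⟨w, rfl⟩ := Submodule.Quotient.mk_surjective _ q
      have hq0 : (Submodule.Quotient.mk w : QuotSMulTop r₁ N) ≠ 0 := by
        intro h0
        apply (IsLocalRing.maximalIdeal.isMaximal R).ne_top
        rw [hq, h0]
        ext z
        simp [Submodule.mem_colon_singleton]
      have hw : ∀ a ∈ IsLocalRing.maximalIdeal R, ∃ t : N, r₁ • t = a • w := by
        intro a ha
        rw [hq, Submodule.mem_colon_singleton, Submodule.mem_bot, ← Submodule.Quotient.mk_smul,
          Submodule.Quotient.mk_eq_zero, Submodule.mem_smul_pointwise_iff_exists] at ha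
        obtain ⟨t, -, ht⟩ := ha
        exact ⟨t, ht⟩
      obtain ⟨t, ht⟩ := h2 r₁ hr₁ hreg₁ w hw
      apply hq0
      rw [Submodule.Quotient.mk_eq_zero, Submodule.mem_smul_pointwise_iff_exists]
      exact ⟨t, Submodule.mem_top, ht⟩
    obtain ⟨r₂, hr₂, hreg₂⟩ := exists_regular_of_not_ass (QuotSMulTop r₁ N) hnass
    refine le_iSup₂_of_le [r₁, r₂] ⟨?_, ?_⟩ (by simp)
    · exact (RingTheory.Sequence.isWeaklyRegular_cons_iff N r₁ [r₂]).mpr
        ⟨hreg₁, (RingTheory.Sequence.isWeaklyRegular_cons_iff (QuotSMulTop r₁ N) r₂ []).mpr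
          ⟨hreg₂, RingTheory.Sequence.IsWeaklyRegular.nil _ _⟩⟩
    · intro r hr
      simp only [List.mem_cons, List.mem_nil_iff, or_false] at hr
      rcases hr with rfl | rfl
      exacts [hr₁, hr₂]

end Groth.Agent.Helper4.DepthTwoAlg
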