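import Mathlib
import Groth.Prelude.Def_CAlg
import Groth.Agent.Lib.Helper4.HartogsMod

/-!
# The algebraic Hartogs lemma for coherent modules: general opens
-/

set_option autoImplicit false
set_option linter.style.haveILetI false

universe u

open CategoryTheory CategoryTheory.Limits AlgebraicGeometry Opposite TopologicalSpace
open Groth.Agent.Lead.QCoh Groth.Agent.Lead.FinType

namespace Groth.Agent.Helper4.HartogsMod

variable {X : Scheme.{u}} (F : X.Modules) [IsLocallyNoetherian X] [F.IsQuasicoherent]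
  [SheafOfModules.IsFiniteType (R := X.ringCatSheaf) F]

theorem hartogs_injective {V' V : X.Opens} (hle : V' ≤ V)
    (hd : ∀ x : X, x ∈ V → x ∉ V' →
      (1 : ℕ∞) ≤ LocCoh.depth (X.presheaf.stalk x) (F.presheaf.stalk x)) :
    Function.Injective (F.presheaf.map (homOfLE hle).op) := by
  intro s₁ s₂ h
  have hgerm : ∀ (y : X) (hy : y ∈ V'),
      F.presheaf.germ V y (hle hy) s₁ = F.presheaf.germ V y (hle hy) s₂ := by
    intro y hy
    have h5 := congrArg (F.presheaf.germ V' y hy) h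
    rw [TopCat.Presheaf.germ_res_apply, TopCat.Presheaf.germ_res_apply] at h5
    exact h5
  apply sec_ext F
  intro y hyV
  obtain ⟨_, ⟨N, hN, rfl⟩, hyN, hNV⟩ :=
    X.isBasis_affineOpens.exists_subset_of_mem_open hyV V.isOpen
  have hNV' : N ≤ V := hNV
  obtain ⟨s, hs⟩ : ∃ s : Γ(F, N), s = F.presheaf.map (homOfLE hNV').op s₁ -
      F.presheaf.map (homOfLE hNV').op s₂ := ⟨_, rfl⟩
  have hgs : ∀ (z : X) (hz : z ∈ N), F.presheaf.germ N z hz s =
      F.presheaf.germ V z (hNV' hz) s₁ - F.presheaf.germ V z (hNV' hz) s₂ := by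
    intro z hz
    rw [hs, map_sub, TopCat.Presheaf.germ_res_apply, TopCat.Presheaf.germ_res_apply]
  have hs0 : s = 0 := affine_injective F hN V' (fun x hx hx' => hd x (hNV' hx) hx') s
    (fun z hz hz' => by rw [hgs z hz, hgerm z hz', sub_self])
  have h2 := hgs y hyN
  rw [hs0, map_zero] at h2
  exact sub_eq_zero.mp h2.symm

theorem hartogs_surjective {V' V : X.Opens} (hle : V' ≤ V)
    (hd : ∀ x : X, x ∈ V → x ∉ V' →
      (2 : ℕ∞) ≤ LocCoh.depth (X.presheaf.stalk x) (F.presheaf.stalk x)) :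
    Function.Surjective (F.presheaf.map (homOfLE hle).op) := by
  intro t
  have hd1 : ∀ x : X, x ∈ V → x ∉ V' →
      (1 : ℕ∞) ≤ LocCoh.depth (X.presheaf.stalk x) (F.presheaf.stalk x) :=
    fun x hx hx' => le_trans (by norm_num) (hd x hx hx')
  let ι := {N : X.affineOpens // N.1 ≤ V}
  let Uι : ι → X.Opens := fun i => i.1.1
  have hloc : ∀ i : ι, ∃ c : Γ(F, Uι i), ∀ (y : X) (hy : y ∈ Uι i) (hy' : y ∈ V'),
      F.presheaf.germ (Uι i) y hy c = F.presheaf.germ V' y hy' t := by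
    intro i
    obtain ⟨c, hc⟩ := affine_surjective F i.1.2 (Uι i ⊓ V') inf_le_left
      (fun x hx hx' => hd x (i.2 hx) (fun h => hx' ⟨hx, h⟩))
      (F.presheaf.map (homOfLE (inf_le_right : Uι i ⊓ V' ≤ V')).op t)
    refine ⟨c, fun y hy hy' => ?_⟩
    have h1 := congrArg (F.presheaf.germ (Uι i ⊓ V') y ⟨hy, hy'⟩) hc
    rw [TopCat.Presheaf.germ_res_apply, TopCat.Presheaf.germ_res_apply] at h1
    exact h1
  choose c hc using hloc
  have hcompat : ∀ i j, F.presheaf.map (homOfLE (inf_le_left : Uι i ⊓ Uι j ≤ Uι i)).op (c i) =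
      F.presheaf.map (homOfLE (inf_le_right : Uι i ⊓ Uι j ≤ Uι j)).op (c j) := by
    intro i j
    apply sec_ext F
    intro y hy
    rw [TopCat.Presheaf.germ_res_apply, TopCat.Presheaf.germ_res_apply]
    obtain ⟨_, ⟨N, hN, rfl⟩, hyN, hNij⟩ :=
      X.isBasis_affineOpens.exists_subset_of_mem_open hy (Uι i ⊓ Uι j).isOpen
    have hNi : N ≤ Uι i := fun z hz => (hNij hz).1
    have hNj : N ≤ Uι j := fun z hz => (hNij hz).2
    obtain ⟨s, hs⟩ : ∃ s : Γ(F, N), s = F.presheaf.map (homOfLE hNi).op (c i) -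
        F.presheaf.map (homOfLE hNj).op (c j) := ⟨_, rfl⟩
    have hgs : ∀ (z : X) (hz : z ∈ N), F.presheaf.germ N z hz s =
        F.presheaf.germ (Uι i) z (hNi hz) (c i) - F.presheaf.germ (Uι j) z (hNj hz) (c j) := by
      intro z hz
      rw [hs, map_sub, TopCat.Presheaf.germ_res_apply, TopCat.Presheaf.germ_res_apply]
    have hs0 : s = 0 := affine_injective F hN V' (fun x hx hx' => hd1 x (i.2 (hNi hx)) hx') s
      (fun z hz hz' => by rw [hgs z hz, hc i z _ hz', hc j z _ hz', sub_self])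
    have h2 := hgs y hyN
    rw [hs0, map_zero] at h2
    exact sub_eq_zero.mp h2.symm
  have hcover : V ≤ iSup Uι := by
    intro y hy
    obtain ⟨_, ⟨N, hN, rfl⟩, hyN, hNV⟩ :=
      X.isBasis_affineOpens.exists_subset_of_mem_open hy V.isOpen
    exact Opens.mem_iSup.mpr ⟨⟨⟨N, hN⟩, hNV⟩, hyN⟩
  obtain ⟨g, hg⟩ := glue F Uι V (fun i => i.2) hcover c hcompat
  refine ⟨g, ?_⟩
  apply sec_ext F
  intro y hy
  rw [TopCat.Presheaf.germ_res_apply]
  obtain ⟨_, ⟨N, hN, rfl⟩, hyN, hNV⟩ :=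
    X.isBasis_affineOpens.exists_subset_of_mem_open (hle hy) V.isOpen
  let i : ι := ⟨⟨N, hN⟩, hNV⟩
  have h1 := congrArg (F.presheaf.germ (Uι i) y hyN) (hg i)
  have h2 : F.presheaf.germ (Uι i) y hyN (F.presheaf.map (homOfLE i.2).op g) =
      F.presheaf.germ V y (hle hy) g :=
    TopCat.Presheaf.germ_res_apply F.presheaf (homOfLE i.2) y hyN g
  rw [← h2]
  exact h1.trans (hc i y hyN hy)

theorem hartogs_bijective {V' V : X.Opens} (hle : V' ≤ V)
    (hd : ∀ x : X, x ∈ V → x ∉ V' →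
      (2 : ℕ∞) ≤ LocCoh.depth (X.presheaf.stalk x) (F.presheaf.stalk x)) :
    Function.Bijective (F.presheaf.map (homOfLE hle).op) :=
  ⟨hartogs_injective F hle (fun x hx hx' => le_trans (by norm_num) (hd x hx hx')),
    hartogs_surjective F hle hd⟩

end Groth.Agent.Helper4.HartogsMod
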