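import Mathlib
import Groth.Prelude.Def_CAlg
import Groth.Agent.Lib.Helper4.HartogsMod2
import Groth.Agent.Lib.Helper4.DepthTwoAlg2

/-!
# The converse of the algebraic Hartogs lemma for coherent modules

If sections of a coherent module extend uniquely across a closed subset, then its stalks along
that closed subset have depth at least two.
-/

set_option autoImplicit false
set_option linter.style.haveILetI false

universe u

open CategoryTheory CategoryTheory.Limits AlgebraicGeometry Opposite TopologicalSpace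
open Groth.Agent.Lead.QCoh Groth.Agent.Lead.FinType

namespace Groth.Agent.Helper4.HartogsConv

variable {X : Scheme.{u}}

theorem mem_basicOpen_prod {W : X.Opens} {n : ℕ} (a : Fin n → Γ(X, W)) (y : X) (hy : y ∈ W) :
    y ∈ X.basicOpen (∏ i, a i) ↔ ∀ i, y ∈ X.basicOpen (a i) := by
  rw [X.mem_basicOpen _ y hy, map_prod, IsUnit.prod_univ_iff]
  exact forall_congr' (fun i => (X.mem_basicOpen (a i) y hy).symm)

theorem exists_generators [IsLocallyNoetherian X] {W : X.Opens} (hW : IsAffineOpen W) (x : X)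
    (hxW : x ∈ W) :
    ∃ (n : ℕ) (f : Fin n → Γ(X, W)), (∀ i, x ∉ X.basicOpen (f i)) ∧
      ∀ y : X, y ∈ W → ¬ x ⤳ y → ∃ i, y ∈ X.basicOpen (f i) := by
  haveI : IsNoetherianRing Γ(X, W) := IsLocallyNoetherian.component_noetherian ⟨W, hW⟩
  obtain ⟨n, f, hf⟩ := Submodule.fg_iff_exists_fin_generating_family.mp
    (IsNoetherian.noetherian (hW.primeIdealOf ⟨x, hxW⟩).asIdeal)
  refine ⟨n, f, fun i => ?_, fun y hyW hxy => ?_⟩
  · have h1 : f i ∈ (hW.primeIdealOf ⟨x, hxW⟩).asIdeal := hf ▸ Submodule.subset_span ⟨i, rfl⟩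
    exact (mem_primeIdealOf_iff hW x hxW (f i)).mp h1
  · by_contra hcon
    push Not at hcon
    apply hxy
    have hle : (hW.primeIdealOf ⟨x, hxW⟩).asIdeal ≤ (hW.primeIdealOf ⟨y, hyW⟩).asIdeal := by
      rw [← hf, Submodule.span_le]
      rintro _ ⟨i, rfl⟩
      exact (mem_primeIdealOf_iff hW y hyW (f i)).mpr (hcon i)
    have h1 : hW.primeIdealOf ⟨x, hxW⟩ ⤳ hW.primeIdealOf ⟨y, hyW⟩ :=
      (PrimeSpectrum.le_iff_specializes _ _).mp hle
    have h2 := h1.map hW.fromSpec.continuous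
    rwa [hW.fromSpec_primeIdealOf ⟨x, hxW⟩, hW.fromSpec_primeIdealOf ⟨y, hyW⟩] at h2

variable (F : X.Modules) [IsLocallyNoetherian X] [F.IsQuasicoherent]
  [SheafOfModules.IsFiniteType (R := X.ringCatSheaf) F]

theorem not_isAssociatedPrime (U : X.Opens)
    (hinj : ∀ V : X.Opens,
      Function.Injective (F.presheaf.map (homOfLE (inf_le_left : V ⊓ U ≤ V)).op))
    (x : X) (hxU : x ∉ U) :
    ¬ IsAssociatedPrime (IsLocalRing.maximalIdeal (X.presheaf.stalk x))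
      (F.presheaf.stalk x) := by
  intro hass
  obtain ⟨-, τ, hτ⟩ := isAssociatedPrime_iff.mp hass
  have hτ0 : τ ≠ 0 := by
    intro h0
    apply (IsLocalRing.maximalIdeal.isMaximal (X.presheaf.stalk x)).ne_top
    rw [hτ, h0]
    ext z
    simp [Submodule.mem_colon_singleton]
  have hkillτ : ∀ α ∈ IsLocalRing.maximalIdeal (X.presheaf.stalk x), α • τ = 0 := by
    intro α hα
    rw [hτ, Submodule.mem_colon_singleton, Submodule.mem_bot] at hα
    exact hα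
  obtain ⟨_, ⟨W, hW, rfl⟩, hxW, -⟩ :=
    X.isBasis_affineOpens.exists_subset_of_mem_open (Set.mem_univ x) isOpen_univ
  have hW' : IsAffineOpen W := hW
  obtain ⟨a, m, hxa, ham⟩ := exists_smul_eq_germ F hW' x hxW τ
  have hau : IsUnit (X.presheaf.germ W x hxW a) := (X.mem_basicOpen a x hxW).mp hxa
  have hm0 : F.presheaf.germ W x hxW m ≠ 0 := by
    rw [← ham]
    intro h
    exact hτ0 (hau.smul_eq_zero.mp h)
  have hkill : ∀ α ∈ IsLocalRing.maximalIdeal (X.presheaf.stalk x),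
      α • F.presheaf.germ W x hxW m = 0 := by
    intro α hα
    rw [← ham, smul_comm, hkillτ α hα, smul_zero]
  obtain ⟨n, f, hfx, hfy⟩ := exists_generators hW' x hxW
  have hfm : ∀ i, X.presheaf.germ W x hxW (f i) ∈
      IsLocalRing.maximalIdeal (X.presheaf.stalk x) := by
    intro i
    rw [IsLocalRing.mem_maximalIdeal, mem_nonunits_iff]
    intro hu
    exact hfx i ((X.mem_basicOpen (f i) x hxW).mpr hu)
  have hex : ∀ i, ∃ e : Γ(X, W), x ∈ X.basicOpen e ∧ e • (f i • m) = 0 := by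
    intro i
    apply (germ_eq_zero_iff F hW' x hxW (f i • m)).mp
    rw [germ_smul]
    exact hkill _ (hfm i)
  choose e hxe he using hex
  obtain ⟨g, hg⟩ : ∃ g : Γ(X, W), g = ∏ i, e i := ⟨_, rfl⟩
  have hxg : x ∈ X.basicOpen g := hg ▸ (mem_basicOpen_prod e x hxW).mpr hxe
  have hfgm : ∀ i, f i • (g • m) = 0 := by
    intro i
    obtain ⟨c, hc⟩ : e i ∣ g := hg ▸ Finset.dvd_prod_of_mem e (Finset.mem_univ i)
    have h1 : f i • (g • m) = c • (e i • (f i • m)) := by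
      rw [← mul_smul, ← mul_smul, ← mul_smul, hc]
      congr 1
      ring
    rw [h1, he i, smul_zero]
  have hres : F.presheaf.map (homOfLE (inf_le_left : W ⊓ U ≤ W)).op (g • m) = 0 := by
    apply HartogsMod.sec_ext F
    intro y hy
    rw [TopCat.Presheaf.germ_res_apply, map_zero]
    have hxy : ¬ x ⤳ y := fun h => hxU (h.mem_open U.isOpen hy.2)
    obtain ⟨i, hyi⟩ := hfy y hy.1 hxy
    have hu : IsUnit (X.presheaf.germ W y hy.1 (f i)) := (X.mem_basicOpen (f i) y hy.1).mp hyi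
    apply hu.smul_eq_zero.mp
    rw [← germ_smul, hfgm i, map_zero]
  have hgm0 : g • m = 0 := hinj W (by rw [hres, map_zero])
  apply hm0
  have hgu : IsUnit (X.presheaf.germ W x hxW g) := (X.mem_basicOpen g x hxW).mp hxg
  apply hgu.smul_eq_zero.mp
  rw [← germ_smul, hgm0, map_zero]

theorem divisible_at (U : X.Opens)
    (hbij : ∀ V : X.Opens,
      Function.Bijective (F.presheaf.map (homOfLE (inf_le_left : V ⊓ U ≤ V)).op))
    (x : X) (hxU : x ∉ U) {W : X.Opens} (hW : IsAffineOpen W) (hxW : x ∈ W)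
    (b : Γ(X, W)) (a : Γ(F, W))
    (hreg : IsSMulRegular (F.presheaf.stalk x) (X.presheaf.germ W x hxW b))
    (hm : ∀ α ∈ IsLocalRing.maximalIdeal (X.presheaf.stalk x), ∃ τ : F.presheaf.stalk x,
      X.presheaf.germ W x hxW b • τ = α • F.presheaf.germ W x hxW a) :
    ∃ τ : F.presheaf.stalk x, X.presheaf.germ W x hxW b • τ = F.presheaf.germ W x hxW a := by
  haveI : IsNoetherianRing Γ(X, W) := IsLocallyNoetherian.component_noetherian ⟨W, hW⟩
  haveI : Module.Finite Γ(X, W) Γ(F, W) := finite_sections_of_isFiniteType F hW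
  -- Step 1: the locus where `b` is regular
  obtain ⟨Kb, hKbdef⟩ : ∃ Kb : Submodule Γ(X, W) Γ(F, W),
      Kb = LinearMap.ker (LinearMap.lsmul Γ(X, W) Γ(F, W) b) := ⟨_, rfl⟩
  have hKb : ∀ k, k ∈ Kb ↔ b • k = 0 := fun k => by
    rw [hKbdef, LinearMap.mem_ker, LinearMap.lsmul_apply]
  obtain ⟨n₁, k, hk⟩ := Submodule.fg_iff_exists_fin_generating_family.mp
    (IsNoetherian.noetherian Kb)
  have hkmem : ∀ j, b • k j = 0 := fun j =>
    (hKb _).mp (hk ▸ Submodule.subset_span ⟨j, rfl⟩)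
  have hex1 : ∀ j, ∃ e : Γ(X, W), x ∈ X.basicOpen e ∧ e • k j = 0 := by
    intro j
    apply (germ_eq_zero_iff F hW x hxW (k j)).mp
    apply hreg
    show X.presheaf.germ W x hxW b • F.presheaf.germ W x hxW (k j) =
      X.presheaf.germ W x hxW b • (0 : F.presheaf.stalk x)
    rw [smul_zero, ← germ_smul, hkmem j, map_zero]
  choose e₁ hxe₁ he₁ using hex1
  obtain ⟨g₁, hg₁⟩ : ∃ g₁ : Γ(X, W), g₁ = ∏ j, e₁ j := ⟨_, rfl⟩
  have hxg₁ : x ∈ X.basicOpen g₁ := hg₁ ▸ (mem_basicOpen_prod e₁ x hxW).mpr hxe₁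
  have hle : Kb ≤ LinearMap.ker (LinearMap.lsmul Γ(X, W) Γ(F, W) g₁) := by
    rw [← hk, Submodule.span_le]
    rintro _ ⟨j, rfl⟩
    show k j ∈ LinearMap.ker (LinearMap.lsmul Γ(X, W) Γ(F, W) g₁)
    rw [LinearMap.mem_ker, LinearMap.lsmul_apply]
    obtain ⟨c, hc⟩ : e₁ j ∣ g₁ := hg₁ ▸ Finset.dvd_prod_of_mem e₁ (Finset.mem_univ j)
    rw [hc, mul_comm, mul_smul, he₁ j, smul_zero]
  have hg₁K : ∀ k' : Γ(F, W), b • k' = 0 → g₁ • k' = 0 := fun k' hk' => by
    have h1 := hle ((hKb k').mpr hk')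
    rwa [LinearMap.mem_ker, LinearMap.lsmul_apply] at h1
  have hregy : ∀ (y : X) (hyW : y ∈ W), y ∈ X.basicOpen g₁ →
      IsSMulRegular (F.presheaf.stalk y) (X.presheaf.germ W y hyW b) := by
    intro y hyW hyg
    rw [isSMulRegular_iff_right_eq_zero_of_smul]
    intro τ hτ
    obtain ⟨a₂, m₂, hya₂, ham₂⟩ := exists_smul_eq_germ F hW y hyW τ
    have hu : IsUnit (X.presheaf.germ W y hyW a₂) := (X.mem_basicOpen a₂ y hyW).mp hya₂
    have h1 : F.presheaf.germ W y hyW (b • m₂) = 0 := by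
      rw [germ_smul, ← ham₂, smul_comm, hτ, smul_zero]
    obtain ⟨a₃, hya₃, ha₃⟩ := (germ_eq_zero_iff F hW y hyW (b • m₂)).mp h1
    have h2 : g₁ • (a₃ • m₂) = 0 := hg₁K _ (by rw [smul_comm, ha₃])
    have h3 : F.presheaf.germ W y hyW m₂ = 0 := by
      apply (germ_eq_zero_iff F hW y hyW m₂).mpr
      refine ⟨g₁ * a₃, ?_, by rw [mul_smul]; exact h2⟩
      rw [Scheme.basicOpen_mul]
      exact ⟨hyg, hya₃⟩
    rw [h3] at ham₂
    exact hu.smul_eq_zero.mp ham₂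
  -- Step 2: divisibility after multiplying by generators of the prime of `x`
  obtain ⟨n, f, hfx, hfy⟩ := exists_generators hW x hxW
  have hfm : ∀ i, X.presheaf.germ W x hxW (f i) ∈
      IsLocalRing.maximalIdeal (X.presheaf.stalk x) := by
    intro i
    rw [IsLocalRing.mem_maximalIdeal, mem_nonunits_iff]
    intro hu
    exact hfx i ((X.mem_basicOpen (f i) x hxW).mpr hu)
  have hex2 : ∀ i, ∃ (s : Γ(X, W)) (c : Γ(F, W)), x ∈ X.basicOpen s ∧
      s • (f i • a) = b • c := by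
    intro i
    obtain ⟨τ, hτ⟩ := hm _ (hfm i)
    obtain ⟨s₁, c₁, hxs₁, hsc₁⟩ := exists_smul_eq_germ F hW x hxW τ
    have h0 : F.presheaf.germ W x hxW (s₁ • (f i • a) - b • c₁) = 0 := by
      rw [map_sub, germ_smul, germ_smul, germ_smul, ← hsc₁, ← hτ, smul_comm, sub_self]
    obtain ⟨s₂, hxs₂, hs₂⟩ := (germ_eq_zero_iff F hW x hxW _).mp h0
    refine ⟨s₂ * s₁, s₂ • c₁, ?_, ?_⟩
    · rw [Scheme.basicOpen_mul]
      exact ⟨hxs₂, hxs₁⟩
    · rw [smul_sub, sub_eq_zero] at hs₂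
      rw [mul_smul, hs₂, smul_comm]
  choose s c hxs hsc using hex2
  obtain ⟨g₂, hg₂⟩ : ∃ g₂ : Γ(X, W), g₂ = ∏ i, s i := ⟨_, rfl⟩
  have hxg₂ : x ∈ X.basicOpen g₂ := hg₂ ▸ (mem_basicOpen_prod s x hxW).mpr hxs
  have hdivy : ∀ (y : X) (hyW : y ∈ W), y ∈ X.basicOpen g₂ → y ∈ U →
      ∃ τ : F.presheaf.stalk y,
        X.presheaf.germ W y hyW b • τ = F.presheaf.germ W y hyW a := by
    intro y hyW hyg₂ hyU
    have hxy : ¬ x ⤳ y := fun h => hxU (h.mem_open U.isOpen hyU)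
    obtain ⟨i, hyi⟩ := hfy y hyW hxy
    have hysi : y ∈ X.basicOpen (s i) := (mem_basicOpen_prod s y hyW).mp (hg₂ ▸ hyg₂) i
    have hu1 : IsUnit (X.presheaf.germ W y hyW (s i)) := (X.mem_basicOpen (s i) y hyW).mp hysi
    have hu2 : IsUnit (X.presheaf.germ W y hyW (f i)) := (X.mem_basicOpen (f i) y hyW).mp hyi
    obtain ⟨v, hv⟩ := hu1.mul hu2
    refine ⟨(↑v⁻¹ : X.presheaf.stalk y) • F.presheaf.germ W y hyW (c i), ?_⟩
    have h1 : (v : X.presheaf.stalk y) • F.presheaf.germ W y hyW a =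
        X.presheaf.germ W y hyW b • F.presheaf.germ W y hyW (c i) := by
      rw [hv, mul_smul, ← germ_smul, ← germ_smul, hsc i, germ_smul]
    rw [smul_comm, ← h1, ← mul_smul, Units.inv_mul, one_smul]
  -- Step 3: the neighbourhood
  obtain ⟨V₁, hV₁def⟩ : ∃ V₁ : X.Opens, V₁ = X.basicOpen (g₁ * g₂) := ⟨_, rfl⟩
  have hV₁W : V₁ ≤ W := hV₁def ▸ X.basicOpen_le _
  have hV₁g₁ : V₁ ≤ X.basicOpen g₁ := by
    rw [hV₁def, Scheme.basicOpen_mul]; exact inf_le_left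
  have hV₁g₂ : V₁ ≤ X.basicOpen g₂ := by
    rw [hV₁def, Scheme.basicOpen_mul]; exact inf_le_right
  have hxV₁ : x ∈ V₁ := by
    rw [hV₁def, Scheme.basicOpen_mul]; exact ⟨hxg₁, hxg₂⟩
  have hV₂W : V₁ ⊓ U ≤ W := inf_le_left.trans hV₁W
  -- Step 4: local quotients and gluing
  have hloc : ∀ y : {y : X // y ∈ V₁ ⊓ U}, ∃ (O : X.Opens) (hO : O ≤ V₁ ⊓ U) (_ : y.1 ∈ O)
      (t : Γ(F, O)), ∀ (z : X) (hz : z ∈ O),
        X.presheaf.germ W z (hV₂W (hO hz)) b • F.presheaf.germ O z hz t =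
          F.presheaf.germ W z (hV₂W (hO hz)) a := by
    rintro ⟨y, hy⟩
    obtain ⟨τ, hτ⟩ := hdivy y (hV₂W hy) (hV₁g₂ hy.1) hy.2
    obtain ⟨V, hyV, s₀, rfl⟩ := TopCat.Presheaf.exists_germ_eq F.presheaf τ
    have hyO : y ∈ V ⊓ (V₁ ⊓ U) := ⟨hyV, hy⟩
    have hOW : V ⊓ (V₁ ⊓ U) ≤ W := inf_le_right.trans hV₂W
    obtain ⟨d, hd⟩ : ∃ d : Γ(F, V ⊓ (V₁ ⊓ U)), d =
        X.presheaf.map (homOfLE hOW).op b •
          F.presheaf.map (homOfLE (inf_le_left : V ⊓ (V₁ ⊓ U) ≤ V)).op s₀ -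
        F.presheaf.map (homOfLE hOW).op a := ⟨_, rfl⟩
    have hgd : ∀ (z : X) (hz : z ∈ V ⊓ (V₁ ⊓ U)), F.presheaf.germ (V ⊓ (V₁ ⊓ U)) z hz d =
        X.presheaf.germ W z (hOW hz) b • F.presheaf.germ V z hz.1 s₀ -
          F.presheaf.germ W z (hOW hz) a := by
      intro z hz
      rw [hd, map_sub, germ_smul, TopCat.Presheaf.germ_res_apply,
        TopCat.Presheaf.germ_res_apply, TopCat.Presheaf.germ_res_apply]
    have hd0 : F.presheaf.germ (V ⊓ (V₁ ⊓ U)) y hyO d =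
        F.presheaf.germ (V ⊓ (V₁ ⊓ U)) y hyO 0 := by
      rw [map_zero, hgd y hyO, hτ, sub_self]
    obtain ⟨O', hyO', i₁, i₂, hO'⟩ :=
      TopCat.Presheaf.germ_eq F.presheaf y hyO hyO d 0 hd0
    refine ⟨O', i₁.le.trans inf_le_right, hyO',
      F.presheaf.map (i₁ ≫ homOfLE (inf_le_left : V ⊓ (V₁ ⊓ U) ≤ V)).op s₀, ?_⟩
    intro z hz
    have h1 := congrArg (F.presheaf.germ O' z hz) hO'
    rw [map_zero, map_zero, TopCat.Presheaf.germ_res_apply, hgd z (i₁.le hz),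
      sub_eq_zero] at h1
    rw [TopCat.Presheaf.germ_res_apply]
    exact h1
  choose O hO hyO t ht using hloc
  have hcompat : ∀ y y', F.presheaf.map (homOfLE (inf_le_left : O y ⊓ O y' ≤ O y)).op (t y) =
      F.presheaf.map (homOfLE (inf_le_right : O y ⊓ O y' ≤ O y')).op (t y') := by
    intro y y'
    apply HartogsMod.sec_ext F
    intro z hz
    rw [TopCat.Presheaf.germ_res_apply, TopCat.Presheaf.germ_res_apply]
    have hzV₂ : z ∈ V₁ ⊓ U := hO y hz.1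
    apply hregy z (hV₂W hzV₂) (hV₁g₁ hzV₂.1)
    show X.presheaf.germ W z (hV₂W hzV₂) b • F.presheaf.germ (O y) z hz.1 (t y) =
      X.presheaf.germ W z (hV₂W hzV₂) b • F.presheaf.germ (O y') z hz.2 (t y')
    rw [ht y z hz.1, ht y' z hz.2]
  have hcov : V₁ ⊓ U ≤ iSup O := by
    intro y hy
    exact Opens.mem_iSup.mpr ⟨⟨y, hy⟩, hyO ⟨y, hy⟩⟩
  obtain ⟨tt, htt⟩ := HartogsMod.glue F O (V₁ ⊓ U) hO hcov t hcompat
  have httg : ∀ (z : X) (hz : z ∈ V₁ ⊓ U),
      X.presheaf.germ W z (hV₂W hz) b • F.presheaf.germ (V₁ ⊓ U) z hz tt =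
        F.presheaf.germ W z (hV₂W hz) a := by
    intro z hz
    have h1 := congrArg (F.presheaf.germ (O ⟨z, hz⟩) z (hyO ⟨z, hz⟩)) (htt ⟨z, hz⟩)
    rw [TopCat.Presheaf.germ_res_apply] at h1
    rw [h1]
    exact ht ⟨z, hz⟩ z (hyO ⟨z, hz⟩)
  -- Step 5: extend and conclude
  obtain ⟨c', hc'⟩ := (hbij V₁).2 tt
  obtain ⟨d', hd'⟩ : ∃ d' : Γ(F, V₁), d' = X.presheaf.map (homOfLE hV₁W).op b • c' -
      F.presheaf.map (homOfLE hV₁W).op a := ⟨_, rfl⟩
  have hgd' : ∀ (z : X) (hz : z ∈ V₁), F.presheaf.germ V₁ z hz d' =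
      X.presheaf.germ W z (hV₁W hz) b • F.presheaf.germ V₁ z hz c' -
        F.presheaf.germ W z (hV₁W hz) a := by
    intro z hz
    rw [hd', map_sub, germ_smul, TopCat.Presheaf.germ_res_apply,
      TopCat.Presheaf.germ_res_apply]
  have hd'res : F.presheaf.map (homOfLE (inf_le_left : V₁ ⊓ U ≤ V₁)).op d' = 0 := by
    apply HartogsMod.sec_ext F
    intro z hz
    rw [TopCat.Presheaf.germ_res_apply, map_zero, hgd' z hz.1]
    have h1 := congrArg (F.presheaf.germ (V₁ ⊓ U) z hz) hc'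
    rw [TopCat.Presheaf.germ_res_apply] at h1
    rw [h1, httg z hz, sub_self]
  have hd'0 : d' = 0 := (hbij V₁).1 (by rw [hd'res, map_zero])
  refine ⟨F.presheaf.germ V₁ x hxV₁ c', ?_⟩
  have h1 := hgd' x hxV₁
  rw [hd'0, map_zero] at h1
  exact (sub_eq_zero.mp h1.symm)

theorem two_le_depth (U : X.Opens)
    (hbij : ∀ V : X.Opens,
      Function.Bijective (F.presheaf.map (homOfLE (inf_le_left : V ⊓ U ≤ V)).op))
    (x : X) (hxU : x ∉ U) :
    (2 : ℕ∞) ≤ LocCoh.depth (X.presheaf.stalk x) (F.presheaf.stalk x) := by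
  haveI := CohDepth.finite_stalk F x
  apply DepthTwoAlg.two_le_depth_of (F.presheaf.stalk x)
    (not_isAssociatedPrime F U (fun V => (hbij V).1) x hxU)
  intro r hr hreg w hw
  obtain ⟨_, ⟨W, hW, rfl⟩, hxW, -⟩ :=
    X.isBasis_affineOpens.exists_subset_of_mem_open (Set.mem_univ x) isOpen_univ
  have hW' : IsAffineOpen W := hW
  letI algx : Algebra Γ(X, W) (X.presheaf.stalk x) :=
    TopCat.Presheaf.algebra_section_stalk X.presheaf ⟨x, hxW⟩
  haveI hlocx : IsLocalization.AtPrime (X.presheaf.stalk x)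
      (hW'.primeIdealOf ⟨x, hxW⟩).asIdeal := hW'.isLocalization_stalk ⟨x, hxW⟩
  obtain ⟨b₀, s, rfl⟩ :=
    IsLocalization.exists_mk'_eq (hW'.primeIdealOf ⟨x, hxW⟩).asIdeal.primeCompl r
  have hsu : IsUnit (algebraMap Γ(X, W) (X.presheaf.stalk x) (s : Γ(X, W))) :=
    IsLocalization.map_units _ s
  obtain ⟨v, hv⟩ := hsu
  have hb₀ : X.presheaf.germ W x hxW b₀ =
      (v : X.presheaf.stalk x) * IsLocalization.mk' (X.presheaf.stalk x) b₀ s := by
    rw [hv]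
    exact (IsLocalization.mk'_spec' (X.presheaf.stalk x) b₀ s).symm
  obtain ⟨a₁, a₀, hxa₁, ha₁⟩ := exists_smul_eq_germ F hW' x hxW w
  have hu₁ : IsUnit (X.presheaf.germ W x hxW a₁) := (X.mem_basicOpen a₁ x hxW).mp hxa₁
  obtain ⟨v₁, hv₁⟩ := hu₁
  have hreg' : IsSMulRegular (F.presheaf.stalk x) (X.presheaf.germ W x hxW b₀) := by
    rw [hb₀]
    exact (v.isUnit.isSMulRegular _).mul hreg
  have hm' : ∀ α ∈ IsLocalRing.maximalIdeal (X.presheaf.stalk x),
      ∃ τ : F.presheaf.stalk x,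
        X.presheaf.germ W x hxW b₀ • τ = α • F.presheaf.germ W x hxW a₀ := by
    intro α hα
    obtain ⟨t, ht⟩ := hw α hα
    refine ⟨(↑v⁻¹ : X.presheaf.stalk x) • ((v₁ : X.presheaf.stalk x) • t), ?_⟩
    calc X.presheaf.germ W x hxW b₀ • ((↑v⁻¹ : X.presheaf.stalk x) •
          ((v₁ : X.presheaf.stalk x) • t))
        = (v₁ : X.presheaf.stalk x) • (((v : X.presheaf.stalk x) *
            (↑v⁻¹ : X.presheaf.stalk x)) •
              (IsLocalization.mk' (X.presheaf.stalk x) b₀ s • t)) := by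
          rw [hb₀, smul_smul, smul_smul, smul_smul, smul_smul]
          congr 1
          ring
      _ = α • F.presheaf.germ W x hxW a₀ := by
          rw [Units.mul_inv, one_smul, ht, ← ha₁, ← hv₁, smul_comm]
  obtain ⟨τ, hτ⟩ := divisible_at F U hbij x hxU hW' hxW b₀ a₀ hreg' hm'
  refine ⟨(↑v₁⁻¹ : X.presheaf.stalk x) • ((v : X.presheaf.stalk x) • τ), ?_⟩
  calc IsLocalization.mk' (X.presheaf.stalk x) b₀ s • ((↑v₁⁻¹ : X.presheaf.stalk x) •
        ((v : X.presheaf.stalk x) • τ))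
      = (↑v₁⁻¹ : X.presheaf.stalk x) • (((v : X.presheaf.stalk x) *
          IsLocalization.mk' (X.presheaf.stalk x) b₀ s) • τ) := by
        rw [smul_smul, smul_smul, smul_smul]
        congr 1
        ring
    _ = w := by
        rw [← hb₀, hτ, ← ha₁, ← hv₁, smul_smul, Units.inv_mul, one_smul]

end Groth.Agent.Helper4.HartogsConv
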