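import Mathlib
import Groth.Prelude.Def_FlatMod2
import Groth.Agent.Lead.FinType3
import Groth.Agent.Lead.QCoh2
import Groth.Agent.Lib.Helper4.CohDepth
import Groth.Agent.Lib.Helper4.HartogsConv

/-!
# Generic freeness of quasi-coherent modules of finite type on integral schemes
-/

set_option autoImplicit false
set_option linter.style.haveILetI false

universe u

open CategoryTheory CategoryTheory.Limits AlgebraicGeometry Opposite TopologicalSpace
open Groth.Agent.Lead.QCoh Groth.Agent.Lead.FinType Groth.Agent.Lead.EpiStalk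

namespace Groth.Agent.Helper4.GenFree

variable {X : Scheme.{u}}

section Fractions

variable {U : X.Opens} (hU : IsAffineOpen U)

include hU in
/-- Elements of the stalk at a point of an affine open are fractions. -/
theorem exists_germ_mul_eq (x : X) (hx : x ∈ U) (c : X.presheaf.stalk x) :
    ∃ (p s : Γ(X, U)), x ∈ X.basicOpen s ∧
      X.presheaf.germ U x hx s * c = X.presheaf.germ U x hx p := by
  letI := X.presheaf.algebra_section_stalk ⟨x, hx⟩
  haveI := hU.isLocalization_stalk ⟨x, hx⟩
  obtain ⟨⟨p, s⟩, h⟩ := IsLocalization.surj (hU.primeIdealOf ⟨x, hx⟩).asIdeal.primeCompl c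
  refine ⟨p, s.1, ?_, ?_⟩
  · rw [X.mem_basicOpen s.1 x hx]
    exact IsLocalization.map_units (X.presheaf.stalk x) s
  · rw [mul_comm]; exact h

variable (F : X.Modules) [F.IsQuasicoherent]

theorem germ_mem_span {J : Type*} (m : J → Γ(F, U)) (t : Γ(F, U))
    (ht : t ∈ Submodule.span Γ(X, U) (Set.range m)) (y : X) (hy : y ∈ U) :
    F.presheaf.germ U y hy t ∈ Submodule.span (X.presheaf.stalk y)
      (Set.range fun i => F.presheaf.germ U y hy (m i)) := by
  induction ht using Submodule.span_induction with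
  | mem t ht => obtain ⟨i, rfl⟩ := ht; exact Submodule.subset_span ⟨i, rfl⟩
  | zero => rw [map_zero]; exact Submodule.zero_mem _
  | add a b _ _ ha hb => rw [map_add]; exact Submodule.add_mem _ ha hb
  | smul c t _ ht => rw [germ_smul]; exact Submodule.smul_mem _ _ ht

include hU in
theorem exists_smul_mem_span {r : ℕ} (m : Fin r → Γ(F, U)) (n : Γ(F, U)) (x : X) (hx : x ∈ U)
    (h : F.presheaf.germ U x hx n ∈ Submodule.span (X.presheaf.stalk x)
      (Set.range fun i => F.presheaf.germ U x hx (m i))) :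
    ∃ f : Γ(X, U), x ∈ X.basicOpen f ∧ f • n ∈ Submodule.span Γ(X, U) (Set.range m) := by
  classical
  obtain ⟨c, hc⟩ := (Submodule.mem_span_range_iff_exists_fun _).mp h
  choose p s hxs hps using fun i => exists_germ_mul_eq hU x hx (c i)
  let S : Γ(X, U) := ∏ i, s i
  let p' : Fin r → Γ(X, U) := fun i => p i * ∏ k ∈ Finset.univ.erase i, s k
  have hS : ∀ i, S = s i * ∏ k ∈ Finset.univ.erase i, s k := fun i =>
    (Finset.mul_prod_erase Finset.univ s (Finset.mem_univ i)).symm
  have hp' : ∀ i, X.presheaf.germ U x hx S * c i = X.presheaf.germ U x hx (p' i) := by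
    intro i
    rw [hS i, map_mul, map_mul, mul_right_comm, hps i]
  have hxS : x ∈ X.basicOpen S := (HartogsConv.mem_basicOpen_prod s x hx).mpr hxs
  have hz : F.presheaf.germ U x hx (S • n - ∑ i, p' i • m i) = 0 := by
    rw [map_sub, map_sum, germ_smul, ← hc, Finset.smul_sum, sub_eq_zero]
    refine Finset.sum_congr rfl (fun i _ => ?_)
    rw [germ_smul, ← mul_smul, hp' i]
  obtain ⟨a, hxa, ha⟩ := (germ_eq_zero_iff F hU x hx _).mp hz
  refine ⟨a * S, ?_, ?_⟩
  · rw [Scheme.basicOpen_mul]; exact ⟨hxa, hxS⟩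
  · rw [smul_sub, sub_eq_zero] at ha
    rw [mul_smul, ha, Finset.smul_sum]
    refine Submodule.sum_mem _ (fun i _ => ?_)
    rw [← mul_smul]
    exact Submodule.smul_mem _ _ (Submodule.subset_span ⟨i, rfl⟩)

include hU in
theorem exists_basicOpen_span [SheafOfModules.IsFiniteType (R := X.ringCatSheaf) F] {r : ℕ}
    (m : Fin r → Γ(F, U)) (x : X) (hx : x ∈ U)
    (h : Submodule.span (X.presheaf.stalk x)
      (Set.range fun i => F.presheaf.germ U x hx (m i)) = ⊤) :
    ∃ f : Γ(X, U), x ∈ X.basicOpen f ∧ ∀ (y : X) (_ : y ∈ X.basicOpen f) (hy : y ∈ U),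
      Submodule.span (X.presheaf.stalk y)
        (Set.range fun i => F.presheaf.germ U y hy (m i)) = ⊤ := by
  classical
  haveI := finite_sections_of_isFiniteType F hU
  obtain ⟨k, n, hn⟩ := Module.Finite.exists_fin (R := Γ(X, U)) (M := Γ(F, U))
  choose fl hxfl hfl using fun l =>
    exists_smul_mem_span hU F m (n l) x hx (by rw [h]; trivial)
  refine ⟨∏ l, fl l, (HartogsConv.mem_basicOpen_prod fl x hx).mpr hxfl, ?_⟩
  intro y hyf hy
  have hyfl := (HartogsConv.mem_basicOpen_prod fl y hy).mp hyf
  rw [eq_top_iff, ← span_germ_eq_top_of_span_eq_top F hU n hn y hy, Submodule.span_le]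
  rintro _ ⟨l, rfl⟩
  have hu : IsUnit (X.presheaf.germ U y hy (fl l)) :=
    (X.mem_basicOpen (fl l) y hy).mp (hyfl l)
  have h1 : X.presheaf.germ U y hy (fl l) • F.presheaf.germ U y hy (n l) ∈
      Submodule.span (X.presheaf.stalk y)
        (Set.range fun i => F.presheaf.germ U y hy (m i)) := by
    rw [← germ_smul]
    exact germ_mem_span F m _ (hfl l) y hy
  obtain ⟨w, hw⟩ := hu
  have h2 : F.presheaf.germ U y hy (n l) =
      (↑w⁻¹ : X.presheaf.stalk y) • (X.presheaf.germ U y hy (fl l) •
        F.presheaf.germ U y hy (n l)) := by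
    rw [← hw, ← mul_smul, Units.inv_mul, one_smul]
  change F.presheaf.germ U y hy (n l) ∈ _
  rw [h2]
  exact Submodule.smul_mem _ _ h1

end Fractions

section Basis

variable {U : X.Opens} (hU : IsAffineOpen U) (F : X.Modules) [F.IsQuasicoherent]

include hU in
theorem exists_sections_basis [IsIntegral X]
    [SheafOfModules.IsFiniteType (R := X.ringCatSheaf) F] (hη : genericPoint X ∈ U) :
    ∃ m : Fin (Module.finrank (X.presheaf.stalk (genericPoint X))
        (F.presheaf.stalk (genericPoint X))) → Γ(F, U),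
      LinearIndependent (X.presheaf.stalk (genericPoint X))
        (fun i => F.presheaf.germ U _ hη (m i)) ∧
      Submodule.span (X.presheaf.stalk (genericPoint X))
        (Set.range fun i => F.presheaf.germ U _ hη (m i)) = ⊤ := by
  letI : Field (X.presheaf.stalk (genericPoint X)) := inferInstanceAs (Field X.functionField)
  haveI := CohDepth.finite_stalk F (genericPoint X)
  let b := Module.finBasis (X.presheaf.stalk (genericPoint X)) (F.presheaf.stalk (genericPoint X))
  choose a m hxa ham using fun i => exists_smul_eq_germ F hU (genericPoint X) hη (b i)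
  have hu : ∀ i, IsUnit (X.presheaf.germ U _ hη (a i)) :=
    fun i => (X.mem_basicOpen (a i) _ hη).mp (hxa i)
  let b' := b.unitsSMul (fun i => (hu i).unit)
  have hb' : ∀ i, b' i = F.presheaf.germ U _ hη (m i) := by
    intro i
    rw [Module.Basis.unitsSMul_apply, ← ham i]
    rfl
  have hfun : (fun i => F.presheaf.germ U _ hη (m i)) = b' := funext (fun i => (hb' i).symm)
  refine ⟨m, ?_, ?_⟩
  · rw [hfun]; exact b'.linearIndependent
  · rw [hfun]; exact b'.span_eq

end Basis

section LocalSum

/-- Sections whose germs generate all stalks on `U` generate locally. -/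
theorem local_sum_of_span_germ (M : X.Modules) {U : X.Opens} {I : Type u} [Fintype I]
    (s : I → Γ(M, U))
    (hs : ∀ (y : X) (hy : y ∈ U), Submodule.span (X.presheaf.stalk y)
        (Set.range fun i => M.presheaf.germ U y hy (s i)) = ⊤) :
    ∀ (V : X.Opens) (hVU : V ≤ U) (t : Γ(M, V)) (y : X) (_ : y ∈ V),
        ∃ (W : X.Opens) (hWV : W ≤ V) (_ : y ∈ W) (a : I → Γ(X, W)),
          M.presheaf.map (homOfLE hWV).op t =
            ∑ i, a i • M.presheaf.map (homOfLE (hWV.trans hVU)).op (s i) := by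
  classical
  intro V hVU t y hy
  have hmem : M.presheaf.germ V y hy t ∈ Submodule.span (X.presheaf.stalk y)
      (Set.range fun i => M.presheaf.germ U y (hVU hy) (s i)) := by
    rw [hs y (hVU hy)]; trivial
  obtain ⟨c, hc⟩ := (Submodule.mem_span_range_iff_exists_fun _).mp hmem
  have hex : ∀ i, ∃ (W : X.Opens) (hyW : y ∈ W) (b : Γ(X, W)),
      X.presheaf.germ W y hyW b = c i :=
    fun i => TopCat.Presheaf.exists_germ_eq X.presheaf (c i)
  choose Wi hyWi b hb using hex
  let W0 : X.Opens := V ⊓ ⨅ i, Wi i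
  have hyW0 : y ∈ W0 := by
    refine ⟨hy, ?_⟩
    rw [Opens.coe_iInf]
    exact Set.mem_iInter.mpr hyWi
  have hW0V : W0 ≤ V := inf_le_left
  have hW0i : ∀ i, W0 ≤ Wi i := fun i => inf_le_right.trans (iInf_le _ i)
  let r : Γ(M, W0) := ∑ i, X.presheaf.map (homOfLE (hW0i i)).op (b i) •
    M.presheaf.map (homOfLE (hW0V.trans hVU)).op (s i)
  have hgerm : M.presheaf.germ W0 y hyW0 (M.presheaf.map (homOfLE hW0V).op t) =
      M.presheaf.germ W0 y hyW0 r := by
    rw [TopCat.Presheaf.germ_res_apply, ← hc, map_sum]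
    refine Finset.sum_congr rfl (fun i _ => ?_)
    rw [germ_smul, TopCat.Presheaf.germ_res_apply, TopCat.Presheaf.germ_res_apply, hb]
  obtain ⟨W, hyW, i1, i2, heq⟩ := TopCat.Presheaf.germ_eq M.presheaf y hyW0 hyW0 _ _ hgerm
  have hWW0 : W ≤ W0 := leOfHom i1
  refine ⟨W, hWW0.trans hW0V, hyW,
    fun i => X.presheaf.map (homOfLE (hWW0.trans (hW0i i))).op (b i), ?_⟩
  have e1 : M.presheaf.map (homOfLE (hWW0.trans hW0V)).op t =
      M.presheaf.map i1.op (M.presheaf.map (homOfLE hW0V).op t) :=
    (map_map_apply M i1 (homOfLE hW0V) _ t).symm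
  rw [e1, heq, map_sum]
  refine Finset.sum_congr rfl (fun i _ => ?_)
  rw [Scheme.Modules.map_smul,
    map_map_apply M i2 (homOfLE (hW0V.trans hVU)) (homOfLE ((hWW0.trans hW0V).trans hVU)) (s i),
    map_map_apply' i2 (homOfLE (hW0i i)) (homOfLE (hWW0.trans (hW0i i))) (b i)]

/-- The morphism from a free module to the restriction determined by sections over `U`. -/
noncomputable def freeToRestrict (M : X.Modules) (U : X.Opens) {I : Type u} (s : I → Γ(M, U)) :
    freeM (U : Scheme.{u}) I ⟶ M.restrict U.ι :=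
  (M.restrict U.ι).freeHomEquiv.symm
    (fun i => ofTop (M.restrict U.ι) (M.presheaf.map (homOfLE U.ι_image_top.le).op (s i)))

theorem freeHomEquiv_freeToRestrict (M : X.Modules) (U : X.Opens) {I : Type u} (s : I → Γ(M, U))
    (i : I) :
    SheafOfModules.freeHomEquiv (M.restrict U.ι) (freeToRestrict M U s) i =
      ofTop (M.restrict U.ι) (M.presheaf.map (homOfLE U.ι_image_top.le).op (s i)) :=
  congrFun ((M.restrict U.ι).freeHomEquiv.apply_symm_apply _) i

theorem epi_freeToRestrict (M : X.Modules) (U : X.Opens) (I : Type u) [Fintype I]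
    (s : I → Γ(M, U))
    (hs : ∀ (V : X.Opens) (hVU : V ≤ U) (t : Γ(M, V)) (y : X) (_ : y ∈ V),
        ∃ (W : X.Opens) (hWV : W ≤ V) (_ : y ∈ W) (a : I → Γ(X, W)),
          M.presheaf.map (homOfLE hWV).op t =
            ∑ i, a i • M.presheaf.map (homOfLE (hWV.trans hVU)).op (s i)) :
    Epi (freeToRestrict M U s) := by
  classical
  let N : (U : Scheme.{u}).Modules := M.restrict U.ι
  have hU : U.ι ''ᵁ ⊤ ≤ U := U.ι_image_top.le
  apply epi_of_local_sum N (freeToRestrict M U s)
  intro V' t y' hy'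
  have hV'U : U.ι ''ᵁ V' ≤ U := U.ι_image_le V'
  obtain ⟨W, hWV, hyW, a, ha⟩ := hs (U.ι ''ᵁ V') hV'U t y'.1 ⟨y', hy', rfl⟩
  let W' : (U : Scheme.{u}).Opens := U.ι ⁻¹ᵁ W
  have hW'W : U.ι ''ᵁ W' ≤ W := U.ι.image_preimage_le W
  have hW'V' : W' ≤ V' := (U.ι.preimage_mono hWV).trans (U.ι.preimage_image_eq V').le
  refine ⟨W', hW'V', hyW,
    fun i => (U.ι.appIso W').hom (X.presheaf.map (homOfLE hW'W).op (a i)), ?_⟩
  have e1 : N.presheaf.map (homOfLE hW'V').op t =
      M.presheaf.map (homOfLE hW'W).op (M.presheaf.map (homOfLE hWV).op t) := by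
    rw [map_map_apply M (homOfLE hW'W) (homOfLE hWV) (homOfLE (U.ι.image_mono hW'V')) t]
    rfl
  rw [e1, ha, map_sum]
  refine Finset.sum_congr rfl (fun i _ => ?_)
  rw [freeHomEquiv_freeToRestrict M U s i, Scheme.Modules.map_smul,
    map_map_apply M (homOfLE hW'W) (homOfLE (hWV.trans hV'U)) (homOfLE (hW'W.trans
      (hWV.trans hV'U))) (s i)]
  refine (restrict_smul M U W' _ _ _ ?_).symm
  change N.presheaf.map (homOfLE (le_top : W' ≤ ⊤)).op (M.presheaf.map (homOfLE hU).op (s i)) = _
  exact map_map_apply M (homOfLE (U.ι.image_mono (le_top : W' ≤ ⊤))) (homOfLE hU)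
    (homOfLE (hW'W.trans (hWV.trans hV'U))) (s i)

end LocalSum

section Main

theorem eq_sum_ι_proj {Z : Scheme.{u}} {I : Type u} [Fintype I] [DecidableEq I] (W : Z.Opens)
    (σ : Γ(freeM Z I, W)) :
    σ = ∑ i, (ιF i).app W ((proj i).app W σ) := by
  have h2 := congrArg (evalHom (freeM Z I) (freeM Z I) W σ) (sum_proj_ι (Z := Z) (I := I))
  rw [map_sum] at h2
  exact h2.symm

theorem app_freeToRestrict_eq (M : X.Modules) (U : X.Opens) {I : Type u} [Fintype I]
    [DecidableEq I] (s : I → Γ(M, U)) (W' : (U : Scheme.{u}).Opens)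
    (σ : Γ(freeM (U : Scheme.{u}) I, W')) :
    (freeToRestrict M U s).app W' σ =
      ∑ i, ofUnit W' ((proj i).app W' σ) • secVal (M.restrict U.ι)
        (ofTop (M.restrict U.ι) (M.presheaf.map (homOfLE U.ι_image_top.le).op (s i))) W' := by
  have h1 : freeToRestrict M U s = ∑ i : I, proj i ≫ (ιF i ≫ freeToRestrict M U s) := by
    conv_lhs => rw [← Category.id_comp (freeToRestrict M U s), ← sum_proj_ι, Preadditive.sum_comp]
    simp only [Category.assoc]
  have h2 := congrArg (evalHom (freeM (U : Scheme.{u}) I) (M.restrict U.ι) W' σ) h1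
  rw [map_sum] at h2
  refine h2.trans (Finset.sum_congr rfl (fun i _ => ?_))
  change (ιF i ≫ freeToRestrict M U s).app W' ((proj i).app W' σ) = _
  rw [← freeHomEquiv_freeToRestrict M U s i]
  exact unit_app (M.restrict U.ι) (ιF i ≫ freeToRestrict M U s) W' _

variable [IsIntegral X] (F : X.Modules) [F.IsQuasicoherent]

theorem mono_freeToRestrict {r : ℕ} {U₀ : X.Opens} (m : Fin r → Γ(F, U₀))
    (hη : genericPoint X ∈ U₀)
    (hli : LinearIndependent (X.presheaf.stalk (genericPoint X))
      (fun i => F.presheaf.germ U₀ _ hη (m i)))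
    (U : X.Opens) (hUU₀ : U ≤ U₀) :
    Mono (freeToRestrict F U (I := ULift.{u} (Fin r))
      (fun i => F.presheaf.map (homOfLE hUU₀).op (m i.down))) := by
  classical
  let N : (U : Scheme.{u}).Modules := F.restrict U.ι
  set π := freeToRestrict F U (I := ULift.{u} (Fin r))
    (fun i => F.presheaf.map (homOfLE hUU₀).op (m i.down)) with hπdef
  have hinj : ∀ W' : (U : Scheme.{u}).Opens, Function.Injective (π.app W') := by
    intro W'
    rw [injective_iff_map_eq_zero]
    intro σ hσ
    rw [hπdef, app_freeToRestrict_eq] at hσ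
    let W : X.Opens := U.ι ''ᵁ W'
    have hWU : W ≤ U := U.ι_image_le W'
    let b : ULift.{u} (Fin r) → Γ(X, W) :=
      fun i => (U.ι.appIso W').inv (ofUnit W' ((proj i).app W' σ))
    let n : ULift.{u} (Fin r) → Γ(F, W) :=
      fun i => F.presheaf.map (homOfLE (hWU.trans hUU₀)).op (m i.down)
    have hterm : ∀ i : ULift.{u} (Fin r), (ofUnit W' ((proj i).app W' σ)) •
        secVal N (ofTop N (F.presheaf.map (homOfLE U.ι_image_top.le).op
          (F.presheaf.map (homOfLE hUU₀).op (m i.down)))) W' =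
        (show Γ(N, W') from b i • n i) := by
      intro i
      have h1 : ofUnit W' ((proj i).app W' σ) = (U.ι.appIso W').hom (b i) :=
        (Iso.inv_hom_id_apply (U.ι.appIso W') _).symm
      rw [h1]
      refine restrict_smul F U W' (b i) (n i) _ ?_
      change N.presheaf.map (homOfLE (le_top : W' ≤ ⊤)).op
        (F.presheaf.map (homOfLE U.ι_image_top.le).op
          (F.presheaf.map (homOfLE hUU₀).op (m i.down))) = _
      have e1 : N.presheaf.map (homOfLE (le_top : W' ≤ ⊤)).op
          (F.presheaf.map (homOfLE U.ι_image_top.le).op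
            (F.presheaf.map (homOfLE hUU₀).op (m i.down))) =
          F.presheaf.map (homOfLE (U.ι.image_mono (le_top : W' ≤ ⊤))).op
            (F.presheaf.map (homOfLE U.ι_image_top.le).op
              (F.presheaf.map (homOfLE hUU₀).op (m i.down))) := rfl
      rw [e1, map_map_apply F (homOfLE (U.ι.image_mono (le_top : W' ≤ ⊤)))
        (homOfLE U.ι_image_top.le) (homOfLE hWU) _,
        map_map_apply F (homOfLE hWU) (homOfLE hUU₀) (homOfLE (hWU.trans hUU₀)) _]
    have hsumX : (∑ i, b i • n i : Γ(F, W)) = 0 := by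
      have h0 : (∑ i, (show Γ(N, W') from b i • n i)) = 0 := by
        rw [← hσ]
        exact Finset.sum_congr rfl (fun i _ => (hterm i).symm)
      exact h0
    have hb0 : ∀ i, b i = 0 := by
      by_cases hne : (W : Set X).Nonempty
      · obtain ⟨y, hy⟩ := hne
        have hηW : genericPoint X ∈ W :=
          ((genericPoint_spec X).mem_open_set_iff W.isOpen).mpr ⟨y, trivial, hy⟩
        have hgerm := congrArg (F.presheaf.germ W _ hηW) hsumX
        rw [map_sum, map_zero] at hgerm
        have hgerm' : ∑ i : ULift.{u} (Fin r), X.presheaf.germ W _ hηW (b i) •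
            ((fun i => F.presheaf.germ U₀ _ hη (m i)) ∘ ULift.down) i = 0 := by
          rw [← hgerm]
          refine Finset.sum_congr rfl (fun i _ => ?_)
          rw [germ_smul, TopCat.Presheaf.germ_res_apply]
          rfl
        have hli' := hli.comp ULift.down ULift.down_injective
        have hz := Fintype.linearIndependent_iff.mp hli'
          (fun i => X.presheaf.germ W _ hηW (b i)) hgerm'
        intro i
        exact germ_injective_of_isIntegral X _ hηW ((hz i).trans (map_zero _).symm)
      · intro i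
        have hW : W = ⊥ := Opens.ext (Set.not_nonempty_iff_eq_empty.mp hne)
        haveI : Subsingleton Γ(X, W) := by rw [hW]; infer_instance
        exact Subsingleton.elim _ _
    have ha0 : ∀ i, (proj i).app W' σ = 0 := by
      intro i
      have h1 : (U.ι.appIso W').hom (b i) = ofUnit W' ((proj i).app W' σ) :=
        Iso.inv_hom_id_apply (U.ι.appIso W') _
      rw [hb0 i, map_zero] at h1
      exact h1.symm
    rw [eq_sum_ι_proj W' σ]
    refine Finset.sum_eq_zero (fun i _ => ?_)
    rw [ha0 i, map_zero]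
  apply mono_of_stalk_injective π
  intro x s t hst
  exact TopCat.Presheaf.stalkFunctor_map_injective_of_app_injective
    (f := Scheme.Modules.Hom.mapPresheaf π) (fun W => hinj W) x hst

theorem main (X : Scheme.{u}) [IsIntegral X] (F : X.Modules) [F.IsQuasicoherent]
    [SheafOfModules.IsFiniteType (R := X.ringCatSheaf) F] :
    ∃ U : X.Opens, (U : Set X).Nonempty ∧
      Nonempty (F.restrict U.ι ≅ FlatMod.freeMod (U : Scheme.{u})
        (Module.finrank (X.presheaf.stalk (genericPoint X))
          (F.presheaf.stalk (genericPoint X)))) := by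
  classical
  obtain ⟨_, ⟨U₀, hU₀, rfl⟩, hηU₀, -⟩ := X.isBasis_affineOpens.exists_subset_of_mem_open
    (Set.mem_univ (genericPoint X)) isOpen_univ
  have hU₀' : IsAffineOpen U₀ := hU₀
  obtain ⟨m, hli, hspan⟩ := exists_sections_basis hU₀' F hηU₀
  obtain ⟨f, hηf, hf⟩ := exists_basicOpen_span hU₀' F m (genericPoint X) hηU₀ hspan
  let U : X.Opens := X.basicOpen f
  have hUU₀ : U ≤ U₀ := X.basicOpen_le f
  refine ⟨U, ⟨genericPoint X, hηf⟩, ?_⟩
  let I := ULift.{u} (Fin (Module.finrank (X.presheaf.stalk (genericPoint X))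
    (F.presheaf.stalk (genericPoint X))))
  let s : I → Γ(F, U) := fun i => F.presheaf.map (homOfLE hUU₀).op (m i.down)
  have hsp : ∀ (y : X) (hy : y ∈ U), Submodule.span (X.presheaf.stalk y)
      (Set.range fun i => F.presheaf.germ U y hy (s i)) = ⊤ := by
    intro y hy
    rw [eq_top_iff, ← hf y hy (hUU₀ hy), Submodule.span_le]
    rintro _ ⟨i, rfl⟩
    refine Submodule.subset_span ⟨⟨i⟩, ?_⟩
    exact TopCat.Presheaf.germ_res_apply F.presheaf (homOfLE hUU₀) y hy (m i)
  haveI hepi : Epi (freeToRestrict F U s) :=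
    epi_freeToRestrict F U I s (local_sum_of_span_germ F s hsp)
  haveI hmono : Mono (freeToRestrict F U s) := mono_freeToRestrict F m hηU₀ hli U hUU₀
  haveI : IsIso (freeToRestrict F U s) := isIso_of_mono_of_epi _
  let e1 : FlatMod.freeMod (U : Scheme.{u}) (Module.finrank (X.presheaf.stalk (genericPoint X))
      (F.presheaf.stalk (genericPoint X))) ≅ freeM (U : Scheme.{u}) I :=
    (Sigma.whiskerEquiv (f := fun _ : I => Coh.structureModule (U : Scheme.{u}))
      (g := fun _ : Fin (Module.finrank (X.presheaf.stalk (genericPoint X))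
        (F.presheaf.stalk (genericPoint X))) => Coh.structureModule (U : Scheme.{u}))
      Equiv.ulift (fun _ => Iso.refl _)).symm
  exact ⟨(asIso (freeToRestrict F U s)).symm ≪≫ e1.symm⟩

end Main

end Groth.Agent.Helper4.GenFree
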