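import Mathlib
import Groth.Prelude.Def_FlatMod2
import Groth.Agent.Lib.Helper4.GenFree

/-!
# Modules of finite type with a free stalk on integral schemes; torsion-freeness of locally free
modules; regular local domains of dimension at most one are principal ideal rings
-/

set_option autoImplicit false
set_option linter.style.haveILetI false

universe u

open CategoryTheory CategoryTheory.Limits AlgebraicGeometry Opposite TopologicalSpace
open Groth.Agent.Lead.QCoh Groth.Agent.Lead.FinType Groth.Agent.Lead.EpiStalk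
open Groth.Agent.Helper4.GenFree

namespace Groth.Agent.Helper4.TorsFreeCurve

section Algebra

/-- A regular local domain of Krull dimension at most one is a principal ideal ring. -/
theorem isPrincipalIdealRing_of_regular (R : Type*) [CommRing R] [IsDomain R]
    [IsRegularLocalRing R] (h : ringKrullDim R ≤ 1) : IsPrincipalIdealRing R := by
  have hsp := IsRegularLocalRing.spanFinrank_maximalIdeal (R := R)
  have hle : (IsLocalRing.maximalIdeal R).spanFinrank ≤ 1 := by
    have h1 : ((IsLocalRing.maximalIdeal R).spanFinrank : WithBot ℕ∞) ≤ 1 := hsp ▸ h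
    exact_mod_cast h1
  have hprinc : (IsLocalRing.maximalIdeal R).IsPrincipal := by
    rcases Nat.le_one_iff_eq_zero_or_eq_one.mp hle with h0 | h1
    · rw [(Submodule.spanFinrank_eq_zero_iff_eq_bot (IsNoetherian.noetherian _)).mp h0]
      exact bot_isPrincipal
    · exact ((Submodule.spanFinrank_eq_one_iff _).mp h1).1
  exact ((tfae_of_isNoetherianRing_of_isLocalRing_of_isDomain R).out 0 4).mpr hprinc

end Algebra

variable {X : Scheme.{u}}

section Basis

variable {U : X.Opens} (hU : IsAffineOpen U) (F : X.Modules) [F.IsQuasicoherent]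

include hU in
theorem exists_sections_basis_at (x : X) (hx : x ∈ U)
    [Module.Free (X.presheaf.stalk x) (F.presheaf.stalk x)]
    [Module.Finite (X.presheaf.stalk x) (F.presheaf.stalk x)] :
    ∃ m : Fin (Module.finrank (X.presheaf.stalk x) (F.presheaf.stalk x)) → Γ(F, U),
      LinearIndependent (X.presheaf.stalk x) (fun i => F.presheaf.germ U x hx (m i)) ∧
      Submodule.span (X.presheaf.stalk x)
        (Set.range fun i => F.presheaf.germ U x hx (m i)) = ⊤ := by
  let b := Module.finBasis (X.presheaf.stalk x) (F.presheaf.stalk x)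
  choose a m hxa ham using fun i => exists_smul_eq_germ F hU x hx (b i)
  have hu : ∀ i, IsUnit (X.presheaf.germ U x hx (a i)) :=
    fun i => (X.mem_basicOpen (a i) x hx).mp (hxa i)
  let b' := b.unitsSMul (fun i => (hu i).unit)
  have hb' : ∀ i, b' i = F.presheaf.germ U x hx (m i) := by
    intro i
    rw [Module.Basis.unitsSMul_apply, ← ham i]
    rfl
  have hfun : (fun i => F.presheaf.germ U x hx (m i)) = b' := funext (fun i => (hb' i).symm)
  refine ⟨m, ?_, ?_⟩
  · rw [hfun]; exact b'.linearIndependent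
  · rw [hfun]; exact b'.span_eq

include hU in
/-- Sections whose germs at `x` are linearly independent have linearly independent germs at the
generic point. -/
theorem linearIndependent_generic [IsIntegral X] {r : ℕ} (m : Fin r → Γ(F, U)) (x : X)
    (hx : x ∈ U) (hη : genericPoint X ∈ U)
    (hli : LinearIndependent (X.presheaf.stalk x) (fun i => F.presheaf.germ U x hx (m i))) :
    LinearIndependent (X.presheaf.stalk (genericPoint X))
      (fun i => F.presheaf.germ U _ hη (m i)) := by
  classical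
  rw [Fintype.linearIndependent_iff]
  intro c hc
  choose p s hηs hps using fun i => exists_germ_mul_eq hU (genericPoint X) hη (c i)
  let S : Γ(X, U) := ∏ i, s i
  let p' : Fin r → Γ(X, U) := fun i => p i * ∏ k ∈ Finset.univ.erase i, s k
  have hS : ∀ i, S = s i * ∏ k ∈ Finset.univ.erase i, s k := fun i =>
    (Finset.mul_prod_erase Finset.univ s (Finset.mem_univ i)).symm
  have hp' : ∀ i, X.presheaf.germ U _ hη S * c i = X.presheaf.germ U _ hη (p' i) := by
    intro i
    rw [hS i, map_mul, map_mul, mul_right_comm, hps i]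
  have hηS : genericPoint X ∈ X.basicOpen S :=
    (HartogsConv.mem_basicOpen_prod s _ hη).mpr hηs
  have hz : F.presheaf.germ U _ hη (∑ i, p' i • m i) = 0 := by
    rw [map_sum]
    have hterm : ∀ i, F.presheaf.germ U _ hη (p' i • m i) =
        X.presheaf.germ U _ hη S • (c i • F.presheaf.germ U _ hη (m i)) := by
      intro i
      rw [germ_smul, ← hp' i, mul_smul]
    rw [Finset.sum_congr rfl (fun i _ => hterm i), ← Finset.smul_sum, hc, smul_zero]
  obtain ⟨a, hηa, ha⟩ := (germ_eq_zero_iff F hU _ hη _).mp hz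
  have hx0 := congrArg (F.presheaf.germ U x hx) ha
  rw [map_zero, Finset.smul_sum, map_sum] at hx0
  have hx1 : ∑ i, X.presheaf.germ U x hx (a * p' i) • F.presheaf.germ U x hx (m i) = 0 := by
    rw [← hx0]
    refine Finset.sum_congr rfl (fun i _ => ?_)
    rw [← mul_smul, germ_smul]
  have hx2 := Fintype.linearIndependent_iff.mp hli _ hx1
  intro i
  have h3 : a * p' i = 0 :=
    germ_injective_of_isIntegral X x hx ((hx2 i).trans (map_zero _).symm)
  have hua : IsUnit (X.presheaf.germ U _ hη a) := (X.mem_basicOpen a _ hη).mp hηa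
  have huS : IsUnit (X.presheaf.germ U _ hη S) := (X.mem_basicOpen S _ hη).mp hηS
  have h4 : X.presheaf.germ U _ hη a * (X.presheaf.germ U _ hη S * c i) = 0 := by
    rw [hp' i, ← map_mul, h3, map_zero]
  exact huS.mul_right_eq_zero.mp (hua.mul_right_eq_zero.mp h4)

end Basis

section Main

/-- A quasi-coherent module of finite type on an integral scheme whose stalk at `x` is free is
free in a neighbourhood of `x`. -/
theorem free_at (X : Scheme.{u}) [IsIntegral X] (F : X.Modules) [F.IsQuasicoherent]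
    [SheafOfModules.IsFiniteType (R := X.ringCatSheaf) F] (x : X)
    [Module.Free (X.presheaf.stalk x) (F.presheaf.stalk x)] :
    ∃ U : X.Opens, x ∈ U ∧
      Nonempty (F.restrict U.ι ≅ FlatMod.freeMod (U : Scheme.{u})
        (Module.finrank (X.presheaf.stalk x) (F.presheaf.stalk x))) := by
  classical
  haveI := CohDepth.finite_stalk F x
  obtain ⟨_, ⟨U₀, hU₀, rfl⟩, hxU₀, -⟩ := X.isBasis_affineOpens.exists_subset_of_mem_open
    (Set.mem_univ x) isOpen_univ
  have hU₀' : IsAffineOpen U₀ := hU₀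
  have hηU₀ : genericPoint X ∈ U₀ :=
    ((genericPoint_spec X).mem_open_set_iff U₀.isOpen).mpr ⟨x, trivial, hxU₀⟩
  obtain ⟨m, hlix, hspan⟩ := exists_sections_basis_at hU₀' F x hxU₀
  have hli := linearIndependent_generic hU₀' F m x hxU₀ hηU₀ hlix
  obtain ⟨f, hxf, hf⟩ := exists_basicOpen_span hU₀' F m x hxU₀ hspan
  let U : X.Opens := X.basicOpen f
  have hUU₀ : U ≤ U₀ := X.basicOpen_le f
  refine ⟨U, hxf, ?_⟩
  let I := ULift.{u} (Fin (Module.finrank (X.presheaf.stalk x) (F.presheaf.stalk x)))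
  let s : I → Γ(F, U) := fun i => F.presheaf.map (homOfLE hUU₀).op (m i.down)
  have hsp : ∀ (y : X) (hy : y ∈ U), Submodule.span (X.presheaf.stalk y)
      (Set.range fun i => F.presheaf.germ U y hy (s i)) = ⊤ := by
    intro y hy
    rw [eq_top_iff, ← hf y hy (hUU₀ hy), Submodule.span_le]
    rintro _ ⟨i, rfl⟩
    refine Submodule.subset_span ⟨⟨i⟩, ?_⟩
    exact TopCat.Presheaf.germ_res_apply F.presheaf (homOfLE hUU₀) y hy (m i)
  haveI hepi : Epi (freeToRestrict F U s) :=
    epi_freeToRestrict F U I s (local_sum_of_span_germ F s hsp)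
  haveI hmono : Mono (freeToRestrict F U s) := mono_freeToRestrict F m hηU₀ hli U hUU₀
  haveI : IsIso (freeToRestrict F U s) := isIso_of_mono_of_epi _
  let e1 : FlatMod.freeMod (U : Scheme.{u}) (Module.finrank (X.presheaf.stalk x)
      (F.presheaf.stalk x)) ≅ freeM (U : Scheme.{u}) I :=
    (Sigma.whiskerEquiv (f := fun _ : I => Coh.structureModule (U : Scheme.{u}))
      (g := fun _ : Fin (Module.finrank (X.presheaf.stalk x)
        (F.presheaf.stalk x)) => Coh.structureModule (U : Scheme.{u}))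
      Equiv.ulift (fun _ => Iso.refl _)).symm
  exact ⟨(asIso (freeToRestrict F U s)).symm ≪≫ e1.symm⟩

/-- On an integral scheme, a module which is free of finite rank on an open `U` has torsion-free
stalks at the points of `U`. -/
theorem noZeroSMulDivisors_stalk_of_iso [IsIntegral X] (F : X.Modules) (U : X.Opens) (n : ℕ)
    (e₀ : F.restrict U.ι ≅ FlatMod.freeMod (U : Scheme.{u}) n) (x : X) (hxU : x ∈ U) :
    NoZeroSMulDivisors (X.presheaf.stalk x) (F.presheaf.stalk x) := by
  classical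
  let I := ULift.{u} (Fin n)
  let e1 : FlatMod.freeMod (U : Scheme.{u}) n ≅ freeM (U : Scheme.{u}) I :=
    (Sigma.whiskerEquiv (f := fun _ : I => Coh.structureModule (U : Scheme.{u}))
      (g := fun _ : Fin n => Coh.structureModule (U : Scheme.{u}))
      Equiv.ulift (fun _ => Iso.refl _)).symm
  let e : F.restrict U.ι ≅ freeM (U : Scheme.{u}) I := e₀ ≪≫ e1
  refine ⟨fun {c t} hct => ?_⟩
  by_contra hne
  push Not at hne
  obtain ⟨hc0, ht0⟩ := hne
  obtain ⟨V₁, hxV₁, γ₀, rfl⟩ := X.presheaf.exists_germ_eq c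
  obtain ⟨V₂, hxV₂, τ₀, rfl⟩ := TopCat.Presheaf.exists_germ_eq F.presheaf t
  let V₃ : X.Opens := V₁ ⊓ V₂ ⊓ U
  have hxV₃ : x ∈ V₃ := ⟨⟨hxV₁, hxV₂⟩, hxU⟩
  have h31 : V₃ ≤ V₁ := inf_le_left.trans inf_le_left
  have h32 : V₃ ≤ V₂ := inf_le_left.trans inf_le_right
  obtain ⟨d, hd⟩ : ∃ d : Γ(F, V₃), d = X.presheaf.map (homOfLE h31).op γ₀ •
      F.presheaf.map (homOfLE h32).op τ₀ := ⟨_, rfl⟩
  have hd0 : F.presheaf.germ V₃ x hxV₃ d = F.presheaf.germ V₃ x hxV₃ 0 := by
    rw [map_zero, hd, germ_smul, TopCat.Presheaf.germ_res_apply,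
      TopCat.Presheaf.germ_res_apply]
    exact hct
  obtain ⟨O', hxO', i₁, i₂, hO'⟩ := TopCat.Presheaf.germ_eq F.presheaf x hxV₃ hxV₃ d 0 hd0
  let W' : (U : Scheme.{u}).Opens := U.ι ⁻¹ᵁ O'
  let V : X.Opens := U.ι ''ᵁ W'
  have hVO' : V ≤ O' := by
    rintro _ ⟨y, hy, rfl⟩
    exact hy
  have hxV : x ∈ V := ⟨⟨x, hxU⟩, hxO', rfl⟩
  have hV3 : V ≤ V₃ := hVO'.trans i₁.le
  obtain ⟨γ, hγ⟩ : ∃ γ : Γ(X, V), γ = X.presheaf.map (homOfLE (hV3.trans h31)).op γ₀ := ⟨_, rfl⟩
  obtain ⟨τ, hτ⟩ : ∃ τ : Γ(F, V), τ = F.presheaf.map (homOfLE (hV3.trans h32)).op τ₀ := ⟨_, rfl⟩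
  have hγτ : γ • τ = 0 := by
    have h1 : F.presheaf.map (homOfLE hV3).op d = 0 := by
      have h2 := congrArg (F.presheaf.map (homOfLE hVO').op) hO'
      rw [map_zero, map_zero, map_map_apply F (homOfLE hVO') i₁ (homOfLE hV3)] at h2
      exact h2
    rw [hd, Scheme.Modules.map_smul,
      map_map_apply' (homOfLE hV3) (homOfLE h31) (homOfLE (hV3.trans h31)),
      map_map_apply F (homOfLE hV3) (homOfLE h32) (homOfLE (hV3.trans h32))] at h1
    rw [hγ, hτ]
    exact h1
  have hγgerm : X.presheaf.germ V x hxV γ = X.presheaf.germ V₁ x hxV₁ γ₀ := by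
    rw [hγ]; exact TopCat.Presheaf.germ_res_apply _ _ _ _ _
  have hτgerm : F.presheaf.germ V x hxV τ = F.presheaf.germ V₂ x hxV₂ τ₀ := by
    rw [hτ]; exact TopCat.Presheaf.germ_res_apply _ _ _ _ _
  -- move to `U`
  let N : (U : Scheme.{u}).Modules := F.restrict U.ι
  obtain ⟨τ', hτ'⟩ : ∃ τ' : Γ(N, W'), τ' = τ := ⟨τ, rfl⟩
  obtain ⟨a, ha⟩ : ∃ a : Γ((U : Scheme.{u}), W'), a = (U.ι.appIso W').hom γ := ⟨_, rfl⟩
  have haτ : a • τ' = 0 := by
    rw [ha, restrict_smul F U W' γ τ τ' hτ']
    exact hγτ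
  obtain ⟨σ, hσ⟩ : ∃ σ : Γ(freeM (U : Scheme.{u}) I, W'), σ = e.hom.app W' τ' := ⟨_, rfl⟩
  have haσ : a • σ = 0 := by
    rw [hσ, ← Scheme.Modules.Hom.app_smul, haτ, map_zero]
  haveI : Nonempty V := ⟨⟨x, hxV⟩⟩
  haveI : IsDomain Γ(X, V) := inferInstance
  have hγ0 : γ ≠ 0 := by
    intro h
    apply hc0
    rw [← hγgerm, h, map_zero]
  have hproj : ∀ i, (proj i).app W' σ = 0 := by
    intro i
    have h1 : a • (proj i).app W' σ = 0 := by
      rw [← Scheme.Modules.Hom.app_smul, haσ, map_zero]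
    have h2 : a * ofUnit W' ((proj i).app W' σ) = 0 := h1
    have h3 : γ * (U.ι.appIso W').inv (ofUnit W' ((proj i).app W' σ)) = 0 := by
      have h4 := congrArg (U.ι.appIso W').inv h2
      rw [map_mul, map_zero, ha, Iso.hom_inv_id_apply] at h4
      exact h4
    rcases mul_eq_zero.mp h3 with h | h
    · exact absurd h hγ0
    · have h5 := congrArg (U.ι.appIso W').hom h
      rw [map_zero, Iso.inv_hom_id_apply] at h5
      exact h5
  have hσ0 : σ = 0 := by
    rw [eq_sum_ι_proj W' σ]
    refine Finset.sum_eq_zero (fun i _ => ?_)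
    rw [hproj i, map_zero]
  have hτ'0 : τ' = 0 := by
    have h1 : e.inv.app W' (e.hom.app W' τ') = τ' := by
      have h2 := congrArg (fun φ => Scheme.Modules.Hom.app φ W' τ') e.hom_inv_id
      exact h2
    rw [← h1, ← hσ, hσ0, map_zero]
  have hτ0 : τ = 0 := hτ'.symm.trans hτ'0
  apply ht0
  rw [← hτgerm, hτ0, map_zero]

end Main

end Groth.Agent.Helper4.TorsFreeCurve
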