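import Mathlib
import Groth.Prelude.Def_Coh
import Groth.Prelude.Def_Pi1
import Groth.Prelude.Def_FlatMod2
import Groth.Agent.Lib.Helper4.TorsFreeCurve
import Groth.Agent.Lib.Helper4.CohDepth
import Groth.Agent.S2280

/-!
# Torsion-free coherent modules on normal Noetherian schemes are locally free in codimension one
-/

set_option autoImplicit false
set_option linter.style.haveILetI false

universe u

open CategoryTheory CategoryTheory.Limits AlgebraicGeometry Opposite TopologicalSpace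

namespace Groth.Agent.Helper4.LocFreeOpen

/-- Restriction of a free module along an open immersion is free. -/
noncomputable def restrictFreeIso {Z' Z : Scheme.{u}} (j : Z' ⟶ Z) [IsOpenImmersion j] (n : ℕ) :
    (FlatMod.freeMod Z n).restrict j ≅ FlatMod.freeMod Z' n := by
  haveI : PreservesColimitsOfSize.{0, 0} (Scheme.Modules.restrictFunctor j) :=
    (Scheme.Modules.restrictAdjunction j).leftAdjoint_preservesColimits
  exact PreservesCoproduct.iso (Scheme.Modules.restrictFunctor j)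
      (fun _ : Fin n => Coh.structureModule Z) ≪≫
    Sigma.mapIso (fun _ => Scheme.Modules.restrictUnitIso j)

theorem restrict_restrict_free {X : Scheme.{u}} (M : X.Modules) {U V : X.Opens} (hVU : V ≤ U)
    (n : ℕ) (e : M.restrict V.ι ≅ FlatMod.freeMod (V : Scheme.{u}) n) :
    Nonempty ((M.restrict U.ι).restrict (X.homOfLE hVU).opensRange.ι ≅
      FlatMod.freeMod (((X.homOfLE hVU).opensRange : (U : Scheme.{u}).Opens) : Scheme.{u}) n) := by
  let j : (V : Scheme.{u}) ⟶ (U : Scheme.{u}) := X.homOfLE hVU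
  have hj : j ≫ U.ι = V.ι := X.homOfLE_ι hVU
  let ε : (V : Scheme.{u}) ≅ (j.opensRange : Scheme.{u}) := j.isoOpensRange
  have hε : j.opensRange.ι = ε.inv ≫ j := (j.isoOpensRange_inv_comp).symm
  let iso1 := Scheme.Modules.restrictFunctorCongr hε ≪≫
    Scheme.Modules.restrictFunctorComp ε.inv j
  let iso2 := Scheme.Modules.restrictFunctorCongr hj.symm ≪≫
    Scheme.Modules.restrictFunctorComp j U.ι
  exact ⟨iso1.app (M.restrict U.ι) ≪≫
    (Scheme.Modules.restrictFunctor ε.inv).mapIso ((iso2.app M).symm ≪≫ e) ≪≫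
    restrictFreeIso ε.inv n⟩

theorem le_one_of_lt_two (a : WithBot ℕ∞) (h : a < 2) : a ≤ 1 := by
  induction a using WithBot.recBotCoe with
  | bot => exact bot_le
  | coe m =>
    induction m using ENat.recTopCoe with
    | top =>
      exact absurd h (not_lt.mpr le_top)
    | coe k =>
      rw [show (2 : WithBot ℕ∞) = ((2 : ℕ∞) : WithBot ℕ∞) from rfl, WithBot.coe_lt_coe] at h
      have h' : k < 2 := by exact_mod_cast h
      have h'' : k ≤ 1 := by omega
      rw [show (1 : WithBot ℕ∞) = ((1 : ℕ∞) : WithBot ℕ∞) from rfl, WithBot.coe_le_coe]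
      exact_mod_cast h''

theorem pid_of_normal_dim_le_one (R : Type*) [CommRing R] [IsDomain R] [IsLocalRing R]
    [IsNoetherianRing R] [IsIntegrallyClosed R] (h : ringKrullDim R ≤ 1) :
    IsPrincipalIdealRing R := by
  have key : IsIntegrallyClosed R ∧
      ∀ P : Ideal R, P ≠ ⊥ → P.IsPrime → P = IsLocalRing.maximalIdeal R := by
    refine ⟨inferInstance, ?_⟩
    intro P hP0 hPp
    have h1 : Ring.KrullDimLE 1 R := Ring.krullDimLE_iff.mpr (by rw [Nat.cast_one]; exact h)
    have h2 := (Ring.krullDimLE_one_iff_of_noZeroDivisors.mp h1) P hP0 hPp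
    exact IsLocalRing.eq_maximalIdeal h2
  exact ((tfae_of_isNoetherianRing_of_isLocalRing_of_isDomain R).out 0 3).mpr key

theorem main (X : Scheme.{u}) [IsNoetherian X] [ConnectedSpace X]
    (hX : Pi1.IsNormalScheme X) (M : X.Modules) (hM : Coh.IsCoh M)
    (htf : ∀ x : ↥X, Module.IsTorsionFree (X.presheaf.stalk x) (M.presheaf.stalk x)) :
    ∃ U : X.Opens, (∀ x : ↥X, x ∉ U → (2 : WithBot ℕ∞) ≤ ringKrullDim (X.presheaf.stalk x)) ∧
      FlatMod.IsFinLocFree (M.restrict U.ι) := by
  haveI : IsIntegral X :=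
    ((Groth.Agent.S2280.result X).2).mpr ⟨inferInstance, fun x => (hX x).1⟩
  haveI : M.IsQuasicoherent := hM.1
  haveI : SheafOfModules.IsFiniteType (R := X.ringCatSheaf) M := hM.2
  let S : Set X := {x | ∃ V : X.Opens, x ∈ V ∧ ∃ n : ℕ,
    Nonempty (M.restrict V.ι ≅ FlatMod.freeMod (V : Scheme.{u}) n)}
  have hS : IsOpen S := by
    rw [isOpen_iff_forall_mem_open]
    rintro x ⟨V, hxV, n, hn⟩
    exact ⟨V, fun y hy => ⟨V, hy, n, hn⟩, V.isOpen, hxV⟩
  let U : X.Opens := ⟨S, hS⟩
  refine ⟨U, ?_, ?_⟩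
  · intro x hx
    by_contra hlt
    apply hx
    have hdim1 : ringKrullDim (X.presheaf.stalk x) ≤ 1 := le_one_of_lt_two _ (not_le.mp hlt)
    haveI := (hX x).1
    haveI := (hX x).2
    haveI : IsPrincipalIdealRing (X.presheaf.stalk x) := pid_of_normal_dim_le_one _ hdim1
    haveI := htf x
    haveI := Groth.Agent.Helper4.CohDepth.finite_stalk M x
    haveI : Module.Free (X.presheaf.stalk x) (M.presheaf.stalk x) :=
      Module.free_of_finite_type_torsion_free'
    obtain ⟨V, hxV, hV⟩ := Groth.Agent.Helper4.TorsFreeCurve.free_at X M x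
    exact ⟨V, hxV, _, hV⟩
  · intro x
    obtain ⟨V, hxV, n, ⟨e⟩⟩ := x.2
    have hVU : V ≤ U := fun y hy => ⟨V, hy, n, ⟨e⟩⟩
    refine ⟨(X.homOfLE hVU).opensRange, n, ?_, restrict_restrict_free M hVU n e⟩
    refine ⟨⟨x.1, hxV⟩, ?_⟩
    apply Subtype.ext
    have h1 : (X.homOfLE hVU ≫ U.ι) = V.ι := X.homOfLE_ι hVU
    have h2 := congrArg (fun g => g.base (⟨x.1, hxV⟩ : V)) h1
    exact h2

end Groth.Agent.Helper4.LocFreeOpen
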