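import Mathlib

/-!
# Finite projective modules of constant rank are free near a finite set of primes
-/

set_option autoImplicit false
set_option linter.style.haveILetI false

universe u

open TensorProduct

namespace Groth.Agent.Helper4.SemiLocalAlg

section Transport

/-- transport of a basis along a semilinear additive equivalence. -/
noncomputable def basisTransport {R R' N N' ι : Type*} [CommRing R] [CommRing R']
    [AddCommGroup N] [AddCommGroup N'] [Module R N] [Module R' N'] (e : R ≃+* R') (φ : N ≃+ N')
    (h : ∀ (c : R) (y : N), φ (c • y) = e c • φ y) (b : Module.Basis ι R' N') :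
    Module.Basis ι R N := by
  classical
  have hsymm : ∀ (c : R') (y : N'), φ.symm (c • y) = e.symm c • φ.symm y := by
    intro c y
    apply φ.injective
    rw [h, φ.apply_symm_apply, e.apply_symm_apply, φ.apply_symm_apply]
  have hli : LinearIndependent R (fun i => φ.symm (b i)) := by
    rw [linearIndependent_iff']
    intro s g hg i hi
    have h1 : ∑ j ∈ s, e (g j) • b j = 0 := by
      have h2 := congrArg φ hg
      rw [map_sum, map_zero] at h2
      rw [← h2]
      refine Finset.sum_congr rfl (fun j _ => ?_)
      rw [h, φ.apply_symm_apply]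
    have h3 := linearIndependent_iff'.mp b.linearIndependent s (fun j => e (g j)) h1 i hi
    exact (map_eq_zero_iff e e.injective).mp h3
  have hsp : ⊤ ≤ Submodule.span R (Set.range fun i => φ.symm (b i)) := by
    intro m _
    have hm : φ m ∈ Submodule.span R' (Set.range b) := b.mem_span (φ m)
    have key : ∀ y, y ∈ Submodule.span R' (Set.range b) →
        φ.symm y ∈ Submodule.span R (Set.range fun i => φ.symm (b i)) := by
      intro y hy
      induction hy using Submodule.span_induction with
      | mem y hy =>
        obtain ⟨i, rfl⟩ := hy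
        exact Submodule.subset_span ⟨i, rfl⟩
      | zero => rw [map_zero]; exact Submodule.zero_mem _
      | add y z _ _ hy hz => rw [map_add]; exact Submodule.add_mem _ hy hz
      | smul c y _ hy => rw [hsymm]; exact Submodule.smul_mem _ _ hy
    have := key (φ m) hm
    rwa [φ.symm_apply_apply] at this
  exact Module.Basis.mk hli hsp

end Transport

variable {A : Type u} [CommRing A]

/-- the multiplicative set of elements outside all the primes in `Z`. -/
def avoid (Z : Finset (PrimeSpectrum A)) : Submonoid A := ⨅ p ∈ Z, p.asIdeal.primeCompl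

theorem mem_avoid (Z : Finset (PrimeSpectrum A)) (a : A) :
    a ∈ avoid Z ↔ ∀ p ∈ Z, a ∉ p.asIdeal := by
  simp only [avoid, Submonoid.mem_iInf]
  rfl

theorem comap_mem_of_isMaximal (Z : Finset (PrimeSpectrum A))
    (m : Ideal (Localization (avoid Z))) (hm : m.IsMaximal) :
    ∃ p ∈ Z, m.comap (algebraMap A (Localization (avoid Z))) = p.asIdeal := by
  have hmp : m.IsPrime := hm.isPrime
  obtain ⟨hqp, hqd⟩ :=
    (IsLocalization.isPrime_iff_isPrime_disjoint (avoid Z) (Localization (avoid Z)) m).mp hmp
  let q₀ : PrimeSpectrum A := ⟨m.comap (algebraMap A (Localization (avoid Z))), hqp⟩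
  obtain ⟨p, hpZ, hqp'⟩ : ∃ p ∈ Z, m.comap (algebraMap A (Localization (avoid Z))) ≤ p.asIdeal := by
    refine (Ideal.subset_union_prime (s := Z) (f := fun p : PrimeSpectrum A => p.asIdeal) q₀ q₀
      (fun i _ _ _ => i.isPrime)).mp ?_
    intro a ha
    by_contra hcon
    have haS : a ∈ avoid Z := by
      rw [mem_avoid]
      intro p hp hap
      apply hcon
      simp only [Set.mem_iUnion]
      exact ⟨p, hp, hap⟩
    exact Set.disjoint_left.mp hqd haS ha
  refine ⟨p, hpZ, ?_⟩
  have hp_disj : Disjoint ((avoid Z : Submonoid A) : Set A) (p.asIdeal : Set A) :=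
    Set.disjoint_left.mpr fun a haS hap => (mem_avoid Z a).mp haS p hpZ hap
  have hmap_prime := IsLocalization.isPrime_of_isPrime_disjoint (avoid Z)
    (Localization (avoid Z)) p.asIdeal p.isPrime hp_disj
  have hle : m ≤ Ideal.map (algebraMap A (Localization (avoid Z))) p.asIdeal := by
    have h1 := IsLocalization.map_under (avoid Z) (Localization (avoid Z)) m
    rw [← h1]
    exact Ideal.map_mono hqp'
  have heq : m = Ideal.map (algebraMap A (Localization (avoid Z))) p.asIdeal :=
    hm.eq_of_le hmap_prime.ne_top hle
  have h2 := IsLocalization.under_map_of_isPrime_disjoint (avoid Z) (Localization (avoid Z))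
    p.isPrime hp_disj
  rw [heq]
  exact h2

theorem finite_maximalSpectrum (Z : Finset (PrimeSpectrum A)) :
    Finite (MaximalSpectrum (Localization (avoid Z))) := by
  classical
  let ψ : MaximalSpectrum (Localization (avoid Z)) → Z := fun m =>
    ⟨(comap_mem_of_isMaximal Z m.asIdeal m.isMaximal).choose,
      (comap_mem_of_isMaximal Z m.asIdeal m.isMaximal).choose_spec.1⟩
  have hψ : ∀ m, m.asIdeal.comap (algebraMap A (Localization (avoid Z))) = (ψ m).1.asIdeal :=
    fun m => (comap_mem_of_isMaximal Z m.asIdeal m.isMaximal).choose_spec.2
  apply Finite.of_injective ψ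
  intro m m' h
  have h1 : m.asIdeal.comap (algebraMap A (Localization (avoid Z))) =
      m'.asIdeal.comap (algebraMap A (Localization (avoid Z))) := by
    rw [hψ m, hψ m', h]
  have h2 := IsLocalization.map_under (avoid Z) (Localization (avoid Z)) m.asIdeal
  have h3 := IsLocalization.map_under (avoid Z) (Localization (avoid Z)) m'.asIdeal
  apply MaximalSpectrum.ext
  rw [← h2, ← h3]
  exact congrArg (Ideal.map (algebraMap A (Localization (avoid Z)))) h1

/-- A finitely presented flat module of constant rank `r` becomes free of rank `r` after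
inverting a single element lying outside finitely many given primes. -/
theorem exists_free_away {P : Type u} [AddCommGroup P] [Module A P]
    [Module.FinitePresentation A P] [Module.Flat A P] (r : ℕ)
    (hr : ∀ p : PrimeSpectrum A, Module.rankAtStalk P p = r)
    (Z : Finset (PrimeSpectrum A)) (hZ : Z.Nonempty) :
    ∃ f : A, (∀ p ∈ Z, f ∉ p.asIdeal) ∧
      Module.Free (Localization (Submonoid.powers f)) (LocalizedModule (Submonoid.powers f) P) ∧
      Module.finrank (Localization (Submonoid.powers f))
        (LocalizedModule (Submonoid.powers f) P) = r := by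
  classical
  haveI : Nontrivial (Localization (avoid Z)) := by
    rw [← not_subsingleton_iff_nontrivial, IsLocalization.subsingleton_iff (M := avoid Z)]
    intro h0
    obtain ⟨p, hp⟩ := hZ
    exact (mem_avoid Z 0).mp h0 p hp (zero_mem _)
  haveI : Module.Finite A P := inferInstance
  haveI : Module.Finite (Localization (avoid Z)) (LocalizedModule (avoid Z) P) :=
    Module.Finite.of_isLocalizedModule (avoid Z) (LocalizedModule.mkLinearMap (avoid Z) P)
  haveI : Module.Flat (Localization (avoid Z)) (LocalizedModule (avoid Z) P) := inferInstance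
  haveI := finite_maximalSpectrum Z
  have hrk : ∀ q : PrimeSpectrum (Localization (avoid Z)),
      Module.rankAtStalk (LocalizedModule (avoid Z) P) q = r := by
    intro q
    rw [Module.rankAtStalk_isBaseChange (LocalizedModule.isBaseChange (avoid Z) P) q]
    exact hr _
  have rk : ∀ m : MaximalSpectrum (Localization (avoid Z)),
      Module.finrank (Localization (avoid Z) ⧸ m.1)
        ((Localization (avoid Z) ⧸ m.1) ⊗[Localization (avoid Z)]
          LocalizedModule (avoid Z) P) = r := by
    intro m
    haveI : m.1.IsMaximal := m.isMaximal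
    letI := Ideal.Quotient.field m.1
    let p₀ : PrimeSpectrum (Localization (avoid Z) ⧸ m.1) := ⟨⊥, Ideal.isPrime_bot⟩
    have h1 := congrFun (Module.rankAtStalk_eq_finrank_of_free
      (R := Localization (avoid Z) ⧸ m.1)
      (M := (Localization (avoid Z) ⧸ m.1) ⊗[Localization (avoid Z)]
        LocalizedModule (avoid Z) P)) p₀
    have h2 := Module.rankAtStalk_baseChange (R := Localization (avoid Z))
      (M := LocalizedModule (avoid Z) P) (S := Localization (avoid Z) ⧸ m.1) p₀
    rw [h2, hrk] at h1
    simpa using h1.symm
  obtain ⟨b⟩ := Module.nonempty_basis_of_flat_of_finrank_eq (Localization (avoid Z))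
    (LocalizedModule (avoid Z) P) r rk
  haveI : Module.Free (Localization (avoid Z)) (LocalizedModule (avoid Z) P) :=
    Module.Free.of_basis b
  obtain ⟨f, hfS, hfree, hfin⟩ := Module.FinitePresentation.exists_free_localizedModule_powers
    (avoid Z) (LocalizedModule.mkLinearMap (avoid Z) P) (Localization (avoid Z))
  refine ⟨f, (mem_avoid Z f).mp hfS, hfree, ?_⟩
  rw [hfin, Module.finrank_eq_card_basis b, Fintype.card_fin]

/-- If `P` becomes free of rank `r` after inverting elements generating the unit ideal,
then `P` is flat and of constant rank `r`. -/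
theorem flat_and_rank_of_cover {P : Type u} [AddCommGroup P] [Module A P] [Module.Finite A P]
    (r : ℕ)
    (h : ∀ p : PrimeSpectrum A, ∃ f : A, f ∉ p.asIdeal ∧
      Module.Free (Localization (Submonoid.powers f)) (LocalizedModule (Submonoid.powers f) P) ∧
      Module.finrank (Localization (Submonoid.powers f))
        (LocalizedModule (Submonoid.powers f) P) = r) :
    Module.Flat A P ∧ ∀ p : PrimeSpectrum A, Module.rankAtStalk P p = r := by
  classical
  let s : Set A := {f | Module.Free (Localization (Submonoid.powers f))
      (LocalizedModule (Submonoid.powers f) P) ∧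
      Module.finrank (Localization (Submonoid.powers f))
        (LocalizedModule (Submonoid.powers f) P) = r}
  have hspan : Ideal.span s = ⊤ := by
    by_contra hne
    obtain ⟨m, hm, hle⟩ := Ideal.exists_le_maximal _ hne
    obtain ⟨f, hf, hfree, hfin⟩ := h ⟨m, hm.isPrime⟩
    exact hf (hle (Ideal.subset_span ⟨hfree, hfin⟩))
  have hflat : Module.Flat A P := by
    apply Module.flat_of_localized_span (S := A) (M := P) s hspan
    rintro ⟨f, hfree, hfin⟩
    haveI := hfree
    haveI : Module.Flat (Localization (Submonoid.powers f))
        (LocalizedModule (Submonoid.powers f) P) := inferInstance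
    exact Module.Flat.trans A (Localization (Submonoid.powers f))
      (LocalizedModule (Submonoid.powers f) P)
  refine ⟨hflat, ?_⟩
  intro p
  haveI := hflat
  obtain ⟨f, hf, hfree, hfin⟩ := h p
  haveI := hfree
  have hdisj : Disjoint ((Submonoid.powers f : Submonoid A) : Set A) (p.asIdeal : Set A) := by
    rw [Set.disjoint_left]
    rintro _ ⟨n, rfl⟩ hmem
    exact hf (p.isPrime.mem_of_pow_mem n hmem)
  have hq := IsLocalization.isPrime_of_isPrime_disjoint (Submonoid.powers f)
    (Localization (Submonoid.powers f)) p.asIdeal p.isPrime hdisj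
  let q : PrimeSpectrum (Localization (Submonoid.powers f)) :=
    ⟨Ideal.map (algebraMap A (Localization (Submonoid.powers f))) p.asIdeal, hq⟩
  have hqp : q.comap (algebraMap A (Localization (Submonoid.powers f))) = p := by
    apply PrimeSpectrum.ext
    exact IsLocalization.under_map_of_isPrime_disjoint (Submonoid.powers f)
      (Localization (Submonoid.powers f)) p.isPrime hdisj
  have h1 := Module.rankAtStalk_isBaseChange
    (LocalizedModule.isBaseChange (Submonoid.powers f) P) q
  rw [hqp] at h1
  rw [← h1]
  have h2 := congrFun (Module.rankAtStalk_eq_finrank_of_free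
    (R := Localization (Submonoid.powers f)) (M := LocalizedModule (Submonoid.powers f) P)) q
  rw [h2]
  simpa using hfin

end Groth.Agent.Helper4.SemiLocalAlg
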