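import Mathlib
import Groth.Prelude.Def_Coh
import Groth.Prelude.Def_FlatMod2
import Groth.Agent.Lead.StalkLoc
import Groth.Agent.Lib.Helper4.SemiLocalAlg
import Groth.Agent.Lib.Helper4.LocFreeOpen
import Groth.Agent.Lib.Helper4.HartogsMod

/-!
# A locally free module of rank `r` is free near any finite set of points of an affine open

The identification `Γ(M, U)_f ≃ Γ(M, D(f))` follows the construction in the lead's
`LocFree.exists_basis_basicOpen`.
-/

set_option autoImplicit false
set_option linter.style.haveILetI false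

universe u

open CategoryTheory CategoryTheory.Limits AlgebraicGeometry Opposite TopologicalSpace
open Groth.Agent.Lead.QCoh Groth.Agent.Lead.FinType Groth.Agent.Lead.FinPres
open Groth.Agent.Lead.AffSurj Groth.Agent.Lead.FreeEpi Groth.Agent.Lead.Extend
open Groth.Agent.Lead.FreeIso Groth.Agent.Lead.LocFree Groth.Agent.Lead.FPSec
open Groth.Agent.Lead.StalkLoc

namespace Groth.Agent.Helper4.SemiLocalFree

variable {X : Scheme.{u}}

set_option backward.isDefEq.respectTransparency false in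
/-- the semilinear identification `Γ(M, U)_f ≃ Γ(M, D(f))` for a quasi-coherent module. -/
theorem exists_semilinear_equiv (M : X.Modules) [M.IsQuasicoherent] {U : X.Opens}
    (hU : IsAffineOpen U) (f : Γ(X, U)) :
    ∃ (e : Localization (Submonoid.powers f) ≃+* Γ(X, X.basicOpen f))
      (φ : LocalizedModule (Submonoid.powers f) Γ(M, U) ≃+ Γ(M, X.basicOpen f)),
      ∀ (c : Localization (Submonoid.powers f))
        (y : LocalizedModule (Submonoid.powers f) Γ(M, U)), φ (c • y) = e c • φ y := by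
  classical
  letI : Module Γ(X, U) Γ(M, X.basicOpen f) :=
    Module.compHom _ (algebraMap Γ(X, U) Γ(X, X.basicOpen f))
  haveI : IsScalarTower Γ(X, U) Γ(X, X.basicOpen f) Γ(M, X.basicOpen f) :=
    IsScalarTower.of_algebraMap_smul (fun r m => rfl)
  let g : Γ(M, U) →ₗ[Γ(X, U)] Γ(M, X.basicOpen f) :=
    { toFun := fun m => M.presheaf.map (homOfLE (X.basicOpen_le f)).op m
      map_add' := fun a b => map_add _ a b
      map_smul' := fun r m => by
        show M.presheaf.map (homOfLE (X.basicOpen_le f)).op (r • m) =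
          (X.presheaf.map (homOfLE (X.basicOpen_le f)).op r) •
            M.presheaf.map (homOfLE (X.basicOpen_le f)).op m
        exact Scheme.Modules.map_smul _ _ _ _ }
  haveI : IsLocalization.Away f Γ(X, X.basicOpen f) := hU.isLocalization_basicOpen f
  have hu : IsUnit (algebraMap Γ(X, U) Γ(X, X.basicOpen f) f) :=
    IsLocalization.Away.algebraMap_isUnit f
  have h₁ : IsUnit (algebraMap Γ(X, U) (Module.End Γ(X, U) Γ(M, X.basicOpen f)) f) := by
    rw [Module.End.isUnit_iff]
    obtain ⟨v, hv⟩ := hu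
    constructor
    · intro a b hab
      have hab' : (v : Γ(X, X.basicOpen f)) • a = (v : Γ(X, X.basicOpen f)) • b := by
        rw [hv]; exact hab
      calc a = (↑v⁻¹ : Γ(X, X.basicOpen f)) • ((v : Γ(X, X.basicOpen f)) • a) := by
            rw [smul_smul, Units.inv_mul, one_smul]
        _ = (↑v⁻¹ : Γ(X, X.basicOpen f)) • ((v : Γ(X, X.basicOpen f)) • b) := by rw [hab']
        _ = b := by rw [smul_smul, Units.inv_mul, one_smul]
    · intro b
      refine ⟨(↑v⁻¹ : Γ(X, X.basicOpen f)) • b, ?_⟩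
      show (algebraMap Γ(X, U) Γ(X, X.basicOpen f) f) • ((↑v⁻¹ : Γ(X, X.basicOpen f)) • b) = b
      rw [← hv, smul_smul, Units.mul_inv, one_smul]
  have h₂ : ∀ y : Γ(M, X.basicOpen f), ∃ (n : ℕ) (m : Γ(M, U)), f ^ n • y = g m := by
    intro y
    obtain ⟨n, t, ht⟩ := exists_section_of_basicOpen M hU f y
    refine ⟨n, t, ?_⟩
    show (algebraMap Γ(X, U) Γ(X, X.basicOpen f) (f ^ n)) • y = _
    rw [map_pow]
    exact ht.symm
  have h₃ : ∀ m : Γ(M, U), g m = 0 → ∃ n : ℕ, f ^ n • m = 0 := fun m hm =>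
    exists_pow_smul_eq_zero M hU f m hm
  haveI : IsLocalizedModule.Away f g := IsLocalizedModule.Away.mk_of_addCommGroup h₁ h₂ h₃
  let e₁ : Localization (Submonoid.powers f) ≃ₐ[Γ(X, U)] Γ(X, X.basicOpen f) :=
    IsLocalization.algEquiv (Submonoid.powers f) (Localization (Submonoid.powers f))
      Γ(X, X.basicOpen f)
  letI : Module (Localization (Submonoid.powers f)) Γ(M, X.basicOpen f) :=
    Module.compHom _ (e₁.toAlgHom.toRingHom)
  haveI : IsScalarTower Γ(X, U) (Localization (Submonoid.powers f)) Γ(M, X.basicOpen f) :=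
    IsScalarTower.of_algebraMap_smul (fun a q => by
      show (e₁ (algebraMap Γ(X, U) (Localization (Submonoid.powers f)) a)) • q =
        (algebraMap Γ(X, U) Γ(X, X.basicOpen f) a) • q
      rw [e₁.commutes])
  let iso0 : LocalizedModule (Submonoid.powers f) Γ(M, U) ≃ₗ[Γ(X, U)] Γ(M, X.basicOpen f) :=
    IsLocalizedModule.iso (Submonoid.powers f) g
  let iso' : LocalizedModule (Submonoid.powers f) Γ(M, U) ≃ₗ[Localization (Submonoid.powers f)]
      Γ(M, X.basicOpen f) :=
    iso0.extendScalarsOfIsLocalization (Submonoid.powers f) (Localization (Submonoid.powers f))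
  refine ⟨e₁.toRingEquiv, iso'.toAddEquiv, fun c y => ?_⟩
  exact iso'.map_smul c y

theorem restrict_free_of_le (E : X.Modules) {W U' : X.Opens} (h : W ≤ U') (r : ℕ)
    (e : E.restrict U'.ι ≅ FlatMod.freeMod (U' : Scheme.{u}) r) :
    Nonempty (E.restrict W.ι ≅ FlatMod.freeMod (W : Scheme.{u}) r) := by
  let j : (W : Scheme.{u}) ⟶ (U' : Scheme.{u}) := X.homOfLE h
  have hj : j ≫ U'.ι = W.ι := X.homOfLE_ι h
  let iso2 := Scheme.Modules.restrictFunctorCongr hj.symm ≪≫
    Scheme.Modules.restrictFunctorComp j U'.ι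
  exact ⟨iso2.app E ≪≫ (Scheme.Modules.restrictFunctor j).mapIso e ≪≫
    LocFreeOpen.restrictFreeIso j r⟩

theorem nonempty_iso_of_isEmpty {T : Scheme.{u}} [IsEmpty T] (N N' : T.Modules) :
    Nonempty (N ≅ N') := by
  have key : ∀ (A B : T.Modules) (f g : A ⟶ B), f = g := by
    intro A B f g
    apply Scheme.Modules.hom_ext
    intro W
    ext s
    apply HartogsMod.sec_ext
    intro x _
    exact (IsEmpty.false x).elim
  exact ⟨⟨0, 0, key _ _ _ _, key _ _ _ _⟩⟩

theorem exists_free_away_at (E : X.Modules) [E.IsQuasicoherent] (r : ℕ)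
    (hE : FlatMod.IsFinLocFreeOfRank r E) {V : X.Opens} (hV : IsAffineOpen V) (x : X)
    (hx : x ∈ V) :
    ∃ f : Γ(X, V), x ∈ X.basicOpen f ∧
      Module.Free (Localization (Submonoid.powers f))
        (LocalizedModule (Submonoid.powers f) Γ(E, V)) ∧
      Module.finrank (Localization (Submonoid.powers f))
        (LocalizedModule (Submonoid.powers f) Γ(E, V)) = r := by
  obtain ⟨U', hxU', ⟨e⟩⟩ := hE x
  obtain ⟨f, hfU', hxf⟩ := hV.exists_basicOpen_le (V := U') ⟨x, hxU'⟩ hx
  refine ⟨f, hxf, ?_⟩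
  have himg : U'.ι ''ᵁ (U'.ι ⁻¹ᵁ X.basicOpen f) = X.basicOpen f := by
    rw [Scheme.Hom.image_preimage_eq_opensRange_inf, Scheme.Opens.opensRange_ι]
    exact inf_eq_right.mpr hfU'
  obtain ⟨b0⟩ := exists_basis_of_iso_freeMod E U' e (U'.ι ⁻¹ᵁ X.basicOpen f)
  have key : ∀ (O O' : X.Opens), O = O' →
      Nonempty (Module.Basis (Fin r) Γ(X, O) Γ(E, O)) →
      Nonempty (Module.Basis (Fin r) Γ(X, O') Γ(E, O')) := by
    rintro O _ rfl h
    exact h
  obtain ⟨b⟩ := key _ _ himg ⟨b0⟩
  obtain ⟨e₁, φ, hφ⟩ := exists_semilinear_equiv E hV f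
  let b' := SemiLocalAlg.basisTransport e₁ φ hφ b
  have hf₀ : f ∈ (hV.primeIdealOf ⟨x, hx⟩).asIdeal.primeCompl :=
    fun hmem => ((mem_primeIdealOf_iff hV x hx f).mp hmem) hxf
  haveI := (hV.primeIdealOf ⟨x, hx⟩).2
  haveI : Nontrivial (Localization (Submonoid.powers f)) :=
    (show Localization (Submonoid.powers f) →+*
        Localization.AtPrime (hV.primeIdealOf ⟨x, hx⟩).asIdeal from
      IsLocalization.map (M := Submonoid.powers f)
        (T := (hV.primeIdealOf ⟨x, hx⟩).asIdeal.primeCompl) _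
        (RingHom.id _) (Submonoid.powers_le.mpr hf₀)).domain_nontrivial
  exact ⟨Module.Free.of_basis b', by rw [Module.finrank_eq_card_basis b', Fintype.card_fin]⟩

set_option backward.isDefEq.respectTransparency false in
theorem main (Y : Scheme.{u}) (r : ℕ) (E : Y.Modules) (hE : FlatMod.IsFinLocFreeOfRank r E)
    (Z : Set Y) (hZ : Z.Finite) (V : Y.Opens) (hV : IsAffineOpen V) (hZV : Z ⊆ V) :
    ∃ U : Y.Opens, Z ⊆ U ∧ U ≤ V ∧
      Nonempty (E.restrict U.ι ≅ FlatMod.freeMod (U : Scheme.{u}) r) := by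
  classical
  have hE' : FlatMod.IsFinLocFree E := fun x => by
    obtain ⟨U, hx, h⟩ := hE x
    exact ⟨U, r, hx, h⟩
  haveI : SheafOfModules.IsFinitePresentation.{u, u, u} (R := Y.ringCatSheaf) E :=
    isFP_of_isFinLocFree E hE'
  haveI : E.IsQuasicoherent := inferInstance
  by_cases hZne : Z.Nonempty
  swap
  · rw [Set.not_nonempty_iff_eq_empty] at hZne
    subst hZne
    by_cases hVne : (V : Set Y).Nonempty
    · obtain ⟨x, hx⟩ := hVne
      obtain ⟨U', hxU', ⟨e⟩⟩ := hE x
      exact ⟨U' ⊓ V, Set.empty_subset _, inf_le_right, restrict_free_of_le E inf_le_left r e⟩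
    · haveI : IsEmpty (V : Scheme.{u}) := ⟨fun x => hVne ⟨x.1, x.2⟩⟩
      exact ⟨V, Set.empty_subset _, le_rfl, nonempty_iso_of_isEmpty _ _⟩
  · haveI : Module.FinitePresentation Γ(Y, V) Γ(E, V) := finitePresentation_sections E hV
    haveI : Module.Finite Γ(Y, V) Γ(E, V) := inferInstance
    have hcover : ∀ p : PrimeSpectrum Γ(Y, V), ∃ f : Γ(Y, V), f ∉ p.asIdeal ∧
        Module.Free (Localization (Submonoid.powers f))
          (LocalizedModule (Submonoid.powers f) Γ(E, V)) ∧
        Module.finrank (Localization (Submonoid.powers f))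
          (LocalizedModule (Submonoid.powers f) Γ(E, V)) = r := by
      intro p
      have hxV : hV.fromSpec p ∈ V := by
        have h1 : hV.fromSpec p ∈ hV.fromSpec.opensRange := ⟨p, rfl⟩
        rwa [hV.opensRange_fromSpec] at h1
      obtain ⟨f, hxf, hfree, hfin⟩ := exists_free_away_at E r hE hV (hV.fromSpec p) hxV
      have hp : hV.primeIdealOf ⟨hV.fromSpec p, hxV⟩ = p :=
        hV.fromSpec.isOpenEmbedding.injective (hV.fromSpec_primeIdealOf ⟨_, hxV⟩)
      refine ⟨f, ?_, hfree, hfin⟩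
      intro hmem
      rw [← hp] at hmem
      exact ((mem_primeIdealOf_iff hV _ hxV f).mp hmem) hxf
    obtain ⟨hflat, hrank⟩ := SemiLocalAlg.flat_and_rank_of_cover r hcover
    haveI := hflat
    let Zf : Finset (PrimeSpectrum Γ(Y, V)) := (hZ.toFinset.attach).image
      (fun z => hV.primeIdealOf ⟨z.1, hZV (hZ.mem_toFinset.mp z.2)⟩)
    obtain ⟨z₀, hz₀⟩ := hZne
    have hmemZf : ∀ z (hz : z ∈ Z), hV.primeIdealOf ⟨z, hZV hz⟩ ∈ Zf := fun z hz =>
      Finset.mem_image.mpr ⟨⟨z, hZ.mem_toFinset.mpr hz⟩, Finset.mem_attach _ _, rfl⟩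
    have hZf : Zf.Nonempty := ⟨_, hmemZf z₀ hz₀⟩
    obtain ⟨f, hfZ, hfree, hfin⟩ := SemiLocalAlg.exists_free_away r hrank Zf hZf
    have hZU : Z ⊆ Y.basicOpen f := by
      intro z hz
      by_contra hnot
      have h1 : f ∈ (hV.primeIdealOf ⟨z, hZV hz⟩).asIdeal :=
        (mem_primeIdealOf_iff hV z (hZV hz) f).mpr hnot
      exact hfZ _ (hmemZf z hz) h1
    refine ⟨Y.basicOpen f, hZU, Y.basicOpen_le f, ?_⟩
    obtain ⟨e₁, φ, hφ⟩ := exists_semilinear_equiv E hV f
    haveI := hfree
    haveI : Module.Finite (Localization (Submonoid.powers f))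
        (LocalizedModule (Submonoid.powers f) Γ(E, V)) :=
      Module.Finite.of_isLocalizedModule (Submonoid.powers f)
        (LocalizedModule.mkLinearMap (Submonoid.powers f) Γ(E, V))
    have hf₀ : f ∈ (hV.primeIdealOf ⟨z₀, hZV hz₀⟩).asIdeal.primeCompl :=
      hfZ _ (hmemZf z₀ hz₀)
    haveI := (hV.primeIdealOf ⟨z₀, hZV hz₀⟩).2
    haveI : Nontrivial (Localization (Submonoid.powers f)) :=
      (show Localization (Submonoid.powers f) →+*
          Localization.AtPrime (hV.primeIdealOf ⟨z₀, hZV hz₀⟩).asIdeal from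
        IsLocalization.map (M := Submonoid.powers f)
          (T := (hV.primeIdealOf ⟨z₀, hZV hz₀⟩).asIdeal.primeCompl) _
          (RingHom.id _) (Submonoid.powers_le.mpr hf₀)).domain_nontrivial
    let b1 : Module.Basis (Fin r) (Localization (Submonoid.powers f))
        (LocalizedModule (Submonoid.powers f) Γ(E, V)) :=
      Module.finBasisOfFinrankEq _ _ hfin
    have hsymm : ∀ (c : Γ(Y, Y.basicOpen f)) (y : Γ(E, Y.basicOpen f)),
        φ.symm (c • y) = e₁.symm c • φ.symm y := by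
      intro c y
      apply φ.injective
      rw [hφ, φ.apply_symm_apply, e₁.apply_symm_apply, φ.apply_symm_apply]
    let b2 : Module.Basis (Fin r) Γ(Y, Y.basicOpen f) Γ(E, Y.basicOpen f) :=
      SemiLocalAlg.basisTransport e₁.symm φ.symm hsymm b1
    let g' : ULift.{u} (Fin r) → Γ(E, Y.basicOpen f) := fun i => b2 i.down
    have hg' : Submodule.span Γ(Y, Y.basicOpen f) (Set.range g') = ⊤ := by
      rw [eq_top_iff, ← b2.span_eq]
      apply Submodule.span_mono
      rintro _ ⟨i, rfl⟩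
      exact ⟨⟨i⟩, rfl⟩
    have hli' : LinearIndependent Γ(Y, Y.basicOpen f) g' :=
      b2.linearIndependent.comp (fun i : ULift.{u} (Fin r) => i.down) Equiv.ulift.injective
    obtain ⟨e'⟩ := exists_iso_free_restrict E (hV.basicOpen f) (ULift.{u} (Fin r)) g' hg' hli'
    exact ⟨e'.symm ≪≫ (freeModIso ((Y.basicOpen f : Y.Opens) : Scheme.{u}) r).symm⟩

end Groth.Agent.Helper4.SemiLocalFree
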