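import Mathlib

/-!
`AdjoinRoot f` over `A`: formally unramified implies `f'(root)` is a unit;
and `f' p₁ + f p₂ = 1` implies étale.
-/

set_option autoImplicit false

namespace Groth.Agent.Helper4.AdjoinRootEtale

open Polynomial

universe u

variable {A : Type u} [CommRing A]

theorem isUnit_derivative_of_formallyUnramified (f : A[X])
    [Algebra.FormallyUnramified A (AdjoinRoot f)] :
    IsUnit (aeval (AdjoinRoot.root f) (derivative f)) := by
  set d : AdjoinRoot f := aeval (AdjoinRoot.root f) (derivative f) with hd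
  suffices h : Subsingleton (AdjoinRoot f ⧸ Ideal.span {d}) by
    have : Ideal.span {d} = ⊤ := Ideal.Quotient.subsingleton_iff.mp h
    exact Ideal.span_singleton_eq_top.mp this
  let S' := AdjoinRoot f ⧸ Ideal.span {d}
  let q : AdjoinRoot f →ₐ[A] S' := Ideal.Quotient.mkₐ A (Ideal.span {d})
  let tbar : S' := q (AdjoinRoot.root f)
  have hroot : aeval tbar f = 0 := by
    show aeval (q (AdjoinRoot.root f)) f = 0
    rw [aeval_algHom_apply, AdjoinRoot.aeval_eq, AdjoinRoot.mk_self, map_zero]
  have hder : aeval tbar (derivative f) = 0 := by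
    show aeval (q (AdjoinRoot.root f)) (derivative f) = 0
    rw [aeval_algHom_apply]
    exact Ideal.Quotient.eq_zero_iff_mem.mpr (Ideal.subset_span rfl)
  let ι : S' →ₐ[A] DualNumber S' := TrivSqZeroExt.inlAlgHom A S' S'
  have h1 : eval₂ (Algebra.ofId A (DualNumber S')) (ι tbar) f = 0 := by
    show aeval (ι tbar) f = 0
    have e1 : aeval (ι tbar) f = ι (aeval tbar f) := aeval_algHom_apply ι tbar f
    rw [e1, hroot, map_zero]
  have heps : (DualNumber.eps : DualNumber S') ^ 2 = 0 := by
    rw [pow_two, DualNumber.eps_mul_eps]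
  have h2 : eval₂ (Algebra.ofId A (DualNumber S')) (ι tbar + DualNumber.eps) f = 0 := by
    show aeval (ι tbar + DualNumber.eps) f = 0
    have e1 : aeval (ι tbar) f = ι (aeval tbar f) := aeval_algHom_apply ι tbar f
    have e2 : aeval (ι tbar) (derivative f) = ι (aeval tbar (derivative f)) :=
      aeval_algHom_apply ι tbar (derivative f)
    rw [aeval_add_of_sq_eq_zero _ _ _ heps, e1, e2, hroot, hder,
      map_zero, zero_mul, add_zero]
  let φ₁ : AdjoinRoot f →ₐ[A] DualNumber S' :=
    AdjoinRoot.liftAlgHom f (Algebra.ofId A (DualNumber S')) (ι tbar) h1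
  let φ₂ : AdjoinRoot f →ₐ[A] DualNumber S' :=
    AdjoinRoot.liftAlgHom f (Algebra.ofId A (DualNumber S')) (ι tbar + DualNumber.eps) h2
  have hnil : IsNilpotent (TrivSqZeroExt.kerIdeal S' S') := ⟨2, TrivSqZeroExt.kerIdeal_sq S' S'⟩
  have hfst : (TrivSqZeroExt.fstHom A S' S').comp φ₁ = (TrivSqZeroExt.fstHom A S' S').comp φ₂ := by
    apply AdjoinRoot.algHom_ext
    simp only [AlgHom.comp_apply, φ₁, φ₂, AdjoinRoot.liftAlgHom_root]
    simp [ι]
  have heq : φ₁ = φ₂ := by
    refine Algebra.FormallyUnramified.ext (TrivSqZeroExt.kerIdeal S' S') hnil (fun x => ?_)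
    rw [Ideal.Quotient.eq]
    show φ₁ x - φ₂ x ∈ RingHom.ker (TrivSqZeroExt.fstHom S' S' S')
    rw [RingHom.mem_ker, map_sub, sub_eq_zero]
    exact AlgHom.congr_fun hfst x
  have h3 := AlgHom.congr_fun heq (AdjoinRoot.root f)
  simp only [φ₁, φ₂, AdjoinRoot.liftAlgHom_root] at h3
  have h4 : (DualNumber.eps : DualNumber S') = 0 := by
    have := congrArg (fun z => z - ι tbar) h3
    simpa using this.symm
  have h5 : (1 : S') = 0 := by
    have := congrArg TrivSqZeroExt.snd h4
    simpa using this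
  exact subsingleton_of_zero_eq_one h5.symm

theorem etale_of_bezout (f : A[X]) (hf : f.Monic) (p₁ p₂ : A[X])
    (h : derivative f * p₁ + f * p₂ = 1) : Algebra.Etale A (AdjoinRoot f) := by
  let P : StandardEtalePair A := ⟨f, hf, 1, p₁, p₂, 0, by rw [pow_zero]; exact h⟩
  have e1 : P.Ring ≃ₐ[A] Localization.Away (AdjoinRoot.mk P.f P.g) := P.equivAwayAdjoinRoot
  have hg : AdjoinRoot.mk P.f P.g = 1 := map_one _
  have e2 : AdjoinRoot f ≃ₐ[AdjoinRoot f] Localization.Away (AdjoinRoot.mk P.f P.g) :=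
    IsLocalization.atUnits (AdjoinRoot f) (Submonoid.powers (AdjoinRoot.mk P.f P.g)) (by
      rw [hg]
      rintro x ⟨k, rfl⟩
      simp)
  exact Algebra.Etale.of_equiv (e1.trans (e2.restrictScalars A).symm)

theorem algebraMap_injective (f : A[X]) (hf : f.Monic) (hdeg : 0 < f.natDegree) :
    Function.Injective (algebraMap A (AdjoinRoot f)) := by
  rw [injective_iff_map_eq_zero]
  intro x hx
  by_contra hne
  have h0 : (C x : A[X]) ≠ 0 := by rwa [Ne, C_eq_zero]
  have := AdjoinRoot.mk_ne_zero_of_natDegree_lt hf h0 (by rw [natDegree_C]; exact hdeg)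
  exact this hx

theorem isUnit_of_isUnit_algebraMap (f : A[X]) (hf : f.Monic) (hdeg : 0 < f.natDegree) (x : A)
    (hx : IsUnit (algebraMap A (AdjoinRoot f) x)) : IsUnit x := by
  haveI := hf.finite_adjoinRoot
  haveI : FaithfulSMul A (AdjoinRoot f) :=
    (faithfulSMul_iff_algebraMap_injective A (AdjoinRoot f)).mpr (algebraMap_injective f hf hdeg)
  haveI : Algebra.IsIntegral A (AdjoinRoot f) := Algebra.IsIntegral.of_finite A (AdjoinRoot f)
  exact IsUnit.of_map (algebraMap A (AdjoinRoot f)) x hx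

end Groth.Agent.Helper4.AdjoinRootEtale
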