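import Mathlib

set_option autoImplicit false
universe u

namespace Groth.Agent.Helper4.BranchLen

open PowerSeries

section General

variable {K : Type*} [Field K] {M : Type*} [AddCommGroup M] [Module K M]

/-- the canonical surjection `M/N → M/N'` for `N ≤ N'`. -/
noncomputable def qmap (N N' : Submodule K M) (h : N ≤ N') : (M ⧸ N) →ₗ[K] (M ⧸ N') :=
  Submodule.mapQ N N' LinearMap.id (by simpa using h)

theorem qmap_mk (N N' : Submodule K M) (h : N ≤ N') (x : M) :
    qmap N N' h (Submodule.Quotient.mk x) = Submodule.Quotient.mk x := rfl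

theorem qmap_surjective (N N' : Submodule K M) (h : N ≤ N') :
    Function.Surjective (qmap N N' h) := by
  intro y
  obtain ⟨x, rfl⟩ := Submodule.Quotient.mk_surjective _ y
  exact ⟨Submodule.Quotient.mk x, rfl⟩

theorem finite_of_le (N N' : Submodule K M) (h : N ≤ N') [Module.Finite K (M ⧸ N)] :
    Module.Finite K (M ⧸ N') :=
  Module.Finite.of_surjective (qmap N N' h) (qmap_surjective N N' h)

theorem finrank_le_of_le (N N' : Submodule K M) (h : N ≤ N') [Module.Finite K (M ⧸ N)] :
    Module.finrank K (M ⧸ N') ≤ Module.finrank K (M ⧸ N) :=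
  LinearMap.finrank_le_finrank_of_surjective (qmap_surjective N N' h)

theorem le_of_finrank_eq (N N' : Submodule K M) (h : N ≤ N') [Module.Finite K (M ⧸ N)]
    (he : Module.finrank K (M ⧸ N) = Module.finrank K (M ⧸ N')) : N' ≤ N := by
  haveI := finite_of_le N N' h
  have hinj : Function.Injective (qmap N N' h) :=
    (LinearMap.injective_iff_surjective_of_finrank_eq_finrank he).mpr (qmap_surjective N N' h)
  intro x hx
  have h0 : qmap N N' h (Submodule.Quotient.mk x) = 0 := by
    rw [qmap_mk]
    exact (Submodule.Quotient.mk_eq_zero _).mpr hx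
  have h1 : (Submodule.Quotient.mk x : M ⧸ N) = 0 := hinj (by rw [h0, map_zero])
  exact (Submodule.Quotient.mk_eq_zero _).mp h1

/-- additivity: for `N ≤ N'` and a linear map `θ : W → M/N` with range `ker (M/N → M/N')`. -/
theorem finrank_eq_add (N N' : Submodule K M) (h : N ≤ N') [Module.Finite K (M ⧸ N)]
    {W : Type*} [AddCommGroup W] [Module K W] (θ : W →ₗ[K] (M ⧸ N))
    (hθ : LinearMap.range θ = LinearMap.ker (qmap N N' h)) :
    Module.finrank K (M ⧸ N) =
      Module.finrank K (M ⧸ N') + Module.finrank K (W ⧸ LinearMap.ker θ) := by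
  have h1 := LinearMap.finrank_range_add_finrank_ker (qmap N N' h)
  have h2 : LinearMap.range (qmap N N' h) = ⊤ :=
    LinearMap.range_eq_top.mpr (qmap_surjective N N' h)
  rw [h2, finrank_top] at h1
  rw [← h1, ← hθ, (LinearMap.quotKerEquivRange θ).finrank_eq]

end General

section PS

variable {k : Type u} [Field k] {s : ℕ}

theorem le_order_iff (φ : PowerSeries k) (n : ℕ) :
    (n : ℕ∞) ≤ φ.order ↔ ∀ i < n, coeff i φ = 0 :=
  ⟨fun h i hi => coeff_of_lt_order i (lt_of_lt_of_le (by exact_mod_cast hi) h),
    nat_le_order φ n⟩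

/-- truncation below the exponents `b`. -/
noncomputable def trunc (b : Fin s → ℕ) :
    (Fin s → PowerSeries k) →ₗ[k] ((i : Fin s) → (Fin (b i) → k)) :=
  LinearMap.pi fun i => LinearMap.pi fun j =>
    (coeff (R := k) (j : ℕ)).comp (LinearMap.proj i)

theorem trunc_apply (b : Fin s → ℕ) (g : Fin s → PowerSeries k) (i : Fin s) (j : Fin (b i)) :
    trunc b g i j = coeff (j : ℕ) (g i) := rfl

theorem mem_ker_trunc (b : Fin s → ℕ) (g : Fin s → PowerSeries k) :
    g ∈ LinearMap.ker (trunc (k := k) b) ↔ ∀ i, ((b i : ℕ) : ℕ∞) ≤ (g i).order := by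
  rw [LinearMap.mem_ker]
  constructor
  · intro h i
    rw [le_order_iff]
    intro j hj
    have := congrFun (congrFun h i) ⟨j, hj⟩
    simpa [trunc_apply] using this
  · intro h
    funext i j
    rw [trunc_apply]
    exact (le_order_iff _ _).mp (h i) j j.2

theorem trunc_surjective (b : Fin s → ℕ) : Function.Surjective (trunc (k := k) b) := by
  intro t
  refine ⟨fun i => PowerSeries.mk fun n => if h : n < b i then t i ⟨n, h⟩ else 0, ?_⟩
  funext i j
  rw [trunc_apply, coeff_mk, dif_pos j.2]

theorem finite_quot_ker_trunc (b : Fin s → ℕ) :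
    Module.Finite k ((Fin s → PowerSeries k) ⧸ LinearMap.ker (trunc (k := k) b)) :=
  Module.Finite.equiv ((trunc (k := k) b).quotKerEquivOfSurjective (trunc_surjective b)).symm

theorem finrank_quot_ker_trunc (b : Fin s → ℕ) :
    Module.finrank k ((Fin s → PowerSeries k) ⧸ LinearMap.ker (trunc (k := k) b)) = ∑ i, b i := by
  rw [((trunc (k := k) b).quotKerEquivOfSurjective (trunc_surjective b)).finrank_eq,
    Module.finrank_pi_fintype]
  simp

end PS

end Groth.Agent.Helper4.BranchLen
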