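import Mathlib
import Groth.Agent.Lib.Helper4.BranchLen

set_option autoImplicit false
universe u

namespace Groth.Agent.Helper4.BranchLen

open PowerSeries

variable {k : Type u} [Field k] {s : ℕ}

/-- image of an ideal of the subalgebra as a `k`-submodule of the ambient product -/
noncomputable def img (R : Subalgebra k (Fin s → PowerSeries k)) (I : Ideal ↥R) :
    Submodule k (Fin s → PowerSeries k) :=
  Submodule.map R.val.toLinearMap (I.restrictScalars k)

theorem mem_img (R : Subalgebra k (Fin s → PowerSeries k)) (I : Ideal ↥R)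
    (g : Fin s → PowerSeries k) : g ∈ img R I ↔ ∃ hgR : g ∈ R, (⟨g, hgR⟩ : ↥R) ∈ I := by
  constructor
  · rintro ⟨r, hr, rfl⟩
    exact ⟨r.2, hr⟩
  · rintro ⟨hgR, hg⟩
    exact ⟨⟨g, hgR⟩, hg, rfl⟩

theorem img_le (R : Subalgebra k (Fin s → PowerSeries k)) (I : Ideal ↥R) :
    img R I ≤ Subalgebra.toSubmodule R := by
  intro g hg
  obtain ⟨hgR, -⟩ := (mem_img R I g).mp hg
  exact hgR

/-- the map `R → Õ/I'`. -/
noncomputable def theta (R : Subalgebra k (Fin s → PowerSeries k)) (I : Ideal ↥R) :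
    ↥R →ₗ[k] ((Fin s → PowerSeries k) ⧸ img R I) :=
  (img R I).mkQ.comp R.val.toLinearMap

theorem ker_theta (R : Subalgebra k (Fin s → PowerSeries k)) (I : Ideal ↥R) :
    LinearMap.ker (theta R I) = I.restrictScalars k := by
  ext r
  rw [LinearMap.mem_ker]
  show Submodule.Quotient.mk (r : Fin s → PowerSeries k) = 0 ↔ _
  rw [Submodule.Quotient.mk_eq_zero, mem_img]
  constructor
  · rintro ⟨_, h⟩
    exact h
  · intro h
    exact ⟨r.2, h⟩

theorem range_theta (R : Subalgebra k (Fin s → PowerSeries k)) (I : Ideal ↥R) :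
    LinearMap.range (theta R I) =
      LinearMap.ker (qmap (img R I) (Subalgebra.toSubmodule R) (img_le R I)) := by
  ext y
  constructor
  · rintro ⟨r, rfl⟩
    rw [LinearMap.mem_ker]
    show qmap _ _ _ (Submodule.Quotient.mk (r : Fin s → PowerSeries k)) = 0
    rw [qmap_mk, Submodule.Quotient.mk_eq_zero]
    exact r.2
  · intro hy
    obtain ⟨x, rfl⟩ := Submodule.Quotient.mk_surjective _ y
    rw [LinearMap.mem_ker, qmap_mk, Submodule.Quotient.mk_eq_zero] at hy
    exact ⟨⟨x, hy⟩, rfl⟩

theorem main (R : Subalgebra k (Fin s → PowerSeries k))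
    (c : Fin s → ℕ)
    (hc : ∀ f : Fin s → PowerSeries k,
      (∀ g : Fin s → PowerSeries k, g * f ∈ R) ↔ ∀ i, ((c i : ℕ) : ℕ∞) ≤ (f i).order)
    (I : Ideal ↥R) (a : Fin s → ℕ)
    (ha : (∀ i : Fin s, Ideal.map ((Pi.evalAlgHom k (fun _ : Fin s => PowerSeries k) i).comp R.val) I
      = Ideal.span {PowerSeries.X ^ (a i)}))
    (h1 : ∀ g : Fin s → PowerSeries k, (∀ i : Fin s, ((a i + c i : ℕ) : ℕ∞) ≤ (g i).order) →
      ∃ hgR : g ∈ R, (⟨g, hgR⟩ : ↥R) ∈ I)
    (h2 : ∀ f ∈ I, ∀ i : Fin s, ((a i : ℕ) : ℕ∞) ≤ ((f : Fin s → PowerSeries k) i).order) :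
    (∑ i, a i) ≤ Module.finrank k (↥R ⧸ I) +
        Module.finrank k ((Fin s → PowerSeries k) ⧸ Subalgebra.toSubmodule R) ∧
    Module.finrank k (↥R ⧸ I) +
        Module.finrank k ((Fin s → PowerSeries k) ⧸ Subalgebra.toSubmodule R) ≤
      (∑ i, a i) + ∑ i, c i ∧
    (R ≠ ⊤ → Module.finrank k (↥R ⧸ I) +
        Module.finrank k ((Fin s → PowerSeries k) ⧸ Subalgebra.toSubmodule R) <
      (∑ i, a i) + ∑ i, c i) := by
  classical
  set I' := img R I with hI'
  set Fa := LinearMap.ker (trunc (k := k) a) with hFa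
  set Fac := LinearMap.ker (trunc (k := k) (fun i => a i + c i)) with hFac
  have hle1 : Fac ≤ I' := by
    intro g hg
    rw [hFac, mem_ker_trunc] at hg
    exact (mem_img R I g).mpr (h1 g hg)
  have hle2 : I' ≤ Fa := by
    intro g hg
    obtain ⟨hgR, hgI⟩ := (mem_img R I g).mp hg
    rw [hFa, mem_ker_trunc]
    exact h2 ⟨g, hgR⟩ hgI
  haveI hfin1 : Module.Finite k ((Fin s → PowerSeries k) ⧸ Fac) := finite_quot_ker_trunc _
  haveI hfin2 : Module.Finite k ((Fin s → PowerSeries k) ⧸ I') := finite_of_le Fac I' hle1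
  have e1 : Module.finrank k ((Fin s → PowerSeries k) ⧸ Fa) = ∑ i, a i := finrank_quot_ker_trunc a
  have e2 : Module.finrank k ((Fin s → PowerSeries k) ⧸ Fac) = (∑ i, a i) + ∑ i, c i := by
    rw [hFac, finrank_quot_ker_trunc, Finset.sum_add_distrib]
  have hA : Module.finrank k ((Fin s → PowerSeries k) ⧸ Fa) ≤
      Module.finrank k ((Fin s → PowerSeries k) ⧸ I') := finrank_le_of_le I' Fa hle2
  have hB : Module.finrank k ((Fin s → PowerSeries k) ⧸ I') ≤
      Module.finrank k ((Fin s → PowerSeries k) ⧸ Fac) := finrank_le_of_le Fac I' hle1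
  have hsum : Module.finrank k ((Fin s → PowerSeries k) ⧸ I') =
      Module.finrank k ((Fin s → PowerSeries k) ⧸ Subalgebra.toSubmodule R) +
        Module.finrank k (↥R ⧸ I) := by
    have h := finrank_eq_add I' (Subalgebra.toSubmodule R) (img_le R I) (theta R I)
      (range_theta R I)
    rw [h]
    congr 1
    rw [ker_theta]
    exact (Submodule.Quotient.restrictScalarsEquiv k I).finrank_eq
  refine ⟨by omega, by omega, ?_⟩
  intro hR
  rcases lt_or_eq_of_le hB with hlt | heq
  · omega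
  · exfalso
    have hle3 : I' ≤ Fac := le_of_finrank_eq Fac I' hle1 heq.symm
    have hc0 : ∀ i, c i = 0 := by
      intro i
      have hJ : Ideal.map ((Pi.evalAlgHom k (fun _ : Fin s => PowerSeries k) i).comp R.val) I ≤
          Ideal.span {PowerSeries.X ^ (a i + c i)} := by
        rw [Ideal.map_le_iff_le_comap]
        intro f hf
        rw [Ideal.mem_comap, Ideal.mem_span_singleton, PowerSeries.X_pow_dvd_iff]
        have hmem : (f : Fin s → PowerSeries k) ∈ Fac :=
          hle3 ((mem_img R I _).mpr ⟨f.2, hf⟩)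
        rw [hFac, mem_ker_trunc] at hmem
        exact (le_order_iff _ _).mp (hmem i)
      have hX : (PowerSeries.X : PowerSeries k) ^ (a i) ∈
          Ideal.span {(PowerSeries.X : PowerSeries k) ^ (a i + c i)} := by
        apply hJ
        rw [ha i]
        exact Ideal.subset_span rfl
      rw [Ideal.mem_span_singleton] at hX
      have hord := PowerSeries.order_X_pow (R := k) (a i)
      have hle : ((a i + c i : ℕ) : ℕ∞) ≤ ((PowerSeries.X : PowerSeries k) ^ (a i)).order := by
        rw [le_order_iff]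
        exact PowerSeries.X_pow_dvd_iff.mp hX
      rw [hord] at hle
      have : a i + c i ≤ a i := by exact_mod_cast hle
      omega
    apply hR
    rw [eq_top_iff]
    intro g _
    have := (hc 1).mpr (fun i => by rw [hc0 i]; simp)
    simpa using this g
end Groth.Agent.Helper4.BranchLen
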