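import Mathlib
import Groth.Agent.Lib.Helper4.BranchLen2

set_option autoImplicit false
universe u

namespace Groth.Agent.Helper4.BranchLen

open PowerSeries

section General2

variable {K : Type*} [Field K] {M : Type*} [AddCommGroup M] [Module K M]

theorem finite_and_finrank_map (φ : M →ₗ[K] M) (hφ : Function.Injective φ) (N : Submodule K M)
    [Module.Finite K (M ⧸ N)] [Module.Finite K (M ⧸ LinearMap.range φ)] :
    Module.Finite K (M ⧸ N.map φ) ∧
      Module.finrank K (M ⧸ N.map φ) =
        Module.finrank K (M ⧸ LinearMap.range φ) + Module.finrank K (M ⧸ N) := by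
  have hle : N.map φ ≤ LinearMap.range φ := by
    rintro _ ⟨x, -, rfl⟩
    exact ⟨x, rfl⟩
  let θ : M →ₗ[K] (M ⧸ N.map φ) := (N.map φ).mkQ.comp φ
  have hker : LinearMap.ker θ = N := by
    ext x
    rw [LinearMap.mem_ker]
    show Submodule.Quotient.mk (φ x) = 0 ↔ _
    rw [Submodule.Quotient.mk_eq_zero]
    constructor
    · rintro ⟨n, hn, hnx⟩
      rw [← hφ hnx]; exact hn
    · intro hx
      exact ⟨x, hx, rfl⟩
  have hrange : LinearMap.range θ = LinearMap.ker (qmap (N.map φ) (LinearMap.range φ) hle) := by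
    ext y
    constructor
    · rintro ⟨x, rfl⟩
      rw [LinearMap.mem_ker]
      show qmap _ _ _ (Submodule.Quotient.mk (φ x)) = 0
      rw [qmap_mk, Submodule.Quotient.mk_eq_zero]
      exact ⟨x, rfl⟩
    · intro hy
      obtain ⟨m, rfl⟩ := Submodule.Quotient.mk_surjective _ y
      rw [LinearMap.mem_ker, qmap_mk, Submodule.Quotient.mk_eq_zero] at hy
      obtain ⟨x, rfl⟩ := hy
      exact ⟨x, rfl⟩
  have hfinM : Module.Finite K (M ⧸ N.map φ) := by
    have hq : Function.Surjective (qmap (N.map φ) (LinearMap.range φ) hle) :=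
      qmap_surjective _ _ hle
    haveI : Module.Finite K (LinearMap.ker (qmap (N.map φ) (LinearMap.range φ) hle)) := by
      have hNle : N ≤ LinearMap.ker θ := hker.ge
      have hr : LinearMap.range (N.liftQ θ hNle) =
          LinearMap.ker (qmap (N.map φ) (LinearMap.range φ) hle) := by
        rw [← hrange]
        exact Submodule.range_liftQ N θ hNle
      rw [← hr]
      infer_instance
    haveI : Module.Finite K ((M ⧸ N.map φ) ⧸
        LinearMap.ker (qmap (N.map φ) (LinearMap.range φ) hle)) :=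
      Module.Finite.equiv
        ((qmap (N.map φ) (LinearMap.range φ) hle).quotKerEquivOfSurjective hq).symm
    exact Module.Finite.of_submodule_quotient
      (LinearMap.ker (qmap (N.map φ) (LinearMap.range φ) hle))
  refine ⟨hfinM, ?_⟩
  have h := finrank_eq_add (N.map φ) (LinearMap.range φ) hle θ hrange
  rw [h, hker]

end General2

section PS3

variable {k : Type u} [Field k] {s : ℕ}

theorem le_order_iff_dvd (φ : PowerSeries k) (n : ℕ) :
    (n : ℕ∞) ≤ φ.order ↔ (PowerSeries.X : PowerSeries k) ^ n ∣ φ := by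
  rw [le_order_iff, PowerSeries.X_pow_dvd_iff]

noncomputable def xi (j : Fin s) : Fin s → PowerSeries k := Pi.mulSingle j PowerSeries.X

theorem xi_same (j : Fin s) : xi (k := k) j j = PowerSeries.X := Pi.mulSingle_eq_same j _

theorem xi_ne (j : Fin s) {i : Fin s} (h : i ≠ j) : xi (k := k) j i = 1 :=
  Pi.mulSingle_eq_of_ne h _

theorem xi_ne_zero (j i : Fin s) : xi (k := k) j i ≠ 0 := by
  by_cases h : i = j
  · subst h; rw [xi_same]; exact PowerSeries.X_ne_zero
  · rw [xi_ne j h]; exact one_ne_zero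

noncomputable def mxi (j : Fin s) :
    (Fin s → PowerSeries k) →ₗ[k] (Fin s → PowerSeries k) :=
  LinearMap.mulLeft k (xi j)

theorem mxi_apply (j : Fin s) (f : Fin s → PowerSeries k) : mxi (k := k) j f = xi j * f := rfl

theorem mxi_injective (j : Fin s) : Function.Injective (mxi (k := k) j) := by
  intro f g h
  funext i
  have hi := congrFun h i
  simp only [mxi_apply, Pi.mul_apply] at hi
  exact mul_left_cancel₀ (xi_ne_zero j i) hi

theorem range_mxi (j : Fin s) :
    LinearMap.range (mxi (k := k) j) = LinearMap.ker (trunc (k := k) (Pi.single j 1)) := by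
  ext g
  rw [mem_ker_trunc]
  constructor
  · rintro ⟨f, rfl⟩ i
    by_cases h : i = j
    · subst h
      rw [Pi.single_eq_same, mxi_apply, Pi.mul_apply, xi_same, le_order_iff_dvd, pow_one]
      exact Dvd.intro _ rfl
    · rw [Pi.single_eq_of_ne h]; simp
  · intro hg
    have hj := hg j
    rw [Pi.single_eq_same, le_order_iff_dvd, pow_one] at hj
    obtain ⟨h, hh⟩ := hj
    refine ⟨Function.update g j h, ?_⟩
    funext i
    rw [mxi_apply, Pi.mul_apply]
    by_cases hi : i = j
    · subst hi; rw [xi_same, Function.update_self, hh]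
    · rw [xi_ne j hi, Function.update_of_ne hi, one_mul]

theorem xi_mul_mem_iff (R : Subalgebra k (Fin s → PowerSeries k)) (c : Fin s → ℕ)
    (hc : ∀ f : Fin s → PowerSeries k,
      (∀ g : Fin s → PowerSeries k, g * f ∈ R) ↔ ∀ i, ((c i : ℕ) : ℕ∞) ≤ (f i).order)
    (j : Fin s) (f : Fin s → PowerSeries k) (hf : ((c j : ℕ) : ℕ∞) ≤ (f j).order) :
    xi j * f ∈ R ↔ f ∈ R := by
  have h0 : ∀ g : Fin s → PowerSeries k, g * (Pi.single j (f j)) ∈ R := by
    apply (hc _).mpr
    intro i
    by_cases h : i = j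
    · subst h; rw [Pi.single_eq_same]; exact hf
    · rw [Pi.single_eq_of_ne h]; simp
  have heq : xi j * f = f + (Pi.single j (PowerSeries.X - 1)) * (Pi.single j (f j)) := by
    funext i
    by_cases h : i = j
    · subst h
      simp only [Pi.mul_apply, Pi.add_apply, xi_same, Pi.single_eq_same]
      ring
    · simp only [Pi.mul_apply, Pi.add_apply, xi_ne j h, Pi.single_eq_of_ne h]
      ring
  rw [heq]
  constructor
  · intro h
    have := R.sub_mem h (h0 (Pi.single j (PowerSeries.X - 1)))
    simpa using this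
  · intro h
    exact R.add_mem h (h0 _)

section Rel

variable (R : Subalgebra k (Fin s → PowerSeries k)) (j : Fin s) (I J : Ideal ↥R)
  (h1 : ∀ r ∈ J, ∃ f ∈ I, (r : Fin s → PowerSeries k) = xi j * (f : Fin s → PowerSeries k))
  (h2 : ∀ f ∈ I, ∃ r ∈ J, (r : Fin s → PowerSeries k) = xi j * (f : Fin s → PowerSeries k))

include h1 h2

theorem img_eq_map : img R J = (img R I).map (mxi j) := by
  ext g
  rw [mem_img, Submodule.mem_map]
  constructor
  · rintro ⟨hgR, hg⟩
    obtain ⟨f, hf, hgf⟩ := h1 ⟨g, hgR⟩ hg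
    exact ⟨f.1, (mem_img R I _).mpr ⟨f.2, hf⟩, hgf.symm⟩
  · rintro ⟨y, hy, rfl⟩
    obtain ⟨hyR, hyI⟩ := (mem_img R I y).mp hy
    obtain ⟨r, hr, hry⟩ := h2 ⟨y, hyR⟩ hyI
    have e : mxi j y = (r : Fin s → PowerSeries k) := by rw [mxi_apply]; exact hry.symm
    rw [e]
    exact ⟨r.2, hr⟩

theorem map_eval_eq (i : Fin s) :
    Ideal.map ((Pi.evalAlgHom k (fun _ : Fin s => PowerSeries k) i).comp R.val) J =
      Ideal.span {xi j i} *
        Ideal.map ((Pi.evalAlgHom k (fun _ : Fin s => PowerSeries k) i).comp R.val) I := by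
  have hφa : ∀ r : ↥R, ((Pi.evalAlgHom k (fun _ : Fin s => PowerSeries k) i).comp R.val) r =
      (r : Fin s → PowerSeries k) i := fun r => rfl
  apply le_antisymm
  · rw [Ideal.map_le_iff_le_comap]
    intro r hr
    obtain ⟨f, hf, hrf⟩ := h1 r hr
    rw [Ideal.mem_comap, hφa, hrf, Pi.mul_apply]
    exact Ideal.mul_mem_mul (Ideal.mem_span_singleton_self _)
      (Ideal.mem_map_of_mem ((Pi.evalAlgHom k (fun _ : Fin s => PowerSeries k) i).comp R.val) hf)
  · rw [Ideal.span_singleton_mul_le_iff]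
    intro z hz
    refine Submodule.span_induction
      (p := fun z _ => xi j i * z ∈
        Ideal.map ((Pi.evalAlgHom k (fun _ : Fin s => PowerSeries k) i).comp R.val) J)
      ?_ ?_ ?_ ?_ hz
    · rintro _ ⟨f, hf, rfl⟩
      obtain ⟨r, hr, hrf⟩ := h2 f hf
      have : xi j i * ((Pi.evalAlgHom k (fun _ : Fin s => PowerSeries k) i).comp R.val) f =
          ((Pi.evalAlgHom k (fun _ : Fin s => PowerSeries k) i).comp R.val) r := by
        rw [hφa, hφa, hrf, Pi.mul_apply]
      rw [this]
      exact Ideal.mem_map_of_mem _ hr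
    · rw [mul_zero]; exact Submodule.zero_mem _
    · intro x y _ _ hx hy
      rw [mul_add]; exact Submodule.add_mem _ hx hy
    · intro t x _ hx
      rw [smul_eq_mul, mul_left_comm]; exact Ideal.mul_mem_left _ t hx

theorem image_eq :
    (Subtype.val '' (J : Set ↥R)) =
      (fun f => Pi.mulSingle j PowerSeries.X * f) '' (Subtype.val '' (I : Set ↥R)) := by
  ext g
  constructor
  · rintro ⟨r, hr, rfl⟩
    obtain ⟨f, hf, hrf⟩ := h1 r hr
    exact ⟨f.1, ⟨f, hf, rfl⟩, hrf.symm⟩
  · rintro ⟨_, ⟨f, hf, rfl⟩, rfl⟩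
    obtain ⟨r, hr, hrf⟩ := h2 f hf
    exact ⟨r, hr, hrf⟩

end Rel

theorem finrank_img (R : Subalgebra k (Fin s → PowerSeries k)) (I : Ideal ↥R)
    [Module.Finite k ((Fin s → PowerSeries k) ⧸ img R I)] :
    Module.Finite k (↥R ⧸ I) ∧
    Module.finrank k ((Fin s → PowerSeries k) ⧸ img R I) =
      Module.finrank k ((Fin s → PowerSeries k) ⧸ Subalgebra.toSubmodule R) +
        Module.finrank k (↥R ⧸ I) := by
  constructor
  · have e1 : (↥R ⧸ LinearMap.ker (theta R I)) ≃ₗ[k] LinearMap.range (theta R I) :=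
      LinearMap.quotKerEquivRange (theta R I)
    haveI : Module.Finite k (↥R ⧸ LinearMap.ker (theta R I)) := Module.Finite.equiv e1.symm
    have hk := ker_theta R I
    haveI : Module.Finite k (↥R ⧸ I.restrictScalars k) := by rw [← hk]; infer_instance
    exact Module.Finite.equiv (Submodule.Quotient.restrictScalarsEquiv k I)
  · have h := finrank_eq_add (img R I) (Subalgebra.toSubmodule R) (img_le R I) (theta R I)
      (range_theta R I)
    rw [h]
    congr 1
    rw [ker_theta]
    exact (Submodule.Quotient.restrictScalarsEquiv k I).finrank_eq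

theorem colength_succ (R : Subalgebra k (Fin s → PowerSeries k))
    (j : Fin s) (I J : Ideal ↥R)
    (hIJ : img R J = (img R I).map (mxi j))
    [Module.Finite k ((Fin s → PowerSeries k) ⧸ img R I)] :
    Module.Finite k (↥R ⧸ J) ∧ Module.Finite k (↥R ⧸ I) ∧
      Module.finrank k (↥R ⧸ J) = Module.finrank k (↥R ⧸ I) + 1 := by
  haveI : Module.Finite k ((Fin s → PowerSeries k) ⧸ LinearMap.range (mxi (k := k) j)) := by
    rw [range_mxi]; exact finite_quot_ker_trunc _
  have h1 : Module.finrank k ((Fin s → PowerSeries k) ⧸ LinearMap.range (mxi (k := k) j)) = 1 := by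
    rw [range_mxi, finrank_quot_ker_trunc]
    simp
  obtain ⟨hG1, hG2⟩ := finite_and_finrank_map (mxi (k := k) j) (mxi_injective j) (img R I)
  haveI : Module.Finite k ((Fin s → PowerSeries k) ⧸ img R J) := by rw [hIJ]; exact hG1
  obtain ⟨hJ1, hJ2⟩ := finrank_img R J
  obtain ⟨hI1, hI2⟩ := finrank_img R I
  refine ⟨hJ1, hI1, ?_⟩
  rw [hIJ] at hJ2
  omega

end PS3

end Groth.Agent.Helper4.BranchLen
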