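import Mathlib
import Groth.Agent.Lib.Helper4.BranchLen3

set_option autoImplicit false
universe u

namespace Groth.Agent.Helper4.AlgCurve

open Groth.Agent.Helper4.BranchLen

variable {k : Type u} [Field k] {s : ℕ}

noncomputable def toPS (g : Fin s → Polynomial k) : Fin s → PowerSeries k :=
  fun i => ((g i : Polynomial k) : PowerSeries k)

theorem toPS_mul (p g : Fin s → Polynomial k) : toPS (p * g) = toPS p * toPS g := by
  funext i
  simp [toPS, Polynomial.coe_mul]

section Main

variable (R : Subalgebra k (Fin s → PowerSeries k)) (c : Fin s → ℕ)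
  (hc : ∀ f : Fin s → PowerSeries k,
    (∀ g : Fin s → PowerSeries k, g * f ∈ R) ↔ ∀ i, ((c i : ℕ) : ℕ∞) ≤ (f i).order)
  (A : Subalgebra k (Fin s → Polynomial k))
  (hA : ∀ g : Fin s → Polynomial k, g ∈ A ↔ toPS g ∈ R)

include hc hA

theorem mul_mem_of_dvd (g : Fin s → Polynomial k)
    (hg : ∀ i, (Polynomial.X : Polynomial k) ^ (c i) ∣ g i) (p : Fin s → Polynomial k) :
    p * g ∈ A := by
  rw [hA, toPS_mul]
  apply (hc (toPS g)).mpr
  intro i
  rw [le_order_iff_dvd]
  obtain ⟨q, hq⟩ := hg i
  refine ⟨(q : PowerSeries k), ?_⟩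
  show ((g i : Polynomial k) : PowerSeries k) = _
  rw [hq, Polynomial.coe_mul, Polynomial.coe_pow, Polynomial.coe_X]

theorem mem_of_dvd (g : Fin s → Polynomial k)
    (hg : ∀ i, (Polynomial.X : Polynomial k) ^ (c i) ∣ g i) : g ∈ A := by
  have := mul_mem_of_dvd R c hc A hA g hg 1
  rwa [one_mul] at this

theorem single_mem (i : Fin s) (q : Polynomial k)
    (hq : (Polynomial.X : Polynomial k) ^ (c i) ∣ q) : Pi.single i q ∈ A := by
  apply mem_of_dvd R c hc A hA
  intro i'
  by_cases h : i' = i
  · subst h; rw [Pi.single_eq_same]; exact hq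
  · rw [Pi.single_eq_of_ne h]; exact dvd_zero _

omit hc in
theorem idem (hloc : ∀ f ∈ R, ∀ i j : Fin s,
      PowerSeries.constantCoeff (f i) = PowerSeries.constantCoeff (f j))
    (e : Fin s → Polynomial k) (heA : e ∈ A) (he : e * e = e) : e = 0 ∨ e = 1 := by
  have h01 : ∀ i, e i = 0 ∨ e i = 1 := by
    intro i
    have h1 : e i * e i = e i := congrFun he i
    have h' : e i * (e i - 1) = 0 := by rw [mul_sub, h1, mul_one, sub_self]
    rcases mul_eq_zero.mp h' with h | h
    · exact Or.inl h
    · exact Or.inr (sub_eq_zero.mp h)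
  have hcoef : ∀ i j, (e i).coeff 0 = (e j).coeff 0 := by
    intro i j
    have := hloc (toPS e) ((hA e).mp heA) i j
    simpa [toPS, Polynomial.constantCoeff_coe] using this
  by_cases h : ∃ i, e i = 0
  · obtain ⟨i0, hi0⟩ := h
    left; funext j
    rcases h01 j with hj | hj
    · exact hj
    · exfalso
      have := hcoef i0 j
      rw [hi0, hj] at this
      simp at this
  · right; funext j
    rcases h01 j with hj | hj
    · exact absurd ⟨j, hj⟩ h
    · exact hj

theorem prod_mem : ∃ N : ℕ, ∀ g : Fin N → (Fin s → Polynomial k),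
      (∀ n, g n ∈ A ∧ ∀ i, (g n i).coeff 0 = 0) → ∀ p : Fin s → Polynomial k, p * ∏ n, g n ∈ A := by
  refine ⟨∑ i, c i, fun g hg p => ?_⟩
  apply mul_mem_of_dvd R c hc A hA
  intro i
  have h1 : (Polynomial.X : Polynomial k) ^ (∑ i, c i) ∣ (∏ n, g n) i := by
    rw [Finset.prod_apply]
    have : (Polynomial.X : Polynomial k) ^ (∑ i, c i) =
        ∏ _n : Fin (∑ i, c i), (Polynomial.X : Polynomial k) := by
      rw [Finset.prod_const, Finset.card_univ, Fintype.card_fin]
    rw [this]
    apply Finset.prod_dvd_prod_of_dvd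
    intro n _
    exact Polynomial.X_dvd_iff.mpr ((hg n).2 i)
  exact dvd_trans (pow_dvd_pow _ (Finset.single_le_sum (fun _ _ => Nat.zero_le _)
    (Finset.mem_univ i))) h1

theorem approx (f : Fin s → PowerSeries k) (hf : f ∈ R) (N : ℕ) :
    ∃ g ∈ A, ∀ i : Fin s,
      (N : ℕ∞) ≤ (f i - ((g i : Polynomial k) : PowerSeries k)).order := by
  set m := N + ∑ i, c i with hm
  let g : Fin s → Polynomial k := fun i => PowerSeries.trunc m (f i)
  have hord : ∀ i, (m : ℕ∞) ≤ (f i - ((g i : Polynomial k) : PowerSeries k)).order := by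
    intro i
    rw [le_order_iff]
    intro n hn
    rw [map_sub, PowerSeries.coeff_coe_trunc_of_lt hn, sub_self]
  have hd : f - toPS g ∈ R := by
    have := (hc (f - toPS g)).mpr (fun i => by
      refine le_trans ?_ (hord i)
      have : c i ≤ m := by
        have := Finset.single_le_sum (f := c) (fun _ _ => Nat.zero_le _) (Finset.mem_univ i)
        omega
      exact_mod_cast this) 1
    simpa using this
  refine ⟨g, ?_, fun i => le_trans (by exact_mod_cast Nat.le_add_right _ _) (hord i)⟩
  rw [hA]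
  have := R.sub_mem hf hd
  simpa using this

theorem finite_module : Module.Finite ↥A (Fin s → Polynomial k) := by
  let T : Set (Fin s → Polynomial k) :=
    Set.range (fun p : (Σ i : Fin s, Fin (c i)) =>
      (Pi.single p.1 ((Polynomial.X : Polynomial k) ^ (p.2 : ℕ)) : Fin s → Polynomial k)) ∪ {1}
  have hT : T.Finite := (Set.finite_range _).union (Set.finite_singleton 1)
  have hAmem : ∀ x : Fin s → Polynomial k, x ∈ A → x ∈ Submodule.span ↥A T := by
    intro x hx
    have h1 : (1 : Fin s → Polynomial k) ∈ Submodule.span ↥A T :=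
      Submodule.subset_span (Or.inr rfl)
    have := Submodule.smul_mem _ (⟨x, hx⟩ : ↥A) h1
    have e : (⟨x, hx⟩ : ↥A) • (1 : Fin s → Polynomial k) = x := by
      show x * 1 = x
      rw [mul_one]
    rwa [e] at this
  have key : ∀ (i : Fin s) (q : Polynomial k), Pi.single i q ∈ Submodule.span ↥A T := by
    intro i q
    induction q using Polynomial.induction_on' with
    | add p q hp hq =>
      rw [Pi.single_add]
      exact Submodule.add_mem _ hp hq
    | monomial n a =>
      by_cases hn : n < c i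
      · rw [← Polynomial.smul_X_eq_monomial, Pi.single_smul]
        apply Submodule.smul_of_tower_mem
        apply Submodule.subset_span
        left
        exact ⟨⟨i, ⟨n, hn⟩⟩, rfl⟩
      · apply hAmem
        apply single_mem R c hc A hA
        rw [← Polynomial.C_mul_X_pow_eq_monomial]
        exact Dvd.dvd.mul_left (pow_dvd_pow _ (not_lt.mp hn)) _
  rw [Module.finite_def, Submodule.fg_def]
  refine ⟨T, hT, ?_⟩
  rw [eq_top_iff]
  intro g _
  rw [← Finset.univ_sum_single g]
  exact Submodule.sum_mem _ (fun i _ => key i (g i))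

theorem finiteType : Algebra.FiniteType k ↥A := by
  haveI : Module.Finite (Polynomial k) (Fin s → Polynomial k) := Module.Finite.pi
  have hP : Algebra.FiniteType k (Fin s → Polynomial k) :=
    Algebra.FiniteType.trans (S := Polynomial k) inferInstance inferInstance
  have hfin := finite_module R c hc A hA
  refine ⟨fg_of_fg_of_fg k ↥A (Fin s → Polynomial k) hP.out ?_ Subtype.val_injective⟩
  exact Module.finite_def.mp hfin

theorem pow_mem (N : ℕ) : ∃ M : ℕ, ∀ g : ↥A,
    (∀ i : Fin s, (Polynomial.X : Polynomial k) ^ M ∣ (g : Fin s → Polynomial k) i) →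
      g ∈ (Ideal.span {h : ↥A | ∀ i : Fin s,
        ((h : Fin s → Polynomial k) i).coeff 0 = 0}) ^ N := by
  set C := (∑ i, c i) + 1 with hC
  have hcC : ∀ i, c i ≤ C := by
    intro i
    have := Finset.single_le_sum (f := c) (fun _ _ => Nat.zero_le _) (Finset.mem_univ i)
    omega
  refine ⟨N * C + C, fun g hg => ?_⟩
  choose h hh using hg
  have huA : ∀ i, (Pi.single i ((Polynomial.X : Polynomial k) ^ C) : Fin s → Polynomial k) ∈ A :=
    fun i => single_mem R c hc A hA i _ (pow_dvd_pow _ (hcC i))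
  have hwA : ∀ i, (Pi.single i ((Polynomial.X : Polynomial k) ^ C * h i) :
      Fin s → Polynomial k) ∈ A :=
    fun i => single_mem R c hc A hA i _ (Dvd.dvd.mul_right (pow_dvd_pow _ (hcC i)) _)
  have hu0 : ∀ i, (⟨_, huA i⟩ : ↥A) ∈ (Ideal.span {h : ↥A | ∀ i : Fin s,
        ((h : Fin s → Polynomial k) i).coeff 0 = 0}) := by
    intro i
    apply Ideal.subset_span
    intro i'
    show ((Pi.single i ((Polynomial.X : Polynomial k) ^ C) : Fin s → Polynomial k) i').coeff 0 = 0
    by_cases hi : i' = i
    · subst hi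
      rw [Pi.single_eq_same, Polynomial.coeff_X_pow]
      simp [hC]
    · rw [Pi.single_eq_of_ne hi]; simp
  have hsum : g = ∑ i, (⟨_, huA i⟩ : ↥A) ^ N * (⟨_, hwA i⟩ : ↥A) := by
    apply Subtype.ext
    funext i0
    have e1 : ((∑ i, (⟨_, huA i⟩ : ↥A) ^ N * (⟨_, hwA i⟩ : ↥A) : ↥A) : Fin s → Polynomial k) =
        ∑ i, (Pi.single i ((Polynomial.X : Polynomial k) ^ C) : Fin s → Polynomial k) ^ N *
          (Pi.single i ((Polynomial.X : Polynomial k) ^ C * h i) : Fin s → Polynomial k) := by
      rw [← Subalgebra.coe_val, map_sum]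
      rfl
    rw [e1, Finset.sum_apply, Finset.sum_eq_single i0]
    · rw [Pi.mul_apply, Pi.pow_apply, Pi.single_eq_same, Pi.single_eq_same, hh i0]
      ring
    · intro i _ hi
      rw [Pi.mul_apply, Pi.single_eq_of_ne (Ne.symm hi) , mul_zero]
    · intro hni
      exact absurd (Finset.mem_univ i0) hni
  rw [hsum]
  apply Ideal.sum_mem
  intro i _
  exact Ideal.mul_mem_right _ _ (Ideal.pow_mem_pow (hu0 i) N)

end Main

end Groth.Agent.Helper4.AlgCurve
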