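import Mathlib

/-!
Counting points of the spectrum of a finite-dimensional algebra over a field.
-/

set_option autoImplicit false

namespace Groth.Agent.Helper4.ArtinCount

universe u

variable (k B : Type u) [Field k] [CommRing B] [Algebra k B] [Module.Finite k B]

theorem sum_finrank_quotient_le :
    haveI : IsArtinianRing B := IsArtinianRing.of_finite k B
    ∑ᶠ m : MaximalSpectrum B, Module.finrank k (B ⧸ m.asIdeal) ≤ Module.finrank k B := by
  haveI : IsArtinianRing B := IsArtinianRing.of_finite k B
  haveI : Fintype (MaximalSpectrum B) := Fintype.ofFinite _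
  rw [finsum_eq_sum_of_fintype]
  let e : (B ⧸ nilradical B) ≃ₐ[k] ∀ I : MaximalSpectrum B, B ⧸ I.asIdeal :=
    (IsArtinianRing.quotNilradicalEquivPi B).restrictScalars k
  have h1 : Module.finrank k (B ⧸ nilradical B) =
      ∑ m : MaximalSpectrum B, Module.finrank k (B ⧸ m.asIdeal) := by
    rw [e.toLinearEquiv.finrank_eq, Module.finrank_pi_fintype]
  rw [← h1]
  exact Submodule.finrank_quotient_le ((nilradical B).restrictScalars k)

theorem card_primeSpectrum_le_finrank :
    Finite (PrimeSpectrum B) ∧ Nat.card (PrimeSpectrum B) ≤ Module.finrank k B := by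
  haveI : IsArtinianRing B := IsArtinianRing.of_finite k B
  refine ⟨inferInstance, ?_⟩
  haveI : Fintype (MaximalSpectrum B) := Fintype.ofFinite _
  rw [Nat.card_congr (IsArtinianRing.primeSpectrumEquivMaximalSpectrum (R := B)),
    Nat.card_eq_fintype_card]
  refine le_trans ?_ (sum_finrank_quotient_le k B)
  rw [finsum_eq_sum_of_fintype, Fintype.card_eq_sum_ones]
  apply Finset.sum_le_sum
  intro m _
  haveI : Nontrivial (B ⧸ m.asIdeal) := Ideal.Quotient.nontrivial_iff.mpr m.isMaximal.ne_top
  exact Module.finrank_pos

theorem sum_finrank_quotient_prime_le :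
    ∑ᶠ P : PrimeSpectrum B, Module.finrank k (B ⧸ P.asIdeal) ≤ Module.finrank k B := by
  haveI : IsArtinianRing B := IsArtinianRing.of_finite k B
  refine le_trans (le_of_eq ?_) (sum_finrank_quotient_le k B)
  rw [← finsum_comp_equiv (IsArtinianRing.primeSpectrumEquivMaximalSpectrum (R := B))]
  apply finsum_congr
  intro P
  have h := congrFun (IsArtinianRing.primeSpectrumEquivMaximalSpectrum_comp_asIdeal (R := B)) P
  simp only [Function.comp_apply] at h
  rw [h]

end Groth.Agent.Helper4.ArtinCount
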