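import Mathlib
import Groth.Prelude.Def_W4stkschemesremainderFib

/-!
Infrastructure for degrees of fibres (`BddFib`).
-/

set_option autoImplicit false

open CategoryTheory AlgebraicGeometry Limits

namespace Groth.Agent.Helper4.BddFibLib

universe u

/-- Transfer of finiteness and of the rank bound along a ring isomorphism compatible with the
structure maps. -/
theorem finite_finrank_of_ringEquiv {K A A' : Type u} [CommRing K] [CommRing A] [CommRing A']
    (a : K →+* A) (a' : K →+* A') (e : A ≃+* A') (he : ∀ x, e (a x) = a' x) (n : ℕ)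
    (h : @Module.Finite K A _ _ a.toAlgebra.toModule ∧
      @Module.finrank K A _ _ a.toAlgebra.toModule ≤ n) :
    @Module.Finite K A' _ _ a'.toAlgebra.toModule ∧
      @Module.finrank K A' _ _ a'.toAlgebra.toModule ≤ n := by
  letI := a.toAlgebra
  letI := a'.toAlgebra
  let E : A ≃ₐ[K] A' := { e with commutes' := he }
  haveI := h.1
  exact ⟨Module.Finite.equiv E.toLinearEquiv, by rw [← E.toLinearEquiv.finrank_eq]; exact h.2⟩

theorem finite_finrank_of_ringEquiv' {K A A' : Type u} [CommRing K] [CommRing A] [CommRing A']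
    [Algebra K A] [Algebra K A'] (e : A ≃+* A')
    (he : ∀ x, e (algebraMap K A x) = algebraMap K A' x) (n : ℕ)
    (h : Module.Finite K A ∧ Module.finrank K A ≤ n) :
    Module.Finite K A' ∧ Module.finrank K A' ≤ n := by
  let E : A ≃ₐ[K] A' := { e with commutes' := he }
  haveI := h.1
  exact ⟨Module.Finite.equiv E.toLinearEquiv, by rw [← E.toLinearEquiv.finrank_eq]; exact h.2⟩

open scoped TensorProduct in
theorem finite_finrank_includeRight (K B k : Type u) [Field K] [CommRing B] [Field k]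
    [Algebra K B] [Algebra K k] (n : ℕ) (h : Module.Finite K B ∧ Module.finrank K B ≤ n) :
    @Module.Finite k (B ⊗[K] k) _ _
      ((Algebra.TensorProduct.includeRight (R := K) (A := B) (B := k)).toRingHom.toAlgebra).toModule ∧
    @Module.finrank k (B ⊗[K] k) _ _
      ((Algebra.TensorProduct.includeRight (R := K) (A := B) (B := k)).toRingHom.toAlgebra).toModule
        ≤ n := by
  haveI := h.1
  letI : Algebra k (B ⊗[K] k) :=
    (Algebra.TensorProduct.includeRight (R := K) (A := B) (B := k)).toRingHom.toAlgebra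
  refine finite_finrank_of_ringEquiv' (K := k) (A := k ⊗[K] B) (A' := B ⊗[K] k)
    (Algebra.TensorProduct.comm K k B).toRingEquiv ?_ n ⟨inferInstance, ?_⟩
  · intro x
    show (Algebra.TensorProduct.comm K k B) (x ⊗ₜ[K] (1 : B)) = (1 : B) ⊗ₜ[K] x
    rfl
  · rw [Module.finrank_baseChange]
    exact h.2

theorem finiteOfDegLE_iff (K : CommRingCat.{u}) {T : Scheme.{u}} (p : T ⟶ Spec K) (n : ℕ) :
    BddFib.FiniteOfDegLE K p n ↔ IsAffine T ∧
      @Module.Finite K Γ(T, ⊤) _ _ (((Scheme.ΓSpecIso K).inv ≫ p.appTop).hom.toAlgebra).toModule ∧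
      @Module.finrank K Γ(T, ⊤) _ _
        (((Scheme.ΓSpecIso K).inv ≫ p.appTop).hom.toAlgebra).toModule ≤ n :=
  Iff.rfl

/-- Invariance under isomorphism over `Spec K`. -/
theorem finiteOfDegLE_of_iso (K : CommRingCat.{u}) {T T' : Scheme.{u}} (p : T ⟶ Spec K)
    (p' : T' ⟶ Spec K) (e : T ≅ T') (he : e.hom ≫ p' = p) (n : ℕ)
    (h : BddFib.FiniteOfDegLE K p' n) : BddFib.FiniteOfDegLE K p n := by
  rw [finiteOfDegLE_iff] at h ⊢
  obtain ⟨haff, h2⟩ := h
  refine ⟨IsAffine.of_isIso e.hom, ?_⟩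
  let E : Γ(T', ⊤) ≅ Γ(T, ⊤) := ⟨e.hom.appTop, e.inv.appTop,
    by rw [← Scheme.Hom.comp_appTop, e.inv_hom_id, Scheme.Hom.id_appTop],
    by rw [← Scheme.Hom.comp_appTop, e.hom_inv_id, Scheme.Hom.id_appTop]⟩
  refine finite_finrank_of_ringEquiv _ _ E.commRingCatIsoToRingEquiv ?_ n h2
  intro x
  show (e.hom.appTop).hom ((((Scheme.ΓSpecIso K).inv ≫ p'.appTop).hom) x) =
    ((Scheme.ΓSpecIso K).inv ≫ p.appTop).hom x
  rw [← he, Scheme.Hom.comp_appTop]
  rfl

/-- The `Spec` case. -/
theorem finiteOfDegLE_SpecMap_iff (K B : CommRingCat.{u}) (ψ : K ⟶ B) (n : ℕ) :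
    BddFib.FiniteOfDegLE K (Spec.map ψ) n ↔
      @Module.Finite K B _ _ ψ.hom.toAlgebra.toModule ∧
        @Module.finrank K B _ _ ψ.hom.toAlgebra.toModule ≤ n := by
  rw [finiteOfDegLE_iff]
  have hnat : (Scheme.ΓSpecIso K).inv ≫ (Spec.map ψ).appTop ≫ (Scheme.ΓSpecIso B).hom = ψ := by
    rw [Scheme.ΓSpecIso_naturality, Iso.inv_hom_id_assoc]
  constructor
  · rintro ⟨_, h2⟩
    refine finite_finrank_of_ringEquiv _ _ (Scheme.ΓSpecIso B).commRingCatIsoToRingEquiv ?_ n h2
    intro x
    exact congrArg (fun f => f.hom x) hnat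
  · intro h2
    refine ⟨inferInstance, ?_⟩
    refine finite_finrank_of_ringEquiv _ _ (Scheme.ΓSpecIso B).symm.commRingCatIsoToRingEquiv ?_ n h2
    intro x
    have h3 : ψ ≫ (Scheme.ΓSpecIso B).inv = (Scheme.ΓSpecIso K).inv ≫ (Spec.map ψ).appTop := by
      rw [← hnat]; simp
    exact congrArg (fun f => f.hom x) h3

open scoped TensorProduct in
/-- Base change of `FiniteOfDegLE` along a field extension. -/
theorem finiteOfDegLE_baseChange (K k : Type u) [Field K] [Field k]
    (φ : CommRingCat.of K ⟶ CommRingCat.of k)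
    {T T' : Scheme.{u}} (p : T ⟶ Spec (CommRingCat.of K)) (q' : T' ⟶ T)
    (q : T' ⟶ Spec (CommRingCat.of k))
    (hpb : IsPullback q' q p (Spec.map φ)) (n : ℕ)
    (h : BddFib.FiniteOfDegLE (CommRingCat.of K) p n) :
    BddFib.FiniteOfDegLE (CommRingCat.of k) q n := by
  rw [finiteOfDegLE_iff] at h
  obtain ⟨haff, hfin, hrk⟩ := h
  let B : CommRingCat.{u} := Γ(T, ⊤)
  let ψ : CommRingCat.of K ⟶ B := (Scheme.ΓSpecIso (CommRingCat.of K)).inv ≫ p.appTop
  letI : Algebra K B := ψ.hom.toAlgebra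
  letI : Algebra K k := φ.hom.toAlgebra
  have hp : T.isoSpec.hom ≫ Spec.map ψ = p := by
    show T.isoSpec.hom ≫ Spec.map ((Scheme.ΓSpecIso (CommRingCat.of K)).inv ≫ p.appTop) = p
    rw [Spec.map_comp, ← Category.assoc, Scheme.isoSpec_hom_naturality, Category.assoc,
      Scheme.isoSpec_Spec_hom, ← Spec.map_comp, Iso.inv_hom_id, Spec.map_id, Category.comp_id]
  let P : CommRingCat.{u} := CommRingCat.of (B ⊗[K] k)
  let inl : B ⟶ P := CommRingCat.ofHom Algebra.TensorProduct.includeLeftRingHom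
  let inr : CommRingCat.of k ⟶ P :=
    CommRingCat.ofHom (Algebra.TensorProduct.includeRight (R := K) (A := B) (B := k)).toRingHom
  have hpo : IsPushout ψ φ inl inr := CommRingCat.isPushout_tensorProduct K B k
  have hpb2 : IsPullback (Spec.map inl) (Spec.map inr) (Spec.map ψ) (Spec.map φ) :=
    isPullback_SpecMap_of_isPushout _ _ _ _ hpo
  have hpb1 : IsPullback (q' ≫ T.isoSpec.hom) q (Spec.map ψ) (Spec.map φ) :=
    IsPullback.of_iso hpb (Iso.refl _) T.isoSpec (Iso.refl _) (Iso.refl _)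
      (by simp) (by simp) (by simp [hp]) (by simp)
  let e := hpb1.isoIsPullback _ _ hpb2
  have he : e.hom ≫ Spec.map inr = q := IsPullback.isoIsPullback_hom_snd _ _ hpb1 hpb2
  apply finiteOfDegLE_of_iso _ q (Spec.map inr) e he
  rw [finiteOfDegLE_SpecMap_iff]
  exact finite_finrank_includeRight K B k n ⟨hfin, hrk⟩

/-- Field-point base changes of a morphism with fibres of degree at most `n`. -/
theorem finiteOfDegLE_of_fibreDegLE {X Y : Scheme.{u}} (f : X ⟶ Y) (n : ℕ)
    (hf : BddFib.FibreDegLE f n) (k : Type u) [Field k] (g : Spec (CommRingCat.of k) ⟶ Y)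
    {P : Scheme.{u}} (fst : P ⟶ X) (snd : P ⟶ Spec (CommRingCat.of k))
    (hP : IsPullback fst snd f g) :
    BddFib.FiniteOfDegLE (CommRingCat.of k) snd n := by
  let y : Y := g (IsLocalRing.closedPoint k)
  let φ : Y.residueField y ⟶ CommRingCat.of k :=
    Scheme.descResidueField (Scheme.stalkClosedPointTo g)
  have hg : Spec.map φ ≫ Y.fromSpecResidueField y = g :=
    Scheme.descResidueField_stalkClosedPointTo_fromSpecResidueField k Y g
  have hbot : IsPullback (f.fiberι y) (f.fiberToSpecResidueField y) f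
      (Y.fromSpecResidueField y) := IsPullback.of_hasPullback _ _
  let q' : P ⟶ f.fiber y := hbot.lift fst (snd ≫ Spec.map φ)
    (by rw [hP.w, Category.assoc, hg])
  have hq1 : q' ≫ f.fiberι y = fst := hbot.lift_fst _ _ _
  have hq2 : q' ≫ f.fiberToSpecResidueField y = snd ≫ Spec.map φ := hbot.lift_snd _ _ _
  have hout : IsPullback (q' ≫ f.fiberι y) snd f (Spec.map φ ≫ Y.fromSpecResidueField y) := by
    rw [hq1, hg]
    exact hP
  have htop : IsPullback q' snd (f.fiberToSpecResidueField y) (Spec.map φ) :=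
    IsPullback.of_right hout hq2 hbot
  exact finiteOfDegLE_baseChange (Y.residueField y) k φ (f.fiberToSpecResidueField y) q' snd htop n
    (hf y)

theorem fibreDegLE_iff {X Y : Scheme.{u}} (f : X ⟶ Y) (n : ℕ) :
    BddFib.FibreDegLE f n ↔ ∀ (k : Type u) [Field k] (g : Spec (CommRingCat.of k) ⟶ Y),
      BddFib.FiniteOfDegLE (CommRingCat.of k) (Limits.pullback.snd f g) n := by
  constructor
  · intro hf k _ g
    exact finiteOfDegLE_of_fibreDegLE f n hf k g _ _ (IsPullback.of_hasPullback f g)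
  · intro h y
    exact h (Y.residueField y) (Y.fromSpecResidueField y)

/-- Base change preserves the bound on fibre degrees. -/
theorem fibreDegLE_of_isPullback {X Y X' Y' : Scheme.{u}} (f : X ⟶ Y) (g : Y' ⟶ Y) (f' : X' ⟶ Y')
    (g' : X' ⟶ X) (h : IsPullback g' f' f g) (n : ℕ) (hf : BddFib.FibreDegLE f n) :
    BddFib.FibreDegLE f' n := by
  intro y'
  have h1 : IsPullback (f'.fiberι y') (f'.fiberToSpecResidueField y') f'
      (Y'.fromSpecResidueField y') := IsPullback.of_hasPullback _ _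
  have hP := h1.paste_horiz h
  exact finiteOfDegLE_of_fibreDegLE f n hf (Y'.residueField y') (Y'.fromSpecResidueField y' ≫ g)
    _ _ hP

end Groth.Agent.Helper4.BddFibLib
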