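import Mathlib
import Groth.Agent.Lib.Helper4.BddFibLib
import Groth.Agent.Lib.Helper4.ArtinCount

/-!
Point counts for morphisms with bounded fibre degrees.
-/

set_option autoImplicit false

open CategoryTheory AlgebraicGeometry Limits

namespace Groth.Agent.Helper4.BddFibLib

universe u

theorem finite_card_le_of_finiteOfDegLE (k : Type u) [Field k] {T : Scheme.{u}}
    (p : T ⟶ Spec (CommRingCat.of k)) (n : ℕ)
    (h : BddFib.FiniteOfDegLE (CommRingCat.of k) p n) : Finite ↥T ∧ Nat.card ↥T ≤ n := by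
  rw [finiteOfDegLE_iff] at h
  obtain ⟨haff, hfin, hrk⟩ := h
  letI : Algebra k Γ(T, ⊤) :=
    ((Scheme.ΓSpecIso (CommRingCat.of k)).inv ≫ p.appTop).hom.toAlgebra
  obtain ⟨h1, h2⟩ := ArtinCount.card_primeSpectrum_le_finrank k Γ(T, ⊤)
  let e : ↥T ≃ PrimeSpectrum Γ(T, ⊤) := (Scheme.homeoOfIso T.isoSpec).toEquiv
  exact ⟨Finite.of_equiv _ e.symm, by rw [Nat.card_congr e]; exact h2.trans hrk⟩

theorem finite_card_le_of_fibreDegLE {X Y : Scheme.{u}} (f : X ⟶ Y) (n : ℕ)
    (hf : BddFib.FibreDegLE f n) (k : Type u) [Field k] (g : Spec (CommRingCat.of k) ⟶ Y) :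
    Finite ↥(Limits.pullback f g) ∧ Nat.card ↥(Limits.pullback f g) ≤ n :=
  finite_card_le_of_finiteOfDegLE k (Limits.pullback.snd f g) n
    ((fibreDegLE_iff f n).mp hf k g)

/-- A (pre)immersion into the spectrum of a field is finite of degree at most one. -/
theorem finiteOfDegLE_one_of_isPreimmersion (k : Type u) [Field k] {P : Scheme.{u}}
    (q : P ⟶ Spec (CommRingCat.of k)) [IsPreimmersion q] :
    BddFib.FiniteOfDegLE (CommRingCat.of k) q 1 := by
  haveI : IsClosedImmersion q := IsClosedImmersion.of_isPreimmersion q (isClosed_discrete _)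
  obtain ⟨haff, hsurj⟩ := IsClosedImmersion.isAffine_surjective_of_isAffine q
  rw [finiteOfDegLE_iff]
  refine ⟨haff, ?_⟩
  letI : Algebra k Γ(P, ⊤) :=
    ((Scheme.ΓSpecIso (CommRingCat.of k)).inv ≫ q.appTop).hom.toAlgebra
  have hs : Function.Surjective (Algebra.linearMap k Γ(P, ⊤)) := by
    show Function.Surjective ((Scheme.ΓSpecIso (CommRingCat.of k)).inv ≫ q.appTop).hom
    rw [CommRingCat.hom_comp, RingHom.coe_comp]
    exact hsurj.comp (ConcreteCategory.bijective_of_isIso _).2
  haveI : Module.Finite k Γ(P, ⊤) := Module.Finite.of_surjective _ hs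
  refine ⟨inferInstance, ?_⟩
  have h1 := LinearMap.finrank_range_le (Algebra.linearMap k Γ(P, ⊤))
  rw [LinearMap.range_eq_top.mpr hs, finrank_top, Module.finrank_self] at h1
  exact h1

theorem fibreDegLE_one_of_isImmersion {X Y : Scheme.{u}} (f : X ⟶ Y) [IsImmersion f] :
    BddFib.FibreDegLE f 1 := by
  intro y
  haveI : IsImmersion (f.fiberToSpecResidueField y) :=
    inferInstanceAs (IsImmersion (pullback.snd f (Y.fromSpecResidueField y)))
  exact finiteOfDegLE_one_of_isPreimmersion (Y.residueField y) (f.fiberToSpecResidueField y)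

end Groth.Agent.Helper4.BddFibLib
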