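import Mathlib
import Groth.Agent.Lib.Helper4.BddFibLib2
import Groth.Prelude.Def_Mor2

/-!
Finite locally free morphisms of degree `d` have fibres of degree `d`.
-/

set_option autoImplicit false

open CategoryTheory AlgebraicGeometry Limits

namespace Groth.Agent.Helper4.BddFibLib

universe u

theorem isoSpec_hom_SpecMap (K : CommRingCat.{u}) {T : Scheme.{u}} [IsAffine T]
    (p : T ⟶ Spec K) :
    T.isoSpec.hom ≫ Spec.map ((Scheme.ΓSpecIso K).inv ≫ p.appTop) = p := by
  rw [Spec.map_comp, ← Category.assoc, Scheme.isoSpec_hom_naturality, Category.assoc,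
    Scheme.isoSpec_Spec_hom, ← Spec.map_comp, Iso.inv_hom_id, Spec.map_id, Category.comp_id]

theorem finiteOfDegLE_of_isFinite (k : Type u) [Field k] {T : Scheme.{u}}
    (q : T ⟶ Spec (CommRingCat.of k)) [IsFinite q] (x : Spec (CommRingCat.of k)) :
    BddFib.FiniteOfDegLE (CommRingCat.of k) q (q.finrank x) := by
  haveI : IsAffine T := isAffine_of_isAffineHom q
  let a : CommRingCat.of k ⟶ Γ(T, ⊤) := (Scheme.ΓSpecIso (CommRingCat.of k)).inv ≫ q.appTop
  have hq : T.isoSpec.hom ≫ Spec.map a = q := isoSpec_hom_SpecMap _ q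
  have hq' : Spec.map a = T.isoSpec.inv ≫ q := by rw [← hq, Iso.inv_hom_id_assoc]
  haveI : IsFinite (Spec.map a) := by rw [hq']; infer_instance
  have hfinite : a.hom.Finite := (IsFinite.SpecMap_iff a).mp inferInstance
  letI : Algebra k Γ(T, ⊤) := a.hom.toAlgebra
  have hflat : a.hom.Flat := by
    show Module.Flat k Γ(T, ⊤)
    infer_instance
  haveI : Flat (Spec.map a) := (Flat.SpecMap_iff (f := a)).mpr hflat
  rw [finiteOfDegLE_iff]
  refine ⟨inferInstance, hfinite, ?_⟩
  have h1 : q.finrank x = (Spec.map a).finrank x := by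
    rw [← hq, Scheme.Hom.finrank_comp_left_of_isIso]
  rw [h1, Scheme.Hom.finrank_SpecMap_eq_finrank hfinite hflat]
  show Module.finrank k Γ(T, ⊤) ≤ a.hom.finrank x
  rw [RingHom.finrank]
  haveI : Module.Finite k Γ(T, ⊤) := hfinite
  rw [Module.rankAtStalk_eq_finrank_of_free]
  exact le_rfl

theorem fibreDegLE_of_isFinLocFreeOfDeg {X Y : Scheme.{u}} (f : X ⟶ Y) (d : ℕ)
    (hf : Mor2.IsFinLocFreeOfDeg d f) : BddFib.FibreDegLE f d := by
  obtain ⟨⟨hfin, hflat, hfp⟩, hrank⟩ := hf
  intro y
  haveI : IsFinite (f.fiberToSpecResidueField y) :=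
    inferInstanceAs (IsFinite (pullback.snd f (Y.fromSpecResidueField y)))
  have h1 := finiteOfDegLE_of_isFinite (Y.residueField y) (f.fiberToSpecResidueField y)
    (IsLocalRing.closedPoint (Y.residueField y))
  have h2 : (f.fiberToSpecResidueField y).finrank (IsLocalRing.closedPoint (Y.residueField y)) =
      d := by
    show (pullback.snd f (Y.fromSpecResidueField y)).finrank _ = d
    rw [Scheme.Hom.finrank_pullback_snd]
    exact hrank _
  rw [h2] at h1
  exact h1

end Groth.Agent.Helper4.BddFibLib
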