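import Mathlib
import Groth.Agent.Lib.Helper4.BddFibLib3

/-!
Schemes over a field with finitely many points; étale fibres and point counts.
-/

set_option autoImplicit false

open CategoryTheory AlgebraicGeometry Limits

namespace Groth.Agent.Helper4.BddFibLib

universe u

/-- A scheme locally of finite type over a field with finitely many points is finite over it. -/
theorem isFinite_of_finite (k : Type u) [Field k] {T : Scheme.{u}}
    (q : T ⟶ Spec (CommRingCat.of k)) [LocallyOfFiniteType q] [Finite T] : IsFinite q := by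
  haveI : LocallyQuasiFinite q :=
    LocallyQuasiFinite.of_finite_preimage_singleton q (fun x => Set.toFinite _)
  haveI : CompactSpace T := Finite.compactSpace
  haveI : QuasiCompact q := (quasiCompact_iff_compactSpace q).mpr inferInstance
  haveI : IsLocallyArtinian (Spec (CommRingCat.of k)) :=
    Scheme.isLocallyArtinianScheme_Spec.mpr (inferInstanceAs (IsArtinianRing k))
  exact IsFinite.of_locallyQuasiFinite q

/-- Converse of `finiteOfDegLE_of_isFinite`. -/
theorem isFinite_of_finiteOfDegLE (K : CommRingCat.{u}) {T : Scheme.{u}} (p : T ⟶ Spec K) (n : ℕ)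
    (h : BddFib.FiniteOfDegLE K p n) : IsFinite p := by
  rw [finiteOfDegLE_iff] at h
  obtain ⟨haff, hfin, -⟩ := h
  have hp : T.isoSpec.hom ≫ Spec.map ((Scheme.ΓSpecIso K).inv ≫ p.appTop) = p :=
    isoSpec_hom_SpecMap K p
  haveI : IsFinite (Spec.map ((Scheme.ΓSpecIso K).inv ≫ p.appTop)) :=
    (IsFinite.SpecMap_iff _).mpr hfin
  rw [← hp]
  infer_instance

open scoped TensorProduct in
/-- The base change of an affine `T → Spec K` along a field extension `K → k`, as a spectrum. -/
theorem exists_iso_Spec_tensor (K k : Type u) [Field K] [Field k]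
    (φ : CommRingCat.of K ⟶ CommRingCat.of k)
    {T T' : Scheme.{u}} [IsAffine T] (p : T ⟶ Spec (CommRingCat.of K)) (q' : T' ⟶ T)
    (q : T' ⟶ Spec (CommRingCat.of k))
    (hpb : IsPullback q' q p (Spec.map φ)) :
    letI : Algebra K Γ(T, ⊤) :=
      ((Scheme.ΓSpecIso (CommRingCat.of K)).inv ≫ p.appTop).hom.toAlgebra
    letI : Algebra K k := φ.hom.toAlgebra
    ∃ e : T' ≅ Spec (CommRingCat.of (k ⊗[K] Γ(T, ⊤))),
      e.hom ≫ Spec.map (CommRingCat.ofHom
        (algebraMap k (k ⊗[K] Γ(T, ⊤)))) = q := by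
  let B : CommRingCat.{u} := Γ(T, ⊤)
  let ψ : CommRingCat.of K ⟶ B := (Scheme.ΓSpecIso (CommRingCat.of K)).inv ≫ p.appTop
  letI : Algebra K B := ψ.hom.toAlgebra
  letI : Algebra K k := φ.hom.toAlgebra
  have hp : T.isoSpec.hom ≫ Spec.map ψ = p := isoSpec_hom_SpecMap _ p
  let P : CommRingCat.{u} := CommRingCat.of (k ⊗[K] B)
  let inl : CommRingCat.of k ⟶ P := CommRingCat.ofHom Algebra.TensorProduct.includeLeftRingHom
  let inr : B ⟶ P :=
    CommRingCat.ofHom (Algebra.TensorProduct.includeRight (R := K) (A := k) (B := B)).toRingHom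
  have hpo : IsPushout φ ψ inl inr := CommRingCat.isPushout_tensorProduct K k B
  have hpb2 : IsPullback (Spec.map inr) (Spec.map inl) (Spec.map ψ) (Spec.map φ) :=
    isPullback_SpecMap_of_isPushout _ _ _ _ hpo.flip
  have hpb1 : IsPullback (q' ≫ T.isoSpec.hom) q (Spec.map ψ) (Spec.map φ) :=
    IsPullback.of_iso hpb (Iso.refl _) T.isoSpec (Iso.refl _) (Iso.refl _)
      (by simp) (by simp) (by simp [hp]) (by simp)
  refine ⟨hpb1.isoIsPullback _ _ hpb2, ?_⟩
  exact IsPullback.isoIsPullback_hom_snd _ _ hpb1 hpb2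

open scoped TensorProduct in
/-- Étale `T → Spec K` with finitely many points: the degree is the number of points over a
separably closed extension. -/
theorem finiteOfDegLE_of_etale_of_card (K k : Type u) [Field K] [Field k] [IsSepClosed k]
    (φ : CommRingCat.of K ⟶ CommRingCat.of k)
    {T T' : Scheme.{u}} (p : T ⟶ Spec (CommRingCat.of K)) [Etale p] [Finite T] (q' : T' ⟶ T)
    (q : T' ⟶ Spec (CommRingCat.of k))
    (hpb : IsPullback q' q p (Spec.map φ)) (n : ℕ) (hT' : Finite T') (hn : Nat.card T' ≤ n) :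
    BddFib.FiniteOfDegLE (CommRingCat.of K) p n := by
  haveI : IsFinite p := isFinite_of_finite K p
  haveI : IsAffine T := isAffine_of_isAffineHom p
  let B : CommRingCat.{u} := Γ(T, ⊤)
  let ψ : CommRingCat.of K ⟶ B := (Scheme.ΓSpecIso (CommRingCat.of K)).inv ≫ p.appTop
  have hp : T.isoSpec.hom ≫ Spec.map ψ = p := isoSpec_hom_SpecMap _ p
  have hq' : Spec.map ψ = T.isoSpec.inv ≫ p := by rw [← hp, Iso.inv_hom_id_assoc]
  haveI : IsFinite (Spec.map ψ) := by rw [hq']; infer_instance
  haveI : Etale (Spec.map ψ) := by rw [hq']; infer_instance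
  have hfinite : ψ.hom.Finite := (IsFinite.SpecMap_iff ψ).mp inferInstance
  have hetale : ψ.hom.Etale := (HasRingHomProperty.Spec_iff (P := @Etale)).mp inferInstance
  letI : Algebra K B := ψ.hom.toAlgebra
  letI : Algebra K k := φ.hom.toAlgebra
  haveI : Module.Finite K B := hfinite
  haveI : Algebra.Etale K B := hetale
  obtain ⟨e, -⟩ := exists_iso_Spec_tensor K k φ p q' q hpb
  rw [finiteOfDegLE_iff]
  refine ⟨inferInstance, hfinite, ?_⟩
  show Module.finrank K B ≤ n
  let E := Algebra.FormallyEtale.equivPiOfIsSepClosed k (k ⊗[K] B)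
  have h1 : Module.finrank k (k ⊗[K] B) = Module.finrank K B := Module.finrank_baseChange
  let eq : ↥T' ≃ PrimeSpectrum (k ⊗[K] B) := (Scheme.homeoOfIso e).toEquiv
  haveI : Finite (PrimeSpectrum (k ⊗[K] B)) := Finite.of_equiv _ eq
  letI : Fintype (PrimeSpectrum (k ⊗[K] B)) := Fintype.ofFinite _
  have h2 : Module.finrank k (k ⊗[K] B) = Nat.card (PrimeSpectrum (k ⊗[K] B)) := by
    rw [E.toLinearEquiv.finrank_eq, Module.finrank_fintype_fun_eq_card, Nat.card_eq_fintype_card]
  rw [← h1, h2, ← Nat.card_congr eq]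
  exact hn

end Groth.Agent.Helper4.BddFibLib
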