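import Mathlib
import Groth.Agent.Lib.Helper4.BddFibLib5

/-!
Descent of the bound on the degree along a field extension.
-/

set_option autoImplicit false

open CategoryTheory AlgebraicGeometry Limits

namespace Groth.Agent.Helper4.BddFibLib

universe u

theorem finrank_toAlgebra_algebraMap (K A : Type u) [CommRing K] [CommRing A] [Algebra K A] (n : ℕ)
    (h : @Module.Finite K A _ _ (algebraMap K A).toAlgebra.toModule ∧
      @Module.finrank K A _ _ (algebraMap K A).toAlgebra.toModule ≤ n) :
    Module.Finite K A ∧ Module.finrank K A ≤ n := by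
  have h1 : (algebraMap K A).toAlgebra = ‹Algebra K A› := Algebra.algebra_ext _ _ (fun r => rfl)
  rw [h1] at h
  exact h

open scoped TensorProduct in
theorem finiteOfDegLE_descent (K k : Type u) [Field K] [Field k]
    (φ : CommRingCat.of K ⟶ CommRingCat.of k)
    {T T' : Scheme.{u}} (p : T ⟶ Spec (CommRingCat.of K)) (q' : T' ⟶ T)
    (q : T' ⟶ Spec (CommRingCat.of k))
    (hpb : IsPullback q' q p (Spec.map φ)) (n : ℕ)
    (h : BddFib.FiniteOfDegLE (CommRingCat.of k) q n) :
    BddFib.FiniteOfDegLE (CommRingCat.of K) p n := by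
  haveI : IsFinite q := isFinite_of_finiteOfDegLE _ q n h
  have hsurj : Surjective (Spec.map φ) := by
    refine ⟨fun x => ⟨IsLocalRing.closedPoint k, ?_⟩⟩
    haveI : Subsingleton ↥(Spec (CommRingCat.of K)) :=
      inferInstanceAs (Subsingleton (PrimeSpectrum K))
    exact Subsingleton.elim _ _
  haveI : Flat (Spec.map φ) := by
    refine (Flat.SpecMap_iff (f := φ)).mpr ?_
    letI : Algebra K k := φ.hom.toAlgebra
    show Module.Flat K k
    infer_instance
  have hlft : LocallyOfFiniteType p :=
    MorphismProperty.of_isPullback_of_descendsAlong (P := @LocallyOfFiniteType)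
      (Q := @Surjective ⊓ @Flat ⊓ @QuasiCompact) hpb.flip
      ⟨⟨hsurj, inferInstance⟩, inferInstance⟩ inferInstance
  have hT' : Finite ↥T' := (finite_card_le_of_finiteOfDegLE k q n h).1
  haveI : Surjective q' := MorphismProperty.of_isPullback (P := @Surjective) hpb.flip hsurj
  haveI : Finite ↥T := Finite.of_surjective q' q'.surjective
  haveI : IsFinite p := isFinite_of_finite K p
  haveI : IsAffine T := isAffine_of_isAffineHom p
  let B : CommRingCat.{u} := Γ(T, ⊤)
  let ψ : CommRingCat.of K ⟶ B := (Scheme.ΓSpecIso (CommRingCat.of K)).inv ≫ p.appTop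
  have hp : T.isoSpec.hom ≫ Spec.map ψ = p := isoSpec_hom_SpecMap _ p
  have hq' : Spec.map ψ = T.isoSpec.inv ≫ p := by rw [← hp, Iso.inv_hom_id_assoc]
  haveI : IsFinite (Spec.map ψ) := by rw [hq']; infer_instance
  have hfinite : ψ.hom.Finite := (IsFinite.SpecMap_iff ψ).mp inferInstance
  letI : Algebra K B := ψ.hom.toAlgebra
  letI : Algebra K k := φ.hom.toAlgebra
  haveI : Module.Finite K B := hfinite
  obtain ⟨e, he⟩ := exists_iso_Spec_tensor K k φ p q' q hpb
  have he' : e.symm.hom ≫ q =
      Spec.map (CommRingCat.ofHom (algebraMap k (k ⊗[K] B))) := by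
    rw [← he]
    exact e.inv_hom_id_assoc _
  have h' := finiteOfDegLE_of_iso _ (Spec.map (CommRingCat.ofHom (algebraMap k (k ⊗[K] B)))) q
    e.symm he' n h
  rw [finiteOfDegLE_SpecMap_iff] at h'
  have h'' := finrank_toAlgebra_algebraMap k (k ⊗[K] B) n h'
  rw [finiteOfDegLE_iff]
  refine ⟨inferInstance, hfinite, ?_⟩
  show Module.finrank K B ≤ n
  have h1 : Module.finrank k (k ⊗[K] B) = Module.finrank K B := Module.finrank_baseChange
  rw [← h1]
  exact h''.2

/-- Descent of the bound on fibre degrees along a surjective base change. -/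
theorem fibreDegLE_of_isPullback_of_surjective {X Y X' Y' : Scheme.{u}} (f : X ⟶ Y) (g : Y' ⟶ Y)
    [Surjective g] (f' : X' ⟶ Y') (g' : X' ⟶ X) (h : IsPullback g' f' f g) (n : ℕ)
    (hf' : BddFib.FibreDegLE f' n) : BddFib.FibreDegLE f n := by
  intro y
  obtain ⟨y', rfl⟩ := g.surjective y
  have hφ : Spec.map (g.residueFieldMap y') ≫ Y.fromSpecResidueField (g y') =
      Y'.fromSpecResidueField y' ≫ g := Scheme.Hom.SpecMap_residueFieldMap_fromSpecResidueField g y'
  have h1 : IsPullback (f'.fiberι y') (f'.fiberToSpecResidueField y') f'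
      (Y'.fromSpecResidueField y') := IsPullback.of_hasPullback _ _
  have hP := h1.paste_horiz h
  have hbot : IsPullback (f.fiberι (g y')) (f.fiberToSpecResidueField (g y')) f
      (Y.fromSpecResidueField (g y')) := IsPullback.of_hasPullback _ _
  have hw : (f'.fiberι y' ≫ g') ≫ f = (f'.fiberToSpecResidueField y' ≫
      Spec.map (g.residueFieldMap y')) ≫ Y.fromSpecResidueField (g y') := by
    rw [hP.w, Category.assoc, hφ]
  have hq1 := hbot.lift_fst _ _ hw
  have hq2 := hbot.lift_snd _ _ hw
  have hout : IsPullback (hbot.lift _ _ hw ≫ f.fiberι (g y')) (f'.fiberToSpecResidueField y') f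
      (Spec.map (g.residueFieldMap y') ≫ Y.fromSpecResidueField (g y')) := by
    rw [hq1, hφ]
    exact hP
  have htop := IsPullback.of_right hout hq2 hbot
  exact finiteOfDegLE_descent (Y.residueField (g y')) (Y'.residueField y') (g.residueFieldMap y')
    (f.fiberToSpecResidueField (g y')) _ _ htop n (hf' y')

end Groth.Agent.Helper4.BddFibLib
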