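import Mathlib
import Groth.Agent.Lib.Helper4.BddFibLib6

/-!
Bounds on fibre degrees pass to the target of a flat surjective morphism.
-/

set_option autoImplicit false
set_option linter.style.haveILetI false

open CategoryTheory AlgebraicGeometry Limits

namespace Groth.Agent.Helper4.BddFibLib

universe u

theorem discreteTopology_of_finiteOfDegLE (K : Type u) [Field K] {T : Scheme.{u}}
    (p : T ⟶ Spec (CommRingCat.of K)) (n : ℕ)
    (h : BddFib.FiniteOfDegLE (CommRingCat.of K) p n) : DiscreteTopology ↥T := by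
  haveI : IsFinite p := isFinite_of_finiteOfDegLE _ p n h
  haveI : IsLocallyArtinian (Spec (CommRingCat.of K)) :=
    Scheme.isLocallyArtinianScheme_Spec.mpr (inferInstanceAs (IsArtinianRing K))
  haveI : IsLocallyArtinian T := IsLocallyArtinian.of_locallyQuasiFinite p
  infer_instance

theorem finiteOfDegLE_of_flat_surjective (K : Type u) [Field K] {T S : Scheme.{u}}
    (p : T ⟶ Spec (CommRingCat.of K)) (q : S ⟶ Spec (CommRingCat.of K)) (r : T ⟶ S)
    [Flat r] [Surjective r] (hr : r ≫ q = p) (n : ℕ)
    (h : BddFib.FiniteOfDegLE (CommRingCat.of K) p n) :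
    BddFib.FiniteOfDegLE (CommRingCat.of K) q n := by
  haveI : DiscreteTopology ↥T := discreteTopology_of_finiteOfDegLE K p n h
  have hT : Finite ↥T := (finite_card_le_of_finiteOfDegLE K p n h).1
  haveI : Finite ↥S := Finite.of_surjective r r.surjective
  haveI : T1Space ↥S := by
    rw [t1Space_iff_specializes_imp_eq]
    intro y y' hyy'
    obtain ⟨x', rfl⟩ := r.surjective y'
    obtain ⟨x, hx, rfl⟩ := (Flat.generalizingMap (f := r)) hyy'
    rw [hx.eq]
  haveI : DiscreteTopology ↥S := inferInstance
  haveI : IsAffine S := inferInstance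
  rw [finiteOfDegLE_iff] at h ⊢
  obtain ⟨haff, hfin, hrk⟩ := h
  refine ⟨inferInstance, ?_⟩
  have hinj : Function.Injective r.appTop.hom :=
    ((Flat.flat_and_surjective_iff_faithfullyFlat_of_isAffine (f := r)).mp
      ⟨inferInstance, inferInstance⟩).injective
  letI algT : Algebra K Γ(T, ⊤) :=
    ((Scheme.ΓSpecIso (CommRingCat.of K)).inv ≫ p.appTop).hom.toAlgebra
  letI algS : Algebra K Γ(S, ⊤) :=
    ((Scheme.ΓSpecIso (CommRingCat.of K)).inv ≫ q.appTop).hom.toAlgebra
  have hcomp : (Scheme.ΓSpecIso (CommRingCat.of K)).inv ≫ p.appTop =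
      ((Scheme.ΓSpecIso (CommRingCat.of K)).inv ≫ q.appTop) ≫ r.appTop := by
    rw [← hr, Scheme.Hom.comp_appTop, Category.assoc]
  let L : Γ(S, ⊤) →ₗ[K] Γ(T, ⊤) :=
    { toFun := r.appTop.hom
      map_add' := fun x y => map_add _ x y
      map_smul' := fun c x => by
        show r.appTop.hom (((Scheme.ΓSpecIso (CommRingCat.of K)).inv ≫ q.appTop).hom c * x) =
          ((Scheme.ΓSpecIso (CommRingCat.of K)).inv ≫ p.appTop).hom c * r.appTop.hom x
        rw [map_mul, hcomp]
        rfl }
  have hL : Function.Injective L := hinj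
  haveI : Module.Finite K Γ(T, ⊤) := hfin
  haveI : Module.Finite K Γ(S, ⊤) := Module.Finite.of_injective L hL
  exact ⟨inferInstance, (LinearMap.finrank_le_finrank_of_injective hL).trans hrk⟩

/-- If `f` is flat and surjective and `n` bounds the fibre degrees of `f ≫ h`, then `n` bounds
the fibre degrees of `h`. -/
theorem fibreDegLE_of_flat_surjective_comp {X Y Z : Scheme.{u}} (f : X ⟶ Y) (h : Y ⟶ Z) [Flat f]
    [Surjective f] (n : ℕ) (hg : BddFib.FibreDegLE (f ≫ h) n) : BddFib.FibreDegLE h n := by
  intro z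
  have hbig : IsPullback ((f ≫ h).fiberToSpecResidueField z) ((f ≫ h).fiberι z)
      (Z.fromSpecResidueField z) (f ≫ h) := (IsPullback.of_hasPullback _ _).flip
  have hright : IsPullback (h.fiberToSpecResidueField z) (h.fiberι z)
      (Z.fromSpecResidueField z) h := (IsPullback.of_hasPullback _ _).flip
  have hw : ((f ≫ h).fiberι z ≫ f) ≫ h =
      (f ≫ h).fiberToSpecResidueField z ≫ Z.fromSpecResidueField z := by
    rw [Category.assoc]
    exact hbig.w.symm
  have hr1 := hright.flip.lift_fst _ _ hw
  have hr2 := hright.flip.lift_snd _ _ hw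
  have hbig' : IsPullback (hright.flip.lift _ _ hw ≫ h.fiberToSpecResidueField z)
      ((f ≫ h).fiberι z) (Z.fromSpecResidueField z) (f ≫ h) := by
    rw [hr2]
    exact hbig
  have hleft := IsPullback.of_right hbig' hr1 hright
  haveI : Flat (hright.flip.lift _ _ hw) :=
    MorphismProperty.of_isPullback (P := @Flat) hleft.flip inferInstance
  haveI : Surjective (hright.flip.lift _ _ hw) :=
    MorphismProperty.of_isPullback (P := @Surjective) hleft.flip inferInstance
  exact finiteOfDegLE_of_flat_surjective (Z.residueField z) _ _ (hright.flip.lift _ _ hw) hr2 n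
    (hg z)

end Groth.Agent.Helper4.BddFibLib
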