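import Mathlib

/-!
A dimension bound for modules over a finite-dimensional algebra in terms of the fibres at the
maximal ideals.
-/

set_option autoImplicit false
set_option linter.style.haveILetI false

namespace Groth.Agent.Helper4.FibDimAlg

universe u

open Module

theorem finite_finrank_le_of_exact {K V W U : Type*} [Field K] [AddCommGroup V] [Module K V]
    [AddCommGroup W] [Module K W] [AddCommGroup U] [Module K U] [Module.Finite K W]
    [Module.Finite K U] (g : V →ₗ[K] W) (μ : U →ₗ[K] V)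
    (h : LinearMap.ker g ≤ LinearMap.range μ) :
    Module.Finite K V ∧ finrank K V ≤ finrank K W + finrank K U := by
  haveI : Module.Finite K (LinearMap.range μ) := inferInstance
  haveI : Module.Finite K (LinearMap.ker g) :=
    Module.Finite.of_injective (Submodule.inclusion h) (Submodule.inclusion_injective h)
  haveI : Module.Finite K (LinearMap.range g) := inferInstance
  haveI : Module.Finite K (V ⧸ LinearMap.ker g) :=
    Module.Finite.equiv g.quotKerEquivRange.symm
  haveI : Module.Finite K V := Module.Finite.of_submodule_quotient (LinearMap.ker g)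
  refine ⟨this, ?_⟩
  rw [← LinearMap.finrank_range_add_finrank_ker g]
  exact add_le_add (Submodule.finrank_le _)
    ((Submodule.finrank_mono h).trans (LinearMap.finrank_range_le μ))

theorem finrank_add_le_of_inj_surj {K V W U : Type*} [Field K] [AddCommGroup V] [Module K V]
    [AddCommGroup W] [Module K W] [AddCommGroup U] [Module K U] [Module.Finite K V]
    (g : V →ₗ[K] W) (μ : U →ₗ[K] V) (hg : Function.Surjective g) (hμ : Function.Injective μ)
    (h : LinearMap.range μ ≤ LinearMap.ker g) :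
    finrank K W + finrank K U ≤ finrank K V := by
  have h1 := LinearMap.finrank_range_add_finrank_ker g
  rw [LinearMap.range_eq_top.mpr hg, finrank_top] at h1
  have h2 := LinearMap.finrank_range_of_inj hμ
  have h3 := Submodule.finrank_mono h
  omega

section

variable {C : Type u} [CommRing C] (N : Type u) [AddCommGroup N] [Module C N]

/-- The transition map `N/IN → N/(I + (x))N`. -/
noncomputable def gMap (I : Ideal C) (x : C) :
    (N ⧸ (I • ⊤ : Submodule C N)) →ₗ[C] (N ⧸ ((I ⊔ Ideal.span {x}) • ⊤ : Submodule C N)) :=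
  Submodule.mapQ _ _ LinearMap.id (by
    rw [Submodule.comap_id]
    exact Submodule.smul_mono_left le_sup_left)

/-- Multiplication by `x` as a map `N/JN → N/IN`, when `J x ⊆ I`. -/
noncomputable def muMap (I J : Ideal C) (x : C) (hJ : ∀ a ∈ J, a * x ∈ I) :
    (N ⧸ (J • ⊤ : Submodule C N)) →ₗ[C] (N ⧸ (I • ⊤ : Submodule C N)) :=
  Submodule.mapQ _ _ (LinearMap.lsmul C N x) (by
    rw [Submodule.smul_le]
    intro a ha v _
    show x • (a • v) ∈ (I • ⊤ : Submodule C N)
    rw [smul_smul]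
    exact Submodule.smul_mem_smul (by rw [mul_comm]; exact hJ a ha) trivial)

theorem gMap_surjective (I : Ideal C) (x : C) : Function.Surjective (gMap N I x) := by
  intro w
  obtain ⟨v, rfl⟩ := Submodule.Quotient.mk_surjective _ w
  exact ⟨Submodule.Quotient.mk v, rfl⟩

theorem gMap_muMap (I J : Ideal C) (x : C) (hJ : ∀ a ∈ J, a * x ∈ I) :
    LinearMap.range (muMap N I J x hJ) ≤ LinearMap.ker (gMap N I x) := by
  rintro _ ⟨u, rfl⟩
  obtain ⟨v, rfl⟩ := Submodule.Quotient.mk_surjective _ u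
  rw [LinearMap.mem_ker]
  show Submodule.Quotient.mk (x • v) = 0
  rw [Submodule.Quotient.mk_eq_zero]
  exact Submodule.smul_mem_smul (Ideal.mem_sup_right (Ideal.mem_span_singleton_self x)) trivial

theorem ker_gMap_le (I J : Ideal C) (x : C) (hJ : ∀ a ∈ J, a * x ∈ I) :
    LinearMap.ker (gMap N I x) ≤ LinearMap.range (muMap N I J x hJ) := by
  intro w hw
  obtain ⟨v, rfl⟩ := Submodule.Quotient.mk_surjective _ w
  rw [LinearMap.mem_ker] at hw
  have hw' : Submodule.Quotient.mk v = (0 : N ⧸ ((I ⊔ Ideal.span {x}) • ⊤ : Submodule C N)) := hw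
  rw [Submodule.Quotient.mk_eq_zero, Submodule.sup_smul, Submodule.mem_sup] at hw'
  obtain ⟨a, ha, b, hb, rfl⟩ := hw'
  rw [Submodule.ideal_span_singleton_smul, Submodule.mem_smul_pointwise_iff_exists] at hb
  obtain ⟨c, -, rfl⟩ := hb
  refine ⟨Submodule.Quotient.mk c, ?_⟩
  show Submodule.Quotient.mk (x • c) = Submodule.Quotient.mk (a + x • c)
  rw [Submodule.Quotient.mk_add, (Submodule.Quotient.mk_eq_zero _).mpr ha, zero_add]

end

section

variable {C : Type u} [CommRing C]

/-- The transition map `C/I → C/(I + (x))`. -/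
noncomputable def gRing (I : Ideal C) (x : C) : (C ⧸ I) →ₗ[C] (C ⧸ (I ⊔ Ideal.span {x})) :=
  Submodule.mapQ I (I ⊔ Ideal.span {x}) LinearMap.id (by
    rw [Submodule.comap_id]
    exact le_sup_left)

/-- Multiplication by `x` as a map `C/J → C/I`, when `J x ⊆ I`. -/
noncomputable def muRing (I J : Ideal C) (x : C) (hJ : ∀ a ∈ J, a * x ∈ I) :
    (C ⧸ J) →ₗ[C] (C ⧸ I) :=
  Submodule.mapQ J I (LinearMap.lsmul C C x) (by
    intro a ha
    show x • a ∈ I
    rw [smul_eq_mul, mul_comm]
    exact hJ a ha)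

theorem gRing_surjective (I : Ideal C) (x : C) : Function.Surjective (gRing I x) := by
  intro w
  obtain ⟨v, rfl⟩ := Submodule.Quotient.mk_surjective _ w
  exact ⟨Submodule.Quotient.mk v, rfl⟩

theorem gRing_muRing (I J : Ideal C) (x : C) (hJ : ∀ a ∈ J, a * x ∈ I) :
    LinearMap.range (muRing I J x hJ) ≤ LinearMap.ker (gRing I x) := by
  rintro _ ⟨u, rfl⟩
  obtain ⟨v, rfl⟩ := Submodule.Quotient.mk_surjective _ u
  rw [LinearMap.mem_ker]
  show Submodule.Quotient.mk (x • v) = 0
  rw [Submodule.Quotient.mk_eq_zero, smul_eq_mul]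
  exact Ideal.mul_mem_right _ _ (Ideal.mem_sup_right (Ideal.mem_span_singleton_self x))

theorem muRing_injective (I J : Ideal C) (x : C) (hJ : ∀ a ∈ J, a * x ∈ I)
    (hJ' : ∀ a, a * x ∈ I → a ∈ J) : Function.Injective (muRing I J x hJ) := by
  rw [← LinearMap.ker_eq_bot, LinearMap.ker_eq_bot']
  intro u hu
  obtain ⟨v, rfl⟩ := Submodule.Quotient.mk_surjective _ u
  have hu' : Submodule.Quotient.mk (x • v) = (0 : C ⧸ I) := hu
  rw [Submodule.Quotient.mk_eq_zero, smul_eq_mul, mul_comm] at hu'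
  exact (Submodule.Quotient.mk_eq_zero _).mpr (hJ' v hu')

end

/-- The main bound: if the fibres of `M` at the maximal ideals of `C` have dimension at most
`n` times the residue degree, then `M / I M` has dimension at most `n * dim (C / I)`. -/
theorem finrank_quotient_smul_top_le (K C M : Type u) [Field K] [CommRing C] [Algebra K C]
    [Module.Finite K C] [AddCommGroup M] [Module C M] [Module K M] [IsScalarTower K C M] (n : ℕ)
    (H : ∀ 𝔪 : Ideal C, 𝔪.IsMaximal → Module.Finite K (M ⧸ (𝔪 • ⊤ : Submodule C M)) ∧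
      finrank K (M ⧸ (𝔪 • ⊤ : Submodule C M)) ≤ n * finrank K (C ⧸ 𝔪)) (I : Ideal C) :
    Module.Finite K (M ⧸ (I • ⊤ : Submodule C M)) ∧
      finrank K (M ⧸ (I • ⊤ : Submodule C M)) ≤ n * finrank K (C ⧸ I) := by
  haveI : IsArtinianRing C := IsArtinianRing.of_finite K C
  haveI : IsNoetherianRing C := inferInstance
  induction I using WellFoundedGT.induction with
  | ind I ih =>
  by_cases htop : I = ⊤
  · subst htop
    haveI : Subsingleton (M ⧸ ((⊤ : Ideal C) • ⊤ : Submodule C M)) := by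
      rw [Submodule.top_smul]
      exact Submodule.Quotient.subsingleton_iff.mpr rfl
    refine ⟨inferInstance, ?_⟩
    rw [finrank_zero_of_subsingleton]
    exact Nat.zero_le _
  by_cases hp : I.IsPrime
  · exact H I ((IsArtinianRing.isPrime_iff_isMaximal I).mp hp)
  · obtain ⟨x, y, hxy, hx, hy⟩ : ∃ x y, x * y ∈ I ∧ x ∉ I ∧ y ∉ I := by
      rw [Ideal.isPrime_iff] at hp
      push_neg at hp
      exact hp htop
    let J : Ideal C :=
      { carrier := {a | a * x ∈ I}
        add_mem' := fun {a b} ha hb => by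
          show (a + b) * x ∈ I
          rw [add_mul]
          exact I.add_mem ha hb
        zero_mem' := by
          show (0 : C) * x ∈ I
          rw [zero_mul]
          exact I.zero_mem
        smul_mem' := fun c a ha => by
          show (c • a) * x ∈ I
          rw [smul_eq_mul, mul_assoc]
          exact I.mul_mem_left c ha }
    have hJ : ∀ a ∈ J, a * x ∈ I := fun a ha => ha
    have hJ' : ∀ a, a * x ∈ I → a ∈ J := fun a ha => ha
    have hIJ : I < J := by
      refine lt_of_le_of_ne (fun a ha => I.mul_mem_right x ha) ?_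
      intro h
      apply hy
      rw [h]
      show y * x ∈ I
      rw [mul_comm]
      exact hxy
    have hIx : I < I ⊔ Ideal.span {x} := by
      refine lt_of_le_of_ne le_sup_left ?_
      intro h
      apply hx
      rw [h]
      exact Ideal.mem_sup_right (Ideal.mem_span_singleton_self x)
    obtain ⟨f1, r1⟩ := ih (I ⊔ Ideal.span {x}) hIx
    obtain ⟨f2, r2⟩ := ih J hIJ
    have hM := finite_finrank_le_of_exact ((gMap M I x).restrictScalars K)
      ((muMap M I J x hJ).restrictScalars K) (ker_gMap_le M I J x hJ)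
    have hC := finrank_add_le_of_inj_surj ((gRing I x).restrictScalars K)
      ((muRing I J x hJ).restrictScalars K) (gRing_surjective I x)
      (muRing_injective I J x hJ hJ') (gRing_muRing I J x hJ)
    refine ⟨hM.1, hM.2.trans ?_⟩
    calc finrank K (M ⧸ ((I ⊔ Ideal.span {x}) • ⊤ : Submodule C M)) +
          finrank K (M ⧸ (J • ⊤ : Submodule C M))
        ≤ n * finrank K (C ⧸ (I ⊔ Ideal.span {x})) + n * finrank K (C ⧸ J) :=
          add_le_add r1 r2
      _ = n * (finrank K (C ⧸ (I ⊔ Ideal.span {x})) + finrank K (C ⧸ J)) := by ring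
      _ ≤ n * finrank K (C ⧸ I) := Nat.mul_le_mul_left n hC

theorem finrank_le_of_fibres (K C M : Type u) [Field K] [CommRing C] [Algebra K C]
    [Module.Finite K C] [AddCommGroup M] [Module C M] [Module K M] [IsScalarTower K C M] (n : ℕ)
    (H : ∀ 𝔪 : Ideal C, 𝔪.IsMaximal → Module.Finite K (M ⧸ (𝔪 • ⊤ : Submodule C M)) ∧
      finrank K (M ⧸ (𝔪 • ⊤ : Submodule C M)) ≤ n * finrank K (C ⧸ 𝔪)) :
    Module.Finite K M ∧ finrank K M ≤ n * finrank K C := by
  obtain ⟨h1, h2⟩ := finrank_quotient_smul_top_le K C M n H ⊥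
  let e1 : (M ⧸ ((⊥ : Ideal C) • ⊤ : Submodule C M)) ≃ₗ[K] M :=
    (Submodule.quotEquivOfEqBot _ (Submodule.bot_smul _)).restrictScalars K
  let e2 : (C ⧸ (⊥ : Ideal C)) ≃ₗ[K] C :=
    (Submodule.quotEquivOfEqBot (⊥ : Ideal C) rfl).restrictScalars K
  refine ⟨Module.Finite.equiv e1, ?_⟩
  rw [← e1.finrank_eq, ← e2.finrank_eq]
  exact h2

open scoped TensorProduct in
theorem fibre_cond (K C M : Type u) [Field K] [CommRing C] [Algebra K C] [Module.Finite K C]
    [AddCommGroup M] [Module C M] [Module K M] [IsScalarTower K C M] (𝔪 : Ideal C)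
    [h𝔪 : 𝔪.IsMaximal] (n : ℕ)
    (h : letI := Ideal.Quotient.field 𝔪
      Module.Finite (C ⧸ 𝔪) ((C ⧸ 𝔪) ⊗[C] M) ∧ finrank (C ⧸ 𝔪) ((C ⧸ 𝔪) ⊗[C] M) ≤ n) :
    Module.Finite K (M ⧸ (𝔪 • ⊤ : Submodule C M)) ∧
      finrank K (M ⧸ (𝔪 • ⊤ : Submodule C M)) ≤ n * finrank K (C ⧸ 𝔪) := by
  letI := Ideal.Quotient.field 𝔪
  obtain ⟨h1, h2⟩ := h
  haveI : Module.Finite K (C ⧸ 𝔪) :=
    Module.Finite.of_surjective ((Submodule.mkQ 𝔪).restrictScalars K)
      (Submodule.mkQ_surjective 𝔪)
  haveI : Module.Finite K ((C ⧸ 𝔪) ⊗[C] M) := Module.Finite.trans (C ⧸ 𝔪) _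
  let e : ((C ⧸ 𝔪) ⊗[C] M) ≃ₗ[K] (M ⧸ (𝔪 • ⊤ : Submodule C M)) :=
    (TensorProduct.quotTensorEquivQuotSMul M 𝔪).restrictScalars K
  refine ⟨Module.Finite.equiv e, ?_⟩
  rw [← e.finrank_eq, ← Module.finrank_mul_finrank K (C ⧸ 𝔪) ((C ⧸ 𝔪) ⊗[C] M), mul_comm]
  exact Nat.mul_le_mul_right _ h2

end Groth.Agent.Helper4.FibDimAlg
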