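import Mathlib
import Groth.Agent.Lib.Helper4.BddFibLib7
import Groth.Agent.Lib.Helper4.FibDimAlg

/-!
Fibre degrees of a composition.
-/

set_option autoImplicit false
set_option linter.style.haveILetI false

open CategoryTheory AlgebraicGeometry Limits

namespace Groth.Agent.Helper4.BddFibLib

universe u

/-- A scheme over a finite discrete scheme whose fibres are finite of bounded degree is finite
and discrete. -/
theorem finite_discrete_of_fibreDegLE {T S : Scheme.{u}} (r : T ⟶ S) [Finite ↥S]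
    [DiscreteTopology ↥S] (n : ℕ) (hr : BddFib.FibreDegLE r n) :
    Finite ↥T ∧ DiscreteTopology ↥T := by
  have hfin : ∀ s : S, Finite ↥(r.fiber s) := fun s =>
    (finite_card_le_of_finiteOfDegLE (S.residueField s) (r.fiberToSpecResidueField s) n (hr s)).1
  have hdisc : ∀ s : S, DiscreteTopology ↥(r.fiber s) := fun s =>
    discreteTopology_of_finiteOfDegLE (S.residueField s) (r.fiberToSpecResidueField s) n (hr s)
  have hfin' : ∀ s : S, Finite ↥(r ⁻¹' {s}) := fun s =>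
    haveI := hfin s
    Finite.of_equiv _ (r.fiberHomeo s).toEquiv
  have hdisc' : ∀ s : S, DiscreteTopology ↥(r ⁻¹' {s}) := fun s =>
    haveI := hdisc s
    (r.fiberHomeo s).discreteTopology
  constructor
  · rw [← Set.finite_univ_iff]
    refine Set.Finite.of_finite_fibers r (Set.toFinite _) ?_
    intro s _
    rw [Set.univ_inter]
    exact Set.toFinite _
  · rw [discreteTopology_iff_isOpen_singleton]
    intro t
    have hopen : IsOpen (r ⁻¹' {r t}) := (isOpen_discrete {r t}).preimage r.continuous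
    haveI := hdisc' (r t)
    have h1 : IsOpen ({⟨t, rfl⟩} : Set ↥(r ⁻¹' {r t})) := isOpen_discrete _
    have h2 := hopen.isOpenMap_subtype_val _ h1
    rwa [Set.image_singleton] at h2

open scoped TensorProduct in
theorem fibre_alg_cond {T S : Scheme.{u}} [IsAffine T] [IsAffine S] (r : T ⟶ S) (n : ℕ)
    (hr : BddFib.FibreDegLE r n) (𝔪 : Ideal Γ(S, ⊤)) [𝔪.IsMaximal] :
    letI := Ideal.Quotient.field 𝔪
    letI : Algebra Γ(S, ⊤) Γ(T, ⊤) := r.appTop.hom.toAlgebra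
    Module.Finite (Γ(S, ⊤) ⧸ 𝔪) ((Γ(S, ⊤) ⧸ 𝔪) ⊗[Γ(S, ⊤)] Γ(T, ⊤)) ∧
      Module.finrank (Γ(S, ⊤) ⧸ 𝔪) ((Γ(S, ⊤) ⧸ 𝔪) ⊗[Γ(S, ⊤)] Γ(T, ⊤)) ≤ n := by
  letI := Ideal.Quotient.field 𝔪
  letI : Algebra Γ(S, ⊤) Γ(T, ⊤) := r.appTop.hom.toAlgebra
  let C : CommRingCat.{u} := Γ(S, ⊤)
  let R : CommRingCat.{u} := Γ(T, ⊤)
  let k : Type u := Γ(S, ⊤) ⧸ 𝔪
  let P : CommRingCat.{u} := CommRingCat.of (k ⊗[C] R)
  let κ : C ⟶ CommRingCat.of k := CommRingCat.ofHom (algebraMap C k)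
  let ρ : C ⟶ R := r.appTop
  let inl : CommRingCat.of k ⟶ P := CommRingCat.ofHom Algebra.TensorProduct.includeLeftRingHom
  let inr : R ⟶ P :=
    CommRingCat.ofHom (Algebra.TensorProduct.includeRight (R := C) (A := k) (B := R)).toRingHom
  have hpo : IsPushout κ ρ inl inr := CommRingCat.isPushout_tensorProduct C k R
  have hpb2 : IsPullback (Spec.map inr) (Spec.map inl) (Spec.map ρ) (Spec.map κ) :=
    isPullback_SpecMap_of_isPushout _ _ _ _ hpo.flip
  have hnat : T.isoSpec.hom ≫ Spec.map ρ = r ≫ S.isoSpec.hom := Scheme.isoSpec_hom_naturality r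
  have hpb : IsPullback (Spec.map inr ≫ T.isoSpec.inv) (Spec.map inl) r
      (Spec.map κ ≫ S.isoSpec.inv) :=
    IsPullback.of_iso hpb2 (Iso.refl _) T.isoSpec.symm (Iso.refl _) S.isoSpec.symm
      (by simp) (by simp) (by
        show Spec.map ρ ≫ S.isoSpec.inv = T.isoSpec.inv ≫ r
        rw [Iso.comp_inv_eq, Category.assoc, Iso.eq_inv_comp]
        exact hnat) (by simp)
  have h1 := finiteOfDegLE_of_fibreDegLE r n hr k (Spec.map κ ≫ S.isoSpec.inv) _ _ hpb
  rw [finiteOfDegLE_SpecMap_iff] at h1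
  exact finrank_toAlgebra_algebraMap k (k ⊗[C] R) n h1

/-- Degrees multiply along a composition `T → S → Spec K`. -/
theorem finiteOfDegLE_comp (K : Type u) [Field K] {T S : Scheme.{u}}
    (q : S ⟶ Spec (CommRingCat.of K)) (r : T ⟶ S) (n m : ℕ)
    (hq : BddFib.FiniteOfDegLE (CommRingCat.of K) q m) (hr : BddFib.FibreDegLE r n) :
    BddFib.FiniteOfDegLE (CommRingCat.of K) (r ≫ q) (n * m) := by
  haveI : DiscreteTopology ↥S := discreteTopology_of_finiteOfDegLE K q m hq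
  haveI : Finite ↥S := (finite_card_le_of_finiteOfDegLE K q m hq).1
  obtain ⟨hT1, hT2⟩ := finite_discrete_of_fibreDegLE r n hr
  haveI := hT1
  haveI := hT2
  haveI : IsAffine T := inferInstance
  rw [finiteOfDegLE_iff] at hq ⊢
  obtain ⟨haffS, hfinS, hrkS⟩ := hq
  refine ⟨inferInstance, ?_⟩
  letI algC : Algebra K Γ(S, ⊤) :=
    ((Scheme.ΓSpecIso (CommRingCat.of K)).inv ≫ q.appTop).hom.toAlgebra
  letI algR : Algebra K Γ(T, ⊤) :=
    ((Scheme.ΓSpecIso (CommRingCat.of K)).inv ≫ (r ≫ q).appTop).hom.toAlgebra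
  letI algCR : Algebra Γ(S, ⊤) Γ(T, ⊤) := r.appTop.hom.toAlgebra
  haveI : IsScalarTower K Γ(S, ⊤) Γ(T, ⊤) := IsScalarTower.of_algebraMap_eq (fun x => by
    show ((Scheme.ΓSpecIso (CommRingCat.of K)).inv ≫ (r ≫ q).appTop).hom x =
      r.appTop.hom (((Scheme.ΓSpecIso (CommRingCat.of K)).inv ≫ q.appTop).hom x)
    rw [Scheme.Hom.comp_appTop]
    rfl)
  haveI : Module.Finite K Γ(S, ⊤) := hfinS
  have H : ∀ 𝔪 : Ideal Γ(S, ⊤), 𝔪.IsMaximal →
      Module.Finite K (Γ(T, ⊤) ⧸ (𝔪 • ⊤ : Submodule Γ(S, ⊤) Γ(T, ⊤))) ∧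
      Module.finrank K (Γ(T, ⊤) ⧸ (𝔪 • ⊤ : Submodule Γ(S, ⊤) Γ(T, ⊤))) ≤
        n * Module.finrank K (Γ(S, ⊤) ⧸ 𝔪) := fun 𝔪 h𝔪 => by
    haveI := h𝔪
    exact FibDimAlg.fibre_cond K Γ(S, ⊤) Γ(T, ⊤) 𝔪 n (fibre_alg_cond r n hr 𝔪)
  obtain ⟨h1, h2⟩ := FibDimAlg.finrank_le_of_fibres K Γ(S, ⊤) Γ(T, ⊤) n H
  exact ⟨h1, h2.trans (Nat.mul_le_mul_left n hrkS)⟩

/-- Fibre degrees multiply along compositions. -/
theorem fibreDegLE_comp {X Y Z : Scheme.{u}} (f : X ⟶ Y) (g : Y ⟶ Z) (n m : ℕ)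
    (hf : BddFib.FibreDegLE f n) (hg : BddFib.FibreDegLE g m) :
    BddFib.FibreDegLE (f ≫ g) (n * m) := by
  intro z
  have hbig : IsPullback ((f ≫ g).fiberToSpecResidueField z) ((f ≫ g).fiberι z)
      (Z.fromSpecResidueField z) (f ≫ g) := (IsPullback.of_hasPullback _ _).flip
  have hright : IsPullback (g.fiberToSpecResidueField z) (g.fiberι z)
      (Z.fromSpecResidueField z) g := (IsPullback.of_hasPullback _ _).flip
  have hw : ((f ≫ g).fiberι z ≫ f) ≫ g =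
      (f ≫ g).fiberToSpecResidueField z ≫ Z.fromSpecResidueField z := by
    rw [Category.assoc]
    exact hbig.w.symm
  have hr1 := hright.flip.lift_fst _ _ hw
  have hr2 := hright.flip.lift_snd _ _ hw
  have hbig' : IsPullback (hright.flip.lift _ _ hw ≫ g.fiberToSpecResidueField z)
      ((f ≫ g).fiberι z) (Z.fromSpecResidueField z) (f ≫ g) := by
    rw [hr2]
    exact hbig
  have hleft := IsPullback.of_right hbig' hr1 hright
  have hfz : BddFib.FibreDegLE (hright.flip.lift _ _ hw) n :=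
    fibreDegLE_of_isPullback f (g.fiberι z) _ ((f ≫ g).fiberι z) hleft.flip n hf
  have h := finiteOfDegLE_comp (Z.residueField z) (g.fiberToSpecResidueField z)
    (hright.flip.lift _ _ hw) n m (hg z) hfz
  rw [hr2] at h
  exact h

end Groth.Agent.Helper4.BddFibLib
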