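import Mathlib
import Groth.Agent.Lib.Helper4.BddFibLib8

/-!
Fibre degrees of finite morphisms of affine schemes; finite open covers.
-/

set_option autoImplicit false
set_option linter.style.haveILetI false

open CategoryTheory AlgebraicGeometry Limits

namespace Groth.Agent.Helper4.BddFibLib

universe u

theorem finrank_toAlgebra_algebraMap' (K A : Type u) [CommRing K] [CommRing A] [Algebra K A]
    (n : ℕ) (h : Module.Finite K A ∧ Module.finrank K A ≤ n) :
    @Module.Finite K A _ _ (algebraMap K A).toAlgebra.toModule ∧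
      @Module.finrank K A _ _ (algebraMap K A).toAlgebra.toModule ≤ n := by
  have h1 : (algebraMap K A).toAlgebra = ‹Algebra K A› := Algebra.algebra_ext _ _ (fun r => rfl)
  rw [h1]
  exact h

open scoped TensorProduct in
theorem finrank_baseChange_le_of_span (A B k : Type u) [CommRing A] [CommRing B] [Algebra A B]
    [Field k] [Algebra A k] (N : ℕ) (s : Fin N → B) (hs : Submodule.span A (Set.range s) = ⊤) :
    Module.Finite k (k ⊗[A] B) ∧ Module.finrank k (k ⊗[A] B) ≤ N := by
  haveI : Nontrivial A := (algebraMap A k).domain_nontrivial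
  have hπ : Function.Surjective (Fintype.linearCombination A s) := by
    rw [← LinearMap.range_eq_top, Fintype.range_linearCombination, hs]
  have hBC : Function.Surjective ((Fintype.linearCombination A s).baseChange k) :=
    LinearMap.lTensor_surjective _ hπ
  haveI : Module.Finite k (k ⊗[A] B) := Module.Finite.of_surjective _ hBC
  refine ⟨this, ?_⟩
  have h1 := LinearMap.finrank_range_le ((Fintype.linearCombination A s).baseChange k)
  rw [LinearMap.range_eq_top.mpr hBC, finrank_top] at h1
  have h2 : Module.finrank k (k ⊗[A] (Fin N → A)) = N := by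
    rw [Module.finrank_baseChange]
    simp
  omega

open scoped TensorProduct in
theorem fibreDegLE_SpecMap_of_span (A B : Type u) [CommRing A] [CommRing B] [Algebra A B] (N : ℕ)
    (s : Fin N → B) (hs : Submodule.span A (Set.range s) = ⊤) :
    BddFib.FibreDegLE (Spec.map (CommRingCat.ofHom (algebraMap A B))) N := by
  rw [fibreDegLE_iff]
  intro k _ g
  obtain ⟨γ, rfl⟩ := Spec.map_surjective g
  letI : Algebra A k := γ.hom.toAlgebra
  let P : CommRingCat.{u} := CommRingCat.of (k ⊗[A] B)
  let inl : CommRingCat.of k ⟶ P := CommRingCat.ofHom Algebra.TensorProduct.includeLeftRingHom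
  let inr : CommRingCat.of B ⟶ P :=
    CommRingCat.ofHom (Algebra.TensorProduct.includeRight (R := A) (A := k) (B := B)).toRingHom
  have hpo : IsPushout γ (CommRingCat.ofHom (algebraMap A B)) inl inr :=
    CommRingCat.isPushout_tensorProduct A k B
  have hpb2 : IsPullback (Spec.map inr) (Spec.map inl)
      (Spec.map (CommRingCat.ofHom (algebraMap A B))) (Spec.map γ) :=
    isPullback_SpecMap_of_isPushout _ _ _ _ hpo.flip
  have hpb1 := IsPullback.of_hasPullback (Spec.map (CommRingCat.ofHom (algebraMap A B)))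
    (Spec.map γ)
  refine finiteOfDegLE_of_iso _ _ (Spec.map inl) (hpb1.isoIsPullback _ _ hpb2)
    (IsPullback.isoIsPullback_hom_snd _ _ hpb1 hpb2) N ?_
  rw [finiteOfDegLE_SpecMap_iff]
  exact finrank_toAlgebra_algebraMap' k (k ⊗[A] B) N (finrank_baseChange_le_of_span A B k N s hs)

/-- A scheme over a field covered by finitely many opens of bounded degree has bounded
degree. -/
theorem finiteOfDegLE_of_openCover (K : Type u) [Field K] {T : Scheme.{u}}
    (p : T ⟶ Spec (CommRingCat.of K)) {ι : Type*} [Fintype ι] (U : ι → T.Opens)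
    (hU : ⨆ i, U i = ⊤) (N : ι → ℕ)
    (h : ∀ i, BddFib.FiniteOfDegLE (CommRingCat.of K) ((U i).ι ≫ p) (N i)) :
    BddFib.FiniteOfDegLE (CommRingCat.of K) p (∑ i, N i) := by
  have hfin : ∀ i, Finite ↥(U i).toScheme := fun i =>
    (finite_card_le_of_finiteOfDegLE K _ (N i) (h i)).1
  have hdisc : ∀ i, DiscreteTopology ↥(U i).toScheme := fun i =>
    discreteTopology_of_finiteOfDegLE K _ (N i) (h i)
  haveI : Finite ↥T := by
    rw [← Set.finite_univ_iff]
    have h1 : (Set.univ : Set T) = ⋃ i, (U i : Set T) := by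
      rw [← TopologicalSpace.Opens.coe_iSup, hU]
      rfl
    rw [h1]
    exact Set.finite_iUnion (fun i => Set.finite_coe_iff.mp (hfin i))
  haveI : DiscreteTopology ↥T := by
    rw [discreteTopology_iff_isOpen_singleton]
    intro t
    have ht : t ∈ ⨆ i, U i := by
      rw [hU]
      trivial
    obtain ⟨i, hi⟩ := TopologicalSpace.Opens.mem_iSup.mp ht
    haveI := hdisc i
    have h1 : IsOpen ({⟨t, hi⟩} : Set ↥(U i).toScheme) := isOpen_discrete _
    have h2 := (U i).ι.isOpenEmbedding.isOpenMap _ h1
    rwa [Set.image_singleton] at h2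
  haveI : IsAffine T := inferInstance
  rw [finiteOfDegLE_iff]
  refine ⟨inferInstance, ?_⟩
  letI algT : Algebra K Γ(T, ⊤) :=
    ((Scheme.ΓSpecIso (CommRingCat.of K)).inv ≫ p.appTop).hom.toAlgebra
  letI algU : ∀ i, Algebra K Γ((U i).toScheme, ⊤) := fun i =>
    ((Scheme.ΓSpecIso (CommRingCat.of K)).inv ≫ ((U i).ι ≫ p).appTop).hom.toAlgebra
  have hU' : ∀ i, Module.Finite K Γ((U i).toScheme, ⊤) ∧
      Module.finrank K Γ((U i).toScheme, ⊤) ≤ N i := fun i =>
    ((finiteOfDegLE_iff _ _ _).mp (h i)).2
  let Li : ∀ i, Γ(T, ⊤) →ₗ[K] Γ((U i).toScheme, ⊤) := fun i =>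
    { toFun := (U i).ι.appTop.hom
      map_add' := fun x y => map_add _ x y
      map_smul' := fun c x => by
        show (U i).ι.appTop.hom (((Scheme.ΓSpecIso (CommRingCat.of K)).inv ≫ p.appTop).hom c * x) =
          ((Scheme.ΓSpecIso (CommRingCat.of K)).inv ≫ ((U i).ι ≫ p).appTop).hom c *
            (U i).ι.appTop.hom x
        rw [map_mul, Scheme.Hom.comp_appTop]
        rfl }
  have hL : Function.Injective (LinearMap.pi Li) := by
    rw [← LinearMap.ker_eq_bot, LinearMap.ker_eq_bot']
    intro s hs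
    refine TopCat.Sheaf.eq_of_locally_eq' T.sheaf (fun i => (U i).ι ''ᵁ ⊤) ⊤
      (fun i => homOfLE le_top) ?_ s 0 ?_
    · intro x _
      have ht : x ∈ ⨆ i, U i := by
        rw [hU]
        trivial
      obtain ⟨i, hi⟩ := TopologicalSpace.Opens.mem_iSup.mp ht
      refine TopologicalSpace.Opens.mem_iSup.mpr ⟨i, ?_⟩
      rw [Scheme.Opens.ι_image_top]
      exact hi
    · intro i
      have h1 := congrFun hs i
      rw [map_zero]
      exact h1
  haveI : ∀ i, Module.Finite K Γ((U i).toScheme, ⊤) := fun i => (hU' i).1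
  haveI : Module.Finite K Γ(T, ⊤) := Module.Finite.of_injective (LinearMap.pi Li) hL
  refine ⟨inferInstance, ?_⟩
  calc Module.finrank K Γ(T, ⊤)
      ≤ Module.finrank K (∀ i, Γ((U i).toScheme, ⊤)) :=
        LinearMap.finrank_le_finrank_of_injective hL
    _ = ∑ i, Module.finrank K Γ((U i).toScheme, ⊤) := Module.finrank_pi_fintype K
    _ ≤ ∑ i, N i := Finset.sum_le_sum (fun i _ => (hU' i).2)

/-- Fibre degrees can be bounded on a finite open cover of the source. -/
theorem fibreDegLE_of_openCover {X Y : Scheme.{u}} (f : X ⟶ Y) {ι : Type*} [Fintype ι]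
    (W : ι → X.Opens) (hW : ⨆ i, W i = ⊤) (N : ι → ℕ)
    (h : ∀ i, BddFib.FibreDegLE ((W i).ι ≫ f) (N i)) : BddFib.FibreDegLE f (∑ i, N i) := by
  intro y
  have hbot : IsPullback (f.fiberι y) (f.fiberToSpecResidueField y) f
      (Y.fromSpecResidueField y) := IsPullback.of_hasPullback _ _
  refine finiteOfDegLE_of_openCover (Y.residueField y) (f.fiberToSpecResidueField y)
    (fun i => (f.fiberι y) ⁻¹ᵁ (W i)) ?_ N ?_
  · rw [← Scheme.Hom.preimage_iSup, hW]
    rfl
  · intro i
    have hmr := isPullback_morphismRestrict (f.fiberι y) (W i)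
    have hP := hmr.paste_vert hbot
    exact finiteOfDegLE_of_fibreDegLE ((W i).ι ≫ f) (N i) (h i) (Y.residueField y)
      (Y.fromSpecResidueField y) _ _ hP

end Groth.Agent.Helper4.BddFibLib
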