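import Mathlib
import Groth.Agent.Lib.Helper4.BddFibLib9

/-!
Locally quasi-finite morphisms with quasi-compact source have universally bounded fibres.
-/

set_option autoImplicit false
set_option linter.style.haveILetI false

open CategoryTheory AlgebraicGeometry Limits

namespace Groth.Agent.Helper4.BddFibLib

universe u

theorem exists_opens_fibreDegLE {X Y : Scheme.{u}} (f : X ⟶ Y) [LocallyQuasiFinite f]
    [LocallyOfFiniteType f] (x : X) :
    ∃ W : X.Opens, x ∈ W ∧ ∃ N : ℕ, BddFib.FibreDegLE (W.ι ≫ f) N := by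
  obtain ⟨_, ⟨V, hV0, rfl⟩, hxV, -⟩ := Y.isBasis_affineOpens.exists_subset_of_mem_open
    (Set.mem_univ (f x)) isOpen_univ
  have hV : IsAffineOpen V := hV0
  obtain ⟨_, ⟨U, hU0, rfl⟩, hxU, hUV : U ≤ f ⁻¹ᵁ V⟩ :=
    X.isBasis_affineOpens.exists_subset_of_mem_open hxV (f ⁻¹ᵁ V).2
  have hU : IsAffineOpen U := hU0
  have hft : (f.appLE V U hUV).hom.FiniteType := f.finiteType_appLE hV hU hUV
  have hqf : (f.appLE V U hUV).hom.QuasiFinite :=
    HasRingHomProperty.appLE (P := @LocallyQuasiFinite) f inferInstance ⟨V, hV⟩ ⟨U, hU⟩ hUV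
  letI alg : Algebra Γ(Y, V) Γ(X, U) := (f.appLE V U hUV).hom.toAlgebra
  haveI : Algebra.FiniteType Γ(Y, V) Γ(X, U) := hft
  haveI : Algebra.QuasiFinite Γ(Y, V) Γ(X, U) := hqf
  obtain ⟨S', hS', r, hrp, hbij⟩ :=
    Algebra.QuasiFiniteAt.exists_fg_and_exists_notMem_and_awayMap_bijective (R := Γ(Y, V))
      (hU.primeIdealOf ⟨x, hxU⟩).asIdeal
  haveI : Module.Finite Γ(Y, V) S' := ⟨(Submodule.fg_top _).mpr hS'⟩
  obtain ⟨N, s, hs⟩ := Module.Finite.exists_fin (R := Γ(Y, V)) (M := S')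
  let a1 : Γ(Y, V) ⟶ CommRingCat.of S' := CommRingCat.ofHom (algebraMap Γ(Y, V) S')
  let a2 : CommRingCat.of S' ⟶ Γ(X, U) := CommRingCat.ofHom S'.val.toRingHom
  let l1 : CommRingCat.of S' ⟶ CommRingCat.of (Localization.Away r) :=
    CommRingCat.ofHom (algebraMap S' (Localization.Away r))
  let l2 : Γ(X, U) ⟶ CommRingCat.of (Localization.Away (S'.val.toRingHom r)) :=
    CommRingCat.ofHom (algebraMap Γ(X, U) (Localization.Away (S'.val.toRingHom r)))
  let am : CommRingCat.of (Localization.Away r) ⟶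
      CommRingCat.of (Localization.Away (S'.val.toRingHom r)) :=
    CommRingCat.ofHom (Localization.awayMap S'.val.toRingHom r)
  have hφ : f.appLE V U hUV = a1 ≫ a2 := by
    ext a
    rfl
  have hsq : l1 ≫ am = a2 ≫ l2 := by
    ext t
    show Localization.awayMap S'.val.toRingHom r (algebraMap S' (Localization.Away r) t) =
      algebraMap Γ(X, U) (Localization.Away (S'.val.toRingHom r)) (S'.val.toRingHom t)
    exact IsLocalization.map_eq (M := Submonoid.powers r)
      (T := Submonoid.powers (S'.val.toRingHom r)) (S := Localization.Away r)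
      (Q := Localization.Away (S'.val.toRingHom r)) (g := S'.val.toRingHom) _ t
  haveI : IsIso am := (ConcreteCategory.isIso_iff_bijective am).mpr hbij
  haveI : IsOpenImmersion (Spec.map l1) := inferInstance
  haveI : IsOpenImmersion (Spec.map l2) := inferInstance
  have hc : (Spec.map l2 ≫ hU.fromSpec) ≫ f =
      Spec.map am ≫ Spec.map l1 ≫ Spec.map a1 ≫ hV.fromSpec := by
    have h1 : hU.fromSpec ≫ f = Spec.map (f.appLE V U hUV) ≫ hV.fromSpec :=
      (IsAffineOpen.SpecMap_appLE_fromSpec f hV hU hUV).symm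
    have h2 : Spec.map l2 ≫ Spec.map a2 = Spec.map am ≫ Spec.map l1 := by
      rw [← Spec.map_comp, ← Spec.map_comp, hsq]
    rw [Category.assoc, h1, hφ, Spec.map_comp]
    simp only [Category.assoc]
    rw [reassoc_of% h2]
  have d1 : BddFib.FibreDegLE (Spec.map am) 1 := fibreDegLE_one_of_isImmersion _
  have d2 : BddFib.FibreDegLE (Spec.map l1) 1 := fibreDegLE_one_of_isImmersion _
  have d3 : BddFib.FibreDegLE (Spec.map a1) N := fibreDegLE_SpecMap_of_span Γ(Y, V) S' N s hs
  have d4 : BddFib.FibreDegLE hV.fromSpec 1 := fibreDegLE_one_of_isImmersion _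
  have d34 := fibreDegLE_comp (Spec.map a1) hV.fromSpec N 1 d3 d4
  have d234 := fibreDegLE_comp (Spec.map l1) _ 1 (N * 1) d2 d34
  have d1234 := fibreDegLE_comp (Spec.map am) _ 1 (1 * (N * 1)) d1 d234
  rw [← hc] at d1234
  have d0 : BddFib.FibreDegLE (Spec.map l2 ≫ hU.fromSpec).isoOpensRange.inv 1 :=
    fibreDegLE_one_of_isImmersion _
  have dfin := fibreDegLE_comp _ _ 1 _ d0 d1234
  rw [← Category.assoc, Scheme.Hom.isoOpensRange_inv_comp] at dfin
  refine ⟨(Spec.map l2 ≫ hU.fromSpec).opensRange, ?_, _, dfin⟩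
  have hx1 : hU.fromSpec (hU.primeIdealOf ⟨x, hxU⟩) = x := hU.fromSpec_primeIdealOf ⟨x, hxU⟩
  have hmem : hU.primeIdealOf ⟨x, hxU⟩ ∈
      Set.range (PrimeSpectrum.comap (algebraMap Γ(X, U)
        (Localization.Away (S'.val.toRingHom r)))) := by
    rw [PrimeSpectrum.localization_away_comap_range _ (S'.val.toRingHom r)]
    exact hrp
  obtain ⟨z, hz⟩ := hmem
  refine ⟨z, ?_⟩
  rw [Scheme.Hom.comp_apply]
  rw [← hx1]
  congr 1

/-- A locally quasi-finite morphism locally of finite type with quasi-compact source has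
universally bounded fibres. -/
theorem univBounded_of_locallyQuasiFinite {X Y : Scheme.{u}} (f : X ⟶ Y) [LocallyQuasiFinite f]
    [LocallyOfFiniteType f] [CompactSpace X] : BddFib.UnivBounded f := by
  choose W hxW N hN using exists_opens_fibreDegLE f
  obtain ⟨t, ht⟩ := isCompact_univ.elim_finite_subcover (fun x => (W x : Set X))
    (fun x => (W x).isOpen) (fun x _ => Set.mem_iUnion.mpr ⟨x, hxW x⟩)
  refine ⟨∑ i : ↥t, N i.1, fibreDegLE_of_openCover f (fun i : ↥t => W i.1) ?_ (fun i => N i.1)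
    (fun i => hN i.1)⟩
  rw [eq_top_iff]
  intro x _
  obtain ⟨y, hy, hxy⟩ := Set.mem_iUnion₂.mp (ht (Set.mem_univ x))
  exact TopologicalSpace.Opens.mem_iSup.mpr ⟨⟨y, hy⟩, hxy⟩

end Groth.Agent.Helper4.BddFibLib
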