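import Mathlib
import Groth.Agent.Lib.Helper4.BddFibLib2
import Groth.Agent.Lib.Helper4.ArtinCount

/-!
Sum of residue degrees for morphisms with bounded fibre degrees.
-/

set_option autoImplicit false

open CategoryTheory AlgebraicGeometry Limits

namespace Groth.Agent.Helper4.BddFibLib

universe u

theorem appTop_fromSpecResidueField (T : Scheme.{u}) (x : T) :
    (T.fromSpecResidueField x).appTop =
      T.Γevaluation x ≫ (Scheme.ΓSpecIso (T.residueField x)).inv := by
  rw [Scheme.fromSpecResidueField, Scheme.Hom.comp_appTop, Scheme.fromSpecStalk_appTop]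
  simp only [Category.assoc]
  have h1 : (Spec (T.presheaf.stalk x)).presheaf.map
      (homOfLE (le_top : (⊤ : (Spec (T.presheaf.stalk x)).Opens) ≤ ⊤)).op = 𝟙 _ := by
    exact (Spec (T.presheaf.stalk x)).presheaf.map_id _
  rw [h1, Category.id_comp, ← Scheme.ΓSpecIso_inv_naturality]
  rfl

theorem Γevaluation_surjective_of_isClosed (T : Scheme.{u}) [IsAffine T] (x : T)
    (hx : IsClosed ({x} : Set T)) : Function.Surjective (T.Γevaluation x) := by
  haveI : IsClosedImmersion (T.fromSpecResidueField x) :=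
    (isClosed_singleton_iff_isClosedImmersion).mp hx
  obtain ⟨_, hs⟩ := IsClosedImmersion.isAffine_surjective_of_isAffine (T.fromSpecResidueField x)
  rw [appTop_fromSpecResidueField] at hs
  intro y
  obtain ⟨b, hb⟩ := hs ((Scheme.ΓSpecIso (T.residueField x)).inv y)
  refine ⟨b, (ConcreteCategory.bijective_of_isIso (Scheme.ΓSpecIso (T.residueField x)).inv).1 ?_⟩
  exact hb

theorem residueDegree_eq (k : Type u) [Field k] {T : Scheme.{u}} [IsAffine T]
    (q : T ⟶ Spec (CommRingCat.of k)) (x : T) (hx : IsClosed ({x} : Set T)) :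
    letI : Algebra k Γ(T, ⊤) :=
      ((Scheme.ΓSpecIso (CommRingCat.of k)).inv ≫ q.appTop).hom.toAlgebra
    q.residueDegree x = Module.finrank k (Γ(T, ⊤) ⧸ RingHom.ker (T.Γevaluation x).hom) := by
  letI : Algebra k Γ(T, ⊤) :=
    ((Scheme.ΓSpecIso (CommRingCat.of k)).inv ≫ q.appTop).hom.toAlgebra
  let a : CommRingCat.of k ⟶ Γ(T, ⊤) := (Scheme.ΓSpecIso (CommRingCat.of k)).inv ≫ q.appTop
  let ev : Γ(T, ⊤) ⟶ T.residueField x := T.Γevaluation x
  let r : (Spec (CommRingCat.of k)).residueField (q x) ⟶ T.residueField x := q.residueFieldMap x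
  let j : CommRingCat.of k ⟶ (Spec (CommRingCat.of k)).residueField (q x) :=
    (Scheme.ΓSpecIso (CommRingCat.of k)).inv ≫ (Spec (CommRingCat.of k)).Γevaluation (q x)
  have hjr : j ≫ r = a ≫ ev := by
    show ((Scheme.ΓSpecIso (CommRingCat.of k)).inv ≫ (Spec (CommRingCat.of k)).Γevaluation (q x)) ≫
      q.residueFieldMap x = ((Scheme.ΓSpecIso (CommRingCat.of k)).inv ≫ q.appTop) ≫ T.Γevaluation x
    rw [Category.assoc, Category.assoc, Scheme.Γevaluation_naturality]
  have hev : Function.Surjective ev.hom := Γevaluation_surjective_of_isClosed T x hx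
  have hj : Function.Bijective j.hom := by
    constructor
    · exact RingHom.injective j.hom
    · have h1 := Γevaluation_surjective_of_isClosed (Spec (CommRingCat.of k)) (q x)
        (isClosed_discrete _)
      show Function.Surjective ((Scheme.ΓSpecIso (CommRingCat.of k)).inv ≫
        (Spec (CommRingCat.of k)).Γevaluation (q x)).hom
      rw [CommRingCat.hom_comp, RingHom.coe_comp]
      exact h1.comp (ConcreteCategory.bijective_of_isIso _).2
  symm
  letI : Algebra ((Spec (CommRingCat.of k)).residueField (q x)) (T.residueField x) :=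
    r.hom.toAlgebra
  show Module.finrank k (Γ(T, ⊤) ⧸ RingHom.ker ev.hom) =
    Module.finrank ((Spec (CommRingCat.of k)).residueField (q x)) (T.residueField x)
  refine Algebra.finrank_eq_of_equiv_equiv (RingEquiv.ofBijective j.hom hj)
    (RingHom.quotientKerEquivOfSurjective hev) ?_
  ext c
  show r.hom (j.hom c) = ev.hom (a.hom c)
  exact congrArg (fun f => f.hom c) hjr

theorem ker_Γevaluation (T : Scheme.{u}) (x : T) :
    RingHom.ker (T.Γevaluation x).hom = (T.toSpecΓ x).asIdeal := by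
  ext b
  rw [RingHom.mem_ker, Scheme.toSpecΓ_apply]
  show IsLocalRing.residue _ ((T.presheaf.Γgerm x).hom b) = 0 ↔
    (T.presheaf.Γgerm x).hom b ∈ IsLocalRing.maximalIdeal _
  exact IsLocalRing.residue_eq_zero_iff _

theorem sum_residueDegree_le_of_finiteOfDegLE (k : Type u) [Field k] {T : Scheme.{u}}
    (q : T ⟶ Spec (CommRingCat.of k)) (n : ℕ)
    (h : BddFib.FiniteOfDegLE (CommRingCat.of k) q n) :
    Finite ↥T ∧ ∑ᶠ x : ↥T, q.residueDegree x ≤ n := by
  have hfin := (finite_card_le_of_finiteOfDegLE k q n h).1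
  refine ⟨hfin, ?_⟩
  rw [finiteOfDegLE_iff] at h
  obtain ⟨haff, hfinite, hrk⟩ := h
  letI : Algebra k Γ(T, ⊤) :=
    ((Scheme.ΓSpecIso (CommRingCat.of k)).inv ≫ q.appTop).hom.toAlgebra
  haveI : Module.Finite k Γ(T, ⊤) := hfinite
  haveI : IsArtinianRing Γ(T, ⊤) := IsArtinianRing.of_finite k _
  haveI : DiscreteTopology (Spec Γ(T, ⊤)) :=
    inferInstanceAs (DiscreteTopology (PrimeSpectrum _))
  haveI : DiscreteTopology T := T.isoSpec.hom.homeomorph.symm.discreteTopology
  have h1 : ∀ x : T, q.residueDegree x =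
      Module.finrank k (Γ(T, ⊤) ⧸ (T.toSpecΓ x).asIdeal) := by
    intro x
    rw [residueDegree_eq k q x (isClosed_discrete _), ker_Γevaluation]
  rw [finsum_congr h1]
  let e : ↥T ≃ PrimeSpectrum Γ(T, ⊤) := T.isoSpec.hom.homeomorph.toEquiv
  have h2 : ∑ᶠ x : ↥T, Module.finrank k (Γ(T, ⊤) ⧸ (T.toSpecΓ x).asIdeal) =
      ∑ᶠ P : PrimeSpectrum Γ(T, ⊤), Module.finrank k (Γ(T, ⊤) ⧸ P.asIdeal) :=
    finsum_comp_equiv e (f := fun P : PrimeSpectrum Γ(T, ⊤) =>
      Module.finrank k (Γ(T, ⊤) ⧸ P.asIdeal))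
  rw [h2]
  exact (ArtinCount.sum_finrank_quotient_prime_le k Γ(T, ⊤)).trans hrk

theorem sum_residueDegree_le_of_fibreDegLE {X Y : Scheme.{u}} (f : X ⟶ Y) (n : ℕ)
    (hf : BddFib.FibreDegLE f n) (k : Type u) [Field k] (g : Spec (CommRingCat.of k) ⟶ Y) :
    Finite ↥(Limits.pullback f g) ∧
      ∑ᶠ x : ↥(Limits.pullback f g), (Limits.pullback.snd f g).residueDegree x ≤ n :=
  sum_residueDegree_le_of_finiteOfDegLE k (Limits.pullback.snd f g) n
    ((fibreDegLE_iff f n).mp hf k g)

end Groth.Agent.Helper4.BddFibLib
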