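import Mathlib
import Groth.Prelude.Def_BlowUp2
import Groth.Prelude.Def_CurvBase
import Groth.Agent.Lib.Helper4.EffCartierPull
import Groth.Agent.Lib.Helper4.BlowupIso

/-!
Affine recognition of blow-ups: if `A → B` is injective, `I·B ⊆ image of I` and `I·B = (f)` with `f`
a nonzerodivisor, then `Spec B → Spec A` is the blow-up of `Spec A` in `I`.
-/

set_option autoImplicit false
set_option linter.style.haveILetI false

open CategoryTheory CategoryTheory.Limits AlgebraicGeometry AlgebraicGeometry.Scheme TopologicalSpace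

namespace Groth.Agent.Helper4.BlowupAffine

universe u

section Algebra

variable {A B : Type*} [CommRing A] [CommRing B] (φ : A →+* B)

lemma mul_le (hinj : Function.Injective φ) (I : Ideal A)
    (hIB : (I.map φ : Set B) ⊆ φ '' (I : Set A)) (f : B) (hgen : I.map φ = Ideal.span {f})
    (a₀ : A) (ha₀ : φ a₀ = f) : I * I ≤ Ideal.span {a₀} * I := by
  rw [Ideal.mul_le]
  intro a ha a' ha'
  have h1 : φ a ∈ Ideal.span {f} := hgen ▸ Ideal.mem_map_of_mem φ ha
  obtain ⟨b, hb⟩ := Ideal.mem_span_singleton'.mp h1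
  have h2 : b * φ a' ∈ I.map φ := Ideal.mul_mem_left _ _ (Ideal.mem_map_of_mem φ ha')
  obtain ⟨a'', ha'', hφ⟩ := hIB h2
  have : a * a' = a₀ * a'' := hinj (by rw [map_mul, map_mul, ha₀, hφ, ← hb]; ring)
  rw [this]
  exact Ideal.mul_mem_mul (Ideal.mem_span_singleton_self a₀) ha''

lemma local_gen {C : Type*} [CommRing C] (I : Ideal A) (a₀ : A) (ha₀I : a₀ ∈ I)
    (hmul : I * I ≤ Ideal.span {a₀} * I)
    (γ : A →+* C) (e : C) (he : e ∈ nonZeroDivisors C) (hI : I.map γ = Ideal.span {e}) :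
    γ a₀ ∈ nonZeroDivisors C ∧ I.map γ = Ideal.span {γ a₀} := by
  have h1 : Ideal.span {e} * Ideal.span {e} ≤ Ideal.span {γ a₀} * Ideal.span {e} := by
    have := Ideal.map_mono (f := γ) hmul
    rwa [Ideal.map_mul, Ideal.map_mul, hI, Ideal.map_span, Set.image_singleton] at this
  rw [Ideal.span_singleton_mul_span_singleton, Ideal.span_singleton_mul_span_singleton,
    Ideal.span_singleton_le_iff_mem, Ideal.mem_span_singleton'] at h1
  obtain ⟨c, hc⟩ := h1
  have h2 : c * γ a₀ = e := (mul_cancel_right_mem_nonZeroDivisors he).mp (by rw [← hc]; ring)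
  have h3 : γ a₀ ∈ Ideal.span {e} := hI ▸ Ideal.mem_map_of_mem γ ha₀I
  obtain ⟨c', hc'⟩ := Ideal.mem_span_singleton'.mp h3
  have h4 : c' * c = 1 := by
    apply (mul_cancel_right_mem_nonZeroDivisors he).mp
    rw [one_mul, mul_comm c' c, mul_assoc, hc', h2]
  constructor
  · rw [← hc']
    exact mul_mem (IsUnit.mem_nonZeroDivisors (IsUnit.of_mul_eq_one c h4)) he
  · rw [hI]
    apply le_antisymm
    · rw [Ideal.span_singleton_le_iff_mem]; exact Ideal.mem_span_singleton'.mpr ⟨c, h2⟩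
    · rw [Ideal.span_singleton_le_iff_mem]; exact h3

/-- Ring-level universal property. -/
theorem existsUnique_ringHom {C : Type*} [CommRing C] (hinj : Function.Injective φ) (I : Ideal A)
    (hIB : (I.map φ : Set B) ⊆ φ '' (I : Set A)) (f : B)
    (hgen : I.map φ = Ideal.span {f}) (a₀ : A) (ha₀ : φ a₀ = f)
    (γ : A →+* C) (hγ : γ a₀ ∈ nonZeroDivisors C) (hdiv : ∀ a ∈ I, ∃ c, c * γ a₀ = γ a) :
    ∃! ψ : B →+* C, ψ.comp φ = γ := by
  have hex : ∀ b : B, ∃ (c : C) (a : A), φ a = b * f ∧ c * γ a₀ = γ a := by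
    intro b
    have h1 : b * f ∈ I.map φ := by
      rw [hgen]; exact Ideal.mul_mem_left _ _ (Ideal.mem_span_singleton_self f)
    obtain ⟨a, ha, hφ⟩ := hIB h1
    obtain ⟨c, hc⟩ := hdiv a ha
    exact ⟨c, a, hφ, hc⟩
  choose ψ α hα hψ using hex
  have key : ∀ (b : B) (a : A) (c : C), φ a = b * f → c * γ a₀ = γ a → ψ b = c := by
    intro b a c h1 h2
    have : α b = a := hinj (by rw [hα, h1])
    apply (mul_cancel_right_mem_nonZeroDivisors hγ).mp
    rw [hψ, this, h2]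
  have hone : ψ 1 = 1 := key 1 a₀ 1 (by rw [ha₀, one_mul]) (one_mul _)
  have hmul : ∀ b b', ψ (b * b') = ψ b * ψ b' := by
    intro b b'
    apply key (b * b') (α (b * b')) _ (hα _)
    apply (mul_cancel_right_mem_nonZeroDivisors hγ).mp
    have h1 : α (b * b') * a₀ = α b * α b' := hinj (by
      rw [map_mul, map_mul, hα, hα, hα, ha₀]; ring)
    calc ψ b * ψ b' * γ a₀ * γ a₀ = (ψ b * γ a₀) * (ψ b' * γ a₀) := by ring
      _ = γ (α b) * γ (α b') := by rw [hψ, hψ]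
      _ = γ (α (b * b')) * γ a₀ := by rw [← map_mul, ← h1, map_mul]
  have hadd : ∀ b b', ψ (b + b') = ψ b + ψ b' := by
    intro b b'
    apply key (b + b') (α b + α b') _
    · rw [map_add, hα, hα, add_mul]
    · rw [add_mul, hψ, hψ, map_add]
  let Ψ : B →+* C := RingHom.mk' ⟨⟨ψ, hone⟩, hmul⟩ hadd
  have hΨ : ∀ b, Ψ b = ψ b := fun _ => rfl
  refine ⟨Ψ, ?_, ?_⟩
  · ext a
    rw [RingHom.comp_apply, hΨ]
    exact key (φ a) (a * a₀) (γ a) (by rw [map_mul, ha₀]) (by rw [map_mul])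
  · intro Ψ' hΨ'
    ext b
    rw [hΨ]
    symm
    apply key b (α b) _ (hα b)
    have : γ = Ψ'.comp φ := hΨ'.symm
    rw [this, RingHom.comp_apply, RingHom.comp_apply, ← map_mul, hα, ha₀]

end Algebra

section Scheme

variable {Y : Scheme.{u}}

lemma germ_top_eq (U : Y.Opens) (d : Γ(Y, ⊤)) (y : Y) (hy : y ∈ U) :
    Y.presheaf.germ U y hy ((Y.presheaf.map (homOfLE (le_top : U ≤ ⊤)).op).hom d) =
      Y.presheaf.germ ⊤ y trivial d :=
  TopCat.Presheaf.germ_res_apply Y.presheaf (homOfLE (le_top : U ≤ ⊤)) y hy d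

lemma germ_nzd_of_locally (d : Γ(Y, ⊤))
    (h : ∀ y : Y, ∃ U : Y.affineOpens, y ∈ U.1 ∧
      (Y.presheaf.map (homOfLE (le_top : U.1 ≤ ⊤)).op).hom d ∈ nonZeroDivisors Γ(Y, U.1))
    (y : Y) : Y.presheaf.germ ⊤ y trivial d ∈ nonZeroDivisors (Y.presheaf.stalk y) := by
  obtain ⟨U, hyU, hd⟩ := h y
  rw [← germ_top_eq U.1 d y hyU]
  exact BlowupIso.germ_mem_nonZeroDivisors U.2 _ hd y hyU

lemma nzd_of_locally (d : Γ(Y, ⊤))
    (h : ∀ y : Y, ∃ U : Y.affineOpens, y ∈ U.1 ∧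
      (Y.presheaf.map (homOfLE (le_top : U.1 ≤ ⊤)).op).hom d ∈ nonZeroDivisors Γ(Y, U.1)) :
    d ∈ nonZeroDivisors Γ(Y, ⊤) :=
  BlowupIso.mem_nonZeroDivisors_of_germ d (fun y _ => germ_nzd_of_locally d h y)

lemma exists_mul_eq_of_locally (d r : Γ(Y, ⊤))
    (hd : ∀ y : Y, Y.presheaf.germ ⊤ y trivial d ∈ nonZeroDivisors (Y.presheaf.stalk y))
    (h : ∀ y : Y, ∃ U : Y.Opens, y ∈ U ∧
      ∃ c : Γ(Y, U), c * (Y.presheaf.map (homOfLE (le_top : U ≤ ⊤)).op).hom d =
        (Y.presheaf.map (homOfLE (le_top : U ≤ ⊤)).op).hom r) :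
    ∃ c : Γ(Y, ⊤), c * d = r := by
  choose U hyU c hc using h
  have hgerm : ∀ (y w : Y) (hw : w ∈ U y), Y.presheaf.germ (U y) w hw (c y) *
      Y.presheaf.germ ⊤ w trivial d = Y.presheaf.germ ⊤ w trivial r := by
    intro y w hw
    rw [← germ_top_eq (U y) d w hw, ← germ_top_eq (U y) r w hw, ← map_mul, hc]
  have hcompat : TopCat.Presheaf.IsCompatible Y.presheaf U c := by
    intro y z
    apply TopCat.Presheaf.section_ext Y.sheaf (U y ⊓ U z)
    intro w hw
    have e1 := TopCat.Presheaf.germ_res_apply Y.presheaf (Opens.infLELeft (U y) (U z)) w hw (c y)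
    have e2 := TopCat.Presheaf.germ_res_apply Y.presheaf (Opens.infLERight (U y) (U z)) w hw (c z)
    refine e1.trans (Eq.trans ?_ e2.symm)
    apply (mul_cancel_right_mem_nonZeroDivisors (hd w)).mp
    rw [hgerm y w hw.1, hgerm z w hw.2]
  obtain ⟨s, hs, -⟩ : ∃! s : Γ(Y, ⊤), ∀ y,
      (Y.presheaf.map (homOfLE (le_top : U y ≤ ⊤)).op).hom s = c y :=
    Y.sheaf.existsUnique_gluing' U ⊤ (fun y => homOfLE le_top)
      (fun y _ => Opens.mem_iSup.2 ⟨y, hyU y⟩) c hcompat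
  refine ⟨s, ?_⟩
  apply TopCat.Presheaf.section_ext Y.sheaf ⊤
  intro w hw
  change Y.presheaf.germ ⊤ w trivial (s * d) = Y.presheaf.germ ⊤ w trivial r
  have e1 : Y.presheaf.germ ⊤ w trivial s = Y.presheaf.germ (U w) w (hyU w) (c w) := by
    rw [← germ_top_eq (U w) s w (hyU w), hs w]
  rw [map_mul, e1]
  exact hgerm w w (hyU w)

variable (A : Type u) [CommRing A] (I : Ideal A)

lemma comap_ideal (g : Y ⟶ Spec (CommRingCat.of A)) (U : Y.affineOpens) :
    ((Curv2.idealSheaf A I).comap g).ideal U =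
      I.map ((Y.presheaf.map (homOfLE (le_top : U.1 ≤ ⊤)).op).hom.comp
        ((Scheme.ΓSpecIso (CommRingCat.of A)).inv ≫ g.appTop).hom) := by
  have e : U.1 ≤ g ⁻¹ᵁ (⊤ : (Spec (CommRingCat.of A)).Opens) := fun _ _ => trivial
  rw [EffCartierPull.ideal_comap_appLE g _ U ⟨⊤, isAffineOpen_top _⟩ e]
  unfold Curv2.idealSheaf
  rw [Scheme.IdealSheafData.ofIdealTop_ideal, Ideal.map_map, Ideal.map_map]
  congr 1

lemma toSpecΓ_comp_appTop (R : CommRingCat.{u}) (ψ : R ⟶ Γ(Y, ⊤)) :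
    (Scheme.ΓSpecIso R).inv ≫ (Y.toSpecΓ ≫ Spec.map ψ).appTop = ψ := by
  rw [Scheme.Hom.comp_appTop, Scheme.toSpecΓ_appTop, ← Scheme.ΓSpecIso_inv_naturality_assoc,
    Iso.inv_hom_id, Category.comp_id]

theorem isBlowUp_affine (A B : Type u) [CommRing A] [CommRing B] [Algebra A B]
    (hinj : Function.Injective (algebraMap A B)) (I : Ideal A)
    (hIB : (Ideal.map (algebraMap A B) I : Set B) ⊆ algebraMap A B '' (I : Set A))
    (f : B) (hf : f ∈ nonZeroDivisors B) (hgen : Ideal.map (algebraMap A B) I = Ideal.span {f}) :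
    BlowUp.IsBlowUp (Spec.map (CommRingCat.ofHom (algebraMap A B))) (Curv2.idealSheaf A I) := by
  obtain ⟨a₀, ha₀I, ha₀⟩ : ∃ a₀ ∈ I, algebraMap A B a₀ = f := by
    have : f ∈ I.map (algebraMap A B) := by rw [hgen]; exact Ideal.mem_span_singleton_self f
    exact hIB this
  have hmul := mul_le (algebraMap A B) hinj I hIB f hgen a₀ ha₀
  constructor
  · intro x
    refine ⟨⟨⊤, isAffineOpen_top _⟩, trivial, ?_⟩
    rw [comap_ideal]
    have hres : (Spec (CommRingCat.of B)).presheaf.map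
        (homOfLE (le_top : (⊤ : (Spec (CommRingCat.of B)).Opens) ≤ ⊤)).op = 𝟙 _ :=
      (Spec (CommRingCat.of B)).presheaf.map_id _
    rw [hres, ← Scheme.ΓSpecIso_inv_naturality, CommRingCat.hom_id, RingHom.id_comp,
      CommRingCat.hom_comp, CommRingCat.hom_ofHom, ← Ideal.map_map, hgen, Ideal.map_span,
      Set.image_singleton]
    refine ⟨_, ?_, rfl⟩
    exact BlowupIso.map_mem_nonZeroDivisors_of_bijective _
      (ConcreteCategory.bijective_of_isIso (Scheme.ΓSpecIso (CommRingCat.of B)).inv) hf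
  · intro Y g hY
    set γ : A →+* Γ(Y, ⊤) := ((Scheme.ΓSpecIso (CommRingCat.of A)).inv ≫ g.appTop).hom with hγdef
    have hloc : ∀ y : Y, ∃ U : Y.affineOpens, y ∈ U.1 ∧
        (Y.presheaf.map (homOfLE (le_top : U.1 ≤ ⊤)).op).hom (γ a₀) ∈ nonZeroDivisors Γ(Y, U.1) ∧
        I.map ((Y.presheaf.map (homOfLE (le_top : U.1 ≤ ⊤)).op).hom.comp γ) =
          Ideal.span {(Y.presheaf.map (homOfLE (le_top : U.1 ≤ ⊤)).op).hom (γ a₀)} := by
      intro y
      obtain ⟨U, hyU, e, he, heI⟩ := hY y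
      rw [comap_ideal] at heI
      exact ⟨U, hyU, local_gen I a₀ ha₀I hmul _ e he heI⟩
    have hloc' : ∀ y : Y, ∃ U : Y.affineOpens, y ∈ U.1 ∧
        (Y.presheaf.map (homOfLE (le_top : U.1 ≤ ⊤)).op).hom (γ a₀) ∈
          nonZeroDivisors Γ(Y, U.1) := by
      intro y
      obtain ⟨U, h1, h2, -⟩ := hloc y
      exact ⟨U, h1, h2⟩
    have hd := germ_nzd_of_locally (γ a₀) hloc'
    have hnzd := nzd_of_locally (γ a₀) hloc'
    have hdiv : ∀ a ∈ I, ∃ c, c * γ a₀ = γ a := by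
      intro a ha
      apply exists_mul_eq_of_locally (γ a₀) (γ a) hd
      intro y
      obtain ⟨U, hyU, -, hU⟩ := hloc y
      refine ⟨U.1, hyU, ?_⟩
      have : (Y.presheaf.map (homOfLE (le_top : U.1 ≤ ⊤)).op).hom (γ a) ∈
          Ideal.span {(Y.presheaf.map (homOfLE (le_top : U.1 ≤ ⊤)).op).hom (γ a₀)} := by
        rw [← hU]
        exact Ideal.mem_map_of_mem
          ((Y.presheaf.map (homOfLE (le_top : U.1 ≤ ⊤)).op).hom.comp γ) ha
      exact Ideal.mem_span_singleton'.mp this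
    obtain ⟨ψ, hψ, hψuniq⟩ :=
      existsUnique_ringHom (algebraMap A B) hinj I hIB f hgen a₀ ha₀ γ hnzd hdiv
    refine ⟨Y.toSpecΓ ≫ Spec.map (CommRingCat.ofHom ψ), ?_, ?_⟩
    · apply ext_to_Spec
      change (Scheme.ΓSpecIso (CommRingCat.of A)).inv ≫
        ((Y.toSpecΓ ≫ Spec.map (CommRingCat.ofHom ψ)) ≫
          Spec.map (CommRingCat.ofHom (algebraMap A B))).appTop =
        (Scheme.ΓSpecIso (CommRingCat.of A)).inv ≫ g.appTop
      rw [Scheme.Hom.comp_appTop, ← Scheme.ΓSpecIso_inv_naturality_assoc, toSpecΓ_comp_appTop]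
      exact CommRingCat.hom_ext hψ
    · intro h' hh'
      apply ext_to_Spec
      change (Scheme.ΓSpecIso (CommRingCat.of B)).inv ≫ h'.appTop =
        (Scheme.ΓSpecIso (CommRingCat.of B)).inv ≫
          (Y.toSpecΓ ≫ Spec.map (CommRingCat.ofHom ψ)).appTop
      rw [toSpecΓ_comp_appTop]
      apply CommRingCat.hom_ext
      apply hψuniq
      rw [hγdef, ← hh', Scheme.Hom.comp_appTop, ← Scheme.ΓSpecIso_inv_naturality_assoc]
      rfl

end Scheme

end Groth.Agent.Helper4.BlowupAffine
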