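import Mathlib
import Groth.Prelude.Def_BlowUp2

/-!
# The affine blow-up algebra `A[I/a]`: basic algebra and universal property
-/

set_option autoImplicit false
set_option linter.style.haveILetI false

namespace Groth.Agent.Helper4.BlowupChartAlg

universe u

variable (A : Type u) [CommRing A] (I : Ideal A) (a : A)

/-- The generator `x / a` of the affine blow-up algebra. -/
noncomputable def frac (x : A) (hx : x ∈ I) : ↥(BlowUp.affineAlgebra A I a) :=
  ⟨IsLocalization.mk' (Localization.Away a) x ⟨a, Submonoid.mem_powers a⟩,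
    Algebra.subset_adjoin ⟨x, hx, rfl⟩⟩

lemma algebraMap_mul_frac (x : A) (hx : x ∈ I) :
    algebraMap A ↥(BlowUp.affineAlgebra A I a) a * frac A I a x hx =
      algebraMap A ↥(BlowUp.affineAlgebra A I a) x := by
  apply Subtype.ext
  show algebraMap A (Localization.Away a) a *
    IsLocalization.mk' (Localization.Away a) x ⟨a, Submonoid.mem_powers a⟩ =
      algebraMap A (Localization.Away a) x
  exact IsLocalization.mk'_spec' (Localization.Away a) x ⟨a, Submonoid.mem_powers a⟩

lemma algebraMap_mem_nonZeroDivisors :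
    algebraMap A ↥(BlowUp.affineAlgebra A I a) a ∈
      nonZeroDivisors ↥(BlowUp.affineAlgebra A I a) := by
  rw [mem_nonZeroDivisors_iff_right]
  intro t ht
  apply Subtype.ext
  have h1 : (t : Localization.Away a) * algebraMap A (Localization.Away a) a = 0 :=
    congrArg Subtype.val ht
  have hu : IsUnit (algebraMap A (Localization.Away a) a) :=
    IsLocalization.Away.algebraMap_isUnit a
  exact hu.mul_left_eq_zero.mp h1

lemma map_eq_span (ha : a ∈ I) :
    Ideal.map (algebraMap A ↥(BlowUp.affineAlgebra A I a)) I =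
      Ideal.span {algebraMap A ↥(BlowUp.affineAlgebra A I a) a} := by
  apply le_antisymm
  · rw [Ideal.map_le_iff_le_comap]
    intro x hx
    rw [Ideal.mem_comap, ← algebraMap_mul_frac A I a x hx]
    exact Ideal.mul_mem_right _ _ (Ideal.mem_span_singleton_self _)
  · rw [Ideal.span_singleton_le_iff_mem]
    exact Ideal.mem_map_of_mem _ ha

variable {A I a}

/-- Two ring homomorphisms out of `A[I/a]` agreeing on `A` and sending `a` to a nonzerodivisor
are equal. -/
theorem ringHom_ext {C : Type*} [CommRing C] (ψ₁ ψ₂ : ↥(BlowUp.affineAlgebra A I a) →+* C)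
    (h : ψ₁.comp (algebraMap A ↥(BlowUp.affineAlgebra A I a)) =
      ψ₂.comp (algebraMap A ↥(BlowUp.affineAlgebra A I a)))
    (hnzd : ψ₁ (algebraMap A ↥(BlowUp.affineAlgebra A I a) a) ∈ nonZeroDivisors C) :
    ψ₁ = ψ₂ := by
  have hA : ∀ r : A, ψ₁ (algebraMap A ↥(BlowUp.affineAlgebra A I a) r) =
      ψ₂ (algebraMap A ↥(BlowUp.affineAlgebra A I a) r) := fun r => RingHom.congr_fun h r
  ext ⟨t, ht⟩
  induction ht using Algebra.adjoin_induction with
  | mem x hx =>
    obtain ⟨x', hx', rfl⟩ := hx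
    apply (mul_cancel_left_mem_nonZeroDivisors hnzd).mp
    have e1 : ψ₁ (algebraMap A ↥(BlowUp.affineAlgebra A I a) a) * ψ₁ (frac A I a x' hx') =
        ψ₁ (algebraMap A ↥(BlowUp.affineAlgebra A I a) x') := by
      rw [← map_mul, algebraMap_mul_frac]
    have e2 : ψ₂ (algebraMap A ↥(BlowUp.affineAlgebra A I a) a) * ψ₂ (frac A I a x' hx') =
        ψ₂ (algebraMap A ↥(BlowUp.affineAlgebra A I a) x') := by
      rw [← map_mul, algebraMap_mul_frac]
    show ψ₁ (algebraMap A ↥(BlowUp.affineAlgebra A I a) a) * ψ₁ (frac A I a x' hx') =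
      ψ₁ (algebraMap A ↥(BlowUp.affineAlgebra A I a) a) * ψ₂ (frac A I a x' hx')
    rw [e1, hA a, e2, hA x']
  | algebraMap r => exact hA r
  | add x y hx hy ihx ihy =>
    show ψ₁ ((⟨x, hx⟩ : ↥(BlowUp.affineAlgebra A I a)) + ⟨y, hy⟩) =
      ψ₂ ((⟨x, hx⟩ : ↥(BlowUp.affineAlgebra A I a)) + ⟨y, hy⟩)
    rw [map_add, map_add, ihx, ihy]
  | mul x y hx hy ihx ihy =>
    show ψ₁ ((⟨x, hx⟩ : ↥(BlowUp.affineAlgebra A I a)) * ⟨y, hy⟩) =
      ψ₂ ((⟨x, hx⟩ : ↥(BlowUp.affineAlgebra A I a)) * ⟨y, hy⟩)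
    rw [map_mul, map_mul, ihx, ihy]

/-- Existence part of the universal property of `A[I/a]`. -/
theorem exists_ringHom {C : Type*} [CommRing C] (γ : A →+* C)
    (hγ : γ a ∈ nonZeroDivisors C) (hdiv : ∀ x ∈ I, ∃ c, c * γ a = γ x) :
    ∃ ψ : ↥(BlowUp.affineAlgebra A I a) →+* C,
      ψ.comp (algebraMap A ↥(BlowUp.affineAlgebra A I a)) = γ := by
  let C' := Localization.Away (γ a)
  let ιC : C →+* C' := algebraMap C C'
  have hinj : Function.Injective ιC :=
    IsLocalization.injective C' (Submonoid.powers_le.mpr hγ)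
  let Φ : Localization.Away a →+* C' := IsLocalization.Away.map (Localization.Away a) C' γ a
  have hΦ : ∀ r : A, Φ (algebraMap A (Localization.Away a) r) = ιC (γ r) := fun r =>
    IsLocalization.map_eq _ r
  have hu : IsUnit (ιC (γ a)) := IsLocalization.Away.algebraMap_isUnit (γ a)
  have hrange : ∀ t ∈ BlowUp.affineAlgebra A I a, Φ t ∈ ιC.range := by
    intro t ht
    induction ht using Algebra.adjoin_induction with
    | mem x hx =>
      obtain ⟨x', hx', rfl⟩ := hx
      obtain ⟨c, hc⟩ := hdiv x' hx'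
      refine ⟨c, ?_⟩
      apply hu.mul_left_injective
      show ιC c * ιC (γ a) =
        Φ (IsLocalization.mk' (Localization.Away a) x' ⟨a, Submonoid.mem_powers a⟩) * ιC (γ a)
      rw [← map_mul, hc, ← hΦ a, ← map_mul,
        IsLocalization.mk'_spec (Localization.Away a) x' ⟨a, Submonoid.mem_powers a⟩, hΦ]
    | algebraMap r => exact ⟨γ r, (hΦ r).symm⟩
    | add x y hx hy ihx ihy => rw [map_add]; exact ιC.range.add_mem ihx ihy
    | mul x y hx hy ihx ihy => rw [map_mul]; exact ιC.range.mul_mem ihx ihy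
  let ΦB : ↥(BlowUp.affineAlgebra A I a) →+* C' :=
    Φ.comp (BlowUp.affineAlgebra A I a).val.toRingHom
  let ΦB' : ↥(BlowUp.affineAlgebra A I a) →+* ιC.range :=
    ΦB.codRestrict ιC.range (fun t => hrange t.1 t.2)
  let e : C ≃+* ιC.range := RingEquiv.ofBijective ιC.rangeRestrict
    ⟨fun x y hxy => hinj (congrArg Subtype.val hxy), ιC.rangeRestrict_surjective⟩
  let ψ : ↥(BlowUp.affineAlgebra A I a) →+* C := e.symm.toRingHom.comp ΦB'
  have hψ : ∀ t : ↥(BlowUp.affineAlgebra A I a), ιC (ψ t) = Φ t.1 := by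
    intro t
    have h1 : e (ψ t) = ΦB' t := e.apply_symm_apply (ΦB' t)
    exact congrArg Subtype.val h1
  refine ⟨ψ, ?_⟩
  ext r
  apply hinj
  rw [RingHom.comp_apply, hψ]
  exact hΦ r

end Groth.Agent.Helper4.BlowupChartAlg
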