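import Mathlib
import Groth.Prelude.Def_BlowUp2

/-!
If a product of two ideals is principal generated by a nonzerodivisor, both factors are locally
principal generated by nonzerodivisors.
-/

set_option autoImplicit false

namespace Groth.Agent.Helper4.CartierProd

variable {A : Type*} [CommRing A] (I J : Ideal A) (f : A)

theorem exists_mul_eq (hf : f ∈ nonZeroDivisors A) (hIJ : I * J = Ideal.span {f})
    {K : Type*} [CommRing K] [Nontrivial K] (φ : A →+* K) :
    ∃ a ∈ I, ∃ b ∈ J, ∃ c : A, a * b = c * f ∧ φ c ≠ 0 := by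
  by_contra hcon
  push_neg at hcon
  have key : ∀ z ∈ I * J, z ∈ I * J ∧ ∀ c : A, z = c * f → φ c = 0 := by
    intro z hz
    refine Submodule.mul_induction_on hz ?_ ?_
    · intro a ha b hb
      exact ⟨Ideal.mul_mem_mul ha hb, fun c hc => hcon a ha b hb c hc⟩
    · rintro z₁ z₂ ⟨h₁, h₁'⟩ ⟨h₂, h₂'⟩
      refine ⟨Ideal.add_mem _ h₁ h₂, ?_⟩
      intro c hc
      rw [hIJ, Ideal.mem_span_singleton'] at h₁ h₂
      obtain ⟨c₁, hc₁⟩ := h₁
      obtain ⟨c₂, hc₂⟩ := h₂
      have e : c = c₁ + c₂ := by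
        apply (mul_cancel_right_mem_nonZeroDivisors hf).mp
        rw [add_mul, hc₁, hc₂, hc]
      rw [e, map_add, h₁' c₁ hc₁.symm, h₂' c₂ hc₂.symm, add_zero]
  have hfm : f ∈ I * J := by rw [hIJ]; exact Ideal.subset_span rfl
  have := (key f hfm).2 1 (one_mul f).symm
  rw [map_one] at this
  exact one_ne_zero this

theorem map_eq_span_and_mem_nonZeroDivisors (hf : f ∈ nonZeroDivisors A)
    (hIJ : I * J = Ideal.span {f}) {a b c : A} (ha : a ∈ I) (hb : b ∈ J) (habc : a * b = c * f)
    (B : Type*) [CommRing B] [Algebra A B] [IsLocalization.Away c B] :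
    I.map (algebraMap A B) = Ideal.span {algebraMap A B a} ∧
      algebraMap A B a ∈ nonZeroDivisors B := by
  have hcu : IsUnit (algebraMap A B c) := IsLocalization.Away.algebraMap_isUnit c
  constructor
  · apply le_antisymm
    · rw [Ideal.map_le_iff_le_comap]
      intro a' ha'
      have h1 : a' * b ∈ I * J := Ideal.mul_mem_mul ha' hb
      rw [hIJ, Ideal.mem_span_singleton'] at h1
      obtain ⟨d, hd⟩ := h1
      have h2 : a' * c = a * d := by
        apply (mul_cancel_right_mem_nonZeroDivisors hf).mp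
        calc a' * c * f = a' * (c * f) := by ring
          _ = a' * (a * b) := by rw [habc]
          _ = a * (a' * b) := by ring
          _ = a * (d * f) := by rw [hd]
          _ = a * d * f := by ring
      rw [Ideal.mem_comap, Ideal.mem_span_singleton']
      obtain ⟨u, hu⟩ := hcu
      refine ⟨algebraMap A B d * ↑u⁻¹, ?_⟩
      have h3 : algebraMap A B a' * algebraMap A B c = algebraMap A B a * algebraMap A B d := by
        rw [← map_mul, ← map_mul, h2]
      calc algebraMap A B d * ↑u⁻¹ * algebraMap A B a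
          = (algebraMap A B a * algebraMap A B d) * ↑u⁻¹ := by ring
        _ = algebraMap A B a' * algebraMap A B c * ↑u⁻¹ := by rw [h3]
        _ = algebraMap A B a' * (↑u * ↑u⁻¹) := by rw [hu]; ring
        _ = algebraMap A B a' := by rw [Units.mul_inv, mul_one]
    · rw [Ideal.span_le, Set.singleton_subset_iff]
      exact Ideal.mem_map_of_mem _ ha
  · have hfB : algebraMap A B f ∈ nonZeroDivisors B :=
      IsLocalization.nonZeroDivisors_le_comap (Submonoid.powers c) B hf
    have hcB : algebraMap A B c ∈ nonZeroDivisors B := hcu.mem_nonZeroDivisors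
    have h4 : algebraMap A B a * algebraMap A B b ∈ nonZeroDivisors B := by
      rw [← map_mul, habc, map_mul]
      exact mul_mem hcB hfB
    exact (mul_mem_nonZeroDivisors.mp h4).1

universe u

open AlgebraicGeometry CategoryTheory

theorem isEffCartier_left {X : Scheme.{u}} (𝓘 𝓙 : X.IdealSheafData)
    (h : BlowUp.IsEffCartierIdeal (𝓘 * 𝓙)) : BlowUp.IsEffCartierIdeal 𝓘 := by
  intro x
  obtain ⟨U, hxU, f, hf, hfI⟩ := h x
  change 𝓘.ideal U * 𝓙.ideal U = _ at hfI
  obtain ⟨a, ha, b, hb, c, habc, hc⟩ :=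
    exists_mul_eq (𝓘.ideal U) (𝓙.ideal U) f hf hfI (X.evaluation U.1 x hxU).hom
  have hxc : x ∈ X.basicOpen c := (Scheme.evaluation_ne_zero_iff_mem_basicOpen X x hxU c).mp hc
  refine ⟨X.affineBasicOpen c, hxc, ?_⟩
  have hloc : IsLocalization.Away c Γ(X, X.basicOpen c) := U.2.isLocalization_basicOpen c
  obtain ⟨h1, h2⟩ := map_eq_span_and_mem_nonZeroDivisors (𝓘.ideal U) (𝓙.ideal U) f hf hfI
    ha hb habc Γ(X, X.basicOpen c)
  refine ⟨algebraMap Γ(X, U.1) Γ(X, X.basicOpen c) a, h2, ?_⟩
  rw [← 𝓘.map_ideal_basicOpen U c]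
  exact h1

theorem isEffCartier_right {X : Scheme.{u}} (𝓘 𝓙 : X.IdealSheafData)
    (h : BlowUp.IsEffCartierIdeal (𝓘 * 𝓙)) : BlowUp.IsEffCartierIdeal 𝓙 := by
  apply isEffCartier_left 𝓙 𝓘
  rwa [mul_comm]

end Groth.Agent.Helper4.CartierProd
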