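import Mathlib
import Groth.Prelude.Def_BlowUp2
import Groth.Agent.Lib.Helper4.CartierProd
import Groth.Agent.Lib.Helper4.BlowupIso

/-!
Formal properties of blowing up (universal property): products of effective Cartier ideals, flat
pullback, composition of blow-ups, flat base change, maximal points.
-/

set_option autoImplicit false
set_option linter.style.haveILetI false

open CategoryTheory CategoryTheory.Limits AlgebraicGeometry AlgebraicGeometry.Scheme TopologicalSpace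

namespace Groth.Agent.Helper4.BlowupFormal

universe u
variable {X X' : Scheme.{u}}

open Groth.Agent.Helper4.EffCartierPull Groth.Agent.Helper4.BlowupIso
open Groth.Agent.H20.IdealSh

lemma isEffCartier_restrict (𝓘 : X.IdealSheafData) {U W : X.affineOpens} (h : W ≤ U)
    (f : Γ(X, U.1)) (hf : f ∈ nonZeroDivisors Γ(X, U.1)) (hfI : 𝓘.ideal U = Ideal.span {f}) :
    (X.presheaf.map (homOfLE h).op).hom f ∈ nonZeroDivisors Γ(X, W.1) ∧
      𝓘.ideal W = Ideal.span {(X.presheaf.map (homOfLE h).op).hom f} := by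
  constructor
  · apply mem_nonZeroDivisors_of_germ
    intro x hx
    erw [TopCat.Presheaf.germ_res_apply X.presheaf (homOfLE h) x hx f]
    exact germ_mem_nonZeroDivisors U.2 f hf x (h hx)
  · rw [← 𝓘.map_ideal h, hfI, Ideal.map_span, Set.image_singleton]

theorem isEffCartier_mul (𝓘 𝓙 : X.IdealSheafData) (h1 : BlowUp.IsEffCartierIdeal 𝓘)
    (h2 : BlowUp.IsEffCartierIdeal 𝓙) : BlowUp.IsEffCartierIdeal (𝓘 * 𝓙) := by
  intro x
  obtain ⟨U₁, hx₁, f₁, hf₁, hI₁⟩ := h1 x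
  obtain ⟨U₂, hx₂, f₂, hf₂, hI₂⟩ := h2 x
  obtain ⟨_, ⟨W, hW, rfl⟩, hxW, hWU⟩ := X.isBasis_affineOpens.exists_subset_of_mem_open
    (show x ∈ ((U₁.1 ⊓ U₂.1 : X.Opens) : Set X) from ⟨hx₁, hx₂⟩) (U₁.1 ⊓ U₂.1).isOpen
  have hW₁ : (⟨W, hW⟩ : X.affineOpens) ≤ U₁ := fun y hy => (hWU hy).1
  have hW₂ : (⟨W, hW⟩ : X.affineOpens) ≤ U₂ := fun y hy => (hWU hy).2
  obtain ⟨a1, a2⟩ := isEffCartier_restrict 𝓘 hW₁ f₁ hf₁ hI₁
  obtain ⟨b1, b2⟩ := isEffCartier_restrict 𝓙 hW₂ f₂ hf₂ hI₂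
  refine ⟨⟨W, hW⟩, hxW, _, mul_mem a1 b1, ?_⟩
  change 𝓘.ideal ⟨W, hW⟩ * 𝓙.ideal ⟨W, hW⟩ = _
  rw [a2, b2, Ideal.span_singleton_mul_span_singleton]

theorem isEffCartier_comap_of_flat {X Y : Scheme.{u}} (p : X ⟶ Y) [Flat p]
    (𝓘 : Y.IdealSheafData) (hD : BlowUp.IsEffCartierIdeal 𝓘) :
    BlowUp.IsEffCartierIdeal (𝓘.comap p) := by
  intro x
  obtain ⟨V, hxV, g, hg, hgI⟩ := hD (p x)
  obtain ⟨_, ⟨U, hU, rfl⟩, hxU, hUV⟩ := X.isBasis_affineOpens.exists_subset_of_mem_open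
    (show x ∈ (p ⁻¹ᵁ V.1 : Set X) from hxV) (p ⁻¹ᵁ V.1).isOpen
  refine ⟨⟨U, hU⟩, hxU, (p.appLE V.1 U hUV).hom g, ?_, ?_⟩
  · have hfl : (p.appLE V.1 U hUV).hom.Flat := Flat.flat_appLE p V.2 hU hUV
    letI := (p.appLE V.1 U hUV).hom.toAlgebra
    haveI : Module.Flat Γ(Y, V.1) Γ(X, U) := hfl
    have hreg : IsSMulRegular Γ(Y, V.1) g := (isRegular_iff_mem_nonZeroDivisors.mpr hg).left
    have hreg' : IsSMulRegular Γ(X, U) (algebraMap Γ(Y, V.1) Γ(X, U) g) :=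
      IsSMulRegular.of_flat hreg
    rw [mem_nonZeroDivisors_iff_left]
    intro t ht
    apply hreg'
    show (p.appLE V.1 U hUV).hom g * t = (p.appLE V.1 U hUV).hom g * 0
    rw [ht, mul_zero]
  · rw [ideal_comap_appLE p 𝓘 ⟨U, hU⟩ V hUV, hgI, Ideal.map_span, Set.image_singleton]

/-- Composition of blow-ups is a blow-up in the product ideal. -/
theorem isBlowUp_comp {X'' : Scheme.{u}} (𝓘 𝓙 : X.IdealSheafData) (b : X' ⟶ X)
    (hb : BlowUp.IsBlowUp b 𝓘) (b' : X'' ⟶ X') (hb' : BlowUp.IsBlowUp b' (𝓙.comap b)) :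
    BlowUp.IsBlowUp (b' ≫ b) (𝓘 * 𝓙) := by
  constructor
  · rw [comap_mul, IdealSheafData.comap_comp, IdealSheafData.comap_comp]
    exact isEffCartier_mul _ _ (isEffCartier_comap_blowup _ b' hb' _ hb.1) hb'.1
  · intro Y g hg
    rw [comap_mul] at hg
    have hg1 := CartierProd.isEffCartier_left _ _ hg
    have hg2 := CartierProd.isEffCartier_right _ _ hg
    obtain ⟨h₁, hh₁, hu₁⟩ := hb.2 Y g hg1
    have hh₁' : h₁ ≫ b = g := hh₁
    have hg2' : BlowUp.IsEffCartierIdeal ((𝓙.comap b).comap h₁) := by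
      rw [← IdealSheafData.comap_comp, hh₁']; exact hg2
    obtain ⟨h₂, hh₂, hu₂⟩ := hb'.2 Y h₁ hg2'
    have hh₂' : h₂ ≫ b' = h₁ := hh₂
    refine ⟨h₂, ?_, ?_⟩
    · show h₂ ≫ b' ≫ b = g
      rw [← Category.assoc, hh₂', hh₁']
    · intro k hk
      have hk' : k ≫ b' ≫ b = g := hk
      have e1 : k ≫ b' = h₁ := hu₁ _ (by show (k ≫ b') ≫ b = g; rw [Category.assoc, hk'])
      exact hu₂ _ e1

/-- Flat base change of a blow-up is a blow-up. -/
theorem isBlowUp_flat_baseChange {X₁ X₂ X₂' : Scheme.{u}} (g : X₁ ⟶ X₂) [Flat g]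
    (𝓘 : X₂.IdealSheafData) (b : X₂' ⟶ X₂) (hb : BlowUp.IsBlowUp b 𝓘) :
    BlowUp.IsBlowUp (pullback.fst g b) (𝓘.comap g) := by
  constructor
  · rw [← IdealSheafData.comap_comp, pullback.condition, IdealSheafData.comap_comp]
    exact isEffCartier_comap_of_flat (pullback.snd g b) _ hb.1
  · intro Y h hh
    rw [← IdealSheafData.comap_comp] at hh
    obtain ⟨k, hk, hku⟩ := hb.2 Y (h ≫ g) hh
    have hk' : k ≫ b = h ≫ g := hk
    refine ⟨pullback.lift h k hk'.symm, ?_, ?_⟩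
    · show pullback.lift h k hk'.symm ≫ pullback.fst g b = h
      exact pullback.lift_fst _ _ _
    · intro l hl
      have hl' : l ≫ pullback.fst g b = h := hl
      have e1 : l ≫ pullback.snd g b = k := hku _ (by
        show (l ≫ pullback.snd g b) ≫ b = h ≫ g
        rw [Category.assoc, ← pullback.condition, ← Category.assoc, hl'])
      apply pullback.hom_ext
      · rw [hl', pullback.lift_fst]
      · rw [e1, pullback.lift_snd]

/-- The section of `b` over the complement of the centre. -/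
theorem exists_section (𝓘 : X.IdealSheafData) (b : X' ⟶ X) (hb : BlowUp.IsBlowUp b 𝓘) :
    ∃ s : (compl 𝓘).toScheme ⟶ X', s ≫ b = (compl 𝓘).ι ∧
      ∀ (y : X') (hy : b y ∉ 𝓘.support), s ⟨b y, hy⟩ = y := by
  haveI := isIso_morphismRestrict_compl 𝓘 b hb
  set V := compl 𝓘
  refine ⟨inv (b ∣_ V) ≫ (b ⁻¹ᵁ V).ι, ?_, ?_⟩
  · rw [Category.assoc, ← morphismRestrict_ι, IsIso.inv_hom_id_assoc]
  · intro y hy
    let u : (b ⁻¹ᵁ V).toScheme := ⟨y, hy⟩
    have h1 : (b ∣_ V) u = ⟨b y, hy⟩ := by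
      apply Subtype.ext
      show V.ι ((b ∣_ V) u) = b y
      rw [← Scheme.Hom.comp_apply, morphismRestrict_ι, Scheme.Hom.comp_apply]
      rfl
    rw [← h1, ← Scheme.Hom.comp_apply, IsIso.hom_inv_id_assoc]
    rfl

attribute [local instance] specializationOrder in
lemma notMem_support_of_isMax (𝓘 : X.IdealSheafData) (b : X' ⟶ X) (hb : BlowUp.IsBlowUp b 𝓘)
    (x' : X') (hmax : ∀ y : X', y ⤳ x' → y = x') : b x' ∉ 𝓘.support := by
  intro hcon
  obtain ⟨W, hxW, e, he, heI⟩ := hb.1 x'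
  have h1 : x' ∈ (𝓘.comap b).support := by
    rw [IdealSheafData.support_comap]; exact hcon
  rw [IdealSheafData.mem_support_iff_of_mem hxW, heI, Scheme.zeroLocus_span,
    Scheme.zeroLocus_singleton] at h1
  have h2 : ¬ IsUnit (X'.presheaf.germ W.1 x' hxW e) := fun hu =>
    h1 ((X'.mem_basicOpen e x' hxW).mpr hu)
  have hismax : IsMax x' := by
    intro y hy
    have : y = x' := hmax y hy
    rw [this]
  have hco : Order.coheight x' ≤ ((0 : ℕ) : ℕ∞) := by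
    rw [Order.coheight_eq_zero.mpr hismax]; simp
  haveI : Ring.KrullDimLE 0 (X'.presheaf.stalk x') := krullDimLE_of_coheight_le hco
  have h3 : IsNilpotent (X'.presheaf.germ W.1 x' hxW e) :=
    Ring.KrullDimLE.isNilpotent_iff_mem_maximalIdeal.mpr ((IsLocalRing.mem_maximalIdeal _).mpr h2)
  obtain ⟨n, hn⟩ := h3
  have h4 := pow_mem (germ_mem_nonZeroDivisors W.2 e he x' hxW) n
  rw [hn] at h4
  exact nonZeroDivisors.ne_zero h4 rfl

theorem bijOn_maximal_points (𝓘 : X.IdealSheafData) (b : X' ⟶ X) (hb : BlowUp.IsBlowUp b 𝓘) :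
    Set.BijOn (fun x' => b x') {x' : X' | ∀ y : X', y ⤳ x' → y = x'}
      {x : X | (∀ y : X, y ⤳ x → y = x) ∧ x ∉ 𝓘.support} := by
  obtain ⟨s, hs, hsec⟩ := exists_section 𝓘 b hb
  have hbs : ∀ v : (compl 𝓘).toScheme, b (s v) = v.1 := by
    intro v
    rw [← Scheme.Hom.comp_apply, hs]
    rfl
  have hopen : IsOpen ((compl 𝓘 : X.Opens) : Set X) := (compl 𝓘).isOpen
  refine ⟨?_, ?_, ?_⟩
  · intro x' hx'
    have hns : b x' ∉ 𝓘.support := notMem_support_of_isMax 𝓘 b hb x' hx'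
    refine ⟨?_, hns⟩
    intro y hy
    have hyV : y ∉ 𝓘.support := hy.mem_open hopen hns
    have h1 : (⟨y, hyV⟩ : (compl 𝓘).toScheme) ⤳ ⟨b x', hns⟩ :=
      (Topology.IsInducing.subtypeVal.specializes_iff (x := (⟨y, hyV⟩ : (compl 𝓘)))
        (y := ⟨b x', hns⟩)).mp hy
    have h2 : s ⟨y, hyV⟩ ⤳ s ⟨b x', hns⟩ := h1.map s.continuous
    rw [hsec x' hns] at h2
    have h3 := hx' _ h2
    have h4 := hbs ⟨y, hyV⟩
    rw [h3] at h4
    exact h4.symm
  · intro x₁ hx₁ x₂ hx₂ h12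
    have hn1 : b x₁ ∉ 𝓘.support := notMem_support_of_isMax 𝓘 b hb x₁ hx₁
    have hn2 : b x₂ ∉ 𝓘.support := notMem_support_of_isMax 𝓘 b hb x₂ hx₂
    have h12' : b x₁ = b x₂ := h12
    have e : (⟨b x₁, hn1⟩ : (compl 𝓘).toScheme) = ⟨b x₂, hn2⟩ := Subtype.ext h12'
    rw [← hsec x₁ hn1, ← hsec x₂ hn2, e]
  · rintro x ⟨hxmax, hxns⟩
    refine ⟨s ⟨x, hxns⟩, ?_, hbs ⟨x, hxns⟩⟩
    intro y' hy'
    have h1 : b y' ⤳ b (s ⟨x, hxns⟩) := hy'.map b.continuous
    rw [hbs ⟨x, hxns⟩] at h1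
    have h2 : b y' = x := hxmax _ h1
    have hn : b y' ∉ 𝓘.support := by rw [h2]; exact hxns
    have e : (⟨b y', hn⟩ : (compl 𝓘).toScheme) = ⟨x, hxns⟩ := Subtype.ext h2
    rw [← hsec y' hn, e]

end Groth.Agent.Helper4.BlowupFormal
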