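import Mathlib
import Groth.Prelude.Def_BlowUp2
import Groth.Agent.Lib.Helper4.EffCartierPull
import Groth.Agent.Lib.Helper4.BlowupIso

/-!
The open complement of an effective Cartier divisor is an affine, scheme-theoretically dense open.
Pullback of effective Cartier divisors along morphisms under which the complement stays
scheme-theoretically dense.
-/

set_option autoImplicit false
set_option linter.style.haveILetI false

open CategoryTheory CategoryTheory.Limits AlgebraicGeometry AlgebraicGeometry.Scheme TopologicalSpace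

namespace Groth.Agent.Helper4.CartierDense

universe u
variable {X : Scheme.{u}}

lemma mem_compl_iff (J : X.IdealSheafData) (x : X) : x ∈ J.support.compl ↔ x ∉ J.support := Iff.rfl

/-- On an affine open where `J` is generated by `g`, the complement of the support is `D(g)`. -/
lemma inf_compl_eq_basicOpen (J : X.IdealSheafData) (U : X.affineOpens) (g : Γ(X, U.1))
    (h : J.ideal U = Ideal.span {g}) : U.1 ⊓ J.support.compl = X.basicOpen g := by
  ext x
  constructor
  · rintro ⟨hxU, hx⟩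
    by_contra hcon
    apply hx
    show x ∈ J.support
    rw [IdealSheafData.mem_support_iff_of_mem hxU, h, Scheme.zeroLocus_span,
      Scheme.zeroLocus_singleton]
    exact hcon
  · intro hx
    have hxU := X.basicOpen_le g hx
    refine ⟨hxU, ?_⟩
    intro hcon
    have hcon' : x ∈ J.support := hcon
    rw [IdealSheafData.mem_support_iff_of_mem hxU, h, Scheme.zeroLocus_span,
      Scheme.zeroLocus_singleton] at hcon'
    exact hcon' hx

lemma isAffineHom_ι_of_locally_basicOpen (V : X.Opens)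
    (h : ∀ x : X, ∃ U : X.affineOpens, x ∈ U.1 ∧ ∃ g : Γ(X, U.1), U.1 ⊓ V = X.basicOpen g) :
    IsAffineHom V.ι := by
  apply isAffineHom_of_forall_exists_isAffineOpen
  intro x
  obtain ⟨U, hxU, g, hg⟩ := h x
  refine ⟨U.1, hxU, U.2, ?_⟩
  rw [← V.ι.isAffineOpen_iff_of_isOpenImmersion, V.ι.image_preimage_eq_opensRange_inf,
    Scheme.Opens.opensRange_ι, inf_comm, hg]
  exact U.2.basicOpen g

lemma image_preimage_ι (V W : X.Opens) : V.ι ''ᵁ V.ι ⁻¹ᵁ W = W ⊓ V := by
  rw [V.ι.image_preimage_eq_opensRange_inf, Scheme.Opens.opensRange_ι, inf_comm]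

lemma res_injective (V : X.Opens) [QuasiCompact V.ι] [IsSchemeTheoreticallyDominant V.ι]
    (W W' : X.Opens) (h1 : W' ≤ W) (h2 : W ⊓ V ≤ W') :
    Function.Injective (X.presheaf.map (homOfLE h1).op).hom := by
  have h3 : V.ι ''ᵁ V.ι ⁻¹ᵁ W ≤ W' := by rw [image_preimage_ι]; exact h2
  have hinj := V.ι.app_injective W
  have e : ∀ s, (V.ι.app W).hom s =
      (X.presheaf.map (homOfLE h3).op).hom ((X.presheaf.map (homOfLE h1).op).hom s) := by
    intro s
    rw [← CommRingCat.comp_apply, ← Functor.map_comp]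
    rfl
  intro s t hst
  apply hinj
  change (V.ι.app W).hom s = (V.ι.app W).hom t
  rw [e, e, hst]

lemma isSchemeTheoreticallyDominant_ι_of_res (V : X.Opens)
    (h : ∀ (W : X.affineOpens) (t : Γ(X, W.1)),
      (X.presheaf.map (homOfLE (inf_le_left : W.1 ⊓ V ≤ W.1)).op).hom t = 0 → t = 0) :
    IsSchemeTheoreticallyDominant V.ι := by
  constructor
  rw [eq_bot_iff, IdealSheafData.le_def]
  intro W t ht
  have h1 := V.ι.ideal_ker_le W ht
  rw [RingHom.mem_ker] at h1
  have h2 : W.1 ⊓ V ≤ V.ι ''ᵁ V.ι ⁻¹ᵁ W.1 := by rw [image_preimage_ι]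
  have h1' : (X.presheaf.map (homOfLE (V.ι.image_preimage_le W.1)).op).hom t = 0 := h1
  have h3 : (X.presheaf.map (homOfLE (inf_le_left : W.1 ⊓ V ≤ W.1)).op).hom t = 0 := by
    have e : (X.presheaf.map (homOfLE (inf_le_left : W.1 ⊓ V ≤ W.1)).op).hom t =
        (X.presheaf.map (homOfLE h2).op).hom
          ((X.presheaf.map (homOfLE (V.ι.image_preimage_le W.1)).op).hom t) := by
      rw [← CommRingCat.comp_apply, ← Functor.map_comp]
      rfl
    rw [e, h1', map_zero]
  rw [h W t h3]
  exact Ideal.zero_mem _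

/-- A section over any open vanishing on the complement of an effective Cartier divisor is zero. -/
lemma eq_zero_of_res_compl (D : X.IdealSheafData) (hD : BlowUp.IsEffCartierIdeal D) (W : X.Opens)
    (t : Γ(X, W))
    (ht : (X.presheaf.map (homOfLE (inf_le_left : W ⊓ D.support.compl ≤ W)).op).hom t = 0) :
    t = 0 := by
  apply TopCat.Presheaf.section_ext X.sheaf W t 0
  intro x hx
  change X.presheaf.germ W x hx t = X.presheaf.germ W x hx 0
  rw [map_zero]
  obtain ⟨U, hxU, g, hg, hgI⟩ := hD x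
  obtain ⟨r, hrle, hxr⟩ := U.2.exists_basicOpen_le (V := W) ⟨x, hx⟩ hxU
  have hW' : IsAffineOpen (X.basicOpen r) := U.2.basicOpen r
  have hW'U : X.basicOpen r ≤ U.1 := X.basicOpen_le r
  set t' : Γ(X, X.basicOpen r) := (X.presheaf.map (homOfLE hrle).op).hom t with ht'
  set g' : Γ(X, X.basicOpen r) := (X.presheaf.map (homOfLE hW'U).op).hom g with hg'
  have hres : (X.presheaf.map (homOfLE (X.basicOpen_le g')).op).hom t' = 0 := by
    have hle : X.basicOpen g' ≤ W ⊓ D.support.compl := by
      rw [hg', X.basicOpen_res]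
      intro y hy
      refine ⟨hrle hy.1, ?_⟩
      have : y ∈ U.1 ⊓ D.support.compl := by
        rw [inf_compl_eq_basicOpen D U g hgI]; exact hy.2
      exact this.2
    have e : (X.presheaf.map (homOfLE (X.basicOpen_le g')).op).hom t' =
        (X.presheaf.map (homOfLE hle).op).hom
          ((X.presheaf.map (homOfLE (inf_le_left : W ⊓ D.support.compl ≤ W)).op).hom t) := by
      rw [ht', ← CommRingCat.comp_apply, ← CommRingCat.comp_apply, ← Functor.map_comp,
        ← Functor.map_comp]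
      rfl
    rw [e, ht, map_zero]
  obtain ⟨n, hn⟩ :=
    exists_pow_mul_eq_zero_of_res_basicOpen_eq_zero_of_isAffineOpen X hW' t' g' hres
  have hgerm_g : X.presheaf.germ (X.basicOpen r) x hxr g' ∈
      nonZeroDivisors (X.presheaf.stalk x) := by
    rw [hg', TopCat.Presheaf.germ_res_apply X.presheaf (homOfLE hW'U) x hxr g]
    exact BlowupIso.germ_mem_nonZeroDivisors U.2 g hg x hxU
  have hgerm_t : X.presheaf.germ (X.basicOpen r) x hxr t' = X.presheaf.germ W x hx t := by
    rw [ht']
    exact TopCat.Presheaf.germ_res_apply X.presheaf (homOfLE hrle) x hxr t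
  have h4 := congrArg (X.presheaf.germ (X.basicOpen r) x hxr) hn
  rw [map_mul, map_pow, map_zero, hgerm_t] at h4
  exact (mem_nonZeroDivisors_iff_left.mp (pow_mem hgerm_g n)) _ h4

theorem isAffineHom_compl (D : X.IdealSheafData) (hD : BlowUp.IsEffCartierIdeal D) :
    IsAffineHom (Scheme.Opens.ι (X := X) D.support.compl) := by
  apply isAffineHom_ι_of_locally_basicOpen
  intro x
  obtain ⟨U, hxU, g, -, hgI⟩ := hD x
  exact ⟨U, hxU, g, inf_compl_eq_basicOpen D U g hgI⟩

theorem isSchemeTheoreticallyDominant_compl (D : X.IdealSheafData)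
    (hD : BlowUp.IsEffCartierIdeal D) : IsSchemeTheoreticallyDominant (Scheme.Opens.ι (X := X) D.support.compl) := by
  apply isSchemeTheoreticallyDominant_ι_of_res
  intro W t ht
  exact eq_zero_of_res_compl D hD W.1 t ht

lemma dominant_homOfLE (V : X.Opens) [QuasiCompact V.ι] [IsSchemeTheoreticallyDominant V.ι]
    (W : X.Opens) :
    IsSchemeTheoreticallyDominant (X.homOfLE (inf_le_right : V ⊓ W ≤ W)) := by
  constructor
  rw [eq_bot_iff, IdealSheafData.le_def]
  intro O t ht
  have h1 := (X.homOfLE (inf_le_right : V ⊓ W ≤ W)).ideal_ker_le O ht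
  rw [RingHom.mem_ker, Scheme.homOfLE_app] at h1
  have hinj := res_injective V (W.ι ''ᵁ O.1)
    ((V ⊓ W).ι ''ᵁ (X.homOfLE (inf_le_right : V ⊓ W ≤ W) ⁻¹ᵁ O.1))
    (X.ι_image_homOfLE_le_ι_image _ O.1)
    (by
      rw [Scheme.ι_image_homOfLE_eq_ι_image_inf]
      intro y hy
      exact ⟨hy.1, hy.2, W.ι_image_le O.1 hy.1⟩)
  have h2 : t = 0 := by
    refine hinj (Eq.trans h1 ?_)
    exact (map_zero _).symm
  rw [h2]
  exact Ideal.zero_mem _

theorem isEffCartier_comap_of_dominant {X' : Scheme.{u}} (I : X.IdealSheafData)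
    (hI : BlowUp.IsEffCartierIdeal I) (f : X' ⟶ X)
    [QuasiCompact (f ⁻¹ᵁ I.support.compl).ι]
    [IsSchemeTheoreticallyDominant (f ⁻¹ᵁ I.support.compl).ι] :
    BlowUp.IsEffCartierIdeal (I.comap f) := by
  intro x'
  obtain ⟨V, hxV, g, hg, hgI⟩ := hI (f x')
  obtain ⟨_, ⟨W, hW, rfl⟩, hxW, hWV⟩ :=
    X'.isBasis_affineOpens.exists_subset_of_mem_open (show x' ∈ (f ⁻¹ᵁ V.1 : Set X') from hxV)
      (f ⁻¹ᵁ V.1).isOpen
  have hspan : (I.comap f).ideal ⟨W, hW⟩ = Ideal.span {(f.appLE V.1 W hWV).hom g} := by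
    rw [EffCartierPull.ideal_comap_appLE f I ⟨W, hW⟩ V hWV, hgI, Ideal.map_span,
      Set.image_singleton]
  refine ⟨⟨W, hW⟩, hxW, (f.appLE V.1 W hWV).hom g, ?_, hspan⟩
  rw [mem_nonZeroDivisors_iff_right]
  intro t ht
  set s := (f.appLE V.1 W hWV).hom g with hs
  have hle : W ⊓ f ⁻¹ᵁ I.support.compl ≤ X'.basicOpen s := by
    have h1 := inf_compl_eq_basicOpen (I.comap f) ⟨W, hW⟩ s hspan
    rw [← h1]
    intro y hy
    refine ⟨hy.1, ?_⟩
    intro hcon
    have hcon' : y ∈ (I.comap f).support := hcon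
    rw [IdealSheafData.support_comap] at hcon'
    exact hy.2 hcon'
  have hinj := res_injective (f ⁻¹ᵁ I.support.compl) W (X'.basicOpen s) (X'.basicOpen_le s) hle
  apply hinj
  rw [map_zero]
  have hu : IsUnit ((X'.presheaf.map (homOfLE (X'.basicOpen_le s)).op).hom s) :=
    X'.toRingedSpace.isUnit_res_basicOpen s
  have h0 : (X'.presheaf.map (homOfLE (X'.basicOpen_le s)).op).hom t *
      (X'.presheaf.map (homOfLE (X'.basicOpen_le s)).op).hom s = 0 := by
    rw [← map_mul, ht, map_zero]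
  exact (hu.mul_left_eq_zero).mp h0

end Groth.Agent.Helper4.CartierDense
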