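import Mathlib
import Groth.Prelude.Def_BlowUp2
import Groth.Agent.Lib.Helper4.CartierDense
import Groth.Agent.Lib.Helper4.BlowupFormal

/-!
Sections of a blow-up over opens away from the centre, and schematic density of preimages.
-/

set_option autoImplicit false
set_option linter.style.haveILetI false

open CategoryTheory CategoryTheory.Limits AlgebraicGeometry AlgebraicGeometry.Scheme TopologicalSpace

namespace Groth.Agent.Helper4.BlowupDense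

universe u
variable {X X' : Scheme.{u}}

open Groth.Agent.Helper4.BlowupIso Groth.Agent.Helper4.BlowupFormal
  Groth.Agent.Helper4.CartierDense

lemma isOpenImmersion_ι_comp (𝓘 : X.IdealSheafData) (b : X' ⟶ X) (hb : BlowUp.IsBlowUp b 𝓘) :
    IsOpenImmersion ((b ⁻¹ᵁ compl 𝓘).ι ≫ b) := by
  haveI := isIso_morphismRestrict_compl 𝓘 b hb
  rw [← morphismRestrict_ι]
  infer_instance

lemma le_opensRange (𝓘 : X.IdealSheafData) (b : X' ⟶ X) (hb : BlowUp.IsBlowUp b 𝓘) :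
    compl 𝓘 ≤ Scheme.Hom.opensRange ((b ⁻¹ᵁ compl 𝓘).ι ≫ b)
      (H := isOpenImmersion_ι_comp 𝓘 b hb) := by
  intro x hx
  obtain ⟨s, hs, -⟩ := exists_section 𝓘 b hb
  have h1 : b (s ⟨x, hx⟩) = x := by
    rw [← Scheme.Hom.comp_apply, hs]
    rfl
  refine ⟨⟨s ⟨x, hx⟩, ?_⟩, ?_⟩
  · show b (s ⟨x, hx⟩) ∈ compl 𝓘
    rw [h1]; exact hx
  · rw [Scheme.Hom.comp_apply]
    exact h1

lemma isIso_app_of_le (𝓘 : X.IdealSheafData) (b : X' ⟶ X) (hb : BlowUp.IsBlowUp b 𝓘)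
    (O : X.Opens) (hO : O ≤ compl 𝓘) : IsIso (b.app O) := by
  haveI := isOpenImmersion_ι_comp 𝓘 b hb
  haveI h1 : IsIso (((b ⁻¹ᵁ compl 𝓘).ι ≫ b).app O) :=
    Scheme.Hom.isIso_app _ O (hO.trans (le_opensRange 𝓘 b hb))
  haveI h2 : IsIso ((b ⁻¹ᵁ compl 𝓘).ι.app (b ⁻¹ᵁ O)) := by
    apply Scheme.Hom.isIso_app
    rw [Scheme.Opens.opensRange_ι]
    intro y hy
    exact hO hy
  rw [Scheme.Hom.comp_app] at h1
  exact @IsIso.of_isIso_comp_right _ _ _ _ _ (b.app O) ((b ⁻¹ᵁ compl 𝓘).ι.app (b ⁻¹ᵁ O)) h2 h1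

/-- Every open of `X'` inside the preimage of the complement of the centre is a preimage. -/
lemma exists_preimage_eq (𝓘 : X.IdealSheafData) (b : X' ⟶ X) (hb : BlowUp.IsBlowUp b 𝓘)
    (W : X'.Opens) (hW : W ≤ b ⁻¹ᵁ compl 𝓘) : ∃ O : X.Opens, O ≤ compl 𝓘 ∧ b ⁻¹ᵁ O = W := by
  haveI := isOpenImmersion_ι_comp 𝓘 b hb
  refine ⟨((b ⁻¹ᵁ compl 𝓘).ι ≫ b) ''ᵁ ((b ⁻¹ᵁ compl 𝓘).ι ⁻¹ᵁ W), ?_, ?_⟩
  · rintro _ ⟨z, -, rfl⟩
    exact z.2
  · ext y
    constructor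
    · rintro ⟨z, hz, hzy⟩
      replace hzy : b ((b ⁻¹ᵁ compl 𝓘).ι z) = b y := hzy
      obtain ⟨s, hs, hsec⟩ := exists_section 𝓘 b hb
      have hy' : b y ∉ 𝓘.support := by
        rw [← hzy]; exact z.2
      have e1 := hsec y hy'
      have e2 := hsec ((b ⁻¹ᵁ compl 𝓘).ι z) z.2
      have e3 : (⟨b ((b ⁻¹ᵁ compl 𝓘).ι z), z.2⟩ : (compl 𝓘).toScheme) = ⟨b y, hy'⟩ :=
        Subtype.ext hzy
      rw [e3, e1] at e2
      rw [e2]
      exact hz
    · intro hy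
      exact ⟨⟨y, hW hy⟩, hy, rfl⟩

/-- Sections over preimages of opens away from the centre are detected on the preimage of a
scheme-theoretically dense open. -/
lemma eq_zero_of_res_preimage (𝓘 : X.IdealSheafData) (b : X' ⟶ X) (hb : BlowUp.IsBlowUp b 𝓘)
    (U : X.Opens) [QuasiCompact U.ι] [IsSchemeTheoreticallyDominant U.ι]
    (O : X.Opens) (hO : O ≤ compl 𝓘) (W : X'.Opens) (hW : b ⁻¹ᵁ O = W) (t : Γ(X', W))
    (ht : (X'.presheaf.map (homOfLE (inf_le_left : W ⊓ b ⁻¹ᵁ U ≤ W)).op).hom t = 0) : t = 0 := by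
  subst hW
  haveI := isIso_app_of_le 𝓘 b hb O hO
  haveI := isIso_app_of_le 𝓘 b hb (O ⊓ U) (inf_le_left.trans hO)
  obtain ⟨t₀, rfl⟩ := (ConcreteCategory.bijective_of_isIso (b.app O)).2 t
  have h1 : (b.app (O ⊓ U)).hom ((X.presheaf.map (homOfLE (inf_le_left : O ⊓ U ≤ O)).op).hom t₀) =
      0 := by
    have e := b.naturality (homOfLE (inf_le_left : O ⊓ U ≤ O)).op
    have e' := congrArg (fun φ => φ.hom t₀) e
    simp only [CommRingCat.comp_apply] at e'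
    rw [e']
    exact ht
  have h2 : (X.presheaf.map (homOfLE (inf_le_left : O ⊓ U ≤ O)).op).hom t₀ = 0 :=
    (ConcreteCategory.bijective_of_isIso (b.app (O ⊓ U))).1 (h1.trans (map_zero _).symm)
  have h3 : t₀ = 0 :=
    res_injective U O (O ⊓ U) inf_le_left le_rfl (h2.trans (map_zero _).symm)
  rw [h3, map_zero]

theorem isSchemeTheoreticallyDominant_preimage (𝓘 : X.IdealSheafData) (b : X' ⟶ X)
    (hb : BlowUp.IsBlowUp b 𝓘) (U : X.Opens) [QuasiCompact U.ι]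
    [IsSchemeTheoreticallyDominant U.ι] :
    IsSchemeTheoreticallyDominant (b ⁻¹ᵁ U).ι := by
  apply isSchemeTheoreticallyDominant_ι_of_res
  intro W t ht
  apply eq_zero_of_res_compl (𝓘.comap b) hb.1 W.1 t
  have hle : W.1 ⊓ (𝓘.comap b).support.compl ≤ b ⁻¹ᵁ compl 𝓘 := by
    rintro y ⟨-, hy⟩
    intro hcon
    apply hy
    show y ∈ (𝓘.comap b).support
    rw [IdealSheafData.support_comap]
    exact hcon
  obtain ⟨O, hO, hOeq⟩ := exists_preimage_eq 𝓘 b hb _ hle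
  apply eq_zero_of_res_preimage 𝓘 b hb U O hO _ hOeq
  have e : (X'.presheaf.map (homOfLE (inf_le_left :
      (W.1 ⊓ (𝓘.comap b).support.compl) ⊓ b ⁻¹ᵁ U ≤ W.1 ⊓ (𝓘.comap b).support.compl)).op).hom
      ((X'.presheaf.map (homOfLE (inf_le_left :
        W.1 ⊓ (𝓘.comap b).support.compl ≤ W.1)).op).hom t) =
      (X'.presheaf.map (homOfLE (show (W.1 ⊓ (𝓘.comap b).support.compl) ⊓ b ⁻¹ᵁ U ≤
        W.1 ⊓ b ⁻¹ᵁ U from fun y hy => ⟨hy.1.1, hy.2⟩)).op).hom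
        ((X'.presheaf.map (homOfLE (inf_le_left : W.1 ⊓ b ⁻¹ᵁ U ≤ W.1)).op).hom t) := by
    rw [← CommRingCat.comp_apply, ← CommRingCat.comp_apply, ← Functor.map_comp,
      ← Functor.map_comp]
    rfl
  rw [e, ht, map_zero]

end Groth.Agent.Helper4.BlowupDense
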