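import Mathlib
import Groth.Prelude.Def_BlowUp2
import Groth.Agent.Lib.Helper4.CartierDense
import Groth.Agent.Lib.Helper4.BlowupFormal

/-!
The strict transform: for `b : X' ⟶ X` a blow-up of `𝓘` and any `f : Y ⟶ X`, the scheme-theoretic
image in `Y ×_X X'` of the complement of the exceptional divisor is a blow-up of `Y` in `𝓘·O_Y`.
-/

set_option autoImplicit false
set_option linter.style.haveILetI false

open CategoryTheory CategoryTheory.Limits AlgebraicGeometry AlgebraicGeometry.Scheme TopologicalSpace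

namespace Groth.Agent.Helper4.StrictTransform

universe u

open Groth.Agent.Helper4.CartierDense Groth.Agent.Helper4.BlowupFormal

section General

variable {X X' : Scheme.{u}}

/-- The preimage of the complement of a locally principal closed subscheme is locally a basic
open. -/
lemma exists_basicOpen_preimage (I : X.IdealSheafData) (hI : BlowUp.IsEffCartierIdeal I)
    (f : X' ⟶ X) (x' : X') : ∃ U : X'.affineOpens, x' ∈ U.1 ∧ ∃ g : Γ(X', U.1),
      U.1 ⊓ f ⁻¹ᵁ I.support.compl = X'.basicOpen g := by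
  obtain ⟨V, hxV, g, hg, hgI⟩ := hI (f x')
  obtain ⟨_, ⟨W, hW, rfl⟩, hxW, hWV⟩ :=
    X'.isBasis_affineOpens.exists_subset_of_mem_open (show x' ∈ (f ⁻¹ᵁ V.1 : Set X') from hxV)
      (f ⁻¹ᵁ V.1).isOpen
  have hspan : (I.comap f).ideal ⟨W, hW⟩ = Ideal.span {(f.appLE V.1 W hWV).hom g} := by
    rw [EffCartierPull.ideal_comap_appLE f I ⟨W, hW⟩ V hWV, hgI,
      Ideal.map_span, Set.image_singleton]
  refine ⟨⟨W, hW⟩, hxW, (f.appLE V.1 W hWV).hom g, ?_⟩
  rw [← inf_compl_eq_basicOpen (I.comap f) ⟨W, hW⟩ _ hspan]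
  ext y
  constructor
  · rintro ⟨hyW, hy⟩
    refine ⟨hyW, ?_⟩
    intro hcon
    have hcon' : y ∈ (I.comap f).support := hcon
    rw [Scheme.IdealSheafData.support_comap] at hcon'
    exact hy hcon'
  · rintro ⟨hyW, hy⟩
    refine ⟨hyW, ?_⟩
    intro hcon
    apply hy
    show y ∈ (I.comap f).support
    rw [Scheme.IdealSheafData.support_comap]
    exact hcon

lemma isAffineHom_preimage_compl (I : X.IdealSheafData) (hI : BlowUp.IsEffCartierIdeal I)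
    (f : X' ⟶ X) : IsAffineHom (f ⁻¹ᵁ I.support.compl).ι :=
  isAffineHom_ι_of_locally_basicOpen _ (exists_basicOpen_preimage I hI f)

/-- For quasi-compact `f`, the map to the scheme-theoretic image is scheme-theoretically dominant. -/
lemma isSchemeTheoreticallyDominant_toImage {P T : Scheme.{u}} (f : T ⟶ P) [QuasiCompact f] :
    IsSchemeTheoreticallyDominant f.toImage := by
  constructor
  rw [eq_bot_iff]
  refine IdealSheafData.le_of_iSup_eq_top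
    (fun U : P.affineOpens => (⟨f.imageι ⁻¹ᵁ U.1, U.2.preimage f.imageι⟩ : f.image.affineOpens))
    ?_ ?_
  · rw [eq_top_iff]
    intro z _
    obtain ⟨_, ⟨U, hU, rfl⟩, hzU, -⟩ :=
      P.isBasis_affineOpens.exists_subset_of_mem_open (Set.mem_univ (f.imageι z)) isOpen_univ
    exact Opens.mem_iSup.mpr ⟨⟨U, hU⟩, hzU⟩
  · intro U t ht
    have h1 := f.toImage.ideal_ker_le _ ht
    rw [RingHom.mem_ker] at h1
    have h2 : t = 0 := f.toImage_app_injective U (h1.trans (map_zero _).symm)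
    rw [h2]
    exact Ideal.zero_mem _

variable {P : Scheme.{u}}

/-- The preimage of a quasi-compact open in its scheme-theoretic image is scheme-theoretically
dense. -/
lemma isSchemeTheoreticallyDominant_preimage_image (W : P.Opens) [QuasiCompact W.ι] :
    IsSchemeTheoreticallyDominant (W.ι.imageι ⁻¹ᵁ W).ι := by
  haveI := isSchemeTheoreticallyDominant_toImage W.ι
  have hrange : Set.range W.ι.toImage ⊆ Set.range (W.ι.imageι ⁻¹ᵁ W).ι := by
    rintro _ ⟨w, rfl⟩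
    rw [Scheme.Opens.range_ι]
    show W.ι.imageι (W.ι.toImage w) ∈ W
    rw [← Scheme.Hom.comp_apply, Scheme.Hom.toImage_imageι]
    exact w.2
  have hfac := IsOpenImmersion.lift_fac (W.ι.imageι ⁻¹ᵁ W).ι W.ι.toImage hrange
  constructor
  rw [eq_bot_iff]
  have h1 := Scheme.Hom.le_ker_comp (IsOpenImmersion.lift (W.ι.imageι ⁻¹ᵁ W).ι W.ι.toImage hrange)
    (W.ι.imageι ⁻¹ᵁ W).ι
  rw [hfac, W.ι.toImage.ker_eq_bot] at h1
  exact h1

/-- A morphism carrying a scheme-theoretically dense open into `W` factors through the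
scheme-theoretic image of `W`. -/
lemma exists_lift_image (W : P.Opens) {T : Scheme.{u}} (g : T ⟶ P) (T₀ : T.Opens)
    [IsSchemeTheoreticallyDominant T₀.ι] (h : T₀ ≤ g ⁻¹ᵁ W) :
    ∃ m : T ⟶ W.ι.image, m ≫ W.ι.imageι = g := by
  have hrange : Set.range (T₀.ι ≫ g) ⊆ Set.range W.ι := by
    rintro _ ⟨t, rfl⟩
    rw [Scheme.Opens.range_ι]
    exact h t.2
  have hfac := IsOpenImmersion.lift_fac W.ι (T₀.ι ≫ g) hrange
  have hker : W.ι.imageι.ker ≤ g.ker := by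
    have e1 : (T₀.ι ≫ g).ker = g.ker := by
      rw [Scheme.Hom.ker_comp, T₀.ι.ker_eq_bot, IdealSheafData.map_bot]
    rw [← e1, ← hfac, IdealSheafData.ker_subschemeι]
    exact Scheme.Hom.le_ker_comp _ _
  exact ⟨IsClosedImmersion.lift W.ι.imageι g hker, IsClosedImmersion.lift_fac _ _ _⟩

end General

section Main

variable {X Y X' : Scheme.{u}} (𝓘 : X.IdealSheafData) (f : Y ⟶ X) (b : X' ⟶ X)

/-- The complement of the exceptional divisor, pulled back to `Y ×_X X'`. -/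
noncomputable abbrev W : (pullback f b).Opens :=
  pullback.snd f b ⁻¹ᵁ (𝓘.comap b).support.compl

/-- The strict transform of `Y`. -/
noncomputable abbrev sT : Scheme.{u} := (W 𝓘 f b).ι.image

noncomputable abbrev sι : sT 𝓘 f b ⟶ pullback f b := (W 𝓘 f b).ι.imageι

noncomputable abbrev sπ : sT 𝓘 f b ⟶ Y := sι 𝓘 f b ≫ pullback.fst f b

noncomputable abbrev sρ : sT 𝓘 f b ⟶ X' := sι 𝓘 f b ≫ pullback.snd f b

lemma sπ_f : sπ 𝓘 f b ≫ f = sρ 𝓘 f b ≫ b := by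
  simp only [Category.assoc, pullback.condition]

theorem isEffCartier_sT (hb : BlowUp.IsBlowUp b 𝓘) :
    BlowUp.IsEffCartierIdeal ((𝓘.comap f).comap (sπ 𝓘 f b)) := by
  have e : (𝓘.comap f).comap (sπ 𝓘 f b) = (𝓘.comap b).comap (sρ 𝓘 f b) := by
    rw [← IdealSheafData.comap_comp, ← IdealSheafData.comap_comp, sπ_f]
  rw [e]
  haveI : IsAffineHom (W 𝓘 f b).ι := isAffineHom_preimage_compl (𝓘.comap b) hb.1 (pullback.snd f b)
  haveI : QuasiCompact (W 𝓘 f b).ι := inferInstance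
  have h1 : IsSchemeTheoreticallyDominant ((sι 𝓘 f b) ⁻¹ᵁ (W 𝓘 f b)).ι :=
    isSchemeTheoreticallyDominant_preimage_image (W 𝓘 f b)
  haveI h2 : IsAffineHom ((sρ 𝓘 f b) ⁻¹ᵁ (𝓘.comap b).support.compl).ι :=
    isAffineHom_preimage_compl (𝓘.comap b) hb.1 (sρ 𝓘 f b)
  haveI : QuasiCompact ((sρ 𝓘 f b) ⁻¹ᵁ (𝓘.comap b).support.compl).ι := inferInstance
  haveI : IsSchemeTheoreticallyDominant ((sρ 𝓘 f b) ⁻¹ᵁ (𝓘.comap b).support.compl).ι := h1
  exact isEffCartier_comap_of_dominant (𝓘.comap b) hb.1 (sρ 𝓘 f b)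

theorem isBlowUp_sT (hb : BlowUp.IsBlowUp b 𝓘) :
    BlowUp.IsBlowUp (sπ 𝓘 f b) (𝓘.comap f) := by
  refine ⟨isEffCartier_sT 𝓘 f b hb, ?_⟩
  intro T g hg
  have hg' : BlowUp.IsEffCartierIdeal (𝓘.comap (g ≫ f)) := by
    rw [IdealSheafData.comap_comp]; exact hg
  obtain ⟨h, hh, hhu⟩ := hb.2 T (g ≫ f) hg'
  have hh' : h ≫ b = g ≫ f := hh
  let ℓ : T ⟶ pullback f b := pullback.lift g h hh'.symm
  let T₀ : T.Opens := ((𝓘.comap f).comap g).support.compl
  haveI : IsSchemeTheoreticallyDominant T₀.ι := isSchemeTheoreticallyDominant_compl _ hg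
  have hT₀ : T₀ ≤ ℓ ⁻¹ᵁ (W 𝓘 f b) := by
    intro t ht
    show (pullback.snd f b) (ℓ t) ∉ (𝓘.comap b).support
    intro hcon
    apply ht
    show t ∈ ((𝓘.comap f).comap g).support
    rw [← IdealSheafData.comap_comp, ← hh', IdealSheafData.comap_comp,
      IdealSheafData.support_comap]
    have e1 : (pullback.snd f b) (ℓ t) = h t := by
      rw [← Scheme.Hom.comp_apply, pullback.lift_snd]
    rw [e1] at hcon
    exact hcon
  obtain ⟨m, hm⟩ := exists_lift_image (W 𝓘 f b) ℓ T₀ hT₀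
  refine ⟨m, ?_, ?_⟩
  · show m ≫ sι 𝓘 f b ≫ pullback.fst f b = g
    rw [← Category.assoc, hm, pullback.lift_fst]
  · intro m' hm'
    have hm'' : m' ≫ sι 𝓘 f b ≫ pullback.fst f b = g := hm'
    have e1 : m' ≫ sι 𝓘 f b = ℓ := by
      apply pullback.hom_ext
      · rw [Category.assoc, hm'', pullback.lift_fst]
      · rw [Category.assoc, pullback.lift_snd]
        apply hhu
        show (m' ≫ sι 𝓘 f b ≫ pullback.snd f b) ≫ b = g ≫ f
        rw [Category.assoc, Category.assoc, ← pullback.condition, ← hm'']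
        simp only [Category.assoc]
    rw [← cancel_mono (sι 𝓘 f b), e1, hm]

end Main

section Uniq

theorem exists_iso_of_isBlowUp {Y Z₁ Z₂ : Scheme.{u}} (𝓙 : Y.IdealSheafData) (b₁ : Z₁ ⟶ Y)
    (b₂ : Z₂ ⟶ Y) (h₁ : BlowUp.IsBlowUp b₁ 𝓙) (h₂ : BlowUp.IsBlowUp b₂ 𝓙) :
    ∃ θ : Z₁ ≅ Z₂, θ.hom ≫ b₂ = b₁ := by
  obtain ⟨u, hu, -⟩ := h₂.2 Z₁ b₁ h₁.1
  obtain ⟨v, hv, -⟩ := h₁.2 Z₂ b₂ h₂.1
  obtain ⟨_, -, uniq₁⟩ := h₁.2 Z₁ b₁ h₁.1
  obtain ⟨_, -, uniq₂⟩ := h₂.2 Z₂ b₂ h₂.1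
  have hu' : u ≫ b₂ = b₁ := hu
  have hv' : v ≫ b₁ = b₂ := hv
  have e1 : u ≫ v = 𝟙 _ :=
    (uniq₁ (u ≫ v) (by show (u ≫ v) ≫ b₁ = b₁; rw [Category.assoc, hv', hu'])).trans
      (uniq₁ (𝟙 _) (Category.id_comp _)).symm
  have e2 : v ≫ u = 𝟙 _ :=
    (uniq₂ (v ≫ u) (by show (v ≫ u) ≫ b₂ = b₂; rw [Category.assoc, hu', hv'])).trans
      (uniq₂ (𝟙 _) (Category.id_comp _)).symm
  exact ⟨⟨u, v, e1, e2⟩, hu'⟩

variable {X Y X' Y' : Scheme.{u}} (𝓘 : X.IdealSheafData) (f : Y ⟶ X) (b : X' ⟶ X)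

/-- Comparison of any blow-up of `Y` in `𝓘·O_Y` with the strict transform. -/
theorem exists_iso_sT (hb : BlowUp.IsBlowUp b 𝓘) (b' : Y' ⟶ Y)
    (hb' : BlowUp.IsBlowUp b' (𝓘.comap f)) (f' : Y' ⟶ X') (hf' : f' ≫ b = b' ≫ f) :
    ∃ θ : Y' ≅ sT 𝓘 f b, θ.hom ≫ sπ 𝓘 f b = b' ∧ f' = θ.hom ≫ sρ 𝓘 f b := by
  obtain ⟨θ, hθ⟩ := exists_iso_of_isBlowUp (𝓘.comap f) b' (sπ 𝓘 f b) hb' (isBlowUp_sT 𝓘 f b hb)
  refine ⟨θ, hθ, ?_⟩
  have hE : BlowUp.IsEffCartierIdeal (𝓘.comap (b' ≫ f)) := by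
    rw [IdealSheafData.comap_comp]; exact hb'.1
  obtain ⟨_, -, uniq⟩ := hb.2 Y' (b' ≫ f) hE
  have e1 := uniq f' hf'
  have e2 := uniq (θ.hom ≫ sρ 𝓘 f b) (by
    show (θ.hom ≫ sρ 𝓘 f b) ≫ b = b' ≫ f
    rw [Category.assoc, ← sπ_f, ← Category.assoc, hθ])
  rw [e1, e2]

theorem isClosedImmersion_of_isBlowUp [IsClosedImmersion f] (hb : BlowUp.IsBlowUp b 𝓘)
    (b' : Y' ⟶ Y) (hb' : BlowUp.IsBlowUp b' (𝓘.comap f)) (f' : Y' ⟶ X')
    (hf' : f' ≫ b = b' ≫ f) : IsClosedImmersion f' := by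
  obtain ⟨θ, -, hθ⟩ := exists_iso_sT 𝓘 f b hb b' hb' f' hf'
  rw [hθ]
  infer_instance

end Uniq

section Sum

variable {X X' : Scheme.{u}}

/-- Locally on a blow-up of a sum of ideals, one of the summands contains a unit multiple of the
local equation of the exceptional divisor. -/
lemma exists_mul_mem {ι : Type*} (𝓙 : ι → X.IdealSheafData) (b : X' ⟶ X) (U' : X'.affineOpens)
    (e : Γ(X', U'.1)) (he : e ∈ nonZeroDivisors Γ(X', U'.1))
    (heI : ((⨆ i, 𝓙 i).comap b).ideal U' = Ideal.span {e}) (x' : X') (hx' : x' ∈ U'.1) :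
    ∃ i, ∃ c : Γ(X', U'.1), x' ∈ X'.basicOpen c ∧ c * e ∈ ((𝓙 i).comap b).ideal U' := by
  by_contra hcon
  push_neg at hcon
  set p : Ideal Γ(X', U'.1) := (U'.2.primeIdealOf (⟨x', hx'⟩ : U'.1)).asIdeal with hp
  haveI : p.IsPrime := (U'.2.primeIdealOf (⟨x', hx'⟩ : U'.1)).isPrime
  letI alg : Algebra Γ(X', U'.1) (X'.presheaf.stalk x') :=
    TopCat.Presheaf.algebra_section_stalk X'.presheaf (⟨x', hx'⟩ : U'.1)
  haveI hloc : IsLocalization.AtPrime (X'.presheaf.stalk x') p :=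
    U'.2.isLocalization_stalk ⟨x', hx'⟩
  have hpc : ∀ c : Γ(X', U'.1), c ∉ p → x' ∈ X'.basicOpen c := by
    intro c hc
    have hu : IsUnit (X'.presheaf.germ U'.1 x' hx' c) :=
      IsLocalization.map_units (X'.presheaf.stalk x') (⟨c, hc⟩ : p.primeCompl)
    exact (X'.mem_basicOpen c x' hx').mpr hu
  have hsup : ((⨆ i, 𝓙 i).comap b).ideal U' = ⨆ i, ((𝓙 i).comap b).ideal U' := by
    rw [(IdealSheafData.map_gc b).l_iSup, IdealSheafData.ideal_iSup, iSup_apply]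
  have hle : ∀ i, ((𝓙 i).comap b).ideal U' ≤ Ideal.span {e} * p := by
    intro i a ha
    have ha' : a ∈ Ideal.span {e} := by
      rw [← heI, hsup]; exact (le_iSup (fun i => ((𝓙 i).comap b).ideal U') i) ha
    obtain ⟨c, rfl⟩ := Ideal.mem_span_singleton'.mp ha'
    have hc : c ∈ p := by
      by_contra hc
      exact hcon i c (hpc c hc) ha
    rw [mul_comm c e]
    exact Ideal.mul_mem_mul (Ideal.mem_span_singleton_self e) hc
  have hmem : e ∈ Ideal.span {e} * p := by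
    have h1 : e ∈ ((⨆ i, 𝓙 i).comap b).ideal U' := by
      rw [heI]; exact Ideal.mem_span_singleton_self e
    rw [hsup] at h1
    exact (iSup_le hle) h1
  obtain ⟨z, hz, hze⟩ := Ideal.mem_span_singleton_mul.mp hmem
  have hz1 : z = 1 := by
    apply (mul_cancel_left_mem_nonZeroDivisors he).mp
    rw [hze, mul_one]
  rw [hz1] at hz
  exact (Ideal.IsPrime.ne_top inferInstance) ((Ideal.eq_top_iff_one p).mpr hz)

open Groth.Agent.Helper4.CartierDense in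
theorem iInter_range_eq_empty {n : ℕ} (𝓙 : Fin n → X.IdealSheafData) (b : X' ⟶ X)
    (hb : BlowUp.IsBlowUp b (⨆ i, 𝓙 i))
    (Y' : Fin n → Scheme.{u}) (b' : ∀ i, Y' i ⟶ (𝓙 i).subscheme)
    (hb' : ∀ i, BlowUp.IsBlowUp (b' i) ((⨆ j, 𝓙 j).comap (𝓙 i).subschemeι))
    (k : ∀ i, Y' i ⟶ X') (hk : ∀ i, k i ≫ b = b' i ≫ (𝓙 i).subschemeι) :
    (⋂ i, Set.range (fun y => k i y)) = (∅ : Set X') := by
  rw [Set.eq_empty_iff_forall_notMem]
  intro x' hx'
  rw [Set.mem_iInter] at hx'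
  obtain ⟨U', hxU', e, he, heI⟩ := hb.1 x'
  obtain ⟨i, c, hxc, hce⟩ := exists_mul_mem 𝓙 b U' e he heI x' hxU'
  obtain ⟨y, hy⟩ := hx' i
  set 𝓢 := ⨆ j, 𝓙 j with h𝓢
  obtain ⟨θ, -, hθ⟩ :=
    exists_iso_sT 𝓢 (𝓙 i).subschemeι b hb (b' i) (hb' i) (k i) (hk i)
  set z := θ.hom y with hzdef
  have hz : (pullback.snd (𝓙 i).subschemeι b) ((sι 𝓢 (𝓙 i).subschemeι b) z) = x' := by
    have hy' : k i y = x' := hy
    rw [← hy', hθ, Scheme.Hom.comp_apply, Scheme.Hom.comp_apply]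
  haveI : IsAffineHom (W 𝓢 (𝓙 i).subschemeι b).ι :=
    isAffineHom_preimage_compl (𝓢.comap b) hb.1 (pullback.snd (𝓙 i).subschemeι b)
  haveI : QuasiCompact (W 𝓢 (𝓙 i).subschemeι b).ι := inferInstance
  have hcl : (sι 𝓢 (𝓙 i).subschemeι b) z ∈
      closure ((W 𝓢 (𝓙 i).subschemeι b : (pullback (𝓙 i).subschemeι b).Opens) : Set _) := by
    have h1 : (sι 𝓢 (𝓙 i).subschemeι b) z ∈ ((W 𝓢 (𝓙 i).subschemeι b).ι.ker).support := by
      rw [← SetLike.mem_coe, ← IdealSheafData.range_subschemeι]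
      exact ⟨z, rfl⟩
    rw [← SetLike.mem_coe, Scheme.Hom.support_ker, Scheme.Opens.range_ι] at h1
    exact h1
  have hzN : (sι 𝓢 (𝓙 i).subschemeι b) z ∈
      ((pullback.snd (𝓙 i).subschemeι b ⁻¹ᵁ X'.basicOpen c :
        (pullback (𝓙 i).subschemeι b).Opens) : Set _) := by
    show (pullback.snd (𝓙 i).subschemeι b) ((sι 𝓢 (𝓙 i).subschemeι b) z) ∈ X'.basicOpen c
    rw [hz]; exact hxc
  obtain ⟨w, hwN, hwW⟩ := mem_closure_iff.mp hcl _
    (pullback.snd (𝓙 i).subschemeι b ⁻¹ᵁ X'.basicOpen c).isOpen hzN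
  set u := (pullback.snd (𝓙 i).subschemeι b) w with hu
  have hu1 : u ∈ X'.basicOpen c := hwN
  have hu2 : u ∉ (𝓢.comap b).support := hwW
  have huU' : u ∈ U'.1 := X'.basicOpen_le c hu1
  have hu3 : b u ∈ (𝓙 i).support := by
    have e1 : b u = (𝓙 i).subschemeι ((pullback.fst (𝓙 i).subschemeι b) w) := by
      rw [hu, ← Scheme.Hom.comp_apply, ← Scheme.Hom.comp_apply, pullback.condition]
    rw [e1, ← SetLike.mem_coe, ← IdealSheafData.range_subschemeι]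
    exact ⟨_, rfl⟩
  have hu4 : u ∈ ((𝓙 i).comap b).support := by
    rw [IdealSheafData.support_comap]; exact hu3
  rw [IdealSheafData.mem_support_iff_of_mem huU', Scheme.mem_zeroLocus_iff] at hu4
  have hue : u ∈ X'.basicOpen e := by
    by_contra hne
    apply hu2
    rw [IdealSheafData.mem_support_iff_of_mem huU', heI, Scheme.zeroLocus_span,
      Scheme.zeroLocus_singleton]
    exact hne
  have hce' : u ∈ X'.basicOpen (c * e) := by
    rw [Scheme.basicOpen_mul]; exact ⟨hu1, hue⟩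
  exact hu4 (c * e) hce hce'

end Sum

end Groth.Agent.Helper4.StrictTransform
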