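import Mathlib
import Groth.Prelude.Def_BlowUp2
import Groth.Prelude.Def_W4c6modpairsegaMP
import Groth.Agent.Lib.Helper4.StrictTransform

/-!
Box products of modulus pairs when both pulled-back moduli are effective Cartier.
-/

set_option autoImplicit false
set_option linter.style.haveILetI false

open CategoryTheory CategoryTheory.Limits AlgebraicGeometry AlgebraicGeometry.Scheme TopologicalSpace

namespace Groth.Agent.Helper4.ModPairBox

universe u

open Groth.Agent.Helper4.CartierDense Groth.Agent.Helper4.StrictTransform

variable {X : Scheme.{u}}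

/-- An open containing a quasi-compact scheme-theoretically dense open is scheme-theoretically
dense. -/
lemma isSchemeTheoreticallyDominant_of_le (U U' : X.Opens) (h : U ≤ U') [QuasiCompact U.ι]
    [IsSchemeTheoreticallyDominant U.ι] : IsSchemeTheoreticallyDominant U'.ι := by
  apply isSchemeTheoreticallyDominant_ι_of_res
  intro W t ht
  have hU := res_injective U W.1 (W.1 ⊓ U') inf_le_left (inf_le_inf_left _ h)
  apply hU
  rw [map_zero]
  exact ht

/-- The intersection of two quasi-compact scheme-theoretically dense opens is scheme-theoretically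
dense. -/
lemma isSchemeTheoreticallyDominant_inf (A B : X.Opens) [QuasiCompact A.ι]
    [IsSchemeTheoreticallyDominant A.ι] [QuasiCompact B.ι] [IsSchemeTheoreticallyDominant B.ι] :
    IsSchemeTheoreticallyDominant (A ⊓ B).ι := by
  apply isSchemeTheoreticallyDominant_ι_of_res
  intro W t ht
  have h1 : W.1 ⊓ (A ⊓ B) ≤ W.1 ⊓ A := inf_le_inf_left _ inf_le_left
  have h2 : (W.1 ⊓ A) ⊓ B ≤ W.1 ⊓ (A ⊓ B) := by rw [inf_assoc]
  have hA := res_injective A W.1 (W.1 ⊓ A) inf_le_left le_rfl
  have hB := res_injective B (W.1 ⊓ A) (W.1 ⊓ (A ⊓ B)) h1 h2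
  apply hA
  rw [map_zero]
  apply hB
  rw [map_zero, ← CommRingCat.comp_apply, ← Functor.map_comp]
  exact ht

theorem box {X T S : Scheme.{u}}
    (IS : S.IdealSheafData) (IX : X.IdealSheafData) (IT : T.IdealSheafData)
    (hS : BlowUp.IsEffCartierIdeal IS) (f : X ⟶ S) (g : T ⟶ S)
    (hf : ModPair.IsAmbient IX IS f)
    (h₁ : BlowUp.IsEffCartierIdeal (IX.comap (pullback.fst f g)))
    (h₂ : BlowUp.IsEffCartierIdeal (IT.comap (pullback.snd f g))) :
    BlowUp.IsEffCartierIdeal (IS.comap (pullback.fst f g ≫ f)) ∧
      IsIso (ModPair.mprodι f g IX IT) := by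
  haveI aA : IsAffineHom
      (Scheme.Opens.ι (X := pullback f g) (IX.comap (pullback.fst f g)).support.compl) :=
    isAffineHom_compl _ h₁
  haveI qA : QuasiCompact
      (Scheme.Opens.ι (X := pullback f g) (IX.comap (pullback.fst f g)).support.compl) :=
    inferInstance
  haveI dA : IsSchemeTheoreticallyDominant
      (Scheme.Opens.ι (X := pullback f g) (IX.comap (pullback.fst f g)).support.compl) :=
    isSchemeTheoreticallyDominant_compl _ h₁
  haveI aB : IsAffineHom
      (Scheme.Opens.ι (X := pullback f g) (IT.comap (pullback.snd f g)).support.compl) :=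
    isAffineHom_compl _ h₂
  haveI qB : QuasiCompact
      (Scheme.Opens.ι (X := pullback f g) (IT.comap (pullback.snd f g)).support.compl) :=
    inferInstance
  haveI dB : IsSchemeTheoreticallyDominant
      (Scheme.Opens.ι (X := pullback f g) (IT.comap (pullback.snd f g)).support.compl) :=
    isSchemeTheoreticallyDominant_compl _ h₂
  have hV : ModPair.prodInterior f g IX IT =
      (IX.comap (pullback.fst f g)).support.compl ⊓
        (IT.comap (pullback.snd f g)).support.compl := by
    ext y
    constructor
    · rintro ⟨h1, h2⟩
      refine ⟨?_, ?_⟩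
      · intro hcon
        have hcon' : y ∈ (IX.comap (pullback.fst f g)).support := hcon
        rw [IdealSheafData.support_comap] at hcon'
        exact h1 hcon'
      · intro hcon
        have hcon' : y ∈ (IT.comap (pullback.snd f g)).support := hcon
        rw [IdealSheafData.support_comap] at hcon'
        exact h2 hcon'
    · rintro ⟨h1, h2⟩
      refine ⟨?_, ?_⟩
      · intro hcon
        apply h1
        show y ∈ (IX.comap (pullback.fst f g)).support
        rw [IdealSheafData.support_comap]
        exact hcon
      · intro hcon
        apply h2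
        show y ∈ (IT.comap (pullback.snd f g)).support
        rw [IdealSheafData.support_comap]
        exact hcon
  refine ⟨?_, ?_⟩
  · haveI : IsAffineHom ((pullback.fst f g ≫ f) ⁻¹ᵁ IS.support.compl).ι :=
      isAffineHom_preimage_compl IS hS _
    haveI : QuasiCompact ((pullback.fst f g ≫ f) ⁻¹ᵁ IS.support.compl).ι := inferInstance
    have hle : (IX.comap (pullback.fst f g)).support.compl ≤
        (pullback.fst f g ≫ f) ⁻¹ᵁ IS.support.compl := by
      intro y hy
      show (pullback.fst f g ≫ f) y ∉ IS.support
      intro hcon
      apply hy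
      show y ∈ (IX.comap (pullback.fst f g)).support
      rw [IdealSheafData.support_comap]
      show (pullback.fst f g) y ∈ IX.support
      rw [Scheme.Hom.comp_apply] at hcon
      have h5 : (pullback.fst f g) y ∈ (IS.comap f).support := by
        rw [IdealSheafData.support_comap]; exact hcon
      exact IdealSheafData.support_antitone hf h5
    haveI : IsSchemeTheoreticallyDominant ((pullback.fst f g ≫ f) ⁻¹ᵁ IS.support.compl).ι :=
      isSchemeTheoreticallyDominant_of_le _ _ hle
    exact isEffCartier_comap_of_dominant IS hS (pullback.fst f g ≫ f)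
  · have hd : IsSchemeTheoreticallyDominant (ModPair.prodInterior f g IX IT).ι := by
      rw [hV]
      exact isSchemeTheoreticallyDominant_inf _ _
    exact (Scheme.isIso_subschemeι_iff_eq_bot _).mpr hd.ker_eq_bot

end Groth.Agent.Helper4.ModPairBox
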