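import Mathlib
import Groth.Prelude.Def_BlowUp2
import Groth.Prelude.Def_W4c6modpairsegaMP
import Groth.Agent.Lib.Helper4.StrictTransform
import Groth.Agent.Lib.Helper4.BlowupDense
import Groth.Agent.Lib.Helper4.ModPairBox

/-!
The modulus of an ambient product of modulus pairs.
-/

set_option autoImplicit false
set_option linter.style.haveILetI false

open CategoryTheory CategoryTheory.Limits AlgebraicGeometry AlgebraicGeometry.Scheme TopologicalSpace

namespace Groth.Agent.Helper4.ModPairAmbProd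

universe u

open Groth.Agent.Helper4.CartierDense Groth.Agent.Helper4.StrictTransform
  Groth.Agent.Helper4.ModPairBox

section General

variable {X : Scheme.{u}}

lemma isAffineOpen_inf (A W : X.Opens) [IsAffineHom A.ι] (hW : IsAffineOpen W) :
    IsAffineOpen (W ⊓ A) := by
  have h1 : IsAffineOpen (A.ι ⁻¹ᵁ W) := hW.preimage A.ι
  have h2 := h1.image_of_isOpenImmersion A.ι
  rwa [image_preimage_ι] at h2

lemma isAffineHom_inf (A B : X.Opens) [IsAffineHom A.ι] [IsAffineHom B.ι] :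
    IsAffineHom (A ⊓ B).ι := by
  apply isAffineHom_of_forall_exists_isAffineOpen
  intro x
  obtain ⟨_, ⟨U, hU, rfl⟩, hxU, -⟩ :=
    X.isBasis_affineOpens.exists_subset_of_mem_open (Set.mem_univ x) isOpen_univ
  refine ⟨U, hxU, hU, ?_⟩
  rw [← (A ⊓ B).ι.isAffineOpen_iff_of_isOpenImmersion, image_preimage_ι, ← inf_assoc]
  exact isAffineOpen_inf B (U ⊓ A) (isAffineOpen_inf A U hU)

/-- Strong local form of `isEffCartier_comap_of_dominant`. -/
theorem exists_nhd_principal {X' : Scheme.{u}} (I : X.IdealSheafData)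
    (hI : BlowUp.IsEffCartierIdeal I) (f : X' ⟶ X)
    [QuasiCompact (f ⁻¹ᵁ I.support.compl).ι]
    [IsSchemeTheoreticallyDominant (f ⁻¹ᵁ I.support.compl).ι] (x' : X') :
    ∃ N : X'.Opens, x' ∈ N ∧ ∀ W : X'.affineOpens, W.1 ≤ N →
      ∃ s : Γ(X', W.1), s ∈ nonZeroDivisors Γ(X', W.1) ∧ (I.comap f).ideal W = Ideal.span {s} := by
  obtain ⟨V, hxV, g, hg, hgI⟩ := hI (f x')
  refine ⟨f ⁻¹ᵁ V.1, hxV, ?_⟩
  rintro ⟨W, hW⟩ hWV
  have hspan : (I.comap f).ideal ⟨W, hW⟩ = Ideal.span {(f.appLE V.1 W hWV).hom g} := by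
    rw [EffCartierPull.ideal_comap_appLE f I ⟨W, hW⟩ V hWV, hgI, Ideal.map_span,
      Set.image_singleton]
  refine ⟨(f.appLE V.1 W hWV).hom g, ?_, hspan⟩
  rw [mem_nonZeroDivisors_iff_right]
  intro t ht
  set s := (f.appLE V.1 W hWV).hom g with hs
  have hle : W ⊓ f ⁻¹ᵁ I.support.compl ≤ X'.basicOpen s := by
    have h1 := inf_compl_eq_basicOpen (I.comap f) ⟨W, hW⟩ s hspan
    rw [← h1]
    intro y hy
    refine ⟨hy.1, ?_⟩
    intro hcon
    have hcon' : y ∈ (I.comap f).support := hcon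
    rw [IdealSheafData.support_comap] at hcon'
    exact hy.2 hcon'
  have hinj := res_injective (f ⁻¹ᵁ I.support.compl) W (X'.basicOpen s) (X'.basicOpen_le s) hle
  apply hinj
  rw [map_zero]
  have hu : IsUnit ((X'.presheaf.map (homOfLE (X'.basicOpen_le s)).op).hom s) :=
    X'.toRingedSpace.isUnit_res_basicOpen s
  have h0 : (X'.presheaf.map (homOfLE (X'.basicOpen_le s)).op).hom t *
      (X'.presheaf.map (homOfLE (X'.basicOpen_le s)).op).hom s = 0 := by
    rw [← map_mul, ht, map_zero]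
  exact (hu.mul_left_eq_zero).mp h0

/-- A principal ideal generated by a nonzerodivisor stays so on basic opens. -/
lemma principal_basicOpen (I : X.IdealSheafData) (U : X.affineOpens) (e : Γ(X, U.1))
    (he : e ∈ nonZeroDivisors Γ(X, U.1)) (hI : I.ideal U = Ideal.span {e}) (r : Γ(X, U.1)) :
    ∃ e' : Γ(X, (X.affineBasicOpen r).1),
      e' ∈ nonZeroDivisors Γ(X, (X.affineBasicOpen r).1) ∧
      I.ideal (X.affineBasicOpen r) = Ideal.span {e'} := by
  refine ⟨(X.presheaf.map (homOfLE (X.basicOpen_le r)).op).hom e, ?_, ?_⟩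
  · haveI : IsLocalization.Away r Γ(X, X.basicOpen r) := U.2.isLocalization_basicOpen r
    have h := IsLocalization.map_nonZeroDivisors_le (Submonoid.powers r) Γ(X, X.basicOpen r)
    exact h ⟨e, he, rfl⟩
  · rw [← I.map_ideal_basicOpen U r, hI, Ideal.map_span, Set.image_singleton]
    rfl

lemma local_algebra {R : Type*} [CommRing R] (K : Ideal R) (e a b : R)
    (ha : a ∈ nonZeroDivisors R) (hb : b ∈ nonZeroDivisors R)
    (hae : a ∈ Ideal.span {e}) (hbe : b ∈ Ideal.span {e})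
    (hK : K * Ideal.span {e} = Ideal.span {a} * Ideal.span {b}) :
    ∃ k, k ∈ nonZeroDivisors R ∧ K = Ideal.span {k} := by
  obtain ⟨a', rfl⟩ := Ideal.mem_span_singleton'.mp hae
  obtain ⟨b', rfl⟩ := Ideal.mem_span_singleton'.mp hbe
  obtain ⟨ha', he⟩ := mul_mem_nonZeroDivisors.mp ha
  obtain ⟨hb', -⟩ := mul_mem_nonZeroDivisors.mp hb
  refine ⟨a' * b' * e, mul_mem_nonZeroDivisors.mpr ⟨mul_mem_nonZeroDivisors.mpr ⟨ha', hb'⟩, he⟩, ?_⟩
  rw [Ideal.span_singleton_mul_span_singleton] at hK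
  apply le_antisymm
  · intro x hx
    have h1 : x * e ∈ K * Ideal.span {e} :=
      Ideal.mul_mem_mul hx (Ideal.mem_span_singleton_self e)
    rw [hK] at h1
    obtain ⟨c, hc⟩ := Ideal.mem_span_singleton'.mp h1
    have h2 : (x - c * (a' * b' * e)) * e = 0 := by rw [sub_mul, ← hc]; ring
    have h3 := (mem_nonZeroDivisors_iff_right.mp he) _ h2
    rw [sub_eq_zero] at h3
    rw [h3]
    exact Ideal.mul_mem_left _ _ (Ideal.mem_span_singleton_self _)
  · rw [Ideal.span_singleton_le_iff_mem]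
    have h1 : a' * e * (b' * e) ∈ K * Ideal.span {e} := by
      rw [hK]; exact Ideal.mem_span_singleton_self _
    obtain ⟨z, hz, hze⟩ := Ideal.mem_mul_span_singleton.mp h1
    have h2 : (z - a' * b' * e) * e = 0 := by rw [sub_mul, hze]; ring
    have h3 := (mem_nonZeroDivisors_iff_right.mp he) _ h2
    rw [sub_eq_zero] at h3
    rw [← h3]
    exact hz

end General

section Main

theorem ambProd_general {X T Y₀ Y : Scheme.{u}} (I : X.IdealSheafData) (J : T.IdealSheafData)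
    (hX : BlowUp.IsEffCartierIdeal I) (hT : BlowUp.IsEffCartierIdeal J)
    (h₁ : Y₀ ⟶ X) (h₂ : Y₀ ⟶ T)
    (hV₀ : IsSchemeTheoreticallyDominant
      (h₁ ⁻¹ᵁ I.support.compl ⊓ h₂ ⁻¹ᵁ J.support.compl).ι)
    (π : Y ⟶ Y₀) (hπ : BlowUp.IsBlowUp π (I.comap h₁ ⊔ J.comap h₂)) (K : Y.IdealSheafData)
    (hK : K * (I.comap h₁ ⊔ J.comap h₂).comap π =
      (I.comap h₁).comap π * (J.comap h₂).comap π) :
    BlowUp.IsEffCartierIdeal K ∧ K ≤ I.comap (π ≫ h₁) ∧ K ≤ J.comap (π ≫ h₂) ∧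
      ∀ y : Y, y ∈ K.support ↔ (h₁ (π y) ∈ I.support ∨ h₂ (π y) ∈ J.support) := by
  haveI a1 : IsAffineHom (h₁ ⁻¹ᵁ I.support.compl).ι := isAffineHom_preimage_compl I hX h₁
  haveI a2 : IsAffineHom (h₂ ⁻¹ᵁ J.support.compl).ι := isAffineHom_preimage_compl J hT h₂
  haveI a12 : IsAffineHom (h₁ ⁻¹ᵁ I.support.compl ⊓ h₂ ⁻¹ᵁ J.support.compl).ι :=
    isAffineHom_inf _ _
  haveI q12 : QuasiCompact (h₁ ⁻¹ᵁ I.support.compl ⊓ h₂ ⁻¹ᵁ J.support.compl).ι := inferInstance
  haveI := hV₀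
  haveI d1 : IsSchemeTheoreticallyDominant (h₁ ⁻¹ᵁ I.support.compl).ι :=
    isSchemeTheoreticallyDominant_of_le
      (h₁ ⁻¹ᵁ I.support.compl ⊓ h₂ ⁻¹ᵁ J.support.compl) _ inf_le_left
  haveI d2 : IsSchemeTheoreticallyDominant (h₂ ⁻¹ᵁ J.support.compl).ι :=
    isSchemeTheoreticallyDominant_of_le
      (h₁ ⁻¹ᵁ I.support.compl ⊓ h₂ ⁻¹ᵁ J.support.compl) _ inf_le_right
  haveI q1 : QuasiCompact (h₁ ⁻¹ᵁ I.support.compl).ι := inferInstance
  haveI q2 : QuasiCompact (h₂ ⁻¹ᵁ J.support.compl).ι := inferInstance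
  have e1 : IsSchemeTheoreticallyDominant (π ⁻¹ᵁ (h₁ ⁻¹ᵁ I.support.compl)).ι :=
    BlowupDense.isSchemeTheoreticallyDominant_preimage _ π hπ _
  have e2 : IsSchemeTheoreticallyDominant (π ⁻¹ᵁ (h₂ ⁻¹ᵁ J.support.compl)).ι :=
    BlowupDense.isSchemeTheoreticallyDominant_preimage _ π hπ _
  haveI b1 : IsAffineHom ((π ≫ h₁) ⁻¹ᵁ I.support.compl).ι :=
    isAffineHom_preimage_compl I hX (π ≫ h₁)
  haveI b2 : IsAffineHom ((π ≫ h₂) ⁻¹ᵁ J.support.compl).ι :=
    isAffineHom_preimage_compl J hT (π ≫ h₂)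
  haveI qb1 : QuasiCompact ((π ≫ h₁) ⁻¹ᵁ I.support.compl).ι := inferInstance
  haveI qb2 : QuasiCompact ((π ≫ h₂) ⁻¹ᵁ J.support.compl).ι := inferInstance
  haveI e1' : IsSchemeTheoreticallyDominant ((π ≫ h₁) ⁻¹ᵁ I.support.compl).ι := e1
  haveI e2' : IsSchemeTheoreticallyDominant ((π ≫ h₂) ⁻¹ᵁ J.support.compl).ι := e2
  have c1 : (I.comap h₁).comap π = I.comap (π ≫ h₁) := (IdealSheafData.comap_comp I π h₁).symm
  have c2 : (J.comap h₂).comap π = J.comap (π ≫ h₂) := (IdealSheafData.comap_comp J π h₂).symm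
  have cE : (I.comap h₁ ⊔ J.comap h₂).comap π = I.comap (π ≫ h₁) ⊔ J.comap (π ≫ h₂) := by
    rw [(IdealSheafData.map_gc π).l_sup, c1, c2]
  have hE : BlowUp.IsEffCartierIdeal (I.comap (π ≫ h₁) ⊔ J.comap (π ≫ h₂)) := cE ▸ hπ.1
  rw [cE, c1, c2] at hK
  -- the two inequalities
  have key : ∀ (A B : Y.IdealSheafData), BlowUp.IsEffCartierIdeal (A ⊔ B) →
      K * (A ⊔ B) = A * B → K ≤ A := by
    intro A B hAB hKAB
    choose U hyU e he hEU using hAB
    refine IdealSheafData.le_of_iSup_eq_top U ?_ ?_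
    · rw [eq_top_iff]
      intro y _
      exact Opens.mem_iSup.mpr ⟨y, hyU y⟩
    · intro y k hk
      have h1 : k * e y ∈ (K * (A ⊔ B)).ideal (U y) := by
        show k * e y ∈ K.ideal (U y) * (A ⊔ B).ideal (U y)
        rw [hEU]
        exact Ideal.mul_mem_mul hk (Ideal.mem_span_singleton_self _)
      rw [hKAB] at h1
      have h1' : k * e y ∈ A.ideal (U y) * B.ideal (U y) := h1
      have h2 : A.ideal (U y) * B.ideal (U y) ≤ A.ideal (U y) * Ideal.span {e y} := by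
        apply Ideal.mul_mono_right
        rw [← hEU y]
        exact (IdealSheafData.le_def.mp (le_sup_right : B ≤ A ⊔ B)) (U y)
      obtain ⟨z, hz, hze⟩ := Ideal.mem_mul_span_singleton.mp (h2 h1')
      have h3 : (z - k) * e y = 0 := by rw [sub_mul, hze, sub_self]
      have h4 := (mem_nonZeroDivisors_iff_right.mp (he y)) _ h3
      rw [sub_eq_zero] at h4
      rw [← h4]
      exact hz
  have le1 : K ≤ I.comap (π ≫ h₁) := key _ _ hE hK
  have le2 : K ≤ J.comap (π ≫ h₂) := by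
    refine key (J.comap (π ≫ h₂)) (I.comap (π ≫ h₁)) ?_ ?_
    · rw [sup_comm]; exact hE
    · rw [sup_comm, mul_comm (J.comap (π ≫ h₂))]; exact hK
  refine ⟨?_, le1, le2, ?_⟩
  · intro y
    obtain ⟨U₀, hyU₀, e, he, hEU⟩ := hE y
    obtain ⟨N₁, hyN₁, hN₁⟩ := exists_nhd_principal I hX (π ≫ h₁) y
    obtain ⟨N₂, hyN₂, hN₂⟩ := exists_nhd_principal J hT (π ≫ h₂) y
    obtain ⟨r, hr1, hr2⟩ := U₀.2.exists_basicOpen_le (V := N₁ ⊓ N₂) ⟨y, ⟨hyN₁, hyN₂⟩⟩ hyU₀
    obtain ⟨e', he', hE'⟩ := principal_basicOpen _ U₀ e he hEU r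
    obtain ⟨a, ha, hIa⟩ := hN₁ (Y.affineBasicOpen r) (hr1.trans inf_le_left)
    obtain ⟨b, hb, hJb⟩ := hN₂ (Y.affineBasicOpen r) (hr1.trans inf_le_right)
    have hae : a ∈ Ideal.span {e'} := by
      rw [← hE']
      show a ∈ (I.comap (π ≫ h₁)).ideal (Y.affineBasicOpen r) ⊔
        (J.comap (π ≫ h₂)).ideal (Y.affineBasicOpen r)
      refine Ideal.mem_sup_left ?_
      rw [hIa]; exact Ideal.mem_span_singleton_self a
    have hbe : b ∈ Ideal.span {e'} := by
      rw [← hE']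
      show b ∈ (I.comap (π ≫ h₁)).ideal (Y.affineBasicOpen r) ⊔
        (J.comap (π ≫ h₂)).ideal (Y.affineBasicOpen r)
      refine Ideal.mem_sup_right ?_
      rw [hJb]; exact Ideal.mem_span_singleton_self b
    have hKW : K.ideal (Y.affineBasicOpen r) * Ideal.span {e'} =
        Ideal.span {a} * Ideal.span {b} := by
      rw [← hE', ← hIa, ← hJb]
      exact congrArg (fun M => IdealSheafData.ideal M (Y.affineBasicOpen r)) hK
    obtain ⟨k, hk, hKk⟩ := local_algebra (K.ideal (Y.affineBasicOpen r)) e' a b ha hb hae hbe hKW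
    exact ⟨Y.affineBasicOpen r, hr2, k, hk, hKk⟩
  · intro y
    constructor
    · intro hy
      have h1 : y ∈ (K * (I.comap (π ≫ h₁) ⊔ J.comap (π ≫ h₂))).support := by
        rw [IdealSheafData.support_mul]
        exact Or.inl hy
      rw [hK, IdealSheafData.support_mul] at h1
      rcases h1 with h | h
      · left
        have h' : y ∈ (I.comap (π ≫ h₁)).support := h
        rw [IdealSheafData.support_comap] at h'
        exact h'
      · right
        have h' : y ∈ (J.comap (π ≫ h₂)).support := h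
        rw [IdealSheafData.support_comap] at h'
        exact h'
    · rintro (h | h)
      · have h' : y ∈ (I.comap (π ≫ h₁)).support := by
          rw [IdealSheafData.support_comap]; exact h
        exact IdealSheafData.support_antitone le1 h'
      · have h' : y ∈ (J.comap (π ≫ h₂)).support := by
          rw [IdealSheafData.support_comap]; exact h
        exact IdealSheafData.support_antitone le2 h'

theorem ambProd {S T X Y : Scheme.{u}} (J : T.IdealSheafData) (I : X.IdealSheafData)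
    (hT : BlowUp.IsEffCartierIdeal J) (hX : BlowUp.IsEffCartierIdeal I)
    (f : X ⟶ S) (g : T ⟶ S)
    (π : Y ⟶ ModPair.mprod f g I J) (K : Y.IdealSheafData)
    (hY : ModPair.IsAmbProd f g I J π K) :
    BlowUp.IsEffCartierIdeal K ∧
      ModPair.IsAmbient K I (π ≫ ModPair.mprodι f g I J ≫ pullback.fst f g) ∧
      ModPair.IsAmbient K J (π ≫ ModPair.mprodι f g I J ≫ pullback.snd f g) ∧
      ModPair.interior K =
        (π ≫ ModPair.mprodι f g I J) ⁻¹ᵁ ModPair.prodInterior f g I J := by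
  obtain ⟨hπ, hK⟩ := hY
  haveI a1 : IsAffineHom (pullback.fst f g ⁻¹ᵁ I.support.compl).ι :=
    isAffineHom_preimage_compl I hX _
  haveI a2 : IsAffineHom (pullback.snd f g ⁻¹ᵁ J.support.compl).ι :=
    isAffineHom_preimage_compl J hT _
  haveI a12 : IsAffineHom (ModPair.prodInterior f g I J).ι :=
    isAffineHom_inf (pullback.fst f g ⁻¹ᵁ I.support.compl) (pullback.snd f g ⁻¹ᵁ J.support.compl)
  haveI : QuasiCompact (ModPair.prodInterior f g I J).ι := inferInstance
  have hV₀ : IsSchemeTheoreticallyDominant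
      ((ModPair.mprodι f g I J ≫ pullback.fst f g) ⁻¹ᵁ I.support.compl ⊓
        (ModPair.mprodι f g I J ≫ pullback.snd f g) ⁻¹ᵁ J.support.compl).ι :=
    isSchemeTheoreticallyDominant_preimage_image (ModPair.prodInterior f g I J)
  obtain ⟨r1, r2, r3, r4⟩ := ambProd_general I J hX hT
    (ModPair.mprodι f g I J ≫ pullback.fst f g) (ModPair.mprodι f g I J ≫ pullback.snd f g)
    hV₀ π hπ K hK
  refine ⟨r1, r2, r3, ?_⟩
  ext y
  have h4 := r4 y
  constructor
  · intro hy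
    have hy' : y ∉ K.support := hy
    rw [h4, not_or] at hy'
    exact ⟨hy'.1, hy'.2⟩
  · rintro ⟨h1, h2⟩
    show y ∉ K.support
    rw [h4, not_or]
    exact ⟨h1, h2⟩

end Main

end Groth.Agent.Helper4.ModPairAmbProd
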