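import Mathlib
import Groth.Prelude.Def_BlowUp2
import Groth.Prelude.Def_W4c6modpairsegaMP
import Groth.Agent.Lib.Helper4.ModPairAmbProd

/-!
Functoriality of the ambient product of modulus pairs in the base.
-/

set_option autoImplicit false
set_option linter.style.haveILetI false

open CategoryTheory CategoryTheory.Limits AlgebraicGeometry AlgebraicGeometry.Scheme TopologicalSpace

namespace Groth.Agent.Helper4.ModPairFunct

universe u

open Groth.Agent.Helper4.CartierDense Groth.Agent.Helper4.StrictTransform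
  Groth.Agent.Helper4.ModPairAmbProd

lemma comap_mul {X Y : Scheme.{u}} (f : X ⟶ Y) (A B : Y.IdealSheafData) :
    (A * B).comap f = A.comap f * B.comap f := by
  refine IdealSheafData.ext_of_iSup_eq_top
    (ι := {p : X.affineOpens × Y.affineOpens // p.1.1 ≤ f ⁻¹ᵁ p.2.1}) (fun p => p.1.1) ?_ ?_
  · rw [eq_top_iff]
    intro x _
    obtain ⟨_, ⟨V, hV, rfl⟩, hxV, -⟩ :=
      Y.isBasis_affineOpens.exists_subset_of_mem_open (Set.mem_univ (f x)) isOpen_univ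
    obtain ⟨_, ⟨U, hU, rfl⟩, hxU, hUV⟩ :=
      X.isBasis_affineOpens.exists_subset_of_mem_open (show x ∈ (f ⁻¹ᵁ V : Set X) from hxV)
        (f ⁻¹ᵁ V).isOpen
    exact Opens.mem_iSup.mpr ⟨⟨⟨⟨U, hU⟩, ⟨V, hV⟩⟩, hUV⟩, hxU⟩
  · rintro ⟨⟨U, V⟩, h⟩
    show ((A * B).comap f).ideal U = (A.comap f).ideal U * (B.comap f).ideal U
    rw [EffCartierPull.ideal_comap_appLE f (A * B) U V h,
      EffCartierPull.ideal_comap_appLE f A U V h, EffCartierPull.ideal_comap_appLE f B U V h]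
    show Ideal.map _ (A.ideal V * B.ideal V) = _
    rw [Ideal.map_mul]

lemma le_of_mul_span_le {R : Type*} [CommRing R] (A B : Ideal R) (e : R)
    (he : e ∈ nonZeroDivisors R) (h : A * Ideal.span {e} ≤ B * Ideal.span {e}) : A ≤ B := by
  intro x hx
  have h1 : x * e ∈ B * Ideal.span {e} :=
    h (Ideal.mul_mem_mul hx (Ideal.mem_span_singleton_self e))
  obtain ⟨z, hz, hze⟩ := Ideal.mem_mul_span_singleton.mp h1
  have h3 : (z - x) * e = 0 := by rw [sub_mul, hze, sub_self]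
  have h4 := (mem_nonZeroDivisors_iff_right.mp he) _ h3
  rw [sub_eq_zero] at h4
  rw [← h4]
  exact hz

lemma eq_of_mul_eq_mul {Y : Scheme.{u}} (A B E : Y.IdealSheafData)
    (hE : BlowUp.IsEffCartierIdeal E) (h : A * E = B * E) : A = B := by
  choose U hyU e he hEU using hE
  refine IdealSheafData.ext_of_iSup_eq_top U ?_ ?_
  · rw [eq_top_iff]
    intro y _
    exact Opens.mem_iSup.mpr ⟨y, hyU y⟩
  · intro y
    have h1 : A.ideal (U y) * Ideal.span {e y} = B.ideal (U y) * Ideal.span {e y} := by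
      rw [← hEU y]
      exact congrArg (fun M => IdealSheafData.ideal M (U y)) h
    exact le_antisymm (le_of_mul_span_le _ _ _ (he y) h1.le) (le_of_mul_span_le _ _ _ (he y) h1.ge)

theorem ambProd_functorial {S₀ S₁ T X Y₁ Y₀ : Scheme.{u}} (J : T.IdealSheafData)
    (I : X.IdealSheafData) (hT : BlowUp.IsEffCartierIdeal J) (hX : BlowUp.IsEffCartierIdeal I)
    (f : X ⟶ S₁) (g : T ⟶ S₁) (σ : S₁ ⟶ S₀)
    (π₁ : Y₁ ⟶ ModPair.mprod f g I J) (K₁ : Y₁.IdealSheafData)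
    (hY₁ : ModPair.IsAmbProd f g I J π₁ K₁)
    (π₀ : Y₀ ⟶ ModPair.mprod (f ≫ σ) (g ≫ σ) I J) (K₀ : Y₀.IdealSheafData)
    (hY₀ : ModPair.IsAmbProd (f ≫ σ) (g ≫ σ) I J π₀ K₀) :
    (∃! φ : Y₁ ⟶ Y₀, φ ≫ π₀ ≫ ModPair.mprodι (f ≫ σ) (g ≫ σ) I J =
        π₁ ≫ ModPair.mprodι f g I J ≫ pullback.mapDesc f g σ) ∧
      ∀ φ : Y₁ ⟶ Y₀, φ ≫ π₀ ≫ ModPair.mprodι (f ≫ σ) (g ≫ σ) I J =
          π₁ ≫ ModPair.mprodι f g I J ≫ pullback.mapDesc f g σ →
        ModPair.IsMinimal K₁ K₀ φ := by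
  obtain ⟨r1, -, -, r4⟩ := ambProd J I hT hX f g π₁ K₁ hY₁
  have cf : pullback.mapDesc f g σ ≫ pullback.fst (f ≫ σ) (g ≫ σ) = pullback.fst f g :=
    (pullback.lift_fst _ _ _).trans (Category.comp_id _)
  have cs : pullback.mapDesc f g σ ≫ pullback.snd (f ≫ σ) (g ≫ σ) = pullback.snd f g :=
    (pullback.lift_snd _ _ _).trans (Category.comp_id _)
  have ψf : (π₁ ≫ ModPair.mprodι f g I J ≫ pullback.mapDesc f g σ) ≫
      pullback.fst (f ≫ σ) (g ≫ σ) = π₁ ≫ ModPair.mprodι f g I J ≫ pullback.fst f g := by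
    simp only [Category.assoc, cf]
  have ψs : (π₁ ≫ ModPair.mprodι f g I J ≫ pullback.mapDesc f g σ) ≫
      pullback.snd (f ≫ σ) (g ≫ σ) = π₁ ≫ ModPair.mprodι f g I J ≫ pullback.snd f g := by
    simp only [Category.assoc, cs]
  haveI : IsSchemeTheoreticallyDominant (Scheme.Opens.ι (X := Y₁) K₁.support.compl) :=
    isSchemeTheoreticallyDominant_compl K₁ r1
  have hle : K₁.support.compl ≤ (π₁ ≫ ModPair.mprodι f g I J ≫ pullback.mapDesc f g σ) ⁻¹ᵁ
      ModPair.prodInterior (f ≫ σ) (g ≫ σ) I J := by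
    intro y hy
    have hy' : y ∈ ModPair.interior K₁ := hy
    rw [r4] at hy'
    obtain ⟨h1, h2⟩ := hy'
    constructor
    · show (pullback.fst (f ≫ σ) (g ≫ σ))
        ((π₁ ≫ ModPair.mprodι f g I J ≫ pullback.mapDesc f g σ) y) ∈ ModPair.interior I
      rw [← Scheme.Hom.comp_apply, ψf]
      have h1' : (pullback.fst f g) ((π₁ ≫ ModPair.mprodι f g I J) y) ∈ ModPair.interior I := h1
      rw [← Scheme.Hom.comp_apply, Category.assoc] at h1'
      exact h1'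
    · show (pullback.snd (f ≫ σ) (g ≫ σ))
        ((π₁ ≫ ModPair.mprodι f g I J ≫ pullback.mapDesc f g σ) y) ∈ ModPair.interior J
      rw [← Scheme.Hom.comp_apply, ψs]
      have h2' : (pullback.snd f g) ((π₁ ≫ ModPair.mprodι f g I J) y) ∈ ModPair.interior J := h2
      rw [← Scheme.Hom.comp_apply, Category.assoc] at h2'
      exact h2'
  obtain ⟨m, hm⟩ := exists_lift_image (ModPair.prodInterior (f ≫ σ) (g ≫ σ) I J)
    (π₁ ≫ ModPair.mprodι f g I J ≫ pullback.mapDesc f g σ) K₁.support.compl hle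
  have hm' : m ≫ ModPair.mprodι (f ≫ σ) (g ≫ σ) I J =
      π₁ ≫ ModPair.mprodι f g I J ≫ pullback.mapDesc f g σ := hm
  -- pulled-back centre
  have hmf : m ≫ ModPair.mprodι (f ≫ σ) (g ≫ σ) I J ≫ pullback.fst (f ≫ σ) (g ≫ σ) =
      π₁ ≫ ModPair.mprodι f g I J ≫ pullback.fst f g := by
    rw [← Category.assoc, hm', ψf]
  have hms : m ≫ ModPair.mprodι (f ≫ σ) (g ≫ σ) I J ≫ pullback.snd (f ≫ σ) (g ≫ σ) =
      π₁ ≫ ModPair.mprodι f g I J ≫ pullback.snd f g := by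
    rw [← Category.assoc, hm', ψs]
  have hI₀ : (I.comap (ModPair.mprodι (f ≫ σ) (g ≫ σ) I J ≫
      pullback.fst (f ≫ σ) (g ≫ σ))).comap m =
      (I.comap (ModPair.mprodι f g I J ≫ pullback.fst f g)).comap π₁ := by
    rw [← IdealSheafData.comap_comp, ← IdealSheafData.comap_comp, hmf]
  have hJ₀ : (J.comap (ModPair.mprodι (f ≫ σ) (g ≫ σ) I J ≫
      pullback.snd (f ≫ σ) (g ≫ σ))).comap m =
      (J.comap (ModPair.mprodι f g I J ≫ pullback.snd f g)).comap π₁ := by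
    rw [← IdealSheafData.comap_comp, ← IdealSheafData.comap_comp, hms]
  have hC : (ModPair.prodCentre (f ≫ σ) (g ≫ σ) I J).comap m =
      (ModPair.prodCentre f g I J).comap π₁ := by
    unfold ModPair.prodCentre
    rw [IdealSheafData.comap_sup, IdealSheafData.comap_sup, hI₀, hJ₀]
  have hEff : BlowUp.IsEffCartierIdeal ((ModPair.prodCentre (f ≫ σ) (g ≫ σ) I J).comap m) := by
    rw [hC]; exact hY₁.1.1
  obtain ⟨φ, hφ, huniq⟩ := hY₀.1.2 Y₁ m hEff
  have hφ' : φ ≫ π₀ = m := hφ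
  have key : ∀ φ' : Y₁ ⟶ Y₀, φ' ≫ π₀ ≫ ModPair.mprodι (f ≫ σ) (g ≫ σ) I J =
      π₁ ≫ ModPair.mprodι f g I J ≫ pullback.mapDesc f g σ → φ' ≫ π₀ = m := by
    intro φ' h'
    rw [← cancel_mono (ModPair.mprodι (f ≫ σ) (g ≫ σ) I J), Category.assoc, h', hm']
  refine ⟨⟨φ, ?_, ?_⟩, ?_⟩
  · show φ ≫ π₀ ≫ ModPair.mprodι (f ≫ σ) (g ≫ σ) I J = _
    rw [← Category.assoc, hφ', hm']
  · intro φ' h'
    exact huniq φ' (key φ' h')
  · intro φ' h'
    have hφm : φ' ≫ π₀ = m := key φ' h'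
    show K₁ = K₀.comap φ'
    symm
    refine eq_of_mul_eq_mul _ _ ((ModPair.prodCentre f g I J).comap π₁) hY₁.1.1 ?_
    have e1 : (ModPair.prodCentre f g I J).comap π₁ =
        ((ModPair.prodCentre (f ≫ σ) (g ≫ σ) I J).comap π₀).comap φ' := by
      rw [← hC, ← hφm, IdealSheafData.comap_comp]
    have e2 : ((I.comap (ModPair.mprodι (f ≫ σ) (g ≫ σ) I J ≫
        pullback.fst (f ≫ σ) (g ≫ σ))).comap π₀).comap φ' =
        (I.comap (ModPair.mprodι f g I J ≫ pullback.fst f g)).comap π₁ := by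
      rw [← IdealSheafData.comap_comp _ φ' π₀, hφm, hI₀]
    have e3 : ((J.comap (ModPair.mprodι (f ≫ σ) (g ≫ σ) I J ≫
        pullback.snd (f ≫ σ) (g ≫ σ))).comap π₀).comap φ' =
        (J.comap (ModPair.mprodι f g I J ≫ pullback.snd f g)).comap π₁ := by
      rw [← IdealSheafData.comap_comp _ φ' π₀, hφm, hJ₀]
    calc K₀.comap φ' * (ModPair.prodCentre f g I J).comap π₁
        = K₀.comap φ' * ((ModPair.prodCentre (f ≫ σ) (g ≫ σ) I J).comap π₀).comap φ' := by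
          rw [e1]
      _ = (K₀ * (ModPair.prodCentre (f ≫ σ) (g ≫ σ) I J).comap π₀).comap φ' :=
          (comap_mul _ _ _).symm
      _ = ((I.comap (ModPair.mprodι (f ≫ σ) (g ≫ σ) I J ≫
            pullback.fst (f ≫ σ) (g ≫ σ))).comap π₀ *
          (J.comap (ModPair.mprodι (f ≫ σ) (g ≫ σ) I J ≫
            pullback.snd (f ≫ σ) (g ≫ σ))).comap π₀).comap φ' := by rw [hY₀.2]
      _ = ((I.comap (ModPair.mprodι (f ≫ σ) (g ≫ σ) I J ≫
            pullback.fst (f ≫ σ) (g ≫ σ))).comap π₀).comap φ' *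
          ((J.comap (ModPair.mprodι (f ≫ σ) (g ≫ σ) I J ≫
            pullback.snd (f ≫ σ) (g ≫ σ))).comap π₀).comap φ' := comap_mul _ _ _
      _ = (I.comap (ModPair.mprodι f g I J ≫ pullback.fst f g)).comap π₁ *
          (J.comap (ModPair.mprodι f g I J ≫ pullback.snd f g)).comap π₁ := by rw [e2, e3]
      _ = K₁ * (ModPair.prodCentre f g I J).comap π₁ := hY₁.2.symm

end Groth.Agent.Helper4.ModPairFunct
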