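import Mathlib
import Groth.Prelude.Def_BlowUp2
import Groth.Agent.Lib.Helper4.StrictTransform
import Groth.Agent.Lib.Helper4.BlowupDense
import Groth.Agent.Lib.Helper4.ModPairFunct

/-!
Products and factors of effective Cartier ideal sheaves; blowing up `𝓘 * 𝓓`.
-/

set_option autoImplicit false
set_option linter.style.haveILetI false

open CategoryTheory CategoryTheory.Limits AlgebraicGeometry AlgebraicGeometry.Scheme TopologicalSpace

namespace Groth.Agent.Helper4.CartierMul

universe u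

open Groth.Agent.Helper4.CartierDense Groth.Agent.Helper4.StrictTransform

section Algebra

lemma nzd_of_flat {R S : Type*} [CommRing R] [CommRing S] (φ : R →+* S) (hφ : φ.Flat) (r : R)
    (hr : r ∈ nonZeroDivisors R) : φ r ∈ nonZeroDivisors S := by
  algebraize [φ]
  have h1 : IsSMulRegular S r := Module.Flat.isSMulRegular_of_nonZeroDivisors hr
  rw [mem_nonZeroDivisors_iff_right]
  intro s hs
  apply h1
  show r • s = r • (0 : S)
  rw [smul_zero, Algebra.smul_def, RingHom.algebraMap_toAlgebra, mul_comm]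
  exact hs

/-- If `A * B = (c)` with `c` a nonzerodivisor, then near any prime some product `a * b` generates
`(c)` up to a local unit. -/
lemma exists_local_generator {R : Type*} [CommRing R] (A B : Ideal R) (c : R)
    (hc : c ∈ nonZeroDivisors R) (h : A * B = Ideal.span {c}) (p : Ideal R) [p.IsPrime] :
    ∃ u, u ∉ p ∧ ∃ a ∈ A, ∃ b ∈ B, a * b = u * c := by
  by_contra hcon
  push_neg at hcon
  -- every `r` with `a * b = r * c` lies in `p`
  have key : ∀ z ∈ A * B, ∃ r ∈ p, z = r * c := by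
    intro z hz
    refine Submodule.mul_induction_on hz ?_ ?_
    · intro a ha b hb
      have hab : a * b ∈ Ideal.span {c} := by rw [← h]; exact Ideal.mul_mem_mul ha hb
      obtain ⟨r, hr⟩ := Ideal.mem_span_singleton'.mp hab
      refine ⟨r, ?_, hr.symm⟩
      by_contra hrp
      exact hcon r hrp a ha b hb hr.symm
    · rintro x y ⟨r, hr, rfl⟩ ⟨s, hs, rfl⟩
      exact ⟨r + s, p.add_mem hr hs, by ring⟩
  have hcAB : c ∈ A * B := by rw [h]; exact Ideal.mem_span_singleton_self c
  obtain ⟨r, hr, hrc⟩ := key c hcAB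
  have h2 : (r - 1) * c = 0 := by rw [sub_mul, ← hrc]; ring
  have h3 := (mem_nonZeroDivisors_iff_right.mp hc) _ h2
  rw [sub_eq_zero] at h3
  rw [h3] at hr
  exact (Ideal.IsPrime.ne_top ‹_›) ((Ideal.eq_top_iff_one p).mpr hr)

lemma map_eq_span_of_mul {R R' : Type*} [CommRing R] [CommRing R'] [Algebra R R'] (u : R)
    [IsLocalization.Away u R'] (A B : Ideal R) (c : R) (hc : c ∈ nonZeroDivisors R)
    (h : A * B = Ideal.span {c}) (a : R) (ha : a ∈ A) (b : R) (hb : b ∈ B)
    (hab : a * b = u * c) :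
    A.map (algebraMap R R') = Ideal.span {algebraMap R R' a} ∧
      algebraMap R R' a ∈ nonZeroDivisors R' := by
  have hu : IsUnit (algebraMap R R' u) := IsLocalization.Away.algebraMap_isUnit u
  constructor
  · apply le_antisymm
    · rw [Ideal.map_le_iff_le_comap]
      intro x hx
      rw [Ideal.mem_comap]
      have hxb : x * b ∈ Ideal.span {c} := by rw [← h]; exact Ideal.mul_mem_mul hx hb
      obtain ⟨s, hs⟩ := Ideal.mem_span_singleton'.mp hxb
      have h1 : (x * u - a * s) * c = 0 := by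
        have : x * u * c = a * s * c := by
          calc x * u * c = x * (u * c) := by ring
            _ = x * (a * b) := by rw [hab]
            _ = a * (x * b) := by ring
            _ = a * (s * c) := by rw [hs]
            _ = a * s * c := by ring
        rw [sub_mul, this, sub_self]
      have h2 := (mem_nonZeroDivisors_iff_right.mp hc) _ h1
      rw [sub_eq_zero] at h2
      have h3 : algebraMap R R' x * algebraMap R R' u =
          algebraMap R R' a * algebraMap R R' s := by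
        rw [← map_mul, ← map_mul, h2]
      obtain ⟨v, hv⟩ := hu
      have h4 : algebraMap R R' x =
          (algebraMap R R' s * ↑v⁻¹) * algebraMap R R' a := by
        have : algebraMap R R' x * ↑v = algebraMap R R' a * algebraMap R R' s := by
          rw [hv]; exact h3
        calc algebraMap R R' x = algebraMap R R' x * ↑v * ↑v⁻¹ := by
              rw [mul_assoc, Units.mul_inv, mul_one]
          _ = algebraMap R R' a * algebraMap R R' s * ↑v⁻¹ := by rw [this]
          _ = (algebraMap R R' s * ↑v⁻¹) * algebraMap R R' a := by ring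
      rw [h4]
      exact Ideal.mul_mem_left _ _ (Ideal.mem_span_singleton_self _)
    · rw [Ideal.span_singleton_le_iff_mem]
      exact Ideal.mem_map_of_mem _ ha
  · have hc' : algebraMap R R' c ∈ nonZeroDivisors R' :=
      IsLocalization.map_nonZeroDivisors_le (Submonoid.powers u) R' ⟨c, hc, rfl⟩
    have h1 : algebraMap R R' a * algebraMap R R' b ∈ nonZeroDivisors R' := by
      rw [← map_mul, hab, map_mul]
      exact mul_mem_nonZeroDivisors.mpr ⟨hu.mem_nonZeroDivisors, hc'⟩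
    exact (mul_mem_nonZeroDivisors.mp h1).1

end Algebra

section Geometry

variable {X : Scheme.{u}}

lemma flat_res (U W : X.affineOpens) (h : W.1 ≤ U.1) :
    (X.presheaf.map (homOfLE h).op).hom.Flat := by
  have h1 := Scheme.Hom.flat_appLE (𝟙 X) U.2 W.2 (show W.1 ≤ (𝟙 X) ⁻¹ᵁ U.1 from h)
  have e : (𝟙 X : X ⟶ X).appLE U.1 W.1 h = X.presheaf.map (homOfLE h).op := by
    simp only [Scheme.Hom.appLE, Scheme.Hom.id_app]
    exact Category.id_comp _
  rw [e] at h1
  exact h1

/-- Around each point an effective Cartier ideal is principal, generated by a nonzerodivisor, on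
every small affine open. -/
lemma exists_nhd_principal' (I : X.IdealSheafData) (hI : BlowUp.IsEffCartierIdeal I) (x : X) :
    ∃ N : X.Opens, x ∈ N ∧ ∀ W : X.affineOpens, W.1 ≤ N →
      ∃ s : Γ(X, W.1), s ∈ nonZeroDivisors Γ(X, W.1) ∧ I.ideal W = Ideal.span {s} := by
  obtain ⟨U, hxU, e, he, hIU⟩ := hI x
  refine ⟨U.1, hxU, ?_⟩
  intro W hWU
  refine ⟨(X.presheaf.map (homOfLE hWU).op).hom e, nzd_of_flat _ (flat_res U W hWU) e he, ?_⟩
  have h1 := I.map_ideal (U := W) (V := U) hWU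
  rw [← h1, hIU, Ideal.map_span, Set.image_singleton]
  rfl

theorem isEffCartier_mul (A B : X.IdealSheafData) (hA : BlowUp.IsEffCartierIdeal A)
    (hB : BlowUp.IsEffCartierIdeal B) : BlowUp.IsEffCartierIdeal (A * B) := by
  intro x
  obtain ⟨N₁, hx1, h1⟩ := exists_nhd_principal' A hA x
  obtain ⟨N₂, hx2, h2⟩ := exists_nhd_principal' B hB x
  obtain ⟨_, ⟨W, hW, rfl⟩, hxW, hWN⟩ :=
    X.isBasis_affineOpens.exists_subset_of_mem_open (show x ∈ ((N₁ ⊓ N₂ : X.Opens) : Set X) from
      ⟨hx1, hx2⟩) (N₁ ⊓ N₂).isOpen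
  obtain ⟨a, ha, hAa⟩ := h1 ⟨W, hW⟩ (fun y hy => (hWN hy).1)
  obtain ⟨b, hb, hBb⟩ := h2 ⟨W, hW⟩ (fun y hy => (hWN hy).2)
  refine ⟨⟨W, hW⟩, hxW, a * b, mul_mem_nonZeroDivisors.mpr ⟨ha, hb⟩, ?_⟩
  show A.ideal ⟨W, hW⟩ * B.ideal ⟨W, hW⟩ = _
  rw [hAa, hBb, Ideal.span_singleton_mul_span_singleton]

theorem isEffCartier_of_mul (A B : X.IdealSheafData)
    (h : BlowUp.IsEffCartierIdeal (A * B)) : BlowUp.IsEffCartierIdeal A := by
  intro x
  obtain ⟨U, hxU, c, hc, hAB⟩ := h x
  have hAB' : A.ideal U * B.ideal U = Ideal.span {c} := hAB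
  haveI : (U.2.primeIdealOf ⟨x, hxU⟩).asIdeal.IsPrime := (U.2.primeIdealOf ⟨x, hxU⟩).isPrime
  obtain ⟨u, hu, a, ha, b, hb, hab⟩ :=
    exists_local_generator (A.ideal U) (B.ideal U) c hc hAB' (U.2.primeIdealOf ⟨x, hxU⟩).asIdeal
  have hxu : x ∈ X.basicOpen u := by
    letI alg : Algebra Γ(X, U.1) (X.presheaf.stalk x) :=
      TopCat.Presheaf.algebra_section_stalk X.presheaf (⟨x, hxU⟩ : U.1)
    haveI hloc : IsLocalization.AtPrime (X.presheaf.stalk x)
        (U.2.primeIdealOf ⟨x, hxU⟩).asIdeal := U.2.isLocalization_stalk ⟨x, hxU⟩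
    have hunit : IsUnit (X.presheaf.germ U.1 x hxU u) :=
      IsLocalization.map_units (X.presheaf.stalk x)
        (⟨u, hu⟩ : (U.2.primeIdealOf ⟨x, hxU⟩).asIdeal.primeCompl)
    exact (X.mem_basicOpen u x hxU).mpr hunit
  haveI : IsLocalization.Away u Γ(X, X.basicOpen u) := U.2.isLocalization_basicOpen u
  obtain ⟨h1, h2⟩ := map_eq_span_of_mul (R' := Γ(X, X.basicOpen u)) u (A.ideal U) (B.ideal U) c hc
    hAB' a ha b hb hab
  refine ⟨X.affineBasicOpen u, hxu, algebraMap Γ(X, U.1) Γ(X, X.basicOpen u) a, h2, ?_⟩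
  rw [← A.map_ideal_basicOpen U u]
  exact h1

/-- Pullback of an effective Cartier ideal to a blow-up is effective Cartier. -/
theorem isEffCartier_comap_blowUp {S S' : Scheme.{u}} (𝓘 𝓓 : S.IdealSheafData)
    (h𝓓 : BlowUp.IsEffCartierIdeal 𝓓) (b : S' ⟶ S) (hb : BlowUp.IsBlowUp b 𝓘) :
    BlowUp.IsEffCartierIdeal (𝓓.comap b) := by
  haveI : IsAffineHom (Scheme.Opens.ι (X := S) 𝓓.support.compl) := isAffineHom_compl 𝓓 h𝓓
  haveI : QuasiCompact (Scheme.Opens.ι (X := S) 𝓓.support.compl) := inferInstance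
  haveI : IsSchemeTheoreticallyDominant (Scheme.Opens.ι (X := S) 𝓓.support.compl) :=
    isSchemeTheoreticallyDominant_compl 𝓓 h𝓓
  haveI : IsAffineHom (b ⁻¹ᵁ 𝓓.support.compl).ι := isAffineHom_preimage_compl 𝓓 h𝓓 b
  haveI : QuasiCompact (b ⁻¹ᵁ 𝓓.support.compl).ι := inferInstance
  haveI : IsSchemeTheoreticallyDominant (b ⁻¹ᵁ 𝓓.support.compl).ι :=
    BlowupDense.isSchemeTheoreticallyDominant_preimage 𝓘 b hb 𝓓.support.compl
  exact isEffCartier_comap_of_dominant 𝓓 h𝓓 b

theorem isBlowUp_mul {S S' : Scheme.{u}} (𝓘 𝓓 : S.IdealSheafData)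
    (h𝓓 : BlowUp.IsEffCartierIdeal 𝓓) (b : S' ⟶ S) (hb : BlowUp.IsBlowUp b 𝓘) :
    BlowUp.IsBlowUp b (𝓘 * 𝓓) := by
  refine ⟨?_, ?_⟩
  · rw [ModPairFunct.comap_mul]
    exact isEffCartier_mul _ _ hb.1 (isEffCartier_comap_blowUp 𝓘 𝓓 h𝓓 b hb)
  · intro Y g hg
    rw [ModPairFunct.comap_mul] at hg
    exact hb.2 Y g (isEffCartier_of_mul _ _ hg)

end Geometry

end Groth.Agent.Helper4.CartierMul
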