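import Mathlib
import Groth.Prelude.Def_BlowUp2
import Groth.Prelude.Def_CurvBase
import Groth.Agent.Lib.Helper4.BlowupAffine
import Groth.Agent.Lib.Helper4.BlowupChartAlg
import Groth.Agent.Lib.Helper4.CartierMul

/-!
# Affine charts of a blow-up of an affine scheme
-/

set_option autoImplicit false
set_option linter.style.haveILetI false

open CategoryTheory CategoryTheory.Limits AlgebraicGeometry AlgebraicGeometry.Scheme TopologicalSpace

namespace Groth.Agent.Helper4.BlowupChart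

universe u

variable (A : Type u) [CommRing A] (I : Ideal A) (a : A)

/-- The ring homomorphism `A → Γ(Y, ⊤)` attached to `g : Y ⟶ Spec A`. -/
noncomputable def gam {Y : Scheme.{u}} (g : Y ⟶ Spec (CommRingCat.of A)) : A →+* Γ(Y, ⊤) :=
  ((Scheme.ΓSpecIso (CommRingCat.of A)).inv ≫ g.appTop).hom

/-- Restriction of global sections to an open. -/
noncomputable def resTop {Y : Scheme.{u}} (U : Y.Opens) : Γ(Y, ⊤) →+* Γ(Y, U) :=
  (Y.presheaf.map (homOfLE (le_top : U ≤ ⊤)).op).hom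

/-- On the affine open `U`, the inverse image of `I` is generated by the image of `a`, which is a
nonzerodivisor. -/
def LocGen {Y : Scheme.{u}} (g : Y ⟶ Spec (CommRingCat.of A)) (U : Y.affineOpens) : Prop :=
  resTop U.1 (gam A g a) ∈ nonZeroDivisors Γ(Y, U.1) ∧
    ((Curv2.idealSheaf A I).comap g).ideal U = Ideal.span {resTop U.1 (gam A g a)}

/-- Every point has an affine neighbourhood with `LocGen`. -/
def IsGen {Y : Scheme.{u}} (g : Y ⟶ Spec (CommRingCat.of A)) : Prop :=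
  ∀ y : Y, ∃ U : Y.affineOpens, y ∈ U.1 ∧ LocGen A I a g U

variable {A}

lemma gam_comp {Y Y' : Scheme.{u}} (j : Y' ⟶ Y) (g : Y ⟶ Spec (CommRingCat.of A)) :
    gam A (j ≫ g) = j.appTop.hom.comp (gam A g) := by
  unfold gam
  rw [Scheme.Hom.comp_appTop, ← Category.assoc]
  rfl

lemma res_appLE {Y Y' : Scheme.{u}} (j : Y' ⟶ Y) (U : Y.Opens) (U' : Y'.Opens)
    (e : U' ≤ j ⁻¹ᵁ U) (s : Γ(Y, ⊤)) :
    (j.appLE U U' e).hom (resTop U s) = resTop U' (j.appTop.hom s) := by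
  have h1 : Y.presheaf.map (homOfLE (le_top : U ≤ ⊤)).op ≫ j.appLE U U' e =
      j.appTop ≫ Y'.presheaf.map (homOfLE (le_top : U' ≤ ⊤)).op := by
    rw [Scheme.Hom.map_appLE]
    rfl
  exact congrArg (fun f => f.hom s) h1

lemma resTop_resTop {Y : Scheme.{u}} (U W : Y.Opens) (h : W ≤ U) (s : Γ(Y, ⊤)) :
    (Y.presheaf.map (homOfLE h).op).hom (resTop U s) = resTop W s := by
  unfold resTop
  rw [← CommRingCat.comp_apply, ← Functor.map_comp]
  rfl

lemma comap_ideal_eq {Y : Scheme.{u}} (g : Y ⟶ Spec (CommRingCat.of A)) (U : Y.affineOpens) :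
    ((Curv2.idealSheaf A I).comap g).ideal U = I.map ((resTop U.1).comp (gam A g)) :=
  BlowupAffine.comap_ideal A I g U

variable {I a}

theorem locGen_comp_of_flat {Y Y' : Scheme.{u}} (j : Y' ⟶ Y) [Flat j]
    (g : Y ⟶ Spec (CommRingCat.of A)) (U : Y.affineOpens) (hU : LocGen A I a g U)
    (U' : Y'.affineOpens) (e : U'.1 ≤ j ⁻¹ᵁ U.1) : LocGen A I a (j ≫ g) U' := by
  have key : resTop U'.1 (gam A (j ≫ g) a) = (j.appLE U.1 U'.1 e).hom (resTop U.1 (gam A g a)) := by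
    rw [gam_comp, res_appLE]
    rfl
  constructor
  · rw [key]
    exact CartierMul.nzd_of_flat _ (Scheme.Hom.flat_appLE j U.2 U'.2 e) _ hU.1
  · rw [Scheme.IdealSheafData.comap_comp, EffCartierPull.ideal_comap_appLE j _ U' U e, hU.2,
      Ideal.map_span, Set.image_singleton, key]

theorem isEffCartier_of_isGen {Y : Scheme.{u}} (g : Y ⟶ Spec (CommRingCat.of A))
    (hg : IsGen A I a g) : BlowUp.IsEffCartierIdeal ((Curv2.idealSheaf A I).comap g) := by
  intro y
  obtain ⟨U, hyU, h1, h2⟩ := hg y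
  exact ⟨U, hyU, _, h1, h2⟩

theorem locGen_of_top {Y : Scheme.{u}} [IsAffine Y] (g : Y ⟶ Spec (CommRingCat.of A))
    (h1 : gam A g a ∈ nonZeroDivisors Γ(Y, ⊤))
    (h2 : I.map (gam A g) = Ideal.span {gam A g a}) (W : Y.affineOpens) : LocGen A I a g W := by
  constructor
  · exact CartierMul.nzd_of_flat _
      (CartierMul.flat_res ⟨⊤, isAffineOpen_top Y⟩ W le_top) _ h1
  · rw [comap_ideal_eq, ← Ideal.map_map, h2, Ideal.map_span, Set.image_singleton]

theorem gam_SpecMap (B : Type u) [CommRing B] (φ : A →+* B) :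
    gam A (Spec.map (CommRingCat.ofHom φ)) =
      (Scheme.ΓSpecIso (CommRingCat.of B)).inv.hom.comp φ := by
  unfold gam
  rw [← Scheme.ΓSpecIso_inv_naturality]
  rfl

theorem locGen_Spec (ha : a ∈ I) (W : (Spec (CommRingCat.of ↥(BlowUp.affineAlgebra A I a))).affineOpens) :
    LocGen A I a (Spec.map (CommRingCat.ofHom
      (algebraMap A ↥(BlowUp.affineAlgebra A I a)))) W := by
  have hbij : Function.Bijective
      (Scheme.ΓSpecIso (CommRingCat.of ↥(BlowUp.affineAlgebra A I a))).inv.hom :=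
    ConcreteCategory.bijective_of_isIso _
  apply locGen_of_top
  · rw [gam_SpecMap]
    exact BlowupIso.map_mem_nonZeroDivisors_of_bijective _ hbij
      (BlowupChartAlg.algebraMap_mem_nonZeroDivisors A I a)
  · rw [gam_SpecMap, ← Ideal.map_map, BlowupChartAlg.map_eq_span A I a ha, Ideal.map_span,
      Set.image_singleton]
    rfl

/-- Universal property of `Spec A[I/a]`. -/
theorem existsUnique_lift {Y : Scheme.{u}} (g : Y ⟶ Spec (CommRingCat.of A))
    (hg : IsGen A I a g) :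
    ∃! k : Y ⟶ Spec (CommRingCat.of ↥(BlowUp.affineAlgebra A I a)),
      k ≫ Spec.map (CommRingCat.ofHom (algebraMap A ↥(BlowUp.affineAlgebra A I a))) = g := by
  have hloc' : ∀ y : Y, ∃ U : Y.affineOpens, y ∈ U.1 ∧
      (Y.presheaf.map (homOfLE (le_top : U.1 ≤ ⊤)).op).hom (gam A g a) ∈
        nonZeroDivisors Γ(Y, U.1) := by
    intro y
    obtain ⟨U, h1, h2, -⟩ := hg y
    exact ⟨U, h1, h2⟩
  have hd := BlowupAffine.germ_nzd_of_locally (gam A g a) hloc'
  have hnzd := BlowupAffine.nzd_of_locally (gam A g a) hloc'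
  have hdiv : ∀ x ∈ I, ∃ c, c * gam A g a = gam A g x := by
    intro x hx
    apply BlowupAffine.exists_mul_eq_of_locally (gam A g a) (gam A g x) hd
    intro y
    obtain ⟨U, hyU, -, hU⟩ := hg y
    refine ⟨U.1, hyU, ?_⟩
    have : resTop U.1 (gam A g x) ∈ Ideal.span {resTop U.1 (gam A g a)} := by
      rw [← hU, comap_ideal_eq]
      exact Ideal.mem_map_of_mem ((resTop U.1).comp (gam A g)) hx
    exact Ideal.mem_span_singleton'.mp this
  obtain ⟨ψ, hψ⟩ := BlowupChartAlg.exists_ringHom (gam A g) hnzd hdiv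
  refine ⟨Y.toSpecΓ ≫ Spec.map (CommRingCat.ofHom ψ), ?_, ?_⟩
  · apply ext_to_Spec
    change (Scheme.ΓSpecIso (CommRingCat.of A)).inv ≫
      ((Y.toSpecΓ ≫ Spec.map (CommRingCat.ofHom ψ)) ≫
        Spec.map (CommRingCat.ofHom (algebraMap A ↥(BlowUp.affineAlgebra A I a)))).appTop =
      (Scheme.ΓSpecIso (CommRingCat.of A)).inv ≫ g.appTop
    rw [Scheme.Hom.comp_appTop, ← Scheme.ΓSpecIso_inv_naturality_assoc,
      BlowupAffine.toSpecΓ_comp_appTop]
    exact CommRingCat.hom_ext hψ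
  · intro h' hh'
    apply ext_to_Spec
    change (Scheme.ΓSpecIso (CommRingCat.of ↥(BlowUp.affineAlgebra A I a))).inv ≫ h'.appTop =
      (Scheme.ΓSpecIso (CommRingCat.of ↥(BlowUp.affineAlgebra A I a))).inv ≫
        (Y.toSpecΓ ≫ Spec.map (CommRingCat.ofHom ψ)).appTop
    rw [BlowupAffine.toSpecΓ_comp_appTop]
    apply CommRingCat.hom_ext
    let ψ' : ↥(BlowUp.affineAlgebra A I a) →+* Γ(Y, ⊤) :=
      ((Scheme.ΓSpecIso (CommRingCat.of ↥(BlowUp.affineAlgebra A I a))).inv ≫ h'.appTop).hom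
    have hψ' : ψ'.comp (algebraMap A ↥(BlowUp.affineAlgebra A I a)) = gam A g := by
      unfold gam
      rw [← hh', Scheme.Hom.comp_appTop, ← Scheme.ΓSpecIso_inv_naturality_assoc]
      rfl
    show ψ' = ψ
    apply BlowupChartAlg.ringHom_ext
    · rw [hψ', hψ]
    · have : ψ' (algebraMap A ↥(BlowUp.affineAlgebra A I a) a) = gam A g a := by
        rw [← hψ']; rfl
      rw [this]
      exact hnzd

section Shrink

variable {X' : Scheme.{u}}

/-- Shrinking to the locus where `s = u e₁` generates. -/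
theorem shrink (K : X'.IdealSheafData) (U₁ : X'.affineOpens) (e₁ : Γ(X', U₁.1))
    (he : e₁ ∈ nonZeroDivisors Γ(X', U₁.1)) (hK : K.ideal U₁ = Ideal.span {e₁})
    (s u : Γ(X', U₁.1)) (hs : u * e₁ = s) :
    K.ideal (X'.affineBasicOpen u) =
        Ideal.span {(X'.presheaf.map (homOfLE (X'.basicOpen_le u)).op).hom s} ∧
      (X'.presheaf.map (homOfLE (X'.basicOpen_le u)).op).hom s ∈
        nonZeroDivisors Γ(X', X'.basicOpen u) := by
  have hle : X'.affineBasicOpen u ≤ U₁ := X'.affineBasicOpen_le u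
  have hunit : IsUnit ((X'.presheaf.map (homOfLE (X'.basicOpen_le u)).op).hom u) :=
    RingedSpace.isUnit_res_basicOpen X'.toRingedSpace u
  have hnzd : (X'.presheaf.map (homOfLE (X'.basicOpen_le u)).op).hom e₁ ∈
      nonZeroDivisors Γ(X', X'.basicOpen u) :=
    CartierMul.nzd_of_flat _ (CartierMul.flat_res U₁ (X'.affineBasicOpen u) hle) _ he
  constructor
  · rw [← K.map_ideal hle, hK, Ideal.map_span, Set.image_singleton, ← hs, map_mul]
    exact (Ideal.span_singleton_mul_left_unit hunit _).symm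
  · rw [← hs, map_mul]
    exact mul_mem (IsUnit.mem_nonZeroDivisors hunit) hnzd

variable (I a)

/-- The open subset of `X'` where the inverse image of `I` is generated by `a`. -/
noncomputable def chartOpen (b : X' ⟶ Spec (CommRingCat.of A)) : X'.Opens :=
  ⨆ W : {W : X'.affineOpens // LocGen A I a b W}, W.1.1

variable {I a}

theorem isGen_chartOpen (b : X' ⟶ Spec (CommRingCat.of A)) :
    IsGen A I a ((chartOpen I a b).ι ≫ b) := by
  intro y
  have hy : (chartOpen I a b).ι y ∈ chartOpen I a b := y.2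
  obtain ⟨⟨W, hW⟩, hyW⟩ := Opens.mem_iSup.mp hy
  obtain ⟨_, ⟨U', hU', rfl⟩, hyU', hU'W⟩ :=
    (chartOpen I a b).toScheme.isBasis_affineOpens.exists_subset_of_mem_open
      (show y ∈ (((chartOpen I a b).ι ⁻¹ᵁ W.1 : (chartOpen I a b).toScheme.Opens) :
        Set (chartOpen I a b).toScheme) from hyW) ((chartOpen I a b).ι ⁻¹ᵁ W.1).2
  exact ⟨⟨U', hU'⟩, hyU', locGen_comp_of_flat (chartOpen I a b).ι b W hW ⟨U', hU'⟩ hU'W⟩

/-- Around every point of `X'`, the inverse image of `I` is generated by some `a ∈ I`. -/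
theorem exists_locGen (b : X' ⟶ Spec (CommRingCat.of A))
    (hK : BlowUp.IsEffCartierIdeal ((Curv2.idealSheaf A I).comap b)) (x' : X') :
    ∃ a ∈ I, ∃ W : X'.affineOpens, x' ∈ W.1 ∧ LocGen A I a b W := by
  obtain ⟨U₀, hx, e, he, hKe⟩ := hK x'
  by_contra hcon
  push Not at hcon
  let γ₀ : A →+* Γ(X', U₀.1) := (resTop U₀.1).comp (gam A b)
  have hKe' : I.map γ₀ = Ideal.span {e} := by rw [← hKe, comap_ideal_eq]
  let 𝔭 : Ideal Γ(X', U₀.1) :=
    (IsLocalRing.maximalIdeal (X'.presheaf.stalk x')).comap (X'.presheaf.germ U₀.1 x' hx).hom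
  have h𝔭 : ∀ u : Γ(X', U₀.1), u ∉ 𝔭 → x' ∈ X'.basicOpen u := by
    intro u hu
    rw [Scheme.mem_basicOpen X' u x' hx]
    by_contra hnu
    exact hu ((IsLocalRing.mem_maximalIdeal _).mpr hnu)
  have hmem : ∀ x ∈ I, γ₀ x ∈ 𝔭 * Ideal.span {e} := by
    intro x hxI
    have h1 : γ₀ x ∈ Ideal.span {e} := hKe' ▸ Ideal.mem_map_of_mem γ₀ hxI
    obtain ⟨u, hu⟩ := Ideal.mem_span_singleton'.mp h1
    by_cases hup : u ∈ 𝔭
    · rw [← hu]
      exact Ideal.mul_mem_mul hup (Ideal.mem_span_singleton_self e)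
    · exfalso
      have hxu := h𝔭 u hup
      obtain ⟨h1, h2⟩ := shrink ((Curv2.idealSheaf A I).comap b) U₀ e he hKe (γ₀ x) u hu
      have e1 : (X'.presheaf.map (homOfLE (X'.basicOpen_le u)).op).hom (γ₀ x) =
          resTop (X'.basicOpen u) (gam A b x) := resTop_resTop _ _ _ _
      rw [e1] at h1 h2
      exact hcon x hxI (X'.affineBasicOpen u) hxu ⟨h2, h1⟩
  have hle : I.map γ₀ ≤ 𝔭 * Ideal.span {e} := by
    rw [Ideal.map_le_iff_le_comap]
    intro x hxI
    exact hmem x hxI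
  have hee : e ∈ 𝔭 * Ideal.span {e} := hle (hKe' ▸ Ideal.mem_span_singleton_self e)
  obtain ⟨z, hz, hze⟩ := Ideal.mem_mul_span_singleton.mp hee
  have hz1 : z = 1 := by
    apply (mul_cancel_right_mem_nonZeroDivisors he).mp
    rw [hze, one_mul]
  rw [hz1] at hz
  have : (X'.presheaf.germ U₀.1 x' hx).hom 1 ∈ IsLocalRing.maximalIdeal (X'.presheaf.stalk x') := hz
  rw [map_one] at this
  exact (IsLocalRing.maximalIdeal.isMaximal _).ne_top ((Ideal.eq_top_iff_one _).mpr this)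

/-- A morphism `h : Y ⟶ X'` such that `I` becomes generated by `a` on every affine open of `Y`
lands in the chart. -/
theorem map_mem_chartOpen (b : X' ⟶ Spec (CommRingCat.of A))
    (hK : BlowUp.IsEffCartierIdeal ((Curv2.idealSheaf A I).comap b)) (ha : a ∈ I)
    {Y : Scheme.{u}} (h : Y ⟶ X') (hloc : ∀ W' : Y.affineOpens, LocGen A I a (h ≫ b) W')
    (y : Y) : h y ∈ chartOpen I a b := by
  obtain ⟨U₁, hx, e₁, he₁, hKe₁⟩ := hK (h y)
  let γ₁ : A →+* Γ(X', U₁.1) := (resTop U₁.1).comp (gam A b)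
  have hKe' : I.map γ₁ = Ideal.span {e₁} := by rw [← hKe₁, comap_ideal_eq]
  have h1 : γ₁ a ∈ Ideal.span {e₁} := hKe' ▸ Ideal.mem_map_of_mem γ₁ ha
  obtain ⟨u, hu⟩ := Ideal.mem_span_singleton'.mp h1
  obtain ⟨_, ⟨W', hW', rfl⟩, hyW', hW'U⟩ :=
    Y.isBasis_affineOpens.exists_subset_of_mem_open
      (show y ∈ ((h ⁻¹ᵁ U₁.1 : Y.Opens) : Set Y) from hx) (h ⁻¹ᵁ U₁.1).2
  have hW'U : W' ≤ h ⁻¹ᵁ U₁.1 := hW'U
  obtain ⟨hnzd, hid⟩ := hloc ⟨W', hW'⟩
  set a' := resTop W' (gam A (h ≫ b) a) with ha'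
  have key0 : a' = (h.appLE U₁.1 W' hW'U).hom (resTop U₁.1 (gam A b a)) := by
    rw [ha', gam_comp, res_appLE]
    rfl
  have key : a' = (h.appLE U₁.1 W' hW'U).hom (γ₁ a) := key0
  rw [Scheme.IdealSheafData.comap_comp,
    EffCartierPull.ideal_comap_appLE h _ ⟨W', hW'⟩ U₁ hW'U, hKe₁, Ideal.map_span,
    Set.image_singleton] at hid
  have h2 : (h.appLE U₁.1 W' hW'U).hom e₁ ∈ Ideal.span {a'} :=
    hid ▸ Ideal.mem_span_singleton_self _
  obtain ⟨t, ht⟩ := Ideal.mem_span_singleton'.mp h2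
  have h3 : ((h.appLE U₁.1 W' hW'U).hom u * t) * a' = 1 * a' := by
    rw [one_mul, mul_assoc, ht, ← map_mul, hu, ← key]
  have h4 : (h.appLE U₁.1 W' hW'U).hom u * t = 1 :=
    (mul_cancel_right_mem_nonZeroDivisors hnzd).mp h3
  have hunit : IsUnit ((h.appLE U₁.1 W' hW'U).hom u) := IsUnit.of_mul_eq_one _ h4
  have hyu : h y ∈ X'.basicOpen u := by
    have h5 : y ∈ Y.basicOpen ((h.app U₁.1).hom u) := by
      rw [Scheme.mem_basicOpen Y _ y hx]
      have h6 : Y.presheaf.germ (h ⁻¹ᵁ U₁.1) y hx ((h.app U₁.1).hom u) =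
          Y.presheaf.germ W' y hyW' ((h.appLE U₁.1 W' hW'U).hom u) :=
        (TopCat.Presheaf.germ_res_apply Y.presheaf (homOfLE hW'U) y hyW' _).symm
      rw [h6]
      exact hunit.map _
    rw [← Scheme.preimage_basicOpen] at h5
    exact h5
  obtain ⟨h7, h8⟩ := shrink ((Curv2.idealSheaf A I).comap b) U₁ e₁ he₁ hKe₁ (γ₁ a) u hu
  have e1 : (X'.presheaf.map (homOfLE (X'.basicOpen_le u)).op).hom (γ₁ a) =
      resTop (X'.basicOpen u) (gam A b a) := resTop_resTop _ _ _ _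
  rw [e1] at h7 h8
  exact Opens.mem_iSup.mpr ⟨⟨X'.affineBasicOpen u, ⟨h8, h7⟩⟩, hyu⟩

end Shrink

/-- Every point of a blow-up of `Spec A` along `I` has an open neighbourhood isomorphic over
`Spec A` to the spectrum of an affine blow-up algebra. -/
theorem exists_chart {X' : Scheme.{u}} (b : X' ⟶ Spec (CommRingCat.of A))
    (hb : BlowUp.IsBlowUp b (Curv2.idealSheaf A I)) (x' : X') :
    ∃ (a : A) (_ : a ∈ I) (V : X'.Opens)
      (e : (V : Scheme.{u}) ≅ Spec (CommRingCat.of ↥(BlowUp.affineAlgebra A I a))),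
      x' ∈ V ∧ e.hom ≫ Spec.map (CommRingCat.ofHom
        (algebraMap A ↥(BlowUp.affineAlgebra A I a))) = V.ι ≫ b := by
  obtain ⟨a, ha, W, hxW, hW⟩ := exists_locGen b hb.1 x'
  let V := chartOpen I a b
  have hxV : x' ∈ V := Opens.mem_iSup.mpr ⟨⟨W, hW⟩, hxW⟩
  have hgenV : IsGen A I a (V.ι ≫ b) := isGen_chartOpen b
  obtain ⟨k, hk, hkuniq⟩ := existsUnique_lift (V.ι ≫ b) hgenV
  let φ := Spec.map (CommRingCat.ofHom (algebraMap A ↥(BlowUp.affineAlgebra A I a)))
  have hlocSpec : ∀ W', LocGen A I a φ W' := locGen_Spec ha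
  have hgenSpec : IsGen A I a φ := fun y =>
    ⟨⟨⊤, isAffineOpen_top _⟩, trivial, hlocSpec _⟩
  obtain ⟨h, hh, hhuniq⟩ := hb.2 _ φ (isEffCartier_of_isGen φ hgenSpec)
  have hrange : ∀ y, h y ∈ V := by
    intro y
    apply map_mem_chartOpen b hb.1 ha h _ y
    intro W'
    rw [hh]
    exact hlocSpec W'
  let h' : Spec (CommRingCat.of ↥(BlowUp.affineAlgebra A I a)) ⟶ V.toScheme :=
    IsOpenImmersion.lift V.ι h (by
      rw [Scheme.Opens.range_ι]
      rintro _ ⟨y, rfl⟩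
      exact hrange y)
  have hh' : h' ≫ V.ι = h := IsOpenImmersion.lift_fac _ _ _
  have hkh : k ≫ h = V.ι := by
    obtain ⟨m, -, hmuniq⟩ := hb.2 _ (V.ι ≫ b) (isEffCartier_of_isGen _ hgenV)
    have e1 : k ≫ h = m := hmuniq _ (by
      show (k ≫ h) ≫ b = V.ι ≫ b
      rw [Category.assoc, hh]; exact hk)
    have e2 : V.ι = m := hmuniq _ rfl
    rw [e1, e2]
  obtain ⟨k₀, -, hk₀uniq⟩ := existsUnique_lift φ hgenSpec
  have hh'k : h' ≫ k = 𝟙 _ := by
    have e1 : h' ≫ k = k₀ := hk₀uniq _ (by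
      show (h' ≫ k) ≫ φ = φ
      rw [Category.assoc, hk, ← Category.assoc, hh', hh])
    have e2 : 𝟙 _ = k₀ := hk₀uniq _ (Category.id_comp _)
    rw [e1, e2]
  have hkh' : k ≫ h' = 𝟙 _ := by
    rw [← cancel_mono V.ι, Category.assoc, hh', hkh, Category.id_comp]
  exact ⟨a, ha, V, ⟨k, h', hkh', hh'k⟩, hxV, hk⟩

end Groth.Agent.Helper4.BlowupChart
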