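import Mathlib

/-!
Saturation computations for the two blow-up charts of a nodal/cuspidal Weierstrass curve.
-/

set_option autoImplicit false

namespace Groth.Agent.Helper4.BlowupCharts

open MvPolynomial

universe u

theorem sat_of_regular {A : Type*} [CommRing A] (x g : A)
    (hreg : ∀ s, x * s ∈ Ideal.span ({g} : Set A) → s ∈ Ideal.span ({g} : Set A)) (s : A) :
    (∃ n : ℕ, x ^ n * s ∈ Ideal.span ({x ^ 2 * g} : Set A)) ↔ s ∈ Ideal.span ({g} : Set A) := by
  constructor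
  · rintro ⟨n, hn⟩
    have h1 : x ^ n * s ∈ Ideal.span ({g} : Set A) := by
      rw [Ideal.mem_span_singleton] at hn ⊢
      exact dvd_trans (Dvd.intro_left _ rfl) hn
    clear hn
    induction n with
    | zero => simpa using h1
    | succ n ih =>
      apply ih
      apply hreg
      rw [← mul_assoc, ← pow_succ']
      exact h1
  · intro hs
    refine ⟨2, ?_⟩
    rw [Ideal.mem_span_singleton] at hs ⊢
    exact mul_dvd_mul_left _ hs

theorem eq_zero_of_mul_eq_zero_of_isUnit_constantCoeff {σ : Type*} {R : Type*} [CommRing R]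
    (p w : MvPolynomial σ R) (hp : IsUnit (constantCoeff p)) (h : p * w = 0) : w = 0 := by
  have h1 : (p : MvPowerSeries σ R) * (w : MvPowerSeries σ R) = 0 := by
    rw [← MvPolynomial.coe_mul, h, MvPolynomial.coe_zero]
  have hu : IsUnit (p : MvPowerSeries σ R) := by
    rw [MvPowerSeries.isUnit_iff_constantCoeff]
    have : MvPowerSeries.constantCoeff (p : MvPowerSeries σ R) = constantCoeff p := by
      rw [← MvPowerSeries.coeff_zero_eq_constantCoeff_apply, MvPolynomial.coeff_coe]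
      rfl
    rw [this]
    exact hp
  have h2 : (w : MvPowerSeries σ R) = 0 := (hu.mul_right_eq_zero).mp h1
  exact MvPolynomial.coe_eq_zero_iff.mp h2

variable (R : Type u) [CommRing R] (a₁ a₂ : R)

theorem reg1 (s : MvPolynomial (Fin 2) R)
    (h : X 0 * s ∈ Ideal.span ({1 + C a₁ * X 1 - X 0 * X 1 ^ 3 - C a₂ * X 1 ^ 2} :
      Set (MvPolynomial (Fin 2) R))) :
    s ∈ Ideal.span ({1 + C a₁ * X 1 - X 0 * X 1 ^ 3 - C a₂ * X 1 ^ 2} :
      Set (MvPolynomial (Fin 2) R)) := by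
  rw [Ideal.mem_span_singleton] at h ⊢
  obtain ⟨t, ht⟩ := h
  let ε : MvPolynomial (Fin 2) R →ₐ[R] MvPolynomial (Fin 2) R := aeval ![0, X 1]
  have hε0 : ε (X 0) = 0 := by simp [ε]
  have hε1 : ε (X 1) = X 1 := by simp [ε]
  have hεC : ∀ a : R, ε (C a) = C a := fun a => by simp [ε]
  have hεg : ε (1 + C a₁ * X 1 - X 0 * X 1 ^ 3 - C a₂ * X 1 ^ 2) =
      1 + C a₁ * X 1 - C a₂ * X 1 ^ 2 := by
    simp only [map_sub, map_add, map_mul, map_pow, map_one, hε0, hε1, hεC, zero_mul, sub_zero]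
  have hkey : ∀ t : MvPolynomial (Fin 2) R, t - ε t ∈ Ideal.span ({X 0} :
      Set (MvPolynomial (Fin 2) R)) := by
    intro t
    have e : (Ideal.Quotient.mkₐ R (Ideal.span ({X 0} : Set (MvPolynomial (Fin 2) R)))).comp ε =
        Ideal.Quotient.mkₐ R (Ideal.span ({X 0} : Set (MvPolynomial (Fin 2) R))) := by
      apply MvPolynomial.algHom_ext
      intro i
      fin_cases i
      · show Ideal.Quotient.mk _ (ε (X 0)) = Ideal.Quotient.mk _ (X 0)
        rw [hε0, map_zero, eq_comm, Ideal.Quotient.eq_zero_iff_mem]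
        exact Ideal.subset_span rfl
      · show Ideal.Quotient.mk _ (ε (X 1)) = Ideal.Quotient.mk _ (X 1)
        rw [hε1]
    have e2 := AlgHom.congr_fun e t
    have e3 : Ideal.Quotient.mk (Ideal.span ({X 0} : Set (MvPolynomial (Fin 2) R))) (ε t) =
        Ideal.Quotient.mk _ t := e2
    rw [← Ideal.Quotient.eq_zero_iff_mem, map_sub, e3, sub_self]
  have h0 : ε (1 + C a₁ * X 1 - X 0 * X 1 ^ 3 - C a₂ * X 1 ^ 2) * ε t = 0 := by
    rw [← map_mul, ← ht, map_mul, hε0, zero_mul]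
  have hεt : ε t = 0 := by
    refine eq_zero_of_mul_eq_zero_of_isUnit_constantCoeff _ _ ?_ h0
    rw [hεg]
    simp
  obtain ⟨q, hq⟩ : X 0 ∣ t := by
    have := hkey t
    rw [hεt, sub_zero, Ideal.mem_span_singleton] at this
    exact this
  refine ⟨q, ?_⟩
  apply (isRegular_X (R := R) (n := (0 : Fin 2))).left
  show X 0 * s = X 0 * ((1 + C a₁ * X 1 - X 0 * X 1 ^ 3 - C a₂ * X 1 ^ 2) * q)
  rw [ht, hq]
  ring

theorem reg2 (s : MvPolynomial (Fin 2) R)
    (h : X 0 * s ∈ Ideal.span ({X 1 ^ 2 + C a₁ * X 1 - X 0 - C a₂} :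
      Set (MvPolynomial (Fin 2) R))) :
    s ∈ Ideal.span ({X 1 ^ 2 + C a₁ * X 1 - X 0 - C a₂} :
      Set (MvPolynomial (Fin 2) R)) := by
  set g : MvPolynomial (Fin 2) R := X 1 ^ 2 + C a₁ * X 1 - X 0 - C a₂ with hg
  let c : Polynomial R := Polynomial.X ^ 2 + Polynomial.C a₁ * Polynomial.X - Polynomial.C a₂
  have hc : c.Monic := by
    show (Polynomial.X ^ 2 + Polynomial.C a₁ * Polynomial.X - Polynomial.C a₂).Monic
    monicity!
  let φ : MvPolynomial (Fin 2) R →ₐ[R] Polynomial R := aeval ![c, Polynomial.X]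
  let ψ : Polynomial R →ₐ[R] MvPolynomial (Fin 2) R := Polynomial.aeval (X 1)
  have hφ0 : φ (X 0) = c := by simp [φ]
  have hφ1 : φ (X 1) = Polynomial.X := by simp [φ]
  have hφC : ∀ a : R, φ (C a) = Polynomial.C a := fun a => by simp [φ]
  have hφg : φ g = 0 := by
    rw [hg]
    simp only [map_sub, map_add, map_mul, map_pow, hφ0, hφ1, hφC]
    show Polynomial.X ^ 2 + Polynomial.C a₁ * Polynomial.X -
      (Polynomial.X ^ 2 + Polynomial.C a₁ * Polynomial.X - Polynomial.C a₂) - Polynomial.C a₂ = 0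
    ring
  have hψc : ψ c = X 1 ^ 2 + C a₁ * X 1 - C a₂ := by
    show ψ (Polynomial.X ^ 2 + Polynomial.C a₁ * Polynomial.X - Polynomial.C a₂) = _
    simp [ψ]
  have hkey : ∀ t : MvPolynomial (Fin 2) R, t - ψ (φ t) ∈ Ideal.span ({g} :
      Set (MvPolynomial (Fin 2) R)) := by
    intro t
    have e : (Ideal.Quotient.mkₐ R (Ideal.span ({g} : Set (MvPolynomial (Fin 2) R)))).comp
        (ψ.comp φ) = Ideal.Quotient.mkₐ R (Ideal.span ({g} : Set (MvPolynomial (Fin 2) R))) := by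
      apply MvPolynomial.algHom_ext
      intro i
      fin_cases i
      · show Ideal.Quotient.mk _ (ψ (φ (X 0))) = Ideal.Quotient.mk _ (X 0)
        rw [hφ0, hψc, ← sub_eq_zero, ← map_sub, Ideal.Quotient.eq_zero_iff_mem]
        have e1 : (X 1 ^ 2 + C a₁ * X 1 - C a₂ - X 0 : MvPolynomial (Fin 2) R) = g := by
          rw [hg]; ring
        rw [e1]
        exact Ideal.subset_span rfl
      · show Ideal.Quotient.mk _ (ψ (φ (X 1))) = Ideal.Quotient.mk _ (X 1)
        rw [hφ1]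
        simp [ψ]
    have e2 := AlgHom.congr_fun e t
    have e3 : Ideal.Quotient.mk (Ideal.span ({g} : Set (MvPolynomial (Fin 2) R))) (ψ (φ t)) =
        Ideal.Quotient.mk _ t := e2
    rw [← Ideal.Quotient.eq_zero_iff_mem, map_sub, e3, sub_self]
  have h1 : φ (X 0 * s) = 0 := by
    rw [Ideal.mem_span_singleton] at h
    obtain ⟨t, ht⟩ := h
    rw [ht, map_mul, hφg, zero_mul]
  rw [map_mul, hφ0, hc.mul_right_eq_zero_iff] at h1
  have := hkey s
  rw [h1, map_zero, sub_zero] at this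
  exact this

theorem main :
    (∀ s : MvPolynomial (Fin 2) R,
      (∃ n : ℕ, X 0 ^ n * s ∈ Ideal.span ({X 0 ^ 2 * (1 + C a₁ * X 1 - X 0 * X 1 ^ 3 - C a₂ * X 1 ^ 2)} :
        Set (MvPolynomial (Fin 2) R))) ↔
      s ∈ Ideal.span ({1 + C a₁ * X 1 - X 0 * X 1 ^ 3 - C a₂ * X 1 ^ 2} : Set (MvPolynomial (Fin 2) R))) ∧
    (∀ s : MvPolynomial (Fin 2) R,
      (∃ n : ℕ, X 0 ^ n * s ∈ Ideal.span ({X 0 ^ 2 * (X 1 ^ 2 + C a₁ * X 1 - X 0 - C a₂)} :
        Set (MvPolynomial (Fin 2) R))) ↔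
      s ∈ Ideal.span ({X 1 ^ 2 + C a₁ * X 1 - X 0 - C a₂} : Set (MvPolynomial (Fin 2) R))) :=
  ⟨fun s => sat_of_regular _ _ (reg1 R a₁ a₂) s, fun s => sat_of_regular _ _ (reg2 R a₁ a₂) s⟩

end Groth.Agent.Helper4.BlowupCharts
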