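import Mathlib
import Groth.Prelude.Def_MeroSh
import Groth.Agent.Lib.Helper4.BlowupIso

/-!
Regular sections on locally Noetherian schemes: the stalk monoid of germs of regular sections is
the monoid of all nonzerodivisors of the local ring.
-/

set_option autoImplicit false
set_option linter.style.haveILetI false

open CategoryTheory AlgebraicGeometry AlgebraicGeometry.Scheme TopologicalSpace

namespace Groth.Agent.Helper4.MeroReg

universe u

open Groth.Agent.Helper4.BlowupIso

lemma exists_mul_eq_zero_finset {A : Type*} [CommRing A] (M : Submonoid A) :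
    ∀ S : Finset A, (∀ k ∈ S, ∃ g ∈ M, g * k = 0) → ∃ g ∈ M, ∀ k ∈ S, g * k = 0 := by
  classical
  intro S
  induction S using Finset.induction_on with
  | empty => intro _; exact ⟨1, M.one_mem, by simp⟩
  | insert a S ha ih =>
    intro h
    obtain ⟨g₁, hg₁, h₁⟩ := h a (Finset.mem_insert_self a S)
    obtain ⟨g₂, hg₂, h₂⟩ := ih (fun k hk => h k (Finset.mem_insert_of_mem hk))
    refine ⟨g₁ * g₂, M.mul_mem hg₁ hg₂, ?_⟩
    intro k hk
    rcases Finset.mem_insert.mp hk with rfl | hk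
    · rw [mul_comm g₁ g₂, mul_assoc, h₁, mul_zero]
    · rw [mul_assoc, h₂ k hk, mul_zero]

lemma exists_mul_eq_zero_of_fg {A : Type*} [CommRing A] (M : Submonoid A) (K : Ideal A)
    (hK : K.FG) (h : ∀ k ∈ K, ∃ g ∈ M, g * k = 0) : ∃ g ∈ M, ∀ k ∈ K, g * k = 0 := by
  obtain ⟨S, rfl⟩ := hK
  obtain ⟨g, hg, hgS⟩ := exists_mul_eq_zero_finset M S
    (fun k hk => h k (Ideal.subset_span hk))
  refine ⟨g, hg, ?_⟩
  intro k hk
  refine Submodule.span_induction (p := fun k _ => g * k = 0) ?_ ?_ ?_ ?_ hk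
  · intro k hk; exact hgS k hk
  · exact mul_zero g
  · intro a b _ _ ha hb; rw [mul_add, ha, hb, add_zero]
  · intro r a _ ha; rw [smul_eq_mul, mul_left_comm, ha, mul_zero]

lemma nzd_away {A : Type*} [CommRing A] (s g : A) (hg : ∀ k, k * s = 0 → g * k = 0)
    (B : Type*) [CommRing B] [Algebra A B] [IsLocalization.Away g B] :
    algebraMap A B s ∈ nonZeroDivisors B := by
  rw [mem_nonZeroDivisors_iff_right]
  intro z hz
  obtain ⟨n, b, hb⟩ := IsLocalization.Away.surj g z
  have hgu : IsUnit (algebraMap A B g) := IsLocalization.Away.algebraMap_isUnit g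
  have h1 : algebraMap A B (b * s) = algebraMap A B 0 := by
    rw [map_mul, ← hb, map_zero, mul_right_comm, hz, zero_mul]
  obtain ⟨m, hm⟩ := IsLocalization.Away.exists_of_eq g h1
  rw [mul_zero, ← mul_assoc] at hm
  have h2 : g * (g ^ m * b) = 0 := hg _ hm
  have h3 : algebraMap A B g ^ (m + 1) * algebraMap A B b = 0 := by
    rw [← map_pow, ← map_mul, pow_succ', mul_assoc, h2, map_zero]
  have h4 : algebraMap A B b = 0 := (hgu.pow (m + 1)).mul_right_eq_zero.mp h3
  rw [h4] at hb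
  exact (hgu.pow n).mul_left_eq_zero.mp hb

theorem regStalk_eq (X : Scheme.{u}) [IsLocallyNoetherian X] (x : X) :
    Mero.regStalk X x = nonZeroDivisors (X.presheaf.stalk x) := by
  apply le_antisymm (Mero.regStalk_le_nonZeroDivisors x)
  intro a ha
  obtain ⟨V, hxV, s₀, hs₀⟩ := X.presheaf.exists_germ_eq a
  obtain ⟨_, ⟨U, hU, rfl⟩, hxU, hUV⟩ :=
    X.isBasis_affineOpens.exists_subset_of_mem_open hxV V.isOpen
  have hUV' : U ≤ V := hUV
  set s : Γ(X, U) := (X.presheaf.map (homOfLE hUV').op).hom s₀ with hs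
  have hsa : X.presheaf.germ U x hxU s = a := by
    rw [hs]
    erw [TopCat.Presheaf.germ_res_apply X.presheaf (homOfLE hUV') x hxU s₀]
    exact hs₀
  haveI : IsNoetherianRing Γ(X, U) := IsLocallyNoetherian.component_noetherian ⟨U, hU⟩
  let x₀ : U := ⟨x, hxU⟩
  letI alg : Algebra Γ(X, U) (X.presheaf.stalk x) :=
    TopCat.Presheaf.algebra_section_stalk X.presheaf x₀
  haveI hloc : IsLocalization.AtPrime (X.presheaf.stalk x) (hU.primeIdealOf x₀).asIdeal :=
    hU.isLocalization_stalk x₀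
  let K : Ideal Γ(X, U) := Submodule.annihilator (Ideal.span ({s} : Set Γ(X, U)))
  have hKmem : ∀ k, k ∈ K ↔ k * s = 0 := fun k =>
    Submodule.mem_annihilator_span_singleton s k
  have hKfg : K.FG := IsNoetherian.noetherian K
  have hK : ∀ k ∈ K, ∃ g ∈ (hU.primeIdealOf x₀).asIdeal.primeCompl, g * k = 0 := by
    intro k hk
    have h1 : X.presheaf.germ U x hxU k * a = 0 := by
      rw [← hsa, ← map_mul, (hKmem k).mp hk, map_zero]
    have h2 : X.presheaf.germ U x hxU k = 0 := (mem_nonZeroDivisors_iff_right.mp ha) _ h1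
    have h3 : algebraMap Γ(X, U) (X.presheaf.stalk x) k = 0 := h2
    obtain ⟨m, hm⟩ := (IsLocalization.map_eq_zero_iff
      (hU.primeIdealOf x₀).asIdeal.primeCompl (X.presheaf.stalk x) k).mp h3
    exact ⟨m.1, m.2, hm⟩
  obtain ⟨g, hgM, hgK⟩ := exists_mul_eq_zero_of_fg _ K hKfg hK
  have hgu : IsUnit (X.presheaf.germ U x hxU g) :=
    IsLocalization.map_units (X.presheaf.stalk x)
      (⟨g, hgM⟩ : (hU.primeIdealOf x₀).asIdeal.primeCompl)
  have hxg : x ∈ X.basicOpen g := (X.mem_basicOpen g x hxU).mpr hgu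
  haveI := hU.isLocalization_basicOpen g
  have hnzd : algebraMap Γ(X, U) Γ(X, X.basicOpen g) s ∈ nonZeroDivisors Γ(X, X.basicOpen g) :=
    nzd_away s g (fun k hk => hgK k ((hKmem k).mpr hk)) Γ(X, X.basicOpen g)
  refine ⟨X.basicOpen g, hxg, algebraMap Γ(X, U) Γ(X, X.basicOpen g) s, ?_, ?_⟩
  · intro y
    exact germ_mem_nonZeroDivisors (hU.basicOpen g) _ hnzd y.1 y.2
  · rw [← hsa]
    exact TopCat.Presheaf.germ_res_apply X.presheaf (homOfLE (X.basicOpen_le g)) x hxg s

end Groth.Agent.Helper4.MeroReg
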