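import Mathlib
import Groth.Prelude.Def_BlowUp2
import Groth.Prelude.Def_MeroSh
import Groth.Agent.Lib.Helper4.BlowupIso
import Groth.Agent.Lib.Helper4.MeroReg

/-!
Spreading out: on a locally Noetherian scheme, an ideal sheaf whose stalks along its support are
generated by one nonzerodivisor is an effective Cartier ideal.
-/

set_option autoImplicit false
set_option linter.style.haveILetI false

open CategoryTheory CategoryTheory.Limits AlgebraicGeometry AlgebraicGeometry.Scheme TopologicalSpace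

namespace Groth.Agent.Helper4.LocalPrincipal

universe u

section Algebra

variable {A : Type*} [CommRing A]

lemma exists_mul_mem_finset (M : Submonoid A) (J : Ideal A) :
    ∀ S : Finset A, (∀ a ∈ S, ∃ m ∈ M, m * a ∈ J) → ∃ m ∈ M, ∀ a ∈ S, m * a ∈ J := by
  classical
  intro S
  induction S using Finset.induction_on with
  | empty => intro _; exact ⟨1, M.one_mem, by simp⟩
  | insert a S ha ih =>
    intro h
    obtain ⟨m₁, hm₁, h₁⟩ := h a (Finset.mem_insert_self a S)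
    obtain ⟨m₂, hm₂, h₂⟩ := ih (fun b hb => h b (Finset.mem_insert_of_mem hb))
    refine ⟨m₁ * m₂, M.mul_mem hm₁ hm₂, ?_⟩
    intro b hb
    rcases Finset.mem_insert.mp hb with rfl | hb
    · have : m₁ * m₂ * b = m₂ * (m₁ * b) := by ring
      rw [this]; exact J.mul_mem_left _ h₁
    · rw [mul_assoc]; exact J.mul_mem_left _ (h₂ b hb)

lemma exists_mul_mem_of_fg (M : Submonoid A) (J₁ J₂ : Ideal A) (hfg : J₁.FG)
    (h : ∀ a ∈ J₁, ∃ m ∈ M, m * a ∈ J₂) : ∃ m ∈ M, ∀ a ∈ J₁, m * a ∈ J₂ := by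
  obtain ⟨S, rfl⟩ := hfg
  obtain ⟨m, hm, hmS⟩ := exists_mul_mem_finset M J₂ S (fun a ha => h a (Ideal.subset_span ha))
  refine ⟨m, hm, ?_⟩
  intro a ha
  refine Submodule.span_induction (p := fun a _ => m * a ∈ J₂) ?_ ?_ ?_ ?_ ha
  · intro a ha; exact hmS a ha
  · rw [mul_zero]; exact J₂.zero_mem
  · intro a b _ _ h1 h2; rw [mul_add]; exact J₂.add_mem h1 h2
  · intro c a _ h1
    rw [smul_eq_mul, mul_left_comm]; exact J₂.mul_mem_left _ h1

lemma exists_mul_mem_of_map_le (M : Submonoid A) (B : Type*) [CommRing B] [Algebra A B]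
    [IsLocalization M B] (J₁ J₂ : Ideal A) (hfg : J₁.FG)
    (h : J₁.map (algebraMap A B) ≤ J₂.map (algebraMap A B)) :
    ∃ m ∈ M, ∀ a ∈ J₁, m * a ∈ J₂ := by
  apply exists_mul_mem_of_fg M J₁ J₂ hfg
  intro a ha
  have h1 : algebraMap A B a ∈ J₂.map (algebraMap A B) := h (Ideal.mem_map_of_mem _ ha)
  obtain ⟨⟨a', m⟩, hm⟩ := (IsLocalization.mem_map_algebraMap_iff M B).mp h1
  rw [← map_mul] at hm
  obtain ⟨c, hc⟩ := (IsLocalization.eq_iff_exists M B).mp hm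
  refine ⟨c * m, M.mul_mem c.2 m.2, ?_⟩
  have : (c : A) * m * a = c * (a * m) := by ring
  rw [this, hc]
  exact J₂.mul_mem_left _ a'.2

lemma map_le_map_of_mul_mem (J₁ J₂ : Ideal A) (m : A) (hm : ∀ a ∈ J₁, m * a ∈ J₂)
    {C : Type*} [CommRing C] (ψ : A →+* C) (hu : IsUnit (ψ m)) : J₁.map ψ ≤ J₂.map ψ := by
  rw [Ideal.map_le_iff_le_comap]
  intro a ha
  rw [Ideal.mem_comap]
  have h1 : ψ m * ψ a ∈ J₂.map ψ := by
    rw [← map_mul]; exact Ideal.mem_map_of_mem ψ (hm a ha)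
  exact (Ideal.unit_mul_mem_iff_mem _ hu).mp h1

end Algebra

variable {X : Scheme.{u}}

open Groth.Agent.Helper4.BlowupIso

/-- Spreading out a principal generator from a stalk. -/
theorem exists_affine_principal [IsLocallyNoetherian X] (D : X.IdealSheafData) (x : X)
    (U₀ : X.affineOpens) (hxU₀ : x ∈ U₀.1) (g₀ : X.presheaf.stalk x)
    (hg₀ : g₀ ∈ nonZeroDivisors (X.presheaf.stalk x))
    (hg₀I : (D.ideal U₀).map (X.presheaf.germ U₀.1 x hxU₀).hom = Ideal.span {g₀}) :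
    ∃ U : X.affineOpens, x ∈ U.1 ∧
      ∃ f : Γ(X, U.1), f ∈ nonZeroDivisors Γ(X, U.1) ∧ D.ideal U = Ideal.span {f} := by
  have hreg : g₀ ∈ Mero.regStalk X x := by rw [MeroReg.regStalk_eq]; exact hg₀
  obtain ⟨V, hxV, s, hs, hsg⟩ := hreg
  obtain ⟨r₁, hr₁le, hxr₁⟩ := U₀.2.exists_basicOpen_le (V := V) ⟨x, hxV⟩ hxU₀
  set W₁ : X.affineOpens := ⟨X.basicOpen r₁, U₀.2.basicOpen r₁⟩ with hW₁
  have hW₁U₀ : W₁ ≤ U₀ := X.basicOpen_le r₁
  set s₁ : Γ(X, W₁.1) := (X.presheaf.map (homOfLE hr₁le).op).hom s with hs₁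
  have hs₁germ : ∀ (y : X) (hy : y ∈ W₁.1),
      X.presheaf.germ W₁.1 y hy s₁ ∈ nonZeroDivisors (X.presheaf.stalk y) := by
    intro y hy
    rw [hs₁, TopCat.Presheaf.germ_res_apply X.presheaf (homOfLE hr₁le) y hy s]
    exact hs ⟨y, hr₁le hy⟩
  have hs₁x : X.presheaf.germ W₁.1 x hxr₁ s₁ = g₀ := by
    rw [hs₁, TopCat.Presheaf.germ_res_apply X.presheaf (homOfLE hr₁le) x hxr₁ s]
    exact hsg
  have hI₁ : (D.ideal W₁).map (X.presheaf.germ W₁.1 x hxr₁).hom =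
      Ideal.span {X.presheaf.germ W₁.1 x hxr₁ s₁} := by
    rw [← D.map_ideal hW₁U₀, Ideal.map_map, ← CommRingCat.hom_comp]
    erw [TopCat.Presheaf.germ_res X.presheaf (homOfLE hW₁U₀) x hxr₁]
    rw [hg₀I, hs₁x]
  haveI : IsNoetherianRing Γ(X, W₁.1) := IsLocallyNoetherian.component_noetherian W₁
  let x₁ : W₁.1 := ⟨x, hxr₁⟩
  letI alg : Algebra Γ(X, W₁.1) (X.presheaf.stalk x) :=
    TopCat.Presheaf.algebra_section_stalk X.presheaf x₁
  haveI hloc : IsLocalization.AtPrime (X.presheaf.stalk x) (W₁.2.primeIdealOf x₁).asIdeal :=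
    W₁.2.isLocalization_stalk x₁
  have hI₁' : (D.ideal W₁).map (algebraMap Γ(X, W₁.1) (X.presheaf.stalk x)) =
      (Ideal.span {s₁}).map (algebraMap Γ(X, W₁.1) (X.presheaf.stalk x)) := by
    rw [Ideal.map_span, Set.image_singleton]
    exact hI₁
  obtain ⟨m₁, hm₁M, hm₁⟩ := exists_mul_mem_of_map_le
    (W₁.2.primeIdealOf x₁).asIdeal.primeCompl (X.presheaf.stalk x) (D.ideal W₁) (Ideal.span {s₁})
    (IsNoetherian.noetherian _) hI₁'.le
  obtain ⟨m₂, hm₂M, hm₂⟩ := exists_mul_mem_of_map_le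
    (W₁.2.primeIdealOf x₁).asIdeal.primeCompl (X.presheaf.stalk x) (Ideal.span {s₁}) (D.ideal W₁)
    (IsNoetherian.noetherian _) hI₁'.ge
  set r : Γ(X, W₁.1) := m₁ * m₂ with hr
  have hrM : r ∈ (W₁.2.primeIdealOf x₁).asIdeal.primeCompl := Submonoid.mul_mem _ hm₁M hm₂M
  have hru : IsUnit (X.presheaf.germ W₁.1 x hxr₁ r) :=
    IsLocalization.map_units (X.presheaf.stalk x)
      (⟨r, hrM⟩ : (W₁.2.primeIdealOf x₁).asIdeal.primeCompl)
  have hxr : x ∈ X.basicOpen r := (X.mem_basicOpen r x hxr₁).mpr hru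
  set W : X.affineOpens := ⟨X.basicOpen r, W₁.2.basicOpen r⟩ with hW
  have hWW₁ : W ≤ W₁ := X.basicOpen_le r
  have hur : IsUnit ((X.presheaf.map (homOfLE hWW₁).op).hom r) :=
    X.toRingedSpace.isUnit_res_basicOpen r
  have er : (X.presheaf.map (homOfLE hWW₁).op).hom r =
      (X.presheaf.map (homOfLE hWW₁).op).hom m₁ * (X.presheaf.map (homOfLE hWW₁).op).hom m₂ :=
    map_mul _ m₁ m₂
  rw [er] at hur
  have hu₁ : IsUnit ((X.presheaf.map (homOfLE hWW₁).op).hom m₁) := isUnit_of_mul_isUnit_left hur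
  have hu₂ : IsUnit ((X.presheaf.map (homOfLE hWW₁).op).hom m₂) := isUnit_of_mul_isUnit_right hur
  refine ⟨W, hxr, (X.presheaf.map (homOfLE hWW₁).op).hom s₁, ?_, ?_⟩
  · apply mem_nonZeroDivisors_of_germ
    intro y hy
    erw [TopCat.Presheaf.germ_res_apply X.presheaf (homOfLE hWW₁) y hy s₁]
    exact hs₁germ y (hWW₁ hy)
  · rw [← D.map_ideal hWW₁, ← Set.image_singleton, ← Ideal.map_span]
    exact le_antisymm (map_le_map_of_mul_mem _ _ m₁ hm₁ _ hu₁)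
      (map_le_map_of_mul_mem _ _ m₂ hm₂ _ hu₂)

/-- Away from the support, an ideal sheaf is locally the unit ideal. -/
theorem exists_affine_top (D : X.IdealSheafData) (x : X) (hx : x ∉ D.support) :
    ∃ U : X.affineOpens, x ∈ U.1 ∧
      ∃ f : Γ(X, U.1), f ∈ nonZeroDivisors Γ(X, U.1) ∧ D.ideal U = Ideal.span {f} := by
  obtain ⟨_, ⟨U₀, hU₀, rfl⟩, hxU₀, -⟩ :=
    X.isBasis_affineOpens.exists_subset_of_mem_open (Set.mem_univ x) isOpen_univ
  rw [IdealSheafData.mem_support_iff_of_mem (U := ⟨U₀, hU₀⟩) hxU₀, Scheme.mem_zeroLocus_iff] at hx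
  push_neg at hx
  obtain ⟨r, hrI, hxr⟩ := hx
  set W : X.affineOpens := ⟨X.basicOpen r, hU₀.basicOpen r⟩ with hW
  have hWU₀ : W ≤ (⟨U₀, hU₀⟩ : X.affineOpens) := X.basicOpen_le r
  have hur : IsUnit ((X.presheaf.map (homOfLE hWU₀).op).hom r) :=
    X.toRingedSpace.isUnit_res_basicOpen r
  refine ⟨W, hxr, 1, one_mem _, ?_⟩
  rw [Ideal.span_singleton_one, ← D.map_ideal hWU₀]
  exact Ideal.eq_top_of_isUnit_mem _ (Ideal.mem_map_of_mem _ hrI) hur

end Groth.Agent.Helper4.LocalPrincipal
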