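import Mathlib
import Groth.Prelude.Def_BlowUp2
import Groth.Agent.Lib.Helper4.BlowupFormal
import Groth.Agent.Lib.Helper4.StrictTransform
import Groth.Agent.Lib.Helper4.ModPairFunct
import Groth.Agent.Lib.Helper4.LocalPrincipal
import Groth.Agent.Lib.Helper4.CartierProd

/-!
# Blowing up disjoint centres: the blow-up in `I₁ ∩ I₂` is the fibre product of the blow-ups
-/

set_option autoImplicit false
set_option linter.style.haveILetI false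

open CategoryTheory CategoryTheory.Limits AlgebraicGeometry AlgebraicGeometry.Scheme TopologicalSpace

namespace Groth.Agent.Helper4.BlowupDisjoint

universe u

variable {X B₁ B₂ : Scheme.{u}}

lemma inf_eq_mul (I₁ I₂ : X.IdealSheafData) (h : I₁ ⊔ I₂ = ⊤) : I₁ ⊓ I₂ = I₁ * I₂ := by
  apply IdealSheafData.ext
  funext U
  show I₁.ideal U ⊓ I₂.ideal U = I₁.ideal U * I₂.ideal U
  have h1 : I₁.ideal U ⊔ I₂.ideal U = ⊤ := by
    have := congrArg (fun I : X.IdealSheafData => I.ideal U) h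
    exact this
  exact Ideal.inf_eq_mul_of_isCoprime (Ideal.isCoprime_iff_sup_eq.mpr h1)

lemma notMem_support_of_sup_eq_top (I₁ I₂ : X.IdealSheafData) (h : I₁ ⊔ I₂ = ⊤) (x : X)
    (hx : x ∈ I₁.support) : x ∉ I₂.support := by
  intro hx2
  have h1 : x ∈ (I₁ ⊔ I₂).support := by
    rw [IdealSheafData.support_sup]; exact ⟨hx, hx2⟩
  rw [h, IdealSheafData.support_top] at h1
  exact h1

/-- Effective Cartier-ness can be checked on an open subscheme, at the points of that open. -/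
lemma exists_chart_of_isOpenImmersion {W Y : Scheme.{u}} (j : W ⟶ Y) [IsOpenImmersion j]
    (A : Y.IdealSheafData) (h : BlowUp.IsEffCartierIdeal (A.comap j)) (x : W) :
    ∃ U : Y.affineOpens, j x ∈ U.1 ∧
      ∃ f : Γ(Y, U.1), f ∈ nonZeroDivisors Γ(Y, U.1) ∧ A.ideal U = Ideal.span {f} := by
  obtain ⟨U, hxU, f, hf, hfI⟩ := h x
  have hbij : Function.Bijective (j.appIso U.1).inv.hom :=
    ConcreteCategory.bijective_of_isIso (j.appIso U.1).inv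
  refine ⟨⟨j ''ᵁ U.1, U.2.image_of_isOpenImmersion _⟩, ⟨x, hxU, rfl⟩,
    (j.appIso U.1).inv.hom f, ?_, ?_⟩
  · exact BlowupIso.map_mem_nonZeroDivisors_of_bijective _ hbij hf
  · have h1 := IdealSheafData.ideal_comap_of_isOpenImmersion A j U
    rw [hfI] at h1
    rw [← Ideal.map_comap_of_surjective _ hbij.2
      (A.ideal ⟨j ''ᵁ U.1, U.2.image_of_isOpenImmersion _⟩), ← h1, Ideal.map_span,
      Set.image_singleton]

/-- In a cartesian square over `X`, the projection to `B₁` is an open immersion over the locus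
where `σ₂` is an isomorphism. -/
lemma isOpenImmersion_ι_comp {P : Scheme.{u}} (σ₁ : B₁ ⟶ X) (σ₂ : B₂ ⟶ X) (p₁ : P ⟶ B₁)
    (p₂ : P ⟶ B₂) (sq : IsPullback p₁ p₂ σ₁ σ₂) (U : X.Opens) [IsIso (σ₂ ∣_ U)] :
    IsOpenImmersion ((p₁ ⁻¹ᵁ (σ₁ ⁻¹ᵁ U)).ι ≫ p₁) := by
  have h1 := isPullback_morphismRestrict p₁ (σ₁ ⁻¹ᵁ U)
  have h12 := h1.paste_vert sq
  have h3 := isPullback_morphismRestrict σ₂ U
  have h4 := isPullback_morphismRestrict σ₁ U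
  rw [← h4.w] at h12
  have h5 := IsPullback.of_bot' h12 h3
  haveI : IsIso (p₁ ∣_ (σ₁ ⁻¹ᵁ U)) := h5.isIso_fst_of_isIso
  rw [← h1.w]
  infer_instance

/-- The inverse image of `I₁` on the fibre product of the blow-ups is effective Cartier. -/
theorem isEffCartier_comap_of_isPullback {P : Scheme.{u}} (I₁ I₂ : X.IdealSheafData)
    (hdisj : I₁ ⊔ I₂ = ⊤) (σ₁ : B₁ ⟶ X) (hσ₁ : BlowUp.IsBlowUp σ₁ I₁) (σ₂ : B₂ ⟶ X)
    (hσ₂ : BlowUp.IsBlowUp σ₂ I₂) (p₁ : P ⟶ B₁) (p₂ : P ⟶ B₂) (sq : IsPullback p₁ p₂ σ₁ σ₂) :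
    BlowUp.IsEffCartierIdeal (I₁.comap (p₁ ≫ σ₁)) := by
  intro p
  by_cases hx : (p₁ ≫ σ₁) p ∈ I₁.support
  swap
  · exact LocalPrincipal.exists_affine_top (I₁.comap (p₁ ≫ σ₁)) p
      (by rw [IdealSheafData.support_comap]; exact hx)
  have hx2 : (p₁ ≫ σ₁) p ∉ I₂.support := notMem_support_of_sup_eq_top I₁ I₂ hdisj _ hx
  haveI : IsIso (σ₂ ∣_ BlowupIso.compl I₂) := BlowupIso.isIso_morphismRestrict_compl I₂ σ₂ hσ₂
  haveI := isOpenImmersion_ι_comp σ₁ σ₂ p₁ p₂ sq (BlowupIso.compl I₂)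
  set W := p₁ ⁻¹ᵁ (σ₁ ⁻¹ᵁ BlowupIso.compl I₂) with hW
  have hpW : p ∈ W := hx2
  have hcart : BlowUp.IsEffCartierIdeal ((I₁.comap (p₁ ≫ σ₁)).comap W.ι) := by
    rw [← IdealSheafData.comap_comp, ← Category.assoc, IdealSheafData.comap_comp]
    exact BlowupFormal.isEffCartier_comap_of_flat (W.ι ≫ p₁) _ hσ₁.1
  exact exists_chart_of_isOpenImmersion W.ι (I₁.comap (p₁ ≫ σ₁)) hcart ⟨p, hpW⟩

/-- The fibre product of the blow-ups in two disjoint centres is the blow-up in their union. -/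
theorem isBlowUp_pullback (I₁ I₂ : X.IdealSheafData)
    (hdisj : I₁ ⊔ I₂ = ⊤) (σ₁ : B₁ ⟶ X) (hσ₁ : BlowUp.IsBlowUp σ₁ I₁) (σ₂ : B₂ ⟶ X)
    (hσ₂ : BlowUp.IsBlowUp σ₂ I₂) :
    BlowUp.IsBlowUp (pullback.fst σ₁ σ₂ ≫ σ₁) (I₁ * I₂) := by
  have sq := IsPullback.of_hasPullback σ₁ σ₂
  constructor
  · rw [ModPairFunct.comap_mul]
    refine BlowupFormal.isEffCartier_mul _ _
      (isEffCartier_comap_of_isPullback I₁ I₂ hdisj σ₁ hσ₁ σ₂ hσ₂ _ _ sq) ?_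
    rw [pullback.condition]
    exact isEffCartier_comap_of_isPullback I₂ I₁ (by rw [sup_comm]; exact hdisj) σ₂ hσ₂ σ₁ hσ₁ _ _
      sq.flip
  · intro Y g hg
    rw [ModPairFunct.comap_mul] at hg
    have hg1 := CartierProd.isEffCartier_left _ _ hg
    have hg2 := CartierProd.isEffCartier_right _ _ hg
    obtain ⟨k₁, hk₁, u₁⟩ := hσ₁.2 Y g hg1
    obtain ⟨k₂, hk₂, u₂⟩ := hσ₂.2 Y g hg2
    have hk₁' : k₁ ≫ σ₁ = g := hk₁
    have hk₂' : k₂ ≫ σ₂ = g := hk₂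
    refine ⟨pullback.lift k₁ k₂ (hk₁'.trans hk₂'.symm), ?_, ?_⟩
    · show pullback.lift k₁ k₂ _ ≫ pullback.fst σ₁ σ₂ ≫ σ₁ = g
      rw [pullback.lift_fst_assoc, hk₁']
    · intro l hl
      have hl' : l ≫ pullback.fst σ₁ σ₂ ≫ σ₁ = g := hl
      have e1 : l ≫ pullback.fst σ₁ σ₂ = k₁ := u₁ _ (by
        show (l ≫ pullback.fst σ₁ σ₂) ≫ σ₁ = g
        rw [Category.assoc, hl'])
      have e2 : l ≫ pullback.snd σ₁ σ₂ = k₂ := u₂ _ (by
        show (l ≫ pullback.snd σ₁ σ₂) ≫ σ₂ = g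
        rw [Category.assoc, ← pullback.condition, hl'])
      apply pullback.hom_ext
      · rw [e1, pullback.lift_fst]
      · rw [e2, pullback.lift_snd]

theorem exists_closedImmersion (I₁ I₂ : X.IdealSheafData) {B : Scheme.{u}}
    (hdisj : I₁ ⊔ I₂ = ⊤) (σ : B ⟶ X) (hσ : BlowUp.IsBlowUp σ (I₁ ⊓ I₂))
    (σ₁ : B₁ ⟶ X) (hσ₁ : BlowUp.IsBlowUp σ₁ I₁) (σ₂ : B₂ ⟶ X) (hσ₂ : BlowUp.IsBlowUp σ₂ I₂) :
    ∃ ι : B ⟶ pullback σ₁ σ₂, IsClosedImmersion ι ∧ ι ≫ pullback.fst σ₁ σ₂ ≫ σ₁ = σ := by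
  rw [inf_eq_mul I₁ I₂ hdisj] at hσ
  obtain ⟨θ, hθ⟩ := StrictTransform.exists_iso_of_isBlowUp (I₁ * I₂) σ
    (pullback.fst σ₁ σ₂ ≫ σ₁) hσ (isBlowUp_pullback I₁ I₂ hdisj σ₁ hσ₁ σ₂ hσ₂)
  exact ⟨θ.hom, inferInstance, hθ⟩

end Groth.Agent.Helper4.BlowupDisjoint
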