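import Mathlib
import Groth.Prelude.Def_BlowUp2
import Groth.Agent.Lib.Helper4.StrictTransform
import Groth.Agent.Lib.Helper4.CartierMul
import Groth.Agent.Lib.Helper4.BlowupFormal
import Groth.Agent.Lib.Helper4.BlowupIso
import Groth.Agent.Lib.Helper4.EffCartierPull
import Groth.Agent.Lib.Helper4.ModPairFunct

/-!
Finitely many admissible blow-ups are dominated by one.
-/

set_option autoImplicit false
set_option linter.style.haveILetI false

open CategoryTheory CategoryTheory.Limits AlgebraicGeometry AlgebraicGeometry.Scheme TopologicalSpace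

namespace Groth.Agent.Helper4.BlowupDom

universe u

theorem isBlowUp_id_top (Y : Scheme.{u}) : BlowUp.IsBlowUp (𝟙 Y) (⊤ : Y.IdealSheafData) := by
  refine ⟨?_, ?_⟩
  · rw [IdealSheafData.comap_top]
    exact BlowupIso.isEffCartier_top
  · intro T g _
    exact ⟨g, Category.comp_id g, fun h hh => by rw [← hh, Category.comp_id]⟩

theorem isBlowUp_iso_comp {Y Z₁ Z₂ : Scheme.{u}} (𝓙 : Y.IdealSheafData) (θ : Z₁ ≅ Z₂)
    (b : Z₂ ⟶ Y) (hb : BlowUp.IsBlowUp b 𝓙) : BlowUp.IsBlowUp (θ.hom ≫ b) 𝓙 := by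
  refine ⟨?_, ?_⟩
  · rw [IdealSheafData.comap_comp]
    exact BlowupFormal.isEffCartier_comap_of_flat θ.hom _ hb.1
  · intro T g hg
    obtain ⟨h, hh, huniq⟩ := hb.2 T g hg
    refine ⟨h ≫ θ.inv, by simp [hh], ?_⟩
    intro h' hh'
    have e : h' ≫ θ.hom = h := huniq _ (by
      show (h' ≫ θ.hom) ≫ b = g
      rw [Category.assoc]
      exact hh')
    rw [← e]
    simp

/-- The blow-up of a blow-up is the blow-up in the product. -/
theorem isBlowUp_comp {X X₁ X₂ : Scheme.{u}} (𝓘₁ 𝓘₂ : X.IdealSheafData) (b₁ : X₁ ⟶ X)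
    (hb₁ : BlowUp.IsBlowUp b₁ 𝓘₁) (b₂ : X₂ ⟶ X₁) (hb₂ : BlowUp.IsBlowUp b₂ (𝓘₂.comap b₁)) :
    BlowUp.IsBlowUp (b₂ ≫ b₁) (𝓘₁ * 𝓘₂) := by
  refine ⟨?_, ?_⟩
  · rw [ModPairFunct.comap_mul, IdealSheafData.comap_comp, IdealSheafData.comap_comp]
    exact CartierMul.isEffCartier_mul _ _
      (CartierMul.isEffCartier_comap_blowUp (𝓘₂.comap b₁) (𝓘₁.comap b₁) hb₁.1 b₂ hb₂) hb₂.1
  · intro T g hg
    rw [ModPairFunct.comap_mul] at hg
    have hg1 : BlowUp.IsEffCartierIdeal (𝓘₁.comap g) := CartierMul.isEffCartier_of_mul _ _ hg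
    have hg2 : BlowUp.IsEffCartierIdeal (𝓘₂.comap g) :=
      CartierMul.isEffCartier_of_mul _ _ (by rw [mul_comm]; exact hg)
    obtain ⟨h₁, hh₁, hu₁⟩ := hb₁.2 T g hg1
    have hg2' : BlowUp.IsEffCartierIdeal ((𝓘₂.comap b₁).comap h₁) := by
      rw [← IdealSheafData.comap_comp, hh₁]
      exact hg2
    obtain ⟨h₂, hh₂, hu₂⟩ := hb₂.2 T h₁ hg2'
    refine ⟨h₂, by
      show h₂ ≫ b₂ ≫ b₁ = g
      rw [← Category.assoc, hh₂, hh₁], ?_⟩
    intro h' hh'
    have e1 : h' ≫ b₂ = h₁ := hu₁ _ (by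
      show (h' ≫ b₂) ≫ b₁ = g
      rw [Category.assoc]
      exact hh')
    exact hu₂ _ e1

/-- Existence of the blow-up in the inverse image of a product of blown-up ideals. -/
theorem exists_blowUp_prod {X : Scheme.{u}} {ι : Type*} [DecidableEq ι] (Xi : ι → Scheme.{u})
    (b : ∀ i, Xi i ⟶ X) (𝓘 : ι → X.IdealSheafData) (hb : ∀ i, BlowUp.IsBlowUp (b i) (𝓘 i))
    (s : Finset ι) : ∀ (Y : Scheme.{u}) (f : Y ⟶ X),
    ∃ (Y' : Scheme.{u}) (β : Y' ⟶ Y), BlowUp.IsBlowUp β ((∏ i ∈ s, 𝓘 i).comap f) := by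
  induction s using Finset.induction_on with
  | empty =>
    intro Y f
    refine ⟨Y, 𝟙 Y, ?_⟩
    rw [Finset.prod_empty]
    show BlowUp.IsBlowUp (𝟙 Y) ((⊤ : X.IdealSheafData).comap f)
    rw [IdealSheafData.comap_top]
    exact isBlowUp_id_top Y
  | insert j s hj ih =>
    intro Y f
    obtain ⟨Y', β, hβ⟩ := ih Y f
    have h2 := StrictTransform.isBlowUp_sT (𝓘 j) (β ≫ f) (b j) (hb j)
    rw [IdealSheafData.comap_comp] at h2
    have h3 := isBlowUp_comp ((∏ i ∈ s, 𝓘 i).comap f) ((𝓘 j).comap f) β hβ _ h2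
    refine ⟨_, StrictTransform.sπ (𝓘 j) (β ≫ f) (b j) ≫ β, ?_⟩
    rw [Finset.prod_insert hj, ModPairFunct.comap_mul, mul_comm]
    exact h3

section FiniteType

variable {X : Scheme.{u}}

lemma fg_of_basicOpen_cover (𝓘 : X.IdealSheafData) (V : X.affineOpens) (t : Set Γ(X, V.1))
    (ht : Ideal.span t = ⊤) (H : ∀ g : t, (𝓘.ideal (X.affineBasicOpen g.1)).FG) :
    (𝓘.ideal V).FG := by
  apply Ideal.fg_of_localizationSpan t ht
  intro g
  haveI : IsLocalization.Away g.1 Γ(X, X.basicOpen g.1) := V.2.isLocalization_basicOpen g.1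
  let e : Γ(X, X.basicOpen g.1) ≃ₐ[Γ(X, V.1)] Localization.Away g.1 :=
    IsLocalization.algEquiv (Submonoid.powers g.1) _ _
  have h1 : (𝓘.ideal V).map (algebraMap Γ(X, V.1) (Localization.Away g.1)) =
      ((𝓘.ideal V).map (algebraMap Γ(X, V.1) Γ(X, X.basicOpen g.1))).map
        (e : Γ(X, X.basicOpen g.1) →+* Localization.Away g.1) := by
    rw [Ideal.map_map]
    congr 1
    ext x
    exact (e.commutes x).symm
  rw [h1]
  apply Ideal.FG.map
  have h2 := 𝓘.map_ideal_basicOpen V g.1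
  have h3 : (𝓘.ideal V).map (algebraMap Γ(X, V.1) Γ(X, X.basicOpen g.1)) =
      𝓘.ideal (X.affineBasicOpen g.1) := h2
  rw [h3]
  exact H g

theorem isFiniteTypeIdeal_comap {Y : Scheme.{u}} (f : Y ⟶ X) (𝓘 : X.IdealSheafData)
    (h : BlowUp.IsFiniteTypeIdeal 𝓘) : BlowUp.IsFiniteTypeIdeal (𝓘.comap f) := by
  intro V
  have key : ∀ y : V.1, ∃ g : Γ(Y, V.1), y.1 ∈ Y.basicOpen g ∧
      ((𝓘.comap f).ideal (Y.affineBasicOpen g)).FG := by
    intro y
    obtain ⟨_, ⟨W, hW, rfl⟩, hyW, -⟩ := X.isBasis_affineOpens.exists_subset_of_mem_open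
      (Set.mem_univ (f y.1)) isOpen_univ
    obtain ⟨g, hgle, hyg⟩ := V.2.exists_basicOpen_le (V := f ⁻¹ᵁ W) ⟨y.1, hyW⟩ y.2
    refine ⟨g, hyg, ?_⟩
    rw [EffCartierPull.ideal_comap_appLE f 𝓘 (Y.affineBasicOpen g) ⟨W, hW⟩ hgle]
    exact (h ⟨W, hW⟩).map _
  choose g hg1 hg2 using key
  refine fg_of_basicOpen_cover (𝓘.comap f) V (Set.range g) ?_ ?_
  · rw [← V.2.iSup_basicOpen_eq_self_iff]
    apply le_antisymm
    · exact iSup_le (fun r => Y.basicOpen_le _)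
    · intro y hy
      exact Opens.mem_iSup.mpr ⟨⟨g ⟨y, hy⟩, ⟨y, hy⟩, rfl⟩, hg1 ⟨y, hy⟩⟩
  · rintro ⟨_, y, rfl⟩
    exact hg2 y

theorem isAdmissibleFor_comap {Y : Scheme.{u}} (f : Y ⟶ X) (U : X.Opens) (𝓘 : X.IdealSheafData)
    (h : BlowUp.IsAdmissibleFor U 𝓘) : BlowUp.IsAdmissibleFor (f ⁻¹ᵁ U) (𝓘.comap f) := by
  refine ⟨isFiniteTypeIdeal_comap f 𝓘 h.1, ?_⟩
  rw [Set.disjoint_left]
  intro y hy hyU
  rw [IdealSheafData.support_comap] at hy
  exact Set.disjoint_left.mp h.2 hy hyU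

theorem isAdmissibleFor_prod {ι : Type*} [DecidableEq ι] (U : X.Opens)
    (𝓘 : ι → X.IdealSheafData) (s : Finset ι) (h : ∀ i ∈ s, BlowUp.IsAdmissibleFor U (𝓘 i)) :
    BlowUp.IsAdmissibleFor U (∏ i ∈ s, 𝓘 i) := by
  induction s using Finset.induction_on with
  | empty =>
    rw [Finset.prod_empty]
    refine ⟨fun V => ?_, ?_⟩
    · show ((⊤ : X.IdealSheafData).ideal V).FG
      rw [IdealSheafData.ideal_top]
      exact ⟨{1}, by simp⟩
    · show Disjoint (((⊤ : X.IdealSheafData).support : Set X)) (U : Set X)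
      rw [IdealSheafData.support_top]
      exact Set.empty_disjoint _
  | insert j s hj ih =>
    rw [Finset.prod_insert hj]
    have h1 := h j (Finset.mem_insert_self j s)
    have h2 := ih (fun i hi => h i (Finset.mem_insert_of_mem hi))
    refine ⟨fun V => ?_, ?_⟩
    · show ((𝓘 j).ideal V * (∏ i ∈ s, 𝓘 i).ideal V).FG
      exact (h1.1 V).mul (h2.1 V)
    · rw [IdealSheafData.support_mul]
      show Disjoint (((𝓘 j).support : Set X) ∪ ((∏ i ∈ s, 𝓘 i).support : Set X)) (U : Set X)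
      exact Set.disjoint_union_left.mpr ⟨h1.2, h2.2⟩

end FiniteType

end Groth.Agent.Helper4.BlowupDom
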