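import Mathlib
import Groth.Prelude.Def_BlowUp2
import Groth.Agent.Lib.Helper4.BlowupFormal

/-!
More consequences of the blow-up toolkit: modulus condition, strict transforms, blow-up of an
integral scheme.
-/

set_option autoImplicit false
set_option linter.style.haveILetI false

open CategoryTheory CategoryTheory.Limits AlgebraicGeometry AlgebraicGeometry.Scheme TopologicalSpace

namespace Groth.Agent.Helper4.BlowupIntegral

universe u

open Groth.Agent.Helper4.EffCartierPull Groth.Agent.Helper4.BlowupIso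
open Groth.Agent.Helper4.BlowupFormal
open Groth.Agent.H20.IdealSh

theorem isEffCartier_comap_of_le {X Y : Scheme.{u}} (I : X.IdealSheafData)
    (J : Y.IdealSheafData) (hI : BlowUp.IsEffCartierIdeal I) (hJ : BlowUp.IsEffCartierIdeal J)
    (f : X ⟶ Y) (hf : I ≤ J.comap f) : BlowUp.IsEffCartierIdeal (J.comap f) := by
  intro x
  obtain ⟨V, hxV, g, hg, hgJ⟩ := hJ (f x)
  obtain ⟨U₁, hx₁, a, ha, haI⟩ := hI x
  obtain ⟨_, ⟨W, hW, rfl⟩, hxW, hWU⟩ := X.isBasis_affineOpens.exists_subset_of_mem_open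
    (show x ∈ ((U₁.1 ⊓ f ⁻¹ᵁ V.1 : X.Opens) : Set X) from ⟨hx₁, hxV⟩) (U₁.1 ⊓ f ⁻¹ᵁ V.1).isOpen
  have hW₁ : (⟨W, hW⟩ : X.affineOpens) ≤ U₁ := fun y hy => (hWU hy).1
  have hWV : W ≤ f ⁻¹ᵁ V.1 := fun y hy => (hWU hy).2
  obtain ⟨a1, a2⟩ := isEffCartier_restrict I hW₁ a ha haI
  have hJW : (J.comap f).ideal ⟨W, hW⟩ = Ideal.span {(f.appLE V.1 W hWV).hom g} := by
    rw [ideal_comap_appLE f J ⟨W, hW⟩ V hWV, hgJ, Ideal.map_span, Set.image_singleton]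
  refine ⟨⟨W, hW⟩, hxW, (f.appLE V.1 W hWV).hom g, ?_, hJW⟩
  have hle : I.ideal ⟨W, hW⟩ ≤ (J.comap f).ideal ⟨W, hW⟩ := hf ⟨W, hW⟩
  rw [a2, hJW, Ideal.span_singleton_le_span_singleton] at hle
  obtain ⟨c, hc⟩ := hle
  rw [hc] at a1
  exact (mul_mem_nonZeroDivisors.mp a1).1

theorem strict_transform_ne {X X' Yt : Scheme.{u}} (𝓘 𝓘' : X.IdealSheafData) (b : X' ⟶ X)
    (b' : Yt ⟶ 𝓘.subscheme) (hb' : BlowUp.IsBlowUp b' ((𝓘 ⊔ 𝓘').comap 𝓘.subschemeι))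
    (k : Yt ⟶ X') (hk : k ≫ b = b' ≫ 𝓘.subschemeι)
    (V : X.affineOpens) (s : Γ(X, V.1)) (hs : s ∈ 𝓘.ideal V)
    (V' : X'.affineOpens) (hV' : V'.1 ≤ b ⁻¹ᵁ V.1)
    (hmeet : (Set.range (fun y => k y) ∩ (V'.1 : Set X')).Nonempty) :
    ((𝓘 ⊔ 𝓘').comap b).ideal V' ≠ Ideal.span {(b.appLE V.1 V'.1 hV').hom s} := by
  intro hcon
  obtain ⟨_, ⟨y, rfl⟩, hyV'⟩ := hmeet
  have hEC : BlowUp.IsEffCartierIdeal (((𝓘 ⊔ 𝓘').comap b).comap k) := by
    rw [← IdealSheafData.comap_comp, hk, IdealSheafData.comap_comp]; exact hb'.1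
  obtain ⟨W, hyW, e, he, heI⟩ := hEC y
  obtain ⟨_, ⟨T, hT, rfl⟩, hyT, hTW⟩ := Yt.isBasis_affineOpens.exists_subset_of_mem_open
    (show y ∈ ((W.1 ⊓ k ⁻¹ᵁ V'.1 : Yt.Opens) : Set Yt) from ⟨hyW, hyV'⟩) (W.1 ⊓ k ⁻¹ᵁ V'.1).isOpen
  have hT₁ : (⟨T, hT⟩ : Yt.affineOpens) ≤ W := fun z hz => (hTW hz).1
  have hTV' : T ≤ k ⁻¹ᵁ V'.1 := fun z hz => (hTW hz).2
  obtain ⟨e1, e2⟩ := isEffCartier_restrict _ hT₁ e he heI
  have h2 : (((𝓘 ⊔ 𝓘').comap b).comap k).ideal ⟨T, hT⟩ =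
      Ideal.span {(k.appLE V'.1 T hTV').hom ((b.appLE V.1 V'.1 hV').hom s)} := by
    rw [ideal_comap_appLE k _ ⟨T, hT⟩ V' hTV', hcon, Ideal.map_span, Set.image_singleton]
  have hTV : T ≤ (k ≫ b) ⁻¹ᵁ V.1 := fun z hz => hV' (hTV' hz)
  have h3 : (k.appLE V'.1 T hTV').hom ((b.appLE V.1 V'.1 hV').hom s) = 0 := by
    have e4 : (k.appLE V'.1 T hTV').hom ((b.appLE V.1 V'.1 hV').hom s) =
        ((k ≫ b).appLE V.1 T hTV).hom s := by
      rw [← Scheme.Hom.appLE_comp_appLE k b V.1 V'.1 T hV' hTV']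
      rfl
    rw [e4]
    have key : ∀ (m : Yt ⟶ X) (_ : m = b' ≫ 𝓘.subschemeι) (hm : T ≤ m ⁻¹ᵁ V.1),
        (m.appLE V.1 T hm).hom s = 0 := by
      intro m hm hmT
      subst hm
      rw [Scheme.Hom.comp_appLE]
      have h0 : (𝓘.subschemeι.app V.1).hom s = 0 := by
        have : s ∈ RingHom.ker (𝓘.subschemeι.app V.1).hom := by
          rw [IdealSheafData.ker_subschemeι_app]; exact hs
        exact this
      rw [CommRingCat.hom_comp, RingHom.comp_apply, h0, map_zero]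
    exact key _ hk hTV
  rw [h3] at h2
  rw [h2, Ideal.span_singleton_eq_bot.mpr rfl] at e2
  have h5 : (Yt.presheaf.map (homOfLE hT₁).op).hom e = 0 :=
    Ideal.span_singleton_eq_bot.mp e2.symm
  rw [h5] at e1
  haveI : Nonempty T := ⟨⟨y, hyT⟩⟩
  exact nonZeroDivisors.ne_zero e1 rfl

theorem blowup_integral {X Y : Scheme.{u}} [IsIntegral Y] (I : Y.IdealSheafData) (hI : I ≠ ⊥)
    (b : X ⟶ Y) (hb : BlowUp.IsBlowUp b I) :
    ∃ (_ : IsIntegral X), ∃ _ : b.base (genericPoint X) = genericPoint Y,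
      Function.Bijective (b.residueFieldMap (genericPoint X)).hom := by
  haveI : IsReduced X := isReduced_of_isBlowUp I b hb
  obtain ⟨s, hs, hsec⟩ := exists_section I b hb
  have hbs : ∀ v : (compl I).toScheme, b (s v) = v.1 := by
    intro v
    rw [← Scheme.Hom.comp_apply, hs]
    rfl
  have hopen : IsOpen ((compl I : Y.Opens) : Set Y) := (compl I).isOpen
  -- the complement is nonempty
  have hne : ∃ v : Y, v ∉ I.support := by
    by_contra hcon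
    push_neg at hcon
    apply hI
    rw [← IdealSheafData.support_eq_top_iff]
    exact top_le_iff.mp (fun y _ => hcon y)
  obtain ⟨v₀, hv₀⟩ := hne
  -- density of the preimage of the complement
  have hdense : ∀ O : Set X, IsOpen O → O.Nonempty → ∃ z ∈ O, b z ∉ I.support := by
    intro O hO ⟨x, hxO⟩
    obtain ⟨W, hxW, e, he, heI⟩ := hb.1 x
    obtain ⟨r, hrle, hxr⟩ := W.2.exists_basicOpen_le (V := ⟨O, hO⟩) ⟨x, hxO⟩ hxW
    have hre : X.basicOpen (r * e) ≠ ⊥ := by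
      intro h0
      rw [AlgebraicGeometry.basicOpen_eq_bot_iff] at h0
      have hr0 : r = 0 := (mem_nonZeroDivisors_iff_right.mp he) r h0
      rw [hr0, Scheme.basicOpen_zero] at hxr
      exact hxr
    obtain ⟨z, hz⟩ : ∃ z, z ∈ X.basicOpen (r * e) := by
      by_contra hcon
      push_neg at hcon
      exact hre (le_bot_iff.mp (fun z hz => (hcon z hz).elim))
    rw [Scheme.basicOpen_mul] at hz
    exact ⟨z, hrle hz.1, notMem_support_of_mem_basicOpen I b W e heI z hz.2⟩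
  -- irreducibility
  haveI : Nonempty X := ⟨s ⟨v₀, hv₀⟩⟩
  haveI : PreirreducibleSpace X := by
    apply PreirreducibleSpace.of_forall_nonempty_inter
    intro O₁ O₂ hO₁ hO₂ hn₁ hn₂
    obtain ⟨z₁, hz₁, hz₁'⟩ := hdense O₁ hO₁ hn₁
    obtain ⟨z₂, hz₂, hz₂'⟩ := hdense O₂ hO₂ hn₂
    have hP₁ : IsOpen ((compl I).ι '' (s ⁻¹' O₁)) :=
      (compl I).ι.isOpenEmbedding.isOpenMap _ (hO₁.preimage s.continuous)
    have hP₂ : IsOpen ((compl I).ι '' (s ⁻¹' O₂)) :=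
      (compl I).ι.isOpenEmbedding.isOpenMap _ (hO₂.preimage s.continuous)
    have hm₁ : b z₁ ∈ (compl I).ι '' (s ⁻¹' O₁) :=
      ⟨⟨b z₁, hz₁'⟩, by show s ⟨b z₁, hz₁'⟩ ∈ O₁; rw [hsec z₁ hz₁']; exact hz₁, rfl⟩
    have hm₂ : b z₂ ∈ (compl I).ι '' (s ⁻¹' O₂) :=
      ⟨⟨b z₂, hz₂'⟩, by show s ⟨b z₂, hz₂'⟩ ∈ O₂; rw [hsec z₂ hz₂']; exact hz₂, rfl⟩
    obtain ⟨y, ⟨w₁, hw₁, hw₁y⟩, ⟨w₂, hw₂, hw₂y⟩⟩ :=
      nonempty_preirreducible_inter hP₁ hP₂ ⟨_, hm₁⟩ ⟨_, hm₂⟩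
    have hw : w₁ = w₂ := (compl I).ι.isOpenEmbedding.injective (hw₁y.trans hw₂y.symm)
    exact ⟨s w₁, hw₁, by rw [hw]; exact hw₂⟩
  haveI : IrreducibleSpace X := ⟨inferInstance⟩
  haveI hint : IsIntegral X := isIntegral_of_irreducibleSpace_of_isReduced X
  -- generic point
  have hηns : b (genericPoint X) ∉ I.support := by
    obtain ⟨z, -, hz⟩ := hdense Set.univ isOpen_univ ⟨s ⟨v₀, hv₀⟩, trivial⟩
    have hU' : IsOpen ((b ⁻¹ᵁ compl I : X.Opens) : Set X) := (b ⁻¹ᵁ compl I).isOpen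
    exact (genericPoint_specializes z).mem_open hU' hz
  have hξns : genericPoint Y ∉ I.support :=
    (genericPoint_specializes v₀).mem_open hopen hv₀
  have hgen : b (genericPoint X) = genericPoint Y := by
    have h1 : genericPoint X ⤳ s ⟨genericPoint Y, hξns⟩ := genericPoint_specializes _
    have h2 : b (genericPoint X) ⤳ b (s ⟨genericPoint Y, hξns⟩) := h1.map b.continuous
    rw [hbs ⟨genericPoint Y, hξns⟩] at h2
    exact (h2.antisymm (genericPoint_specializes _)).eq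
  refine ⟨hint, hgen, ?_⟩
  haveI := isIso_stalkMap_of_notMem I b hb (genericPoint X) hηns
  exact (IsLocalRing.ResidueField.mapEquiv
    (asIso (b.stalkMap (genericPoint X))).commRingCatIsoToRingEquiv).bijective

end Groth.Agent.Helper4.BlowupIntegral
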