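import Mathlib
import Groth.Agent.Lib.Helper4.BranchLen3

set_option autoImplicit false
universe u

namespace Groth.Agent.Helper4.BranchLen

open PowerSeries

variable {k : Type u} [Field k] {s : ℕ}

theorem part1 (R : Subalgebra k (Fin s → PowerSeries k)) (c : Fin s → ℕ)
    (hc : ∀ f : Fin s → PowerSeries k,
      (∀ g : Fin s → PowerSeries k, g * f ∈ R) ↔ ∀ i, ((c i : ℕ) : ℕ∞) ≤ (f i).order)
    (j : Fin s) (a : Fin s → ℕ) (hj : c j ≤ a j)
    (I : Ideal ↥R)
    (ha : ∀ i : Fin s,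
      Ideal.map ((Pi.evalAlgHom k (fun _ : Fin s => PowerSeries k) i).comp R.val) I =
        Ideal.span {PowerSeries.X ^ (a i)})
    (h1 : ∀ g : Fin s → PowerSeries k, (∀ i : Fin s, ((a i + c i : ℕ) : ℕ∞) ≤ (g i).order) →
      ∃ hgR : g ∈ R, (⟨g, hgR⟩ : ↥R) ∈ I)
    (h2 : ∀ f ∈ I, ∀ i : Fin s, ((a i : ℕ) : ℕ∞) ≤ ((f : Fin s → PowerSeries k) i).order) :
    ∃ J : Ideal ↥R, Module.Finite k (↥R ⧸ J) ∧
      Module.finrank k (↥R ⧸ J) = Module.finrank k (↥R ⧸ I) + 1 ∧
      (∀ i : Fin s,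
        Ideal.map ((Pi.evalAlgHom k (fun _ : Fin s => PowerSeries k) i).comp R.val) J =
          Ideal.span {PowerSeries.X ^ ((Function.update a j (a j + 1)) i)}) ∧
      (Subtype.val '' (J : Set ↥R)) =
        (fun f => Pi.mulSingle j PowerSeries.X * f) '' (Subtype.val '' (I : Set ↥R)) := by
  have hmemR : ∀ f ∈ I, xi j * (f : Fin s → PowerSeries k) ∈ R := by
    intro f hf
    apply (xi_mul_mem_iff R c hc j f.1 ?_).mpr f.2
    exact le_trans (by exact_mod_cast hj) (h2 f hf j)
  let J : Ideal ↥R :=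
    { carrier := {r | ∃ f ∈ I, (r : Fin s → PowerSeries k) = xi j * (f : Fin s → PowerSeries k)}
      add_mem' := by
        rintro r r' ⟨f, hf, hr⟩ ⟨f', hf', hr'⟩
        refine ⟨f + f', I.add_mem hf hf', ?_⟩
        rw [Subalgebra.coe_add, hr, hr', Subalgebra.coe_add, mul_add]
      zero_mem' := ⟨0, I.zero_mem, by simp⟩
      smul_mem' := by
        rintro t r ⟨f, hf, hr⟩
        refine ⟨t * f, I.mul_mem_left t hf, ?_⟩
        rw [smul_eq_mul, Subalgebra.coe_mul, hr, Subalgebra.coe_mul]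
        ring }
  have hJ1 : ∀ r ∈ J, ∃ f ∈ I,
      (r : Fin s → PowerSeries k) = xi j * (f : Fin s → PowerSeries k) := fun r hr => hr
  have hJ2 : ∀ f ∈ I, ∃ r ∈ J,
      (r : Fin s → PowerSeries k) = xi j * (f : Fin s → PowerSeries k) :=
    fun f hf => ⟨⟨xi j * f.1, hmemR f hf⟩, ⟨f, hf, rfl⟩, rfl⟩
  haveI : Module.Finite k ((Fin s → PowerSeries k) ⧸ img R I) := by
    haveI := finite_quot_ker_trunc (k := k) (s := s) (fun i => a i + c i)
    apply finite_of_le (LinearMap.ker (trunc (k := k) (fun i => a i + c i))) (img R I)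
    intro g hg
    rw [mem_ker_trunc] at hg
    exact (mem_img R I g).mpr (h1 g hg)
  obtain ⟨hf1, -, hf3⟩ := colength_succ R j I J (img_eq_map R j I J hJ1 hJ2)
  refine ⟨J, hf1, hf3, ?_, image_eq R j I J hJ1 hJ2⟩
  intro i
  rw [map_eval_eq R j I J hJ1 hJ2 i, ha i, Ideal.span_singleton_mul_span_singleton]
  by_cases h : i = j
  · subst h
    rw [xi_same, Function.update_self, pow_succ']
  · rw [xi_ne j h, Function.update_of_ne h, one_mul]

theorem part2 (R : Subalgebra k (Fin s → PowerSeries k)) (c : Fin s → ℕ)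
    (hc : ∀ f : Fin s → PowerSeries k,
      (∀ g : Fin s → PowerSeries k, g * f ∈ R) ↔ ∀ i, ((c i : ℕ) : ℕ∞) ≤ (f i).order)
    (j : Fin s) (a : Fin s → ℕ) (hj : c j ≤ a j)
    (J : Ideal ↥R)
    (haJ : ∀ i : Fin s,
      Ideal.map ((Pi.evalAlgHom k (fun _ : Fin s => PowerSeries k) i).comp R.val) J =
        Ideal.span {PowerSeries.X ^ ((Function.update a j (a j + 1)) i)})
    (h1 : ∀ g : Fin s → PowerSeries k,
      (∀ i : Fin s, (((Function.update a j (a j + 1)) i + c i : ℕ) : ℕ∞) ≤ (g i).order) →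
      ∃ hgR : g ∈ R, (⟨g, hgR⟩ : ↥R) ∈ J)
    (h2 : ∀ f ∈ J, ∀ i : Fin s,
      (((Function.update a j (a j + 1)) i : ℕ) : ℕ∞) ≤ ((f : Fin s → PowerSeries k) i).order) :
    ∃ I : Ideal ↥R, Module.Finite k (↥R ⧸ I) ∧
      Module.finrank k (↥R ⧸ J) = Module.finrank k (↥R ⧸ I) + 1 ∧
      (∀ i : Fin s,
        Ideal.map ((Pi.evalAlgHom k (fun _ : Fin s => PowerSeries k) i).comp R.val) I =
          Ideal.span {PowerSeries.X ^ (a i)}) ∧
      (Subtype.val '' (J : Set ↥R)) =
        (fun f => Pi.mulSingle j PowerSeries.X * f) '' (Subtype.val '' (I : Set ↥R)) := by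
  let I : Ideal ↥R :=
    { carrier := {f | ∃ r ∈ J, (r : Fin s → PowerSeries k) = xi j * (f : Fin s → PowerSeries k)}
      add_mem' := by
        rintro f f' ⟨r, hr, e⟩ ⟨r', hr', e'⟩
        refine ⟨r + r', J.add_mem hr hr', ?_⟩
        rw [Subalgebra.coe_add, e, e', Subalgebra.coe_add, mul_add]
      zero_mem' := ⟨0, J.zero_mem, by simp⟩
      smul_mem' := by
        rintro t f ⟨r, hr, e⟩
        refine ⟨t * r, J.mul_mem_left t hr, ?_⟩
        rw [smul_eq_mul, Subalgebra.coe_mul, e, Subalgebra.coe_mul]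
        ring }
  have hJ2 : ∀ f ∈ I, ∃ r ∈ J,
      (r : Fin s → PowerSeries k) = xi j * (f : Fin s → PowerSeries k) := fun f hf => hf
  have hJ1 : ∀ r ∈ J, ∃ f ∈ I,
      (r : Fin s → PowerSeries k) = xi j * (f : Fin s → PowerSeries k) := by
    intro r hr
    have hrj := h2 r hr j
    rw [Function.update_self, le_order_iff_dvd, pow_succ'] at hrj
    obtain ⟨h, hh⟩ : PowerSeries.X ∣ (r : Fin s → PowerSeries k) j :=
      dvd_trans (Dvd.intro _ rfl) hrj
    have hdiv : (PowerSeries.X : PowerSeries k) ^ (a j) ∣ h := by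
      rw [hh] at hrj
      exact (mul_dvd_mul_iff_left PowerSeries.X_ne_zero).mp hrj
    have hxf : xi j * Function.update (r : Fin s → PowerSeries k) j h =
        (r : Fin s → PowerSeries k) := by
      funext i
      rw [Pi.mul_apply]
      by_cases hi : i = j
      · subst hi; rw [xi_same, Function.update_self, hh]
      · rw [xi_ne j hi, Function.update_of_ne hi, one_mul]
    have hfR : Function.update (r : Fin s → PowerSeries k) j h ∈ R := by
      apply (xi_mul_mem_iff R c hc j _ ?_).mp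
      · rw [hxf]; exact r.2
      · rw [Function.update_self, le_order_iff_dvd]
        exact dvd_trans (pow_dvd_pow _ hj) hdiv
    exact ⟨⟨_, hfR⟩, ⟨r, hr, hxf.symm⟩, hxf.symm⟩
  haveI : Module.Finite k ((Fin s → PowerSeries k) ⧸ img R I) := by
    haveI := finite_quot_ker_trunc (k := k) (s := s) (fun i => a i + c i)
    apply finite_of_le (LinearMap.ker (trunc (k := k) (fun i => a i + c i))) (img R I)
    intro g hg
    rw [mem_ker_trunc] at hg
    have hgR : g ∈ R := by
      have := (hc g).mpr (fun i => le_trans (by exact_mod_cast Nat.le_add_left _ _) (hg i)) 1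
      simpa using this
    obtain ⟨hR', hJ'⟩ := h1 (xi j * g) (by
      intro i
      rw [Pi.mul_apply, le_order_iff_dvd]
      have hgi := (le_order_iff_dvd _ _).mp (hg i)
      by_cases hi : i = j
      · subst hi
        rw [xi_same, Function.update_self, show a i + 1 + c i = (a i + c i) + 1 by ring, pow_succ']
        exact mul_dvd_mul_left _ hgi
      · rw [xi_ne j hi, Function.update_of_ne hi, one_mul]
        exact hgi)
    exact (mem_img R I g).mpr ⟨hgR, ⟨⟨xi j * g, hR'⟩, hJ', rfl⟩⟩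
  obtain ⟨-, hf2, hf3⟩ := colength_succ R j I J (img_eq_map R j I J hJ1 hJ2)
  refine ⟨I, hf2, hf3, ?_, image_eq R j I J hJ1 hJ2⟩
  intro i
  have hm := map_eval_eq R j I J hJ1 hJ2 i
  rw [haJ i] at hm
  have hX : (PowerSeries.X : PowerSeries k) ^ ((Function.update a j (a j + 1)) i) =
      xi j i * PowerSeries.X ^ (a i) := by
    by_cases h : i = j
    · subst h
      rw [xi_same, Function.update_self, pow_succ']
    · rw [xi_ne j h, Function.update_of_ne h, one_mul]
  rw [hX, ← Ideal.span_singleton_mul_span_singleton] at hm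
  exact ((Ideal.span_singleton_mul_right_inj (xi_ne_zero j i)).mp hm).symm

end Groth.Agent.Helper4.BranchLen
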