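import Mathlib
import Groth.Prelude.Def_EGA41

/-!
# Helper lemmas on adic formal smoothness (`EGA41.IsFormallySmoothAdic`)
-/

namespace Groth.Agent.Helper4

universe u

open TensorProduct

theorem mk_smul_eq {B : Type*} [CommRing B] (𝔄 : Ideal B) {M : Type*} [AddCommGroup M]
    [Module B M] [Module (B ⧸ 𝔄) M] [IsScalarTower B (B ⧸ 𝔄) M] (b : B) (m : M) :
    (Ideal.Quotient.mk 𝔄 b) • m = b • m := by
  rw [← Ideal.Quotient.algebraMap_eq, algebraMap_smul]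

/-- Lifting along an arbitrary surjection with nilpotent kernel. -/
theorem fsAdic_lift_of_surjective {A B : Type u} [CommRing A] [CommRing B] [Algebra A B]
    {𝔞 : Ideal A} {𝔟 : Ideal B} (h : EGA41.IsFormallySmoothAdic A 𝔞 B 𝔟)
    {C C' : Type u} [CommRing C] [CommRing C'] [Algebra A C] [Algebra A C']
    (π : C →ₐ[A] C') (hπ : Function.Surjective π) (hnil : IsNilpotent (RingHom.ker π))
    (hC : ∃ k : ℕ, (𝔞 ^ k).map (algebraMap A C) = ⊥)
    (u : B →ₐ[A] C') (hu : ∃ k : ℕ, ∀ x ∈ 𝔟 ^ k, u x = 0) :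
    ∃ v : B →ₐ[A] C, π.comp v = u := by
  obtain ⟨v, hv⟩ := h C (RingHom.ker π) hnil hC
    ((Ideal.quotientKerAlgEquivOfSurjective hπ).symm.toAlgHom.comp u) (by
      obtain ⟨k, hk⟩ := hu
      exact ⟨k, fun x hx => by simp [hk x hx]⟩)
  refine ⟨v, ?_⟩
  ext b
  have h1 := congrArg (fun w => (Ideal.quotientKerAlgEquivOfSurjective hπ) (w b)) hv
  simpa using h1

/-- The `A`-algebra map `B → (B/𝔄) ⊕ ((B/𝔄) ⊗ Ω_{B/A})`, `b ↦ (b̄, 1 ⊗ d b)`. -/
noncomputable def tszeD (A : Type u) {B : Type u} [CommRing A] [CommRing B] [Algebra A B]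
    (𝔄 : Ideal B) : B →ₐ[A] TrivSqZeroExt (B ⧸ 𝔄) ((B ⧸ 𝔄) ⊗[B] Ω[B⁄A]) where
  toFun b := TrivSqZeroExt.inl (Ideal.Quotient.mk 𝔄 b) +
    TrivSqZeroExt.inr ((1 : B ⧸ 𝔄) ⊗ₜ[B] KaehlerDifferential.D A B b)
  map_one' := by
    ext <;> simp
  map_mul' a b := by
    ext
    · simp
    · simp only [TrivSqZeroExt.snd_add, TrivSqZeroExt.snd_inl, TrivSqZeroExt.snd_inr, zero_add,
        TrivSqZeroExt.snd_mul, TrivSqZeroExt.fst_add, TrivSqZeroExt.fst_inl,
        TrivSqZeroExt.fst_inr, add_zero, op_smul_eq_smul, Derivation.leibniz,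
        TensorProduct.tmul_add, TensorProduct.tmul_smul]
      rw [← Ideal.Quotient.algebraMap_eq, algebraMap_smul, algebraMap_smul]
  map_zero' := by
    ext <;> simp
  map_add' a b := by
    ext
    · simp
    · simp [TensorProduct.tmul_add]
  commutes' a := by
    ext
    · simp [TrivSqZeroExt.algebraMap_eq_inl']
    · simp [TrivSqZeroExt.algebraMap_eq_inl']

theorem tszeD_apply (A : Type u) {B : Type u} [CommRing A] [CommRing B] [Algebra A B]
    (𝔄 : Ideal B) (b : B) : tszeD A 𝔄 b = TrivSqZeroExt.inl (Ideal.Quotient.mk 𝔄 b) +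
    TrivSqZeroExt.inr ((1 : B ⧸ 𝔄) ⊗ₜ[B] KaehlerDifferential.D A B b) := rfl

end Groth.Agent.Helper4
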