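import Mathlib
import Groth.Prelude.Def_EGA41
import Groth.Agent.Lib.Helper4.FSAdic

/-!
# Lifting maps from an adically formally smooth algebra to complete rings
-/

namespace Groth.Agent.Helper4

universe u

/-- Lifting along an arbitrary surjection with nilpotent kernel; the lift again kills a power
of `𝔟`. -/
theorem fsAdic_lift_of_surjective' {A B : Type u} [CommRing A] [CommRing B] [Algebra A B]
    {𝔞 : Ideal A} {𝔟 : Ideal B} (h : EGA41.IsFormallySmoothAdic A 𝔞 B 𝔟)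
    {C C' : Type u} [CommRing C] [CommRing C'] [Algebra A C] [Algebra A C']
    (π : C →ₐ[A] C') (hπ : Function.Surjective π) (hnil : IsNilpotent (RingHom.ker π))
    (hC : ∃ k : ℕ, (𝔞 ^ k).map (algebraMap A C) = ⊥)
    (u : B →ₐ[A] C') (hu : ∃ k : ℕ, ∀ x ∈ 𝔟 ^ k, u x = 0) :
    ∃ v : B →ₐ[A] C, π.comp v = u ∧ ∃ k : ℕ, ∀ x ∈ 𝔟 ^ k, v x = 0 := by
  obtain ⟨v, hv⟩ := fsAdic_lift_of_surjective h π hπ hnil hC u hu
  refine ⟨v, hv, ?_⟩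
  obtain ⟨k, hk⟩ := hu
  obtain ⟨N, hN⟩ := hnil
  rw [Ideal.zero_eq_bot] at hN
  refine ⟨k * N, fun x hx => ?_⟩
  have h1 : (𝔟 ^ k).map v.toRingHom ≤ RingHom.ker π := by
    rw [Ideal.map_le_iff_le_comap]
    intro y hy
    rw [Ideal.mem_comap, RingHom.mem_ker]
    have h2 := congrArg (fun w => w y) hv
    simp only [AlgHom.comp_apply] at h2
    change π (v y) = 0
    rw [h2, hk y hy]
  have h2 : (𝔟 ^ (k * N)).map v.toRingHom ≤ ⊥ :=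
    calc (𝔟 ^ (k * N)).map v.toRingHom = ((𝔟 ^ k).map v.toRingHom) ^ N := by
          rw [pow_mul, Ideal.map_pow]
      _ ≤ RingHom.ker π ^ N := Ideal.pow_right_mono h1 N
      _ = ⊥ := hN
  have h3 := h2 (Ideal.mem_map_of_mem _ hx)
  simpa using h3

section

variable {A B C : Type u} [CommRing A] [CommRing B] [CommRing C] [Algebra A B] [Algebra A C]

/-- The invariant of the inductive construction. -/
def LiftInv (𝔟 : Ideal B) (𝔠 J : Ideal C) (u : B →ₐ[A] C ⧸ J) (n : ℕ) (v : B →ₐ[A] C ⧸ 𝔠 ^ n) :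
    Prop :=
  (Ideal.Quotient.factorₐ A (le_sup_right : 𝔠 ^ n ≤ J ⊔ 𝔠 ^ n)).comp v =
    (Ideal.Quotient.factorₐ A (le_sup_left : J ≤ J ⊔ 𝔠 ^ n)).comp u ∧
  ∃ k : ℕ, ∀ x ∈ 𝔟 ^ k, v x = 0

theorem lift_step {𝔞 : Ideal A} {𝔟 : Ideal B} (hB : EGA41.IsFormallySmoothAdic A 𝔞 B 𝔟)
    (𝔠 J : Ideal C) (u : B →ₐ[A] C ⧸ J)
    (hAC : ∃ k : ℕ, (𝔞 ^ k).map (algebraMap A C) ≤ 𝔠) (hJ : ∃ t : ℕ, J ^ t ≤ 𝔠)
    (hu : ∃ k : ℕ, (𝔟 ^ k).map u.toRingHom ≤ 𝔠.map (Ideal.Quotient.mk J))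
    (n : ℕ) (v : B →ₐ[A] C ⧸ 𝔠 ^ n) (hv : LiftInv 𝔟 𝔠 J u n v) :
    ∃ v' : B →ₐ[A] C ⧸ 𝔠 ^ (n + 1),
      (Ideal.Quotient.factorₐ A (Ideal.pow_le_pow_right n.le_succ)).comp v' = v ∧
        LiftInv 𝔟 𝔠 J u (n + 1) v' := by
  classical
  obtain ⟨hv1, k₁, hk₁⟩ := hv
  -- the fibre product
  obtain ⟨f₁, hf₁⟩ : ∃ f₁ : (C ⧸ 𝔠 ^ n) × (C ⧸ (J ⊔ 𝔠 ^ (n + 1))) →ₐ[A] C ⧸ (J ⊔ 𝔠 ^ n),
      f₁ = (Ideal.Quotient.factorₐ A (le_sup_right : 𝔠 ^ n ≤ J ⊔ 𝔠 ^ n)).comp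
        (AlgHom.fst A _ _) := ⟨_, rfl⟩
  obtain ⟨f₂, hf₂⟩ : ∃ f₂ : (C ⧸ 𝔠 ^ n) × (C ⧸ (J ⊔ 𝔠 ^ (n + 1))) →ₐ[A] C ⧸ (J ⊔ 𝔠 ^ n),
      f₂ = (Ideal.Quotient.factorₐ A
        (sup_le_sup_left (Ideal.pow_le_pow_right n.le_succ) J :
          J ⊔ 𝔠 ^ (n + 1) ≤ J ⊔ 𝔠 ^ n)).comp (AlgHom.snd A _ _) := ⟨_, rfl⟩
  -- the projection from `C ⧸ 𝔠 ^ (n+1)`
  have hπmem : ∀ x : C ⧸ 𝔠 ^ (n + 1),
      ((Ideal.Quotient.factorₐ A (Ideal.pow_le_pow_right n.le_succ :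
          𝔠 ^ (n + 1) ≤ 𝔠 ^ n)).prod
        (Ideal.Quotient.factorₐ A (le_sup_right : 𝔠 ^ (n + 1) ≤ J ⊔ 𝔠 ^ (n + 1)))) x ∈
        AlgHom.equalizer f₁ f₂ := by
    intro x
    obtain ⟨c, rfl⟩ := Ideal.Quotient.mk_surjective x
    rw [AlgHom.mem_equalizer, hf₁, hf₂]
    rfl
  obtain ⟨π, hπ⟩ : ∃ π : (C ⧸ 𝔠 ^ (n + 1)) →ₐ[A] AlgHom.equalizer f₁ f₂,
      π = AlgHom.codRestrict _ (AlgHom.equalizer f₁ f₂) hπmem := ⟨_, rfl⟩
  have hπ1 : ∀ x, ((π x : (C ⧸ 𝔠 ^ n) × (C ⧸ (J ⊔ 𝔠 ^ (n + 1))))).1 =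
      Ideal.Quotient.factorₐ A (Ideal.pow_le_pow_right n.le_succ : 𝔠 ^ (n + 1) ≤ 𝔠 ^ n) x := by
    intro x; rw [hπ]; rfl
  have hπ2 : ∀ x, ((π x : (C ⧸ 𝔠 ^ n) × (C ⧸ (J ⊔ 𝔠 ^ (n + 1))))).2 =
      Ideal.Quotient.factorₐ A (le_sup_right : 𝔠 ^ (n + 1) ≤ J ⊔ 𝔠 ^ (n + 1)) x := by
    intro x; rw [hπ]; rfl
  -- surjectivity
  have hπsurj : Function.Surjective π := by
    rintro ⟨⟨x, y⟩, hxy⟩
    obtain ⟨c, rfl⟩ := Ideal.Quotient.mk_surjective x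
    obtain ⟨d, rfl⟩ := Ideal.Quotient.mk_surjective y
    rw [AlgHom.mem_equalizer, hf₁, hf₂] at hxy
    have h1 : Ideal.Quotient.mk (J ⊔ 𝔠 ^ n) c = Ideal.Quotient.mk (J ⊔ 𝔠 ^ n) d := hxy
    rw [Ideal.Quotient.eq] at h1
    obtain ⟨j, hj, e, he, hje⟩ := Submodule.mem_sup.mp h1
    refine ⟨Ideal.Quotient.mk _ (c - e), Subtype.ext (Prod.ext ?_ ?_)⟩
    · rw [hπ1]
      change Ideal.Quotient.mk (𝔠 ^ n) (c - e) = Ideal.Quotient.mk (𝔠 ^ n) c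
      rw [Ideal.Quotient.eq]
      have : c - e - c = -e := by ring
      rw [this]
      exact neg_mem he
    · rw [hπ2]
      change Ideal.Quotient.mk (J ⊔ 𝔠 ^ (n + 1)) (c - e) = Ideal.Quotient.mk (J ⊔ 𝔠 ^ (n + 1)) d
      rw [Ideal.Quotient.eq]
      have : c - e - d = j := by
        have h9 : c - d = j + e := hje.symm
        linear_combination h9
      rw [this]
      exact Ideal.mem_sup_left hj
  -- the kernel
  have hker1 : RingHom.ker π ≤ (𝔠 ^ n).map (Ideal.Quotient.mk (𝔠 ^ (n + 1))) := by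
    intro x hx
    obtain ⟨c, rfl⟩ := Ideal.Quotient.mk_surjective x
    rw [RingHom.mem_ker] at hx
    have h1 := hπ1 (Ideal.Quotient.mk _ c)
    rw [hx] at h1
    have h2 : Ideal.Quotient.mk (𝔠 ^ n) c = 0 := h1.symm
    exact Ideal.mem_map_of_mem _ (Ideal.Quotient.eq_zero_iff_mem.mp h2)
  have hker2 : RingHom.ker π ≤ (J ⊔ 𝔠 ^ (n + 1)).map (Ideal.Quotient.mk (𝔠 ^ (n + 1))) := by
    intro x hx
    obtain ⟨c, rfl⟩ := Ideal.Quotient.mk_surjective x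
    rw [RingHom.mem_ker] at hx
    have h1 := hπ2 (Ideal.Quotient.mk _ c)
    rw [hx] at h1
    have h2 : Ideal.Quotient.mk (J ⊔ 𝔠 ^ (n + 1)) c = 0 := h1.symm
    exact Ideal.mem_map_of_mem _ (Ideal.Quotient.eq_zero_iff_mem.mp h2)
  have hnil : IsNilpotent (RingHom.ker π) := by
    obtain ⟨t, ht⟩ := hJ
    rcases Nat.eq_zero_or_pos n with h0 | hpos
    · refine ⟨t + 1, ?_⟩
      rw [Ideal.zero_eq_bot, ← le_bot_iff]
      calc RingHom.ker π ^ (t + 1)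
          ≤ ((J ⊔ 𝔠 ^ (n + 1)).map (Ideal.Quotient.mk (𝔠 ^ (n + 1)))) ^ (t + 1) :=
            Ideal.pow_right_mono hker2 _
        _ = ((J ⊔ 𝔠 ^ (n + 1)) ^ (t + 1)).map (Ideal.Quotient.mk (𝔠 ^ (n + 1))) :=
            (Ideal.map_pow _ _ (t + 1)).symm
        _ ≤ (J ^ t ⊔ (𝔠 ^ (n + 1)) ^ 1).map (Ideal.Quotient.mk (𝔠 ^ (n + 1))) :=
            Ideal.map_mono Ideal.sup_pow_add_le_pow_sup_pow
        _ = ⊥ := by
            apply Ideal.map_mk_eq_bot_of_le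
            rw [pow_one]
            refine sup_le ?_ le_rfl
            subst h0
            rw [zero_add, pow_one]
            exact ht
    · refine ⟨2, ?_⟩
      rw [Ideal.zero_eq_bot, ← le_bot_iff]
      calc RingHom.ker π ^ 2
          ≤ ((𝔠 ^ n).map (Ideal.Quotient.mk (𝔠 ^ (n + 1)))) ^ 2 :=
            Ideal.pow_right_mono hker1 _
        _ = ((𝔠 ^ n) ^ 2).map (Ideal.Quotient.mk (𝔠 ^ (n + 1))) :=
            (Ideal.map_pow _ _ 2).symm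
        _ = ⊥ := by
            apply Ideal.map_mk_eq_bot_of_le
            rw [← pow_mul]
            exact Ideal.pow_le_pow_right (by omega)
  -- discreteness
  have hC : ∃ K : ℕ, (𝔞 ^ K).map (algebraMap A (C ⧸ 𝔠 ^ (n + 1))) = ⊥ := by
    obtain ⟨k, hk⟩ := hAC
    refine ⟨k * (n + 1), ?_⟩
    rw [Ideal.map_eq_bot_iff_le_ker]
    intro a ha
    rw [RingHom.mem_ker]
    change Ideal.Quotient.mk (𝔠 ^ (n + 1)) (algebraMap A C a) = 0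
    rw [Ideal.Quotient.eq_zero_iff_mem]
    have h1 : algebraMap A C a ∈ (𝔞 ^ (k * (n + 1))).map (algebraMap A C) :=
      Ideal.mem_map_of_mem _ ha
    rw [pow_mul, Ideal.map_pow] at h1
    exact Ideal.pow_right_mono hk _ h1
  -- the map into the fibre product
  have hwmem : ∀ b : B,
      (v.prod ((Ideal.Quotient.factorₐ A (le_sup_left : J ≤ J ⊔ 𝔠 ^ (n + 1))).comp u)) b ∈
        AlgHom.equalizer f₁ f₂ := by
    intro b
    rw [AlgHom.mem_equalizer, hf₁, hf₂]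
    have h1 := congrArg (fun g => g b) hv1
    simp only [AlgHom.comp_apply] at h1
    change Ideal.Quotient.factorₐ A (le_sup_right : 𝔠 ^ n ≤ J ⊔ 𝔠 ^ n) (v b) =
      Ideal.Quotient.factorₐ A (sup_le_sup_left (Ideal.pow_le_pow_right n.le_succ) J :
          J ⊔ 𝔠 ^ (n + 1) ≤ J ⊔ 𝔠 ^ n)
        (Ideal.Quotient.factorₐ A (le_sup_left : J ≤ J ⊔ 𝔠 ^ (n + 1)) (u b))
    rw [h1]
    obtain ⟨c, hc⟩ := Ideal.Quotient.mk_surjective (u b)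
    rw [← hc]
    rfl
  obtain ⟨w, hw⟩ : ∃ w : B →ₐ[A] AlgHom.equalizer f₁ f₂,
      w = AlgHom.codRestrict _ (AlgHom.equalizer f₁ f₂) hwmem := ⟨_, rfl⟩
  have hw1 : ∀ b, ((w b : (C ⧸ 𝔠 ^ n) × (C ⧸ (J ⊔ 𝔠 ^ (n + 1))))).1 = v b := by
    intro b; rw [hw]; rfl
  have hw2 : ∀ b, ((w b : (C ⧸ 𝔠 ^ n) × (C ⧸ (J ⊔ 𝔠 ^ (n + 1))))).2 =
      Ideal.Quotient.factorₐ A (le_sup_left : J ≤ J ⊔ 𝔠 ^ (n + 1)) (u b) := by
    intro b; rw [hw]; rfl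
  have hwk : ∃ K : ℕ, ∀ x ∈ 𝔟 ^ K, w x = 0 := by
    obtain ⟨k₂, hk₂⟩ := hu
    refine ⟨k₁ + k₂ * (n + 1), fun x hx => Subtype.ext (Prod.ext ?_ ?_)⟩
    · rw [hw1]
      exact hk₁ x (Ideal.pow_le_pow_right (Nat.le_add_right _ _) hx)
    · rw [hw2]
      have hx2 : x ∈ 𝔟 ^ (k₂ * (n + 1)) := Ideal.pow_le_pow_right (Nat.le_add_left _ _) hx
      have h1 : u.toRingHom x ∈ (𝔟 ^ (k₂ * (n + 1))).map u.toRingHom :=
        Ideal.mem_map_of_mem _ hx2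
      rw [pow_mul, Ideal.map_pow] at h1
      have h2 := Ideal.pow_right_mono hk₂ (n + 1) h1
      rw [← Ideal.map_pow] at h2
      obtain ⟨c, hc, hcx⟩ :=
        (Ideal.mem_map_iff_of_surjective _ Ideal.Quotient.mk_surjective).mp h2
      have h3 : u x = Ideal.Quotient.mk J c := hcx.symm
      rw [h3]
      change Ideal.Quotient.mk (J ⊔ 𝔠 ^ (n + 1)) c = 0
      rw [Ideal.Quotient.eq_zero_iff_mem]
      exact Ideal.mem_sup_right hc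
  obtain ⟨v', hv', hv'k⟩ := fsAdic_lift_of_surjective' hB π hπsurj hnil hC w hwk
  have hv'b : ∀ b, π (v' b) = w b := fun b => congrArg (fun g => g b) hv'
  refine ⟨v', ?_, ?_, hv'k⟩
  · ext b
    rw [AlgHom.comp_apply, ← hπ1, hv'b, hw1]
  · ext b
    rw [AlgHom.comp_apply, AlgHom.comp_apply, ← hπ2, hv'b, hw2]

theorem lift_complete {𝔞 : Ideal A} {𝔟 : Ideal B} (hB : EGA41.IsFormallySmoothAdic A 𝔞 B 𝔟)
    (𝔠 : Ideal C) [IsAdicComplete 𝔠 C] (hAC : ∃ k : ℕ, (𝔞 ^ k).map (algebraMap A C) ≤ 𝔠)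
    (J : Ideal C) (hJ : ∃ t : ℕ, J ^ t ≤ 𝔠) [IsHausdorff (𝔠.map (Ideal.Quotient.mk J)) (C ⧸ J)]
    (u : B →ₐ[A] C ⧸ J) (hu : ∃ k : ℕ, (𝔟 ^ k).map u.toRingHom ≤ 𝔠.map (Ideal.Quotient.mk J)) :
    ∃ v : B →ₐ[A] C, (∃ k : ℕ, (𝔟 ^ k).map v.toRingHom ≤ 𝔠) ∧
      (Ideal.Quotient.mkₐ A J).comp v = u := by
  classical
  -- base of the induction
  have hss0 : Subsingleton (C ⧸ 𝔠 ^ 0) :=
    Ideal.Quotient.subsingleton_iff.mpr (by rw [pow_zero, Ideal.one_eq_top])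
  have hss0' : Subsingleton (C ⧸ (J ⊔ 𝔠 ^ 0)) :=
    Ideal.Quotient.subsingleton_iff.mpr (by rw [pow_zero, Ideal.one_eq_top, sup_top_eq])
  let v₀ : B →ₐ[A] C ⧸ 𝔠 ^ 0 :=
    { toFun := fun _ => 0
      map_one' := Subsingleton.elim _ _
      map_mul' := fun _ _ => Subsingleton.elim _ _
      map_zero' := rfl
      map_add' := fun _ _ => Subsingleton.elim _ _
      commutes' := fun _ => Subsingleton.elim _ _ }
  have hv₀ : LiftInv 𝔟 𝔠 J u 0 v₀ :=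
    ⟨AlgHom.ext fun b => Subsingleton.elim _ _, 0, fun x _ => Subsingleton.elim _ _⟩
  let s : ∀ n : ℕ, {v : B →ₐ[A] C ⧸ 𝔠 ^ n // LiftInv 𝔟 𝔠 J u n v} := fun n =>
    Nat.rec (motive := fun n => {v : B →ₐ[A] C ⧸ 𝔠 ^ n // LiftInv 𝔟 𝔠 J u n v}) ⟨v₀, hv₀⟩
      (fun n p => ⟨Classical.choose (lift_step hB 𝔠 J u hAC hJ hu n p.1 p.2),
        (Classical.choose_spec (lift_step hB 𝔠 J u hAC hJ hu n p.1 p.2)).2⟩) n
  have hs : ∀ n, (Ideal.Quotient.factorₐ A (Ideal.pow_le_pow_right n.le_succ)).comp (s (n + 1)).1 =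
      (s n).1 := fun n =>
    (Classical.choose_spec (lift_step hB 𝔠 J u hAC hJ hu n (s n).1 (s n).2)).1
  have hcompat : ∀ m n (hle : m ≤ n),
      (Ideal.Quotient.factorₐ A (Ideal.pow_le_pow_right hle)).comp (s n).1 = (s m).1 := by
    intro m n hle
    induction n, hle using Nat.le_induction with
    | base =>
      ext b
      rw [AlgHom.comp_apply]
      obtain ⟨c, hc⟩ := Ideal.Quotient.mk_surjective ((s m).1 b)
      rw [← hc]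
      rfl
    | succ n hmn ih =>
      ext b
      have h1 := congrArg (fun g => g b) (hs n)
      have h2 := congrArg (fun g => g b) ih
      simp only [AlgHom.comp_apply] at h1 h2 ⊢
      rw [← h2, ← h1]
      obtain ⟨c, hc⟩ := Ideal.Quotient.mk_surjective ((s (n + 1)).1 b)
      rw [← hc]
      rfl
  obtain ⟨vlim, hvlim⟩ : ∃ vlim : B →ₐ[A] C, vlim =
      IsAdicComplete.liftAlgHom 𝔠 (fun n => (s n).1) (fun hle => hcompat _ _ hle) := ⟨_, rfl⟩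
  have hmk : ∀ n b, Ideal.Quotient.mk (𝔠 ^ n) (vlim b) = (s n).1 b := by
    intro n b
    rw [hvlim]
    exact IsAdicComplete.mk_liftAlgHom 𝔠 (fun n => (s n).1) (fun hle => hcompat _ _ hle) n b
  refine ⟨vlim, ?_, ?_⟩
  · obtain ⟨K, hK⟩ := (s 1).2.2
    refine ⟨K, ?_⟩
    rw [Ideal.map_le_iff_le_comap]
    intro x hx
    rw [Ideal.mem_comap]
    have h1 := hmk 1 x
    rw [hK x hx, Ideal.Quotient.eq_zero_iff_mem, pow_one] at h1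
    exact h1
  · ext b
    rw [AlgHom.comp_apply]
    change Ideal.Quotient.mk J (vlim b) = u b
    rw [← sub_eq_zero]
    apply IsHausdorff.haus' (I := 𝔠.map (Ideal.Quotient.mk J))
    intro n
    rw [SModEq.zero, smul_eq_mul, Ideal.mul_top]
    obtain ⟨c, hc⟩ := Ideal.Quotient.mk_surjective (u b)
    have h1 := congrArg (fun g => g b) (s n).2.1
    simp only [AlgHom.comp_apply] at h1
    rw [← hmk n b, ← hc] at h1
    have h2 : Ideal.Quotient.mk (J ⊔ 𝔠 ^ n) (vlim b) = Ideal.Quotient.mk (J ⊔ 𝔠 ^ n) c := h1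
    rw [Ideal.Quotient.eq] at h2
    obtain ⟨j, hj, e, he, hje⟩ := Submodule.mem_sup.mp h2
    have h3 : Ideal.Quotient.mk J (vlim b) - u b = Ideal.Quotient.mk J e := by
      rw [← hc, ← map_sub, ← hje, map_add, Ideal.Quotient.eq_zero_iff_mem.mpr hj, zero_add]
    rw [h3, ← Ideal.map_pow]
    exact Ideal.mem_map_of_mem _ he

end

end Groth.Agent.Helper4
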