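import Mathlib
import Groth.Prelude.Def_EGA41
import Groth.Agent.Lib.Helper4.FSAdicCompl

/-!
# Continuous algebra maps out of power series rings (finitely many variables)
-/

set_option autoImplicit false
universe u

namespace Groth.Agent.Helper4.PSG

open MvPowerSeries

section

variable (A : Type u) [CommRing A] (σ : Type*) [Finite σ]

theorem algebraMap_poly_ps (p : MvPolynomial σ A) :
    algebraMap (MvPolynomial σ A) (MvPowerSeries σ A) p = (p : MvPowerSeries σ A) := by
  rw [MvPowerSeries.algebraMap_apply', Algebra.algebraMap_self, MvPowerSeries.map_id]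
  rfl

/-- A power series whose coefficients of degree `< m` vanish lies in the `m`-th power of the ideal
generated by the variables. -/
theorem tail_mem (m : ℕ) (f : MvPowerSeries σ A)
    (hf : ∀ x : σ →₀ ℕ, x.degree < m → MvPowerSeries.coeff x f = 0) :
    f ∈ (Ideal.span (Set.range (MvPowerSeries.X : σ → MvPowerSeries σ A))) ^ m := by
  have h0 : MvPowerSeries.truncTotal m f = 0 := by
    ext x
    rw [MvPowerSeries.coeff_truncTotal_eq_ite, MvPolynomial.coeff_zero]
    split_ifs with h
    · exact hf x h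
    · rfl
  have h1 : AdicCompletion.evalₐ (MvPolynomial.idealOfVars σ A) m
      (MvPowerSeries.toAdicCompletionAlgEquiv σ A f) = 0 := by
    rw [MvPowerSeries.toAdicCompletionAlgEquiv_apply]
    have h := AdicCompletion.evalₐ_liftAlgHom (MvPolynomial.idealOfVars σ A)
      (MvPowerSeries.truncTotalAlgHom σ A)
      (fun h ↦ AlgHom.ext fun _ ↦ by
        simpa [Ideal.Quotient.mk_eq_mk_iff_sub_mem] using
          MvPowerSeries.truncTotal_sub_truncTotal_mem_pow_idealOfVars h (le_refl _) _) m f
    rw [MvPowerSeries.truncTotalAlgHom_apply, h0, map_zero] at h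
    exact h
  have h2 := mem_map_of_evalₐ_eq_zero (MvPolynomial.idealOfVars σ A)
    (MvPolynomial.idealOfVars_fg σ A) m _ h1
  have h3 : (MvPowerSeries.toAdicCompletionAlgEquiv σ A).symm
      (MvPowerSeries.toAdicCompletionAlgEquiv σ A f) ∈
      ((MvPolynomial.idealOfVars σ A ^ m).map (algebraMap (MvPolynomial σ A)
        (AdicCompletion (MvPolynomial.idealOfVars σ A) (MvPolynomial σ A)))).map
        ((MvPowerSeries.toAdicCompletionAlgEquiv σ A).symm :
          AdicCompletion (MvPolynomial.idealOfVars σ A) (MvPolynomial σ A) →+*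
            MvPowerSeries σ A) :=
    Ideal.mem_map_of_mem _ h2
  rw [AlgEquiv.symm_apply_apply, Ideal.map_map] at h3
  have h4 : ((MvPowerSeries.toAdicCompletionAlgEquiv σ A).symm :
      AdicCompletion (MvPolynomial.idealOfVars σ A) (MvPolynomial σ A) →+*
        MvPowerSeries σ A).comp (algebraMap (MvPolynomial σ A)
        (AdicCompletion (MvPolynomial.idealOfVars σ A) (MvPolynomial σ A))) =
      algebraMap (MvPolynomial σ A) (MvPowerSeries σ A) := by
    exact RingHom.ext fun p => (MvPowerSeries.toAdicCompletionAlgEquiv σ A).symm.commutes p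
  rw [h4, Ideal.map_pow, Ideal.map_span, ← Set.range_comp] at h3
  have h5 : (⇑(algebraMap (MvPolynomial σ A) (MvPowerSeries σ A)) ∘
      (MvPolynomial.X : σ → MvPolynomial σ A)) =
      (MvPowerSeries.X : σ → MvPowerSeries σ A) := by
    funext i
    rw [Function.comp_apply, algebraMap_poly_ps, MvPolynomial.coe_X]
  rw [h5] at h3
  exact h3

variable {A σ}
variable {E : Type*} [CommRing E] [Algebra A E]

/-- Uniqueness of continuous maps with prescribed values on the variables. -/
theorem psAlgHom_ext (𝔞 : Ideal A) (g g' : MvPowerSeries σ A →ₐ[A] E) (m m' : ℕ)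
    (hg : ∀ x ∈ (𝔞.map (MvPowerSeries.C : A →+* MvPowerSeries σ A) ⊔
        RingHom.ker (MvPowerSeries.constantCoeff : MvPowerSeries σ A →+* A)) ^ m, g x = 0)
    (hg' : ∀ x ∈ (𝔞.map (MvPowerSeries.C : A →+* MvPowerSeries σ A) ⊔
        RingHom.ker (MvPowerSeries.constantCoeff : MvPowerSeries σ A →+* A)) ^ m', g' x = 0)
    (h : ∀ i, g (MvPowerSeries.X i) = g' (MvPowerSeries.X i)) : g = g' := by
  have hX : Ideal.span (Set.range (MvPowerSeries.X : σ → MvPowerSeries σ A)) ≤
      𝔞.map (MvPowerSeries.C : A →+* MvPowerSeries σ A) ⊔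
        RingHom.ker (MvPowerSeries.constantCoeff : MvPowerSeries σ A →+* A) := by
    rw [Ideal.span_le]
    rintro _ ⟨i, rfl⟩
    apply Ideal.mem_sup_right
    rw [RingHom.mem_ker, MvPowerSeries.constantCoeff_X]
  have hpoly : g.comp (MvPolynomial.coeToMvPowerSeries.algHom A) =
      g'.comp (MvPolynomial.coeToMvPowerSeries.algHom A) := by
    apply MvPolynomial.algHom_ext
    intro i
    have h1 : (MvPolynomial.coeToMvPowerSeries.algHom A) (MvPolynomial.X i : MvPolynomial σ A) =
        (MvPowerSeries.X i : MvPowerSeries σ A) := by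
      rw [MvPolynomial.coeToMvPowerSeries.algHom_apply, Algebra.algebraMap_self,
        MvPowerSeries.map_id, RingHom.id_apply, MvPolynomial.coe_X]
    rw [AlgHom.comp_apply, AlgHom.comp_apply, h1, h]
  ext f
  have htail : f - ((MvPowerSeries.truncTotal (m + m') f : MvPolynomial σ A) :
      MvPowerSeries σ A) ∈
      (Ideal.span (Set.range (MvPowerSeries.X : σ → MvPowerSeries σ A))) ^ (m + m') := by
    apply tail_mem
    intro x hx
    rw [map_sub, MvPolynomial.coeff_coe, MvPowerSeries.coeff_truncTotal _ hx, sub_self]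
  have h1 := hg _ (Ideal.pow_le_pow_right (Nat.le_add_right m m') (Ideal.pow_right_mono hX _ htail))
  have h2 := hg' _ (Ideal.pow_le_pow_right (Nat.le_add_left m' m) (Ideal.pow_right_mono hX _ htail))
  rw [map_sub, sub_eq_zero] at h1 h2
  have h3 := congrArg (fun w => w (MvPowerSeries.truncTotal (m + m') f)) hpoly
  simp only [AlgHom.comp_apply, MvPolynomial.coeToMvPowerSeries.algHom_apply,
    Algebra.algebraMap_self, MvPowerSeries.map_id, RingHom.id_apply] at h3
  rw [h1, h2, h3]

/-- Existence of the evaluation at nilpotent elements. -/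
theorem exists_psAlgHom (𝔞 : Ideal A) (hE : ∃ k : ℕ, (𝔞 ^ k).map (algebraMap A E) = ⊥)
    (z : σ → E) (hz : ∀ i, IsNilpotent (z i)) :
    ∃ g : MvPowerSeries σ A →ₐ[A] E,
      (∃ m : ℕ, ∀ x ∈ (𝔞.map (MvPowerSeries.C : A →+* MvPowerSeries σ A) ⊔
        RingHom.ker (MvPowerSeries.constantCoeff : MvPowerSeries σ A →+* A)) ^ m, g x = 0) ∧
      ∀ i, g (MvPowerSeries.X i) = z i := by
  classical
  obtain ⟨k, hk⟩ := hE
  -- the ideal generated by the `z i` is nilpotent
  have hZnil : IsNilpotent (Ideal.span (Set.range z)) := by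
    rw [Ideal.FG.isNilpotent_iff_le_nilradical (Submodule.fg_span (Set.finite_range z)),
      Ideal.span_le]
    rintro _ ⟨i, rfl⟩
    exact (mem_nilradical).mpr (hz i)
  obtain ⟨M', hM'⟩ := hZnil
  rw [Ideal.zero_eq_bot] at hM'
  have hM : Ideal.span (Set.range z) ^ (M' + 1) = ⊥ := by
    rw [pow_succ, hM', Ideal.bot_mul]
  have hmapI : (MvPolynomial.idealOfVars σ A).map (MvPolynomial.aeval z : MvPolynomial σ A →ₐ[A] E).toRingHom =
      Ideal.span (Set.range z) := by
    rw [Ideal.map_span, ← Set.range_comp]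
    congr 2
    funext i
    simp
  have hkillI : ∀ p ∈ MvPolynomial.idealOfVars σ A ^ (M' + 1),
      (MvPolynomial.aeval z : MvPolynomial σ A →ₐ[A] E).toRingHom p = 0 := by
    intro p hp
    have h1 := Ideal.mem_map_of_mem (MvPolynomial.aeval z : MvPolynomial σ A →ₐ[A] E).toRingHom hp
    rw [Ideal.map_pow, hmapI, hM] at h1
    exact h1
  obtain ⟨g₀, hg₀⟩ : ∃ g₀ : MvPowerSeries σ A →+* E, g₀ =
      (Ideal.Quotient.lift (MvPolynomial.idealOfVars σ A ^ (M' + 1))
        (MvPolynomial.aeval z : MvPolynomial σ A →ₐ[A] E).toRingHom hkillI).comp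
        (MvPowerSeries.truncTotalAlgHom σ A (M' + 1)).toRingHom := ⟨_, rfl⟩
  have hg₀apply : ∀ f, g₀ f = MvPolynomial.aeval z (MvPowerSeries.truncTotal (M' + 1) f) := by
    intro f
    rw [hg₀]
    rfl
  have hg₀poly : ∀ p : MvPolynomial σ A,
      g₀ (algebraMap (MvPolynomial σ A) (MvPowerSeries σ A) p) = MvPolynomial.aeval z p := by
    intro p
    rw [hg₀]
    change Ideal.Quotient.lift _ _ hkillI
      ((MvPowerSeries.truncTotalAlgHom σ A (M' + 1)) (algebraMap _ _ p)) = _
    rw [AlgHom.commutes]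
    rfl
  have hg₀C : ∀ a : A, g₀ (algebraMap A (MvPowerSeries σ A) a) = algebraMap A E a := by
    intro a
    have h1 : algebraMap A (MvPowerSeries σ A) a =
        algebraMap (MvPolynomial σ A) (MvPowerSeries σ A) (MvPolynomial.C a) := by
      rw [algebraMap_poly_ps, MvPolynomial.coe_C, MvPowerSeries.c_eq_algebraMap]
    rw [h1, hg₀poly, MvPolynomial.aeval_C]
  obtain ⟨g, hg⟩ : ∃ g : MvPowerSeries σ A →ₐ[A] E, ∀ f, g f = g₀ f :=
    ⟨{ toRingHom := g₀, commutes' := hg₀C }, fun f => rfl⟩
  have hgX : ∀ i, g (MvPowerSeries.X i) = z i := by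
    intro i
    have h1 : (MvPowerSeries.X i : MvPowerSeries σ A) =
        algebraMap (MvPolynomial σ A) (MvPowerSeries σ A) (MvPolynomial.X i) := by
      rw [algebraMap_poly_ps, MvPolynomial.coe_X]
    rw [hg, h1, hg₀poly, MvPolynomial.aeval_X]
  refine ⟨g, ⟨k + (M' + 1), ?_⟩, hgX⟩
  -- the image of the ideal of definition lies in a nilpotent ideal
  have hmapB : (𝔞.map (MvPowerSeries.C : A →+* MvPowerSeries σ A) ⊔
      RingHom.ker (MvPowerSeries.constantCoeff : MvPowerSeries σ A →+* A)).map g.toRingHom ≤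
      𝔞.map (algebraMap A E) ⊔ Ideal.span (Set.range z) := by
    rw [Ideal.map_sup]
    apply sup_le_sup
    · rw [Ideal.map_map]
      have h1 : g.toRingHom.comp (MvPowerSeries.C : A →+* MvPowerSeries σ A) =
          algebraMap A E := by
        ext a
        rw [RingHom.comp_apply, MvPowerSeries.c_eq_algebraMap]
        exact g.commutes a
      rw [h1]
    · rw [Ideal.map_le_iff_le_comap]
      intro f hf
      rw [RingHom.mem_ker] at hf
      rw [Ideal.mem_comap]
      change g f ∈ _
      rw [hg, hg₀apply, ← hmapI]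
      apply Ideal.mem_map_of_mem
      have h1 : MvPowerSeries.truncTotal (M' + 1) f ∈ MvPolynomial.idealOfVars σ A ^ 1 := by
        rw [MvPolynomial.mem_pow_idealOfVars_iff']
        intro x hx
        have hx0 : x = 0 := by
          rw [← Finsupp.degree_eq_zero_iff]
          omega
        rw [hx0, MvPowerSeries.coeff_truncTotal _ (by simp)]
        exact hf
      rw [pow_one] at h1
      exact h1
  have hnil : (𝔞.map (algebraMap A E) ⊔ Ideal.span (Set.range z)) ^ (k + (M' + 1)) = ⊥ := by
    rw [← le_bot_iff]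
    calc _ ≤ (𝔞.map (algebraMap A E)) ^ k ⊔ Ideal.span (Set.range z) ^ (M' + 1) :=
          Ideal.sup_pow_add_le_pow_sup_pow
      _ = ⊥ := by rw [← Ideal.map_pow, hk, hM, sup_bot_eq]
  intro x hx
  have h1 : g.toRingHom x ∈ ((𝔞.map (MvPowerSeries.C : A →+* MvPowerSeries σ A) ⊔
      RingHom.ker (MvPowerSeries.constantCoeff : MvPowerSeries σ A →+* A)) ^
        (k + (M' + 1))).map g.toRingHom := Ideal.mem_map_of_mem _ hx
  rw [Ideal.map_pow] at h1
  have h2 := Ideal.pow_right_mono hmapB (k + (M' + 1)) h1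
  rw [hnil] at h2
  exact h2

end

end Groth.Agent.Helper4.PSG
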