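import Mathlib
import Groth.Agent.Lib.Helper4.PSEvalG

/-!
# Complete discrete valuation rings with a coefficient field are power series rings
-/

set_option autoImplicit false
universe u v

namespace Groth.Agent.Helper4

open IsLocalRing

section

variable (K : Type u) (A : Type v) [CommRing K] [CommRing A] [Algebra K A]

/-- A `K`-algebra map out of `K[[X]]` into an adically complete `K`-algebra with prescribed
topologically nilpotent value on `X`. -/
theorem exists_powerSeries_algHom_of_complete (I : Ideal A) [IsAdicComplete I A] (x : A)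
    (hx : x ∈ I) : ∃ φ : PowerSeries K →ₐ[K] A, φ PowerSeries.X = x := by
  classical
  have hex : ∀ n : ℕ, ∃ g : MvPowerSeries Unit K →ₐ[K] A ⧸ I ^ n,
      (∃ m : ℕ, ∀ y ∈ ((⊥ : Ideal K).map (MvPowerSeries.C : K →+* MvPowerSeries Unit K) ⊔
        RingHom.ker (MvPowerSeries.constantCoeff : MvPowerSeries Unit K →+* K)) ^ m, g y = 0) ∧
      ∀ i, g (MvPowerSeries.X i) = Ideal.Quotient.mk (I ^ n) x := by
    intro n
    apply PSG.exists_psAlgHom (⊥ : Ideal K) ⟨1, by rw [pow_one, Ideal.map_bot]⟩
      (fun _ => Ideal.Quotient.mk (I ^ n) x)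
    intro _
    refine ⟨n, ?_⟩
    rw [← map_pow, Ideal.Quotient.eq_zero_iff_mem]
    exact Ideal.pow_mem_pow hx n
  choose g hgkill hgX using hex
  have hcompat : ∀ {m n : ℕ} (hle : m ≤ n),
      (Ideal.Quotient.factorₐ K (Ideal.pow_le_pow_right hle)).comp (g n) = g m := by
    intro m n hle
    obtain ⟨k1, hk1⟩ := hgkill n
    obtain ⟨k2, hk2⟩ := hgkill m
    apply PSG.psAlgHom_ext (⊥ : Ideal K) _ _ k1 k2 _ hk2
    · intro i
      rw [AlgHom.comp_apply, hgX, hgX]
      rfl
    · intro y hy
      rw [AlgHom.comp_apply, hk1 y hy, map_zero]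
  refine ⟨IsAdicComplete.liftAlgHom I g hcompat, ?_⟩
  have h1 : ∀ n, Ideal.Quotient.mk (I ^ n)
      (IsAdicComplete.liftAlgHom I g hcompat (MvPowerSeries.X ())) =
      Ideal.Quotient.mk (I ^ n) x := by
    intro n
    rw [IsAdicComplete.mk_liftAlgHom]
    exact hgX n ()
  rw [← sub_eq_zero]
  apply IsHausdorff.haus (inferInstance : IsHausdorff I A)
  intro n
  rw [SModEq.zero, smul_eq_mul, Ideal.mul_top, ← Ideal.Quotient.eq_zero_iff_mem, map_sub,
    sub_eq_zero]
  exact h1 n

variable {K A}

/-- Truncation estimate. -/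
theorem powerSeries_algHom_approx (I : Ideal A) (x : A) (hx : x ∈ I)
    (φ : PowerSeries K →ₐ[K] A) (hφ : φ PowerSeries.X = x) (f : PowerSeries K) (n : ℕ) :
    φ f - (Finset.range n).sum (fun i => algebraMap K A (PowerSeries.coeff i f) * x ^ i) ∈
      I ^ n := by
  classical
  obtain ⟨q, hq⟩ : ∃ q : PowerSeries K, q = (Finset.range n).sum
      (fun i => PowerSeries.C (PowerSeries.coeff i f) * PowerSeries.X ^ i) := ⟨_, rfl⟩
  have hφq : φ q = (Finset.range n).sum
      (fun i => algebraMap K A (PowerSeries.coeff i f) * x ^ i) := by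
    rw [hq, map_sum]
    apply Finset.sum_congr rfl
    intro i _
    rw [map_mul, map_pow, hφ, ← PowerSeries.algebraMap_eq, φ.commutes]
  have hdvd : (PowerSeries.X : PowerSeries K) ^ n ∣ f - q := by
    rw [PowerSeries.X_pow_dvd_iff]
    intro m hm
    rw [map_sub, hq, map_sum]
    simp only [PowerSeries.coeff_C_mul_X_pow]
    rw [Finset.sum_ite_eq (Finset.range n) m, if_pos (Finset.mem_range.mpr hm), sub_self]
  obtain ⟨g, hg⟩ := hdvd
  have h1 : φ f - φ q = x ^ n * φ g := by
    rw [← map_sub, hg, map_mul, map_pow, hφ]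
  rw [← hφq, h1]
  exact Ideal.mul_mem_right _ _ (Ideal.pow_mem_pow hx n)

/-- A `K`-algebra map `K[[X]] → A` sending `X` to a uniformizer of a complete DVR `A` with
coefficient field `K` is bijective. -/
theorem cdvr_bijective {K : Type u} {A : Type v} [Field K] [CommRing A] [Algebra K A]
    [IsDomain A] [IsDiscreteValuationRing A]
    [IsAdicComplete (maximalIdeal A) A]
    (hK : ∀ a : A, ∃ c : K, a - algebraMap K A c ∈ maximalIdeal A)
    (x : A) (hx : maximalIdeal A = Ideal.span {x}) (φ : PowerSeries K →ₐ[K] A)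
    (hφ : φ PowerSeries.X = x) : Function.Bijective φ := by
  have hImap : (Ideal.span {(PowerSeries.X : PowerSeries K)}).map φ.toRingHom =
      maximalIdeal A := by
    rw [Ideal.map_span, Set.image_singleton, hx]
    have h1 : φ.toRingHom PowerSeries.X = x := hφ
    rw [h1]
  constructor
  · rw [injective_iff_map_eq_zero]
    intro f hf
    by_contra hne
    obtain ⟨n, u, hu⟩ := IsDiscreteValuationRing.eq_unit_mul_pow_irreducible hne
      (PowerSeries.X_prime (R := K)).irreducible
    rw [hu, map_mul, map_pow, hφ] at hf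
    have hxne : x ≠ 0 := by
      intro h0
      rw [h0, Ideal.span_singleton_eq_bot.mpr rfl] at hx
      exact IsDiscreteValuationRing.not_a_field A hx
    have hunit : IsUnit (φ (u : PowerSeries K)) := u.isUnit.map φ
    rcases mul_eq_zero.mp hf with h | h
    · exact hunit.ne_zero h
    · exact pow_ne_zero n hxne h
  · have : IsHausdorff ((Ideal.span {(PowerSeries.X : PowerSeries K)}).map φ.toRingHom) A := by
      rw [hImap]
      infer_instance
    have h1 : Function.Surjective φ.toRingHom := by
      apply surjective_of_mk_map_comp_surjective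
        (I := Ideal.span {(PowerSeries.X : PowerSeries K)})
      intro y
      obtain ⟨r, rfl⟩ := Ideal.Quotient.mk_surjective y
      obtain ⟨c, hc⟩ := hK r
      refine ⟨algebraMap K _ c, ?_⟩
      rw [RingHom.comp_apply, Ideal.Quotient.eq, hImap]
      have h2 : φ.toRingHom (algebraMap K _ c) = algebraMap K A c := φ.commutes c
      rw [h2, ← Ideal.neg_mem_iff, neg_sub]
      exact hc
    exact h1

end

end Groth.Agent.Helper4
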