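import Mathlib
import Groth.Prelude.Def_CAlg

/-!
# Local rings of depth exactly one, and maximal points of divisorial conditions
-/

set_option autoImplicit false
set_option linter.style.haveILetI false

universe u

open CategoryTheory AlgebraicGeometry TopologicalSpace
open scoped Pointwise

namespace Groth.Agent.Helper4.DepthOneCore

section Algebra

/-- If `b` is a regular element of the maximal ideal and some `w ∉ (b)` is multiplied into `(b)`
by the maximal ideal, then the local ring has depth exactly one. -/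
theorem depth_eq_one_of_colon (A : Type u) [CommRing A] [IsLocalRing A]
    (b w : A) (hb : IsSMulRegular A b) (hbm : b ∈ IsLocalRing.maximalIdeal A)
    (hw : w ∉ Ideal.span ({b} : Set A))
    (hmw : ∀ m ∈ IsLocalRing.maximalIdeal A, m * w ∈ Ideal.span ({b} : Set A)) :
    LocCoh.depth A A = 1 := by
  have hne : IsLocalRing.maximalIdeal A • (⊤ : Submodule A A) ≠ ⊤ := by
    rw [smul_eq_mul, Ideal.mul_top]
    exact (IsLocalRing.maximalIdeal.isMaximal A).ne_top
  unfold LocCoh.depth LocCoh.idealDepth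
  rw [if_neg hne]
  apply le_antisymm
  · refine iSup₂_le ?_
    intro rs hrs
    match rs, hrs with
    | [], _ => simp
    | [r], _ => simp
    | r₁ :: r₂ :: rest, hrs =>
      exfalso
      have h1 := (RingTheory.Sequence.isWeaklyRegular_cons_iff A r₁ (r₂ :: rest)).mp hrs.1
      have hreg₁ : IsSMulRegular A r₁ := h1.1
      have hreg₂ : IsSMulRegular (QuotSMulTop r₁ A) r₂ :=
        ((RingTheory.Sequence.isWeaklyRegular_cons_iff (QuotSMulTop r₁ A) r₂ rest).mp h1.2).1
      have hr₁ : r₁ ∈ IsLocalRing.maximalIdeal A := hrs.2 r₁ (List.mem_cons_self)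
      have hr₂ : r₂ ∈ IsLocalRing.maximalIdeal A :=
        hrs.2 r₂ (List.mem_cons_of_mem _ List.mem_cons_self)
      obtain ⟨c, hc⟩ := Ideal.mem_span_singleton'.mp (hmw r₁ hr₁)
      obtain ⟨d, hd⟩ := Ideal.mem_span_singleton'.mp (hmw r₂ hr₂)
      -- `c ∉ r₁ A`
      have hc1 : c ∉ (r₁ • (⊤ : Submodule A A)) := by
        intro hmem
        obtain ⟨c', -, hc'⟩ := (Submodule.mem_smul_pointwise_iff_exists _ _ _).mp hmem
        apply hw
        refine Ideal.mem_span_singleton'.mpr ⟨c', ?_⟩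
        apply hreg₁
        show r₁ • (c' * b) = r₁ • w
        rw [smul_eq_mul, smul_eq_mul, ← hc, ← hc', smul_eq_mul]
        ring
      -- `r₂ c ∈ r₁ A`
      have hc2 : r₂ * c ∈ (r₁ • (⊤ : Submodule A A)) := by
        refine (Submodule.mem_smul_pointwise_iff_exists _ _ _).mpr ⟨d, Submodule.mem_top, ?_⟩
        apply hb
        show b • (r₁ • d) = b • (r₂ * c)
        rw [smul_eq_mul, smul_eq_mul, smul_eq_mul]
        calc b * (r₁ * d) = r₁ * (d * b) := by ring
          _ = r₁ * (r₂ * w) := by rw [hd]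
          _ = r₂ * (r₁ * w) := by ring
          _ = r₂ * (c * b) := by rw [hc]
          _ = b * (r₂ * c) := by ring
      have h0 : (Submodule.Quotient.mk c : QuotSMulTop r₁ A) = 0 := by
        apply hreg₂
        show r₂ • (Submodule.Quotient.mk c : QuotSMulTop r₁ A) = r₂ • (0 : QuotSMulTop r₁ A)
        rw [smul_zero, ← Submodule.Quotient.mk_smul, smul_eq_mul]
        exact (Submodule.Quotient.mk_eq_zero _).mpr hc2
      exact hc1 ((Submodule.Quotient.mk_eq_zero _).mp h0)
  · refine le_iSup₂_of_le [b] ⟨?_, ?_⟩ (by simp)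
    · exact (RingTheory.Sequence.isWeaklyRegular_cons_iff A b []).mpr
        ⟨hb, RingTheory.Sequence.IsWeaklyRegular.nil _ _⟩
    · intro r' hr'
      rw [List.mem_singleton] at hr'
      rw [hr']
      exact hbm

/-- A Noetherian local ring with a nonzerodivisor `b` and an element `a ∉ (b)` such that `a`
lies in `(b)` after localizing at any non-maximal prime has depth one. -/
theorem depth_eq_one_of_primes (A : Type u) [CommRing A] [IsLocalRing A] [IsNoetherianRing A]
    (a b : A) (hb : b ∈ nonZeroDivisors A) (hab : a ∉ Ideal.span ({b} : Set A))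
    (h : ∀ p : Ideal A, p.IsPrime → p ≠ IsLocalRing.maximalIdeal A →
      ∃ r, r ∉ p ∧ r * a ∈ Ideal.span ({b} : Set A)) :
    LocCoh.depth A A = 1 := by
  classical
  let I : Ideal A := (Ideal.span ({b} : Set A)).colon ({a} : Set A)
  have hI : ∀ r, r ∈ I ↔ r * a ∈ Ideal.span ({b} : Set A) := by
    intro r
    show r ∈ (Ideal.span ({b} : Set A)).colon ({a} : Set A) ↔ _
    rw [Submodule.mem_colon_singleton, smul_eq_mul]
  have hItop : I ≠ ⊤ := by
    intro htop
    have : (1 : A) ∈ I := htop ▸ Submodule.mem_top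
    rw [hI, one_mul] at this
    exact hab this
  have hrad : IsLocalRing.maximalIdeal A ≤ I.radical := by
    rw [Ideal.radical_eq_sInf]
    apply le_sInf
    rintro J ⟨hIJ, hJ⟩
    by_cases hJm : J = IsLocalRing.maximalIdeal A
    · rw [hJm]
    · exfalso
      obtain ⟨r, hrJ, hr⟩ := h J hJ hJm
      exact hrJ (hIJ ((hI r).mpr hr))
  obtain ⟨n, hn⟩ := Ideal.exists_pow_le_of_le_radical_of_fg hrad
    (IsNoetherian.noetherian (IsLocalRing.maximalIdeal A))
  have hex : ∃ n, IsLocalRing.maximalIdeal A ^ n ≤ I := ⟨n, hn⟩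
  have hfind := Nat.find_spec hex
  have hpos : Nat.find hex ≠ 0 := by
    intro h0
    rw [h0, pow_zero, Ideal.one_eq_top, top_le_iff] at hfind
    exact hItop hfind
  obtain ⟨k, hk⟩ := Nat.exists_eq_succ_of_ne_zero hpos
  have hkn : ¬ IsLocalRing.maximalIdeal A ^ k ≤ I :=
    Nat.find_min hex (by rw [hk]; exact Nat.lt_succ_self k)
  obtain ⟨t, htk, htI⟩ := SetLike.not_le_iff_exists.mp hkn
  have hbreg : IsSMulRegular A b := by
    intro y y' hyy
    have h1 : (y - y') * b = 0 := by
      have : b * y = b * y' := hyy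
      rw [sub_mul, mul_comm y b, mul_comm y' b, this, sub_self]
    exact sub_eq_zero.mp ((mem_nonZeroDivisors_iff_right.mp hb) _ h1)
  have hbm : b ∈ IsLocalRing.maximalIdeal A := by
    rw [IsLocalRing.mem_maximalIdeal, mem_nonunits_iff]
    intro hu
    apply hab
    rw [Ideal.span_singleton_eq_top.mpr hu]
    exact Submodule.mem_top
  refine depth_eq_one_of_colon A b (t * a) hbreg hbm (fun hmem => htI ((hI t).mpr hmem)) ?_
  intro m hm
  have hmt : m * t ∈ IsLocalRing.maximalIdeal A ^ (Nat.find hex) := by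
    rw [hk, pow_succ']
    exact Ideal.mul_mem_mul hm htk
  have := (hI (m * t)).mp (hfind hmt)
  rwa [mul_assoc] at this

end Algebra

section Geometry

variable (X : Scheme.{u})

/-- Non-maximal primes of the local ring at `x` come from proper generizations of `x` in an
affine open neighbourhood, and divisibility of germs at the generization spreads to divisibility
up to an element outside the prime. -/
theorem exists_generization {W : X.Opens} (hW : IsAffineOpen W) (x : X) (hxW : x ∈ W)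
    (p : Ideal (X.presheaf.stalk x)) [hp : p.IsPrime]
    (hpm : p ≠ IsLocalRing.maximalIdeal (X.presheaf.stalk x)) :
    ∃ (z : X) (hzW : z ∈ W), z ⤳ x ∧ z ≠ x ∧ ∀ m b : Γ(X, W),
      (∃ u : X.presheaf.stalk z, X.presheaf.germ W z hzW m = u * X.presheaf.germ W z hzW b) →
      ∃ r : X.presheaf.stalk x, r ∉ p ∧
        r * X.presheaf.germ W x hxW m ∈ Ideal.span ({X.presheaf.germ W x hxW b} : Set _) := by
  let x₀ : W := ⟨x, hxW⟩
  letI alg : Algebra Γ(X, W) (X.presheaf.stalk x) :=
    TopCat.Presheaf.algebra_section_stalk X.presheaf x₀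
  haveI hloc : IsLocalization.AtPrime (X.presheaf.stalk x) (hW.primeIdealOf x₀).asIdeal :=
    hW.isLocalization_stalk x₀
  have halg : ∀ s : Γ(X, W), algebraMap Γ(X, W) (X.presheaf.stalk x) s =
      X.presheaf.germ W x hxW s := fun s => rfl
  let q : PrimeSpectrum Γ(X, W) :=
    ⟨p.comap (algebraMap Γ(X, W) (X.presheaf.stalk x)), inferInstance⟩
  have hqle : q ≤ hW.primeIdealOf x₀ := by
    show q.asIdeal ≤ (hW.primeIdealOf x₀).asIdeal
    rw [← IsLocalization.AtPrime.comap_maximalIdeal (X.presheaf.stalk x)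
      (hW.primeIdealOf x₀).asIdeal]
    exact Ideal.comap_mono (IsLocalRing.le_maximalIdeal hp.ne_top)
  have hzW : hW.fromSpec q ∈ W := by
    have : hW.fromSpec q ∈ Set.range hW.fromSpec := ⟨q, rfl⟩
    rw [hW.range_fromSpec] at this
    exact this
  have hx₀ : hW.fromSpec (hW.primeIdealOf x₀) = x := hW.fromSpec_primeIdealOf x₀
  have hspec : hW.fromSpec q ⤳ x := by
    have h1 : q ⤳ hW.primeIdealOf x₀ := (PrimeSpectrum.le_iff_specializes _ _).mp hqle
    have h2 := h1.map hW.fromSpec.continuous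
    rwa [hx₀] at h2
  have hne : hW.fromSpec q ≠ x := by
    intro heq
    rw [← hx₀] at heq
    have hq : q = hW.primeIdealOf x₀ := hW.fromSpec.isOpenEmbedding.injective heq
    apply hpm
    have h1 : q.asIdeal = (hW.primeIdealOf x₀).asIdeal := by rw [hq]
    rw [← IsLocalization.AtPrime.comap_maximalIdeal (X.presheaf.stalk x)
      (hW.primeIdealOf x₀).asIdeal] at h1
    have h2 := congrArg (Ideal.map (algebraMap Γ(X, W) (X.presheaf.stalk x))) h1
    rw [IsLocalization.map_comap (hW.primeIdealOf x₀).asIdeal.primeCompl,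
      IsLocalization.map_comap (hW.primeIdealOf x₀).asIdeal.primeCompl] at h2
    exact h2
  refine ⟨hW.fromSpec q, hzW, hspec, hne, ?_⟩
  intro m b ⟨u, hu⟩
  letI algz : Algebra Γ(X, W) (X.presheaf.stalk (hW.fromSpec q)) :=
    TopCat.Presheaf.algebra_section_stalk X.presheaf ⟨hW.fromSpec q, hzW⟩
  haveI hlocz : IsLocalization.AtPrime (X.presheaf.stalk (hW.fromSpec q)) q.asIdeal :=
    hW.isLocalization_stalk' q hzW
  have halgz : ∀ s : Γ(X, W), algebraMap Γ(X, W) (X.presheaf.stalk (hW.fromSpec q)) s =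
      X.presheaf.germ W (hW.fromSpec q) hzW s := fun s => rfl
  obtain ⟨c, s, hcs⟩ := IsLocalization.exists_mk'_eq q.asIdeal.primeCompl u
  have h1 : u * algebraMap Γ(X, W) (X.presheaf.stalk (hW.fromSpec q)) (s : Γ(X, W)) =
      algebraMap Γ(X, W) (X.presheaf.stalk (hW.fromSpec q)) c := by
    rw [← hcs]
    exact IsLocalization.mk'_spec _ c s
  have h2 : algebraMap Γ(X, W) (X.presheaf.stalk (hW.fromSpec q)) ((s : Γ(X, W)) * m) =
      algebraMap Γ(X, W) (X.presheaf.stalk (hW.fromSpec q)) (c * b) := by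
    rw [map_mul, map_mul, halgz m, hu, halgz b, ← h1]
    ring
  obtain ⟨t, ht⟩ := (IsLocalization.eq_iff_exists q.asIdeal.primeCompl
    (X.presheaf.stalk (hW.fromSpec q))).mp h2
  refine ⟨algebraMap Γ(X, W) (X.presheaf.stalk x) ((t : Γ(X, W)) * (s : Γ(X, W))), ?_, ?_⟩
  · intro hmem
    have : (t : Γ(X, W)) * (s : Γ(X, W)) ∈ q.asIdeal := hmem
    exact (t * s).2 this
  · refine Ideal.mem_span_singleton'.mpr
      ⟨algebraMap Γ(X, W) (X.presheaf.stalk x) ((t : Γ(X, W)) * c), ?_⟩
    rw [← halg m, ← halg b, ← map_mul, ← map_mul]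
    congr 1
    rw [mul_assoc, mul_assoc, ht]

/-- The depth-one criterion in terms of germs of two sections on an affine neighbourhood. -/
theorem depth_eq_one_of_germs [IsLocallyNoetherian X] {W : X.Opens} (hW : IsAffineOpen W)
    (x : X) (hxW : x ∈ W) (m b : Γ(X, W))
    (hb : X.presheaf.germ W x hxW b ∈ nonZeroDivisors (X.presheaf.stalk x))
    (hmb : X.presheaf.germ W x hxW m ∉ Ideal.span ({X.presheaf.germ W x hxW b} : Set _))
    (h : ∀ (z : X) (hzW : z ∈ W), z ⤳ x → z ≠ x →
      ∃ u : X.presheaf.stalk z, X.presheaf.germ W z hzW m = u * X.presheaf.germ W z hzW b) :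
    LocCoh.depth (X.presheaf.stalk x) (X.presheaf.stalk x) = 1 := by
  apply depth_eq_one_of_primes (X.presheaf.stalk x) _ _ hb hmb
  intro p hp hpm
  obtain ⟨z, hzW, hzx, hne, hz⟩ := exists_generization X hW x hxW p hpm
  exact hz m b (h z hzW hzx hne)

/-- In a locally Noetherian scheme, every point of a set has a generization in the set none of
whose proper generizations lies in the set. -/
theorem exists_minimal_generization [IsLocallyNoetherian X] (S : Set X) (x : X) (hx : x ∈ S) :
    ∃ z ∈ S, z ⤳ x ∧ ∀ z' ∈ S, z' ⤳ z → z' = z := by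
  obtain ⟨_, ⟨W, hW, rfl⟩, hxW, -⟩ :=
    X.isBasis_affineOpens.exists_subset_of_mem_open (Set.mem_univ x) isOpen_univ
  have hxW' : x ∈ W := hxW
  haveI : IsNoetherianRing Γ(X, W) := IsLocallyNoetherian.component_noetherian ⟨W, hW⟩
  let qx : PrimeSpectrum Γ(X, W) := hW.primeIdealOf ⟨x, hxW'⟩
  have hqx : hW.fromSpec qx = x := hW.fromSpec_primeIdealOf ⟨x, hxW'⟩
  let T : Set (PrimeSpectrum Γ(X, W)) := {q | hW.fromSpec q ∈ S ∧ q ≤ qx}
  have hTne : (((fun q : PrimeSpectrum Γ(X, W) => q.asIdeal.height) '' T)).Nonempty :=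
    ⟨_, qx, ⟨by rw [hqx]; exact hx, le_refl _⟩, rfl⟩
  obtain ⟨_, ⟨q, hqT, rfl⟩, hmin⟩ :=
    WellFounded.has_min (wellFounded_lt : WellFounded ((· < ·) : ℕ∞ → ℕ∞ → Prop)) _ hTne
  have hqspec : hW.fromSpec q ⤳ x := by
    have h1 : q ⤳ qx := (PrimeSpectrum.le_iff_specializes _ _).mp hqT.2
    have h2 := h1.map hW.fromSpec.continuous
    rwa [hqx] at h2
  have hqW : hW.fromSpec q ∈ W := by
    have : hW.fromSpec q ∈ Set.range hW.fromSpec := ⟨q, rfl⟩
    rw [hW.range_fromSpec] at this
    exact this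
  refine ⟨hW.fromSpec q, hqT.1, hqspec, ?_⟩
  intro z' hz'S hz'
  have hz'W : z' ∈ W := hz'.mem_open W.isOpen hqW
  let q' : PrimeSpectrum Γ(X, W) := hW.primeIdealOf ⟨z', hz'W⟩
  have hq' : hW.fromSpec q' = z' := hW.fromSpec_primeIdealOf ⟨z', hz'W⟩
  have hq'q : q' ≤ q := by
    rw [PrimeSpectrum.le_iff_specializes]
    refine (hW.fromSpec.isOpenEmbedding.isInducing.specializes_iff).mp ?_
    have hz'' : hW.fromSpec q' ⤳ hW.fromSpec q := by rw [hq']; exact hz'
    exact hz''
  have hq'T : q' ∈ T := ⟨by rw [hq']; exact hz'S, hq'q.trans hqT.2⟩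
  have hnlt : ¬ q'.asIdeal.height < q.asIdeal.height := hmin _ ⟨q', hq'T, rfl⟩
  by_cases heq : q' = q
  · rw [← hq', heq]
  · exfalso
    apply hnlt
    have hlt : q'.asIdeal < q.asIdeal := lt_of_le_of_ne hq'q
      (fun h => heq (PrimeSpectrum.ext h))
    exact Ideal.height_strict_mono_of_isPrime hlt

end Geometry

end Groth.Agent.Helper4.DepthOneCore
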