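import Mathlib.Algebra.Central.Defs
import Mathlib.Algebra.Central.Basic
import Mathlib.RingTheory.SimpleRing.Basic
import Mathlib.RingTheory.TwoSidedIdeal.Operations
import Mathlib.LinearAlgebra.TensorProduct.Basis
import Mathlib.LinearAlgebra.Basis.VectorSpace
import Mathlib.RingTheory.TensorProduct.Basic
import Mathlib.Tactic

/-!
# Central simple algebras: tensor products

Core "minimal support" argument: for `B` central simple over a field `k` and any `k`-algebra `A`,
every nonzero two-sided ideal of `A ⊗[k] B` contains a nonzero pure tensor `a ⊗ 1`.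
-/

namespace Groth.Agent.Helper4

open TensorProduct

section
variable {k A B : Type*} [Field k] [Ring A] [Algebra k A] [Ring B] [Algebra k B]
variable {ι : Type*} [DecidableEq ι]

lemma coord_mul_mul (𝒜 : Module.Basis ι k A) (c d : B) (x : A ⊗[k] B) (i : ι) :
    equivFinsuppOfBasisLeft 𝒜 (((1 : A) ⊗ₜ[k] c) * x * ((1 : A) ⊗ₜ[k] d)) i =
      c * equivFinsuppOfBasisLeft 𝒜 x i * d := by
  induction x using TensorProduct.induction_on with
  | zero => simp
  | tmul a b =>
    simp only [Algebra.TensorProduct.tmul_mul_tmul, one_mul, mul_one,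
      equivFinsuppOfBasisLeft_apply_tmul_apply]
    rw [mul_smul_comm, smul_mul_assoc]
  | add x y hx hy =>
    simp only [mul_add, add_mul, map_add, Finsupp.coe_add, Pi.add_apply, hx, hy]

lemma coord_mul_left (𝒜 : Module.Basis ι k A) (c : B) (x : A ⊗[k] B) (i : ι) :
    equivFinsuppOfBasisLeft 𝒜 (((1 : A) ⊗ₜ[k] c) * x) i =
      c * equivFinsuppOfBasisLeft 𝒜 x i := by
  have := coord_mul_mul 𝒜 c 1 x i
  rwa [← Algebra.TensorProduct.one_def, mul_one, mul_one] at this

lemma coord_mul_right (𝒜 : Module.Basis ι k A) (d : B) (x : A ⊗[k] B) (i : ι) :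
    equivFinsuppOfBasisLeft 𝒜 (x * ((1 : A) ⊗ₜ[k] d)) i =
      equivFinsuppOfBasisLeft 𝒜 x i * d := by
  have := coord_mul_mul 𝒜 1 d x i
  rwa [← Algebra.TensorProduct.one_def, one_mul, one_mul] at this

end

/-- For `B` central simple over `k`, every nonzero two-sided ideal of `A ⊗[k] B` contains a nonzero
element of the form `a ⊗ 1`. -/
theorem exists_tmul_one_mem_of_ne_bot {k A B : Type*} [Field k] [Ring A] [Algebra k A] [Ring B]
    [Algebra k B] [Algebra.IsCentral k B] [IsSimpleRing B]
    (I : TwoSidedIdeal (A ⊗[k] B)) (hI : I ≠ ⊥) :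
    ∃ a : A, a ≠ 0 ∧ a ⊗ₜ[k] (1 : B) ∈ I := by
  classical
  let 𝒜 := Module.Basis.ofVectorSpace k A
  let e := equivFinsuppOfBasisLeft 𝒜 (N := B)
  have he : ∀ x, e x = equivFinsuppOfBasisLeft 𝒜 x := fun _ => rfl
  obtain ⟨x₀, hx₀I, hx₀⟩ : ∃ x ∈ I, x ≠ 0 := by
    by_contra hcon
    push Not at hcon
    apply hI
    rw [eq_bot_iff]
    intro x hx
    rw [TwoSidedIdeal.mem_bot]
    exact hcon x hx
  let P : ℕ → Prop := fun n => ∃ x ∈ I, x ≠ 0 ∧ (e x).support.card = n
  have hP : ∃ n, P n := ⟨_, x₀, hx₀I, hx₀, rfl⟩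
  obtain ⟨x, hxI, hx, hcard⟩ := Nat.find_spec hP
  have hmin : ∀ y ∈ I, y ≠ 0 → Nat.find hP ≤ (e y).support.card :=
    fun y hy hy0 => Nat.find_min' hP ⟨y, hy, hy0, rfl⟩
  have hex : e x ≠ 0 := fun h => hx (e.map_eq_zero_iff.1 h)
  obtain ⟨i₀, hi₀⟩ := Finsupp.support_nonempty_iff.2 hex
  -- the ideal of possible `i₀`-coordinates
  let T : TwoSidedIdeal B := TwoSidedIdeal.mk'
    {b | ∃ y ∈ I, (e y).support ⊆ (e x).support ∧ e y i₀ = b}
    ⟨0, I.zero_mem, by simp, by simp⟩
    (by
      rintro b b' ⟨y, hy, hys, rfl⟩ ⟨y', hy', hys', rfl⟩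
      refine ⟨y + y', I.add_mem hy hy', ?_, by simp⟩
      rw [map_add]
      exact Finsupp.support_add.trans (Finset.union_subset hys hys'))
    (by
      rintro b ⟨y, hy, hys, rfl⟩
      refine ⟨-y, I.neg_mem hy, ?_, by simp⟩
      rw [map_neg, Finsupp.support_neg]
      exact hys)
    (by
      rintro c b ⟨y, hy, hys, rfl⟩
      refine ⟨((1 : A) ⊗ₜ[k] c) * y, I.mul_mem_left _ _ hy, ?_, ?_⟩
      · intro i hi
        rw [Finsupp.mem_support_iff, he, coord_mul_left] at hi
        apply hys
        rw [Finsupp.mem_support_iff]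
        intro h0
        rw [he] at h0
        rw [h0, mul_zero] at hi
        exact hi rfl
      · rw [he, coord_mul_left])
    (by
      rintro b d ⟨y, hy, hys, rfl⟩
      refine ⟨y * ((1 : A) ⊗ₜ[k] d), I.mul_mem_right _ _ hy, ?_, ?_⟩
      · intro i hi
        rw [Finsupp.mem_support_iff, he, coord_mul_right] at hi
        apply hys
        rw [Finsupp.mem_support_iff]
        intro h0
        rw [he] at h0
        rw [h0, zero_mul] at hi
        exact hi rfl
      · rw [he, coord_mul_right])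
  have hT : (1 : B) ∈ T := by
    apply IsSimpleRing.one_mem_of_ne_zero_mem T (Finsupp.mem_support_iff.1 hi₀)
    rw [TwoSidedIdeal.mem_mk']
    exact ⟨x, hxI, le_rfl, rfl⟩
  rw [TwoSidedIdeal.mem_mk'] at hT
  obtain ⟨y, hyI, hys, hy1⟩ := hT
  have hy0 : y ≠ 0 := by
    rintro rfl
    rw [map_zero, Finsupp.zero_apply] at hy1
    exact zero_ne_one hy1
  have hycard : (e y).support.card = Nat.find hP :=
    le_antisymm (hcard ▸ Finset.card_le_card hys) (hmin y hyI hy0)
  -- all coordinates of y are central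
  have hcentral : ∀ (b : B) (i : _), b * e y i = e y i * b := by
    intro b i
    set z := ((1 : A) ⊗ₜ[k] b) * y - y * ((1 : A) ⊗ₜ[k] b) with hz
    have hzI : z ∈ I := I.sub_mem (I.mul_mem_left _ _ hyI) (I.mul_mem_right _ _ hyI)
    have hzc : ∀ j, e z j = b * e y j - e y j * b := by
      intro j
      rw [hz, map_sub, Finsupp.sub_apply, he, he, coord_mul_left, coord_mul_right]
    have hzs : (e z).support ⊆ (e y).support.erase i₀ := by
      intro j hj
      rw [Finsupp.mem_support_iff, hzc] at hj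
      rw [Finset.mem_erase, Finsupp.mem_support_iff]
      refine ⟨?_, ?_⟩
      · rintro rfl
        rw [hy1, mul_one, one_mul, sub_self] at hj
        exact hj rfl
      · intro h0
        rw [h0, mul_zero, zero_mul, sub_self] at hj
        exact hj rfl
    have hz0 : z = 0 := by
      by_contra hne
      have h1 := hmin z hzI hne
      have h2 := Finset.card_le_card hzs
      have hi₀y : i₀ ∈ (e y).support := by
        rw [Finsupp.mem_support_iff, hy1]; exact one_ne_zero
      rw [Finset.card_erase_of_mem hi₀y, hycard] at h2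
      have : 0 < Nat.find hP := by
        rw [← hycard]; exact Finset.card_pos.2 ⟨i₀, hi₀y⟩
      omega
    have := hzc i
    rw [hz0, map_zero, Finsupp.zero_apply] at this
    exact (sub_eq_zero.1 this.symm)
  have hscalar : ∀ i, ∃ c : k, algebraMap k B c = e y i := by
    intro i
    have hmem : e y i ∈ Subalgebra.center k B := by
      rw [Subalgebra.mem_center_iff]
      intro b
      exact hcentral b i
    have := Algebra.IsCentral.out (K := k) (D := B) hmem
    rwa [Algebra.mem_bot] at this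
  choose c hc using hscalar
  refine ⟨∑ i ∈ (e y).support, c i • 𝒜 i, ?_, ?_⟩
  · intro h0
    apply hy0
    have hy' : y = e.symm (e y) := (e.symm_apply_apply y).symm
    rw [hy', equivFinsuppOfBasisLeft_symm_apply, Finsupp.sum]
    have : ∀ i ∈ (e y).support, 𝒜 i ⊗ₜ[k] (e y i) = (c i • 𝒜 i) ⊗ₜ[k] (1 : B) := by
      intro i _
      rw [← hc i, Algebra.algebraMap_eq_smul_one, TensorProduct.tmul_smul, TensorProduct.smul_tmul']
    rw [Finset.sum_congr rfl this, ← TensorProduct.sum_tmul, h0, TensorProduct.zero_tmul]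
  · have hy' : y = e.symm (e y) := (e.symm_apply_apply y).symm
    have : ∀ i ∈ (e y).support, 𝒜 i ⊗ₜ[k] (e y i) = (c i • 𝒜 i) ⊗ₜ[k] (1 : B) := by
      intro i _
      rw [← hc i, Algebra.algebraMap_eq_smul_one, TensorProduct.tmul_smul, TensorProduct.smul_tmul']
    rw [TensorProduct.sum_tmul, ← Finset.sum_congr rfl this]
    rw [hy', equivFinsuppOfBasisLeft_symm_apply, Finsupp.sum] at hyI
    exact hyI

end Groth.Agent.Helper4
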