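import Mathlib
import Groth.Prelude.Def_CurvBase
import Groth.Prelude.Def_BlowUp2
import Groth.Agent.Lib.Helper4.BlowupIso
import Groth.Agent.Lib.Helper4.WeakAss
import Groth.Agent.Lib.Helper4.LocalPrincipal

/-!
# Local rings at generic points of Cartier divisors (Krull's principal ideal theorem)
-/

namespace Groth.Agent.Helper4.CartierDim

open AlgebraicGeometry CategoryTheory TopologicalSpace Opposite

universe u

set_option linter.style.haveILetI false

variable {X : Scheme.{u}}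

theorem fromSpec_mem_support_iff (I : X.IdealSheafData) {U : X.Opens} (hU : IsAffineOpen U)
    (y : PrimeSpectrum Γ(X, U)) :
    hU.fromSpec y ∈ I.support ↔ I.ideal ⟨U, hU⟩ ≤ y.asIdeal := by
  rw [Scheme.IdealSheafData.mem_support_iff_of_mem (U := ⟨U, hU⟩) (WeakAss.fromSpec_mem hU y)]
  have h := hU.fromSpec_preimage_zeroLocus (I.ideal ⟨U, hU⟩ : Set Γ(X, U))
  have h2 := Set.ext_iff.mp h y
  exact h2.trans (PrimeSpectrum.mem_zeroLocus y _)

theorem primeIdealOf_mem_minimalPrimes (I : X.IdealSheafData) {U : X.Opens} (hU : IsAffineOpen U)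
    (ξ : X) (hξU : ξ ∈ U) (hξ : ξ ∈ I.support)
    (hgen : ∀ y ∈ (I.support : Set X), y ⤳ ξ → y = ξ) :
    (hU.primeIdealOf ⟨ξ, hξU⟩).asIdeal ∈ (I.ideal ⟨U, hU⟩).minimalPrimes := by
  set y := hU.primeIdealOf ⟨ξ, hξU⟩ with hy
  have hyξ : hU.fromSpec y = ξ := hU.fromSpec_primeIdealOf ⟨ξ, hξU⟩
  refine ⟨⟨y.isPrime, ?_⟩, ?_⟩
  · rw [← fromSpec_mem_support_iff, hyξ]; exact hξ
  · rintro q ⟨hq, hIq⟩ hqy
    let z : PrimeSpectrum Γ(X, U) := ⟨q, hq⟩
    have hz : hU.fromSpec z ∈ I.support := (fromSpec_mem_support_iff I hU z).mpr hIq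
    have hspec : z ⤳ y := (PrimeSpectrum.le_iff_specializes z y).mp hqy
    have hspec' : hU.fromSpec z ⤳ ξ := by
      rw [← hyξ]; exact hspec.map hU.fromSpec.continuous
    have h1 := hgen _ hz hspec'
    have hzy : z = y := hU.fromSpec.isOpenEmbedding.injective (h1.trans hyξ.symm)
    exact (congrArg PrimeSpectrum.asIdeal hzy).ge

theorem ringKrullDim_stalk_eq_height {U : X.Opens} (hU : IsAffineOpen U) (ξ : X) (hξU : ξ ∈ U) :
    ringKrullDim (X.presheaf.stalk ξ) = ((hU.primeIdealOf ⟨ξ, hξU⟩).asIdeal.height : WithBot ℕ∞) :=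
  @IsLocalization.AtPrime.ringKrullDim_eq_height Γ(X, U) _
    (hU.primeIdealOf ⟨ξ, hξU⟩).asIdeal _ (X.presheaf.stalk ξ) _
    (TopCat.Presheaf.algebra_section_stalk X.presheaf ⟨ξ, hξU⟩) (hU.isLocalization_stalk ⟨ξ, hξU⟩)

theorem height_le_one [IsLocallyNoetherian X] (I : X.IdealSheafData) {U : X.Opens}
    (hU : IsAffineOpen U)
    (f : Γ(X, U)) (hf : I.ideal ⟨U, hU⟩ = Ideal.span {f}) (ξ : X)
    (hξU : ξ ∈ U) (hξ : ξ ∈ I.support)
    (hgen : ∀ y ∈ (I.support : Set X), y ⤳ ξ → y = ξ) :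
    (hU.primeIdealOf ⟨ξ, hξU⟩).asIdeal.height ≤ 1 := by
  have hmin := primeIdealOf_mem_minimalPrimes I hU ξ hξU hξ hgen
  rw [hf] at hmin
  haveI : (Ideal.span {f}).IsPrincipal := ⟨⟨f, rfl⟩⟩
  haveI : IsNoetherianRing Γ(X, U) := IsLocallyNoetherian.component_noetherian ⟨U, hU⟩
  exact Ideal.height_le_one_of_isPrincipal_of_mem_minimalPrimes _ _ hmin

/-- Locally principal closed subschemes have codimension at most one. -/
theorem ringKrullDim_stalk_le_one [IsLocallyNoetherian X]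
    (D : X.IdealSheafData) (hD : Curv2.IsLocPrincipal D) (ξ : X)
    (hξ : ξ ∈ (D.support : Set X)) (hgen : ∀ y ∈ (D.support : Set X), y ⤳ ξ → y = ξ) :
    ringKrullDim (X.presheaf.stalk ξ) ≤ 1 := by
  obtain ⟨⟨U, hU0⟩, hξU, f, hf⟩ := hD ξ hξ
  have hU : IsAffineOpen U := hU0
  rw [ringKrullDim_stalk_eq_height hU ξ hξU]
  exact_mod_cast height_le_one D hU f hf ξ hξU hξ hgen

/-- Effective Cartier divisors have codimension exactly one. -/
theorem ringKrullDim_stalk_eq_one [IsLocallyNoetherian X]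
    (D : X.IdealSheafData) (hD : BlowUp.IsEffCartierIdeal D) (ξ : X)
    (hξ : ξ ∈ (D.support : Set X)) (hgen : ∀ y ∈ (D.support : Set X), y ⤳ ξ → y = ξ) :
    ringKrullDim (X.presheaf.stalk ξ) = 1 := by
  obtain ⟨⟨U, hU0⟩, hξU, f, hfnzd, hf⟩ := hD ξ
  have hU : IsAffineOpen U := hU0
  rw [ringKrullDim_stalk_eq_height hU ξ hξU]
  have h1 := height_le_one D hU f hf ξ hξU hξ hgen
  have hmin := primeIdealOf_mem_minimalPrimes D hU ξ hξU hξ hgen
  have h2 : 1 ≤ (hU.primeIdealOf ⟨ξ, hξU⟩).asIdeal.height :=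
    (Ideal.one_le_height_span_singleton_of_mem_nonZeroDivisors hfnzd).trans
      (Ideal.height_mono (hf ▸ hmin.1.2))
  have h3 : (hU.primeIdealOf ⟨ξ, hξU⟩).asIdeal.height = 1 := le_antisymm h1 h2
  rw [h3]
  rfl

/-- A Noetherian local ring whose maximal ideal is generated by a nonzerodivisor is a discrete
valuation ring. -/
theorem dvr_of_maximalIdeal_eq_span {R : Type*} [CommRing R] [IsLocalRing R] [IsNoetherianRing R]
    (t : R) (ht : t ∈ nonZeroDivisors R) (hm : IsLocalRing.maximalIdeal R = Ideal.span {t}) :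
    ∃ _ : IsDomain R, IsDiscreteValuationRing R := by
  have hkrull : ⨅ i, IsLocalRing.maximalIdeal R ^ i = ⊥ :=
    Ideal.iInf_pow_eq_bot_of_isLocalRing _ (IsLocalRing.maximalIdeal.isMaximal R).ne_top
  -- every nonzero element is a unit times a power of `t`
  have hfact : ∀ a : R, a ≠ 0 → ∃ (n : ℕ) (u : R), IsUnit u ∧ a = t ^ n * u := by
    intro a ha
    have hex : ∃ n : ℕ, a ∉ IsLocalRing.maximalIdeal R ^ n := by
      by_contra hcon
      push Not at hcon
      have : a ∈ ⨅ i, IsLocalRing.maximalIdeal R ^ i := by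
        rw [Ideal.mem_iInf]; exact hcon
      rw [hkrull, Ideal.mem_bot] at this
      exact ha this
    classical
    have hN0 : Nat.find hex ≠ 0 := by
      intro h0
      have := Nat.find_spec hex
      rw [h0, pow_zero, Ideal.one_eq_top] at this
      exact this Submodule.mem_top
    obtain ⟨k, hk⟩ := Nat.exists_eq_succ_of_ne_zero hN0
    have hmem : a ∈ IsLocalRing.maximalIdeal R ^ k := by
      have := Nat.find_min hex (m := k) (by omega)
      exact not_not.mp this
    have hnot : a ∉ IsLocalRing.maximalIdeal R ^ (k + 1) := by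
      have := Nat.find_spec hex
      rwa [hk] at this
    rw [hm, Ideal.span_singleton_pow, Ideal.mem_span_singleton'] at hmem
    obtain ⟨u, hu⟩ := hmem
    refine ⟨k, u, ?_, by rw [← hu, mul_comm]⟩
    by_contra hnu
    have hum : u ∈ IsLocalRing.maximalIdeal R := (IsLocalRing.mem_maximalIdeal u).mpr hnu
    rw [hm, Ideal.mem_span_singleton'] at hum
    obtain ⟨v, hv⟩ := hum
    apply hnot
    rw [hm, Ideal.span_singleton_pow, Ideal.mem_span_singleton']
    refine ⟨v, ?_⟩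
    rw [← hu, ← hv, pow_succ]
    ring
  have hnzd : NoZeroDivisors R := by
    constructor
    intro a b hab
    by_contra hcon
    push Not at hcon
    obtain ⟨n, u, hu, rfl⟩ := hfact a hcon.1
    obtain ⟨m, v, hv, rfl⟩ := hfact b hcon.2
    have h1 : t ^ (n + m) * (u * v) = 0 := by
      rw [← hab, pow_add]; ring
    have h2 : t ^ (n + m) = 0 := (hu.mul hv).mul_left_eq_zero.mp h1
    exact nonZeroDivisors.ne_zero (pow_mem ht (n + m)) h2
  haveI : IsDomain R := NoZeroDivisors.to_isDomain R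
  refine ⟨inferInstance, ?_⟩
  have hnf : ¬ IsField R := by
    rw [IsLocalRing.isField_iff_maximalIdeal_eq, hm]
    intro h0
    rw [Ideal.span_singleton_eq_bot] at h0
    exact nonZeroDivisors.ne_zero ht h0
  refine ((IsDiscreteValuationRing.TFAE R hnf).out 0 4).mpr ?_
  rw [hm]
  exact ⟨⟨t, rfl⟩⟩

/-- The local ring at the generic point of an integral effective Cartier divisor on a locally
Noetherian scheme is a discrete valuation ring. -/
theorem dvr_of_integral_effCartier [IsLocallyNoetherian X]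
    (D : X.IdealSheafData) (hD : BlowUp.IsEffCartierIdeal D) [IsIntegral D.subscheme]
    (ξ : X) (hξ : IsGenericPoint ξ (D.support : Set X)) :
    ∃ _ : IsDomain (X.presheaf.stalk ξ), IsDiscreteValuationRing (X.presheaf.stalk ξ) := by
  have hξs : ξ ∈ (D.support : Set X) := hξ.mem
  obtain ⟨⟨U, hU0⟩, hξU, f, hfnzd, hf⟩ := hD ξ
  have hU : IsAffineOpen U := hU0
  -- the ideal of `D` on `U` is prime
  have hprime : (D.ideal ⟨U, hU⟩).IsPrime := by
    have hr : ξ ∈ Set.range D.subschemeι := by rw [D.range_subschemeι]; exact hξs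
    obtain ⟨d, hd⟩ := hr
    haveI : IsDomain Γ(D.subscheme, D.subschemeι ⁻¹ᵁ U) :=
      @IsIntegral.component_integral _ _ (D.subschemeι ⁻¹ᵁ U)
        ⟨⟨d, show D.subschemeι d ∈ U by rw [hd]; exact hξU⟩⟩
    have e := (D.subschemeObjIso ⟨U, hU⟩).commRingCatIsoToRingEquiv
    haveI : IsDomain (Γ(X, U) ⧸ D.ideal ⟨U, hU⟩) := MulEquiv.isDomain _ e.symm.toMulEquiv
    exact (Ideal.Quotient.isDomain_iff_prime _).mp inferInstance
  -- the prime of `ξ` equals this ideal
  set y := hU.primeIdealOf ⟨ξ, hξU⟩ with hy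
  have hyξ : hU.fromSpec y = ξ := hU.fromSpec_primeIdealOf ⟨ξ, hξU⟩
  have hle1 : D.ideal ⟨U, hU⟩ ≤ y.asIdeal := by
    rw [← fromSpec_mem_support_iff, hyξ]; exact hξs
  have hle2 : y.asIdeal ≤ D.ideal ⟨U, hU⟩ := by
    let z : PrimeSpectrum Γ(X, U) := ⟨D.ideal ⟨U, hU⟩, hprime⟩
    have hz : hU.fromSpec z ∈ (D.support : Set X) :=
      (fromSpec_mem_support_iff D hU z).mpr le_rfl
    have hsp : hU.fromSpec y ⤳ hU.fromSpec z := by rw [hyξ]; exact hξ.specializes hz
    have hsp' : y ⤳ z := hU.fromSpec.isOpenEmbedding.toIsInducing.specializes_iff.mp hsp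
    exact (PrimeSpectrum.le_iff_specializes y z).mpr hsp'
  have hyeq : y.asIdeal = Ideal.span {f} := by rw [← hf]; exact le_antisymm hle2 hle1
  -- the maximal ideal of the stalk
  have hmax : IsLocalRing.maximalIdeal (X.presheaf.stalk ξ) =
      Ideal.span {X.presheaf.germ U ξ hξU f} := by
    have h1 := @IsLocalization.AtPrime.map_eq_maximalIdeal Γ(X, U) _ y.asIdeal _
      (X.presheaf.stalk ξ) _ (TopCat.Presheaf.algebra_section_stalk X.presheaf ⟨ξ, hξU⟩)
      (hU.isLocalization_stalk ⟨ξ, hξU⟩) _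
    rw [← h1, hyeq, Ideal.map_span, Set.image_singleton]
    rfl
  exact dvr_of_maximalIdeal_eq_span _ (BlowupIso.germ_mem_nonZeroDivisors hU f hfnzd ξ hξU) hmax

/-- The ideal of an integral closed subscheme on an affine open meeting it is prime. -/
theorem ideal_isPrime_of_isIntegral (D : X.IdealSheafData) [IsIntegral D.subscheme]
    {U : X.Opens} (hU : IsAffineOpen U) (x : X) (hxU : x ∈ U) (hx : x ∈ D.support) :
    (D.ideal ⟨U, hU⟩).IsPrime := by
  have hr : x ∈ Set.range D.subschemeι := by rw [D.range_subschemeι]; exact hx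
  obtain ⟨d, hd⟩ := hr
  haveI : IsDomain Γ(D.subscheme, D.subschemeι ⁻¹ᵁ U) :=
    @IsIntegral.component_integral _ _ (D.subschemeι ⁻¹ᵁ U)
      ⟨⟨d, show D.subschemeι d ∈ U by rw [hd]; exact hxU⟩⟩
  have e := (D.subschemeObjIso ⟨U, hU⟩).commRingCatIsoToRingEquiv
  haveI : IsDomain (Γ(X, U) ⧸ D.ideal ⟨U, hU⟩) := MulEquiv.isDomain _ e.symm.toMulEquiv
  exact (Ideal.Quotient.isDomain_iff_prime _).mp inferInstance

/-- The prime of the generic point of `V(D)` on an affine open is the ideal of `D` (if prime). -/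
theorem primeIdealOf_eq_of_isGenericPoint (D : X.IdealSheafData) {U : X.Opens}
    (hU : IsAffineOpen U) (hprime : (D.ideal ⟨U, hU⟩).IsPrime)
    (ξ : X) (hξ : IsGenericPoint ξ (D.support : Set X)) (hξU : ξ ∈ U) :
    (hU.primeIdealOf ⟨ξ, hξU⟩).asIdeal = D.ideal ⟨U, hU⟩ := by
  have hξs : ξ ∈ (D.support : Set X) := hξ.mem
  set y := hU.primeIdealOf ⟨ξ, hξU⟩ with hy
  have hyξ : hU.fromSpec y = ξ := hU.fromSpec_primeIdealOf ⟨ξ, hξU⟩
  have hle1 : D.ideal ⟨U, hU⟩ ≤ y.asIdeal := by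
    rw [← fromSpec_mem_support_iff, hyξ]; exact hξs
  have hle2 : y.asIdeal ≤ D.ideal ⟨U, hU⟩ := by
    let z : PrimeSpectrum Γ(X, U) := ⟨D.ideal ⟨U, hU⟩, hprime⟩
    have hz : hU.fromSpec z ∈ (D.support : Set X) :=
      (fromSpec_mem_support_iff D hU z).mpr le_rfl
    have hsp : hU.fromSpec y ⤳ hU.fromSpec z := by rw [hyξ]; exact hξ.specializes hz
    have hsp' : y ⤳ z := hU.fromSpec.isOpenEmbedding.toIsInducing.specializes_iff.mp hsp
    exact (PrimeSpectrum.le_iff_specializes y z).mpr hsp'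
  exact le_antisymm hle2 hle1

/-- An integral closed subscheme of codimension one all of whose points have factorial local rings
is an effective Cartier divisor. -/
theorem isEffCartier_of_ufd [IsLocallyNoetherian X] (𝓘 : X.IdealSheafData)
    [IsIntegral 𝓘.subscheme]
    (hcodim : ringKrullDim (X.presheaf.stalk (𝓘.subschemeι (genericPoint ↥𝓘.subscheme))) = 1)
    (hufd : ∀ x : ↥X, x ∈ 𝓘.support →
      IsDomain (X.presheaf.stalk x) ∧ UniqueFactorizationMonoid (X.presheaf.stalk x)) :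
    BlowUp.IsEffCartierIdeal 𝓘 := by
  intro x
  by_cases hx : x ∈ 𝓘.support
  swap
  · exact LocalPrincipal.exists_affine_top 𝓘 x hx
  obtain ⟨_, ⟨U, hU, rfl⟩, hxU, -⟩ :=
    X.isBasis_affineOpens.exists_subset_of_mem_open (Set.mem_univ x) isOpen_univ
  have hprime : (𝓘.ideal ⟨U, hU⟩).IsPrime := ideal_isPrime_of_isIntegral 𝓘 hU x hxU hx
  -- the generic point
  set ξ := 𝓘.subschemeι (genericPoint ↥𝓘.subscheme) with hξdef
  have hξgen : IsGenericPoint ξ (𝓘.support : Set X) := by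
    have h1 := (genericPoint_spec ↥𝓘.subscheme).image 𝓘.subschemeι.continuous
    rw [Set.image_univ, 𝓘.range_subschemeι, 𝓘.support.isClosed.closure_eq] at h1
    exact h1
  have hξU : ξ ∈ U := (hξgen.specializes hx).mem_open U.isOpen hxU
  have hJht : (𝓘.ideal ⟨U, hU⟩).height = 1 := by
    have h1 := ringKrullDim_stalk_eq_height hU ξ hξU
    rw [primeIdealOf_eq_of_isGenericPoint 𝓘 hU hprime ξ hξgen hξU, hcodim] at h1
    exact_mod_cast h1.symm
  -- the local ring at `x`
  obtain ⟨hdom, hUFD⟩ := hufd x hx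
  set p := (hU.primeIdealOf ⟨x, hxU⟩).asIdeal with hp
  have hJp : 𝓘.ideal ⟨U, hU⟩ ≤ p := by
    have := (fromSpec_mem_support_iff 𝓘 hU (hU.primeIdealOf ⟨x, hxU⟩)).mp
      (by rw [hU.fromSpec_primeIdealOf ⟨x, hxU⟩]; exact hx)
    exact this
  letI alg : Algebra Γ(X, U) (X.presheaf.stalk x) :=
    TopCat.Presheaf.algebra_section_stalk X.presheaf ⟨x, hxU⟩
  haveI hloc : IsLocalization.AtPrime (X.presheaf.stalk x) p := hU.isLocalization_stalk ⟨x, hxU⟩
  have hdisj : Disjoint (p.primeCompl : Set Γ(X, U)) (𝓘.ideal ⟨U, hU⟩ : Set Γ(X, U)) := by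
    rw [Set.disjoint_left]
    intro a ha haJ
    exact ha (hJp haJ)
  set P : Ideal (X.presheaf.stalk x) :=
    Ideal.map (algebraMap Γ(X, U) (X.presheaf.stalk x)) (𝓘.ideal ⟨U, hU⟩) with hP
  haveI hPprime : P.IsPrime :=
    IsLocalization.isPrime_of_isPrime_disjoint p.primeCompl _ _ hprime hdisj
  have hPht : P.height = 1 := by
    rw [← IsLocalization.height_under p.primeCompl P,
      IsLocalization.under_map_of_isPrime_disjoint p.primeCompl _ hprime hdisj, hJht]
  have hPne : P ≠ ⊥ := by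
    intro h0
    rw [h0, Ideal.height_bot] at hPht
    exact zero_ne_one hPht
  obtain ⟨π, hπP, hπ⟩ := hPprime.exists_mem_prime_of_ne_bot hPne
  have hπnzd : π ∈ nonZeroDivisors (X.presheaf.stalk x) := mem_nonZeroDivisors_of_ne_zero hπ.ne_zero
  have hPeq : P = Ideal.span {π} := by
    have hle : Ideal.span {π} ≤ P := (Ideal.span_singleton_le_iff_mem P).mpr hπP
    by_contra hne
    have hlt : Ideal.span {π} < P := lt_of_le_of_ne hle (Ne.symm hne)
    haveI : (Ideal.span {π}).IsPrime := (Ideal.span_singleton_prime hπ.ne_zero).mpr hπ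
    have h1 := Ideal.height_strict_mono_of_isPrime hlt
    have h2 := Ideal.one_le_height_span_singleton_of_mem_nonZeroDivisors hπnzd
    rw [hPht] at h1
    exact absurd (h2.trans_lt h1) (lt_irrefl _)
  exact LocalPrincipal.exists_affine_principal 𝓘 x ⟨U, hU⟩ hxU π hπnzd hPeq

end Groth.Agent.Helper4.CartierDim
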