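import Mathlib
import Groth.Prelude.Def_Flat
import Groth.Prelude.Def_BlowUp2
import Groth.Agent.Lib.Helper4.BlowupFormal

/-!
# Local dimension drops on an effective Cartier divisor
-/

namespace Groth.Agent.Helper4.CartierLocalDim

open AlgebraicGeometry CategoryTheory TopologicalSpace Opposite

universe u

set_option linter.style.haveILetI false

variable {S : Scheme.{u}}

theorem topologicalKrullDim_nonneg' (T : Type*) [TopologicalSpace T] [Nonempty T] :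
    0 ≤ topologicalKrullDim T := by
  obtain ⟨x⟩ := ‹Nonempty T›
  haveI : Nonempty (IrreducibleCloseds T) :=
    ⟨⟨closure {x}, isIrreducible_singleton.closure, isClosed_closure⟩⟩
  exact Order.krullDim_nonneg

theorem dim_affineOpen {V : S.Opens} (hV : IsAffineOpen V) :
    topologicalKrullDim (V : Set S) = ringKrullDim Γ(S, V) := by
  rw [← PrimeSpectrum.topologicalKrullDim_eq_ringKrullDim]
  exact IsHomeomorph.topologicalKrullDim_eq _ (Scheme.homeoOfIso hV.isoSpec).isHomeomorph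

theorem dim_preimage_affineOpen (𝓘 : S.IdealSheafData) {V : S.Opens} (hV : IsAffineOpen V) :
    topologicalKrullDim ((𝓘.subschemeι ⁻¹ᵁ V : 𝓘.subscheme.Opens) : Set 𝓘.subscheme) =
      ringKrullDim (Γ(S, V) ⧸ 𝓘.ideal ⟨V, hV⟩) := by
  have hr : ((𝓘.subschemeι ⁻¹ᵁ V : 𝓘.subscheme.Opens) : Set 𝓘.subscheme) =
      Set.range (𝓘.subschemeCover.f ⟨V, hV⟩) := by
    rw [← 𝓘.opensRange_subschemeCover_map ⟨V, hV⟩]; rfl
  rw [hr, ← PrimeSpectrum.topologicalKrullDim_eq_ringKrullDim]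
  symm
  exact IsHomeomorph.topologicalKrullDim_eq _
    ((𝓘.subschemeCover.f ⟨V, hV⟩).isOpenEmbedding.isEmbedding.toHomeomorph).isHomeomorph

theorem dim_preimage_add_one_le (𝓘 : S.IdealSheafData) {V : S.Opens} (hV : IsAffineOpen V)
    (f : Γ(S, V)) (hf : f ∈ nonZeroDivisors Γ(S, V)) (hfI : 𝓘.ideal ⟨V, hV⟩ = Ideal.span {f}) :
    topologicalKrullDim ((𝓘.subschemeι ⁻¹ᵁ V : 𝓘.subscheme.Opens) : Set 𝓘.subscheme) + 1 ≤
      topologicalKrullDim (V : Set S) := by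
  rw [dim_affineOpen hV, dim_preimage_affineOpen 𝓘 hV, hfI]
  exact ringKrullDim_quotient_succ_le_of_nonZeroDivisor hf

theorem localDim_add_one_le (𝓘 : S.IdealSheafData) (h𝓘 : BlowUp.IsEffCartierIdeal 𝓘)
    (d : ↥𝓘.subscheme) :
    FlatMor.localDim ↥𝓘.subscheme d + 1 ≤ FlatMor.localDim ↥S (𝓘.subschemeι d) := by
  set s := 𝓘.subschemeι d with hs
  unfold FlatMor.localDim
  apply le_iInf
  rintro ⟨U, hsU⟩
  obtain ⟨V₀, hsV₀, f₀, hf₀, hI₀⟩ := h𝓘 s
  obtain ⟨_, ⟨V, hV, rfl⟩, hsV, hVle⟩ := S.isBasis_affineOpens.exists_subset_of_mem_open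
    (show s ∈ ((V₀.1 ⊓ U : S.Opens) : Set S) from ⟨hsV₀, hsU⟩) (V₀.1 ⊓ U).isOpen
  have hVV₀ : (⟨V, hV⟩ : S.affineOpens) ≤ V₀ := fun y hy => (hVle hy).1
  obtain ⟨a1, a2⟩ := BlowupFormal.isEffCartier_restrict 𝓘 hVV₀ f₀ hf₀ hI₀
  have h1 := dim_preimage_add_one_le 𝓘 hV _ a1 a2
  have h2 : topologicalKrullDim (V : Set S) ≤ topologicalKrullDim (U : Set S) :=
    (Topology.IsEmbedding.inclusion (fun y hy => (hVle hy).2)).isInducing.topologicalKrullDim_le
  have h3 : (⨅ W : {W : TopologicalSpace.Opens ↥𝓘.subscheme // d ∈ W},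
      topologicalKrullDim (W.1 : Set ↥𝓘.subscheme)) ≤
      topologicalKrullDim ((𝓘.subschemeι ⁻¹ᵁ V : 𝓘.subscheme.Opens) : Set 𝓘.subscheme) :=
    iInf_le (fun W : {W : TopologicalSpace.Opens ↥𝓘.subscheme // d ∈ W} =>
      topologicalKrullDim (W.1 : Set ↥𝓘.subscheme)) ⟨𝓘.subschemeι ⁻¹ᵁ V, hsV⟩
  exact (add_le_add_left h3 1).trans (h1.trans h2)

theorem localDim_nonneg (T : Type*) [TopologicalSpace T] (x : T) : 0 ≤ FlatMor.localDim T x := by
  unfold FlatMor.localDim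
  apply le_iInf
  rintro ⟨U, hxU⟩
  haveI : Nonempty ↥(U : Set T) := ⟨⟨x, hxU⟩⟩
  exact topologicalKrullDim_nonneg' _

theorem lt_of_add_one_le {a b : WithBot ℕ∞} (h : a + 1 ≤ b) (hb0 : 0 ≤ b) (hb : b ≠ ⊤) : a < b := by
  induction a using WithBot.recBotCoe with
  | bot => exact lt_of_lt_of_le (WithBot.bot_lt_coe (0 : ℕ∞)) hb0
  | coe a =>
    induction b using WithBot.recBotCoe with
    | bot => exact absurd hb0 (by simp)
    | coe b =>
      have h' : a + 1 ≤ b := by exact_mod_cast h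
      have hb' : b ≠ ⊤ := by
        intro hbt; apply hb; rw [hbt]; rfl
      have ha' : a ≠ ⊤ := by
        intro hat
        rw [hat] at h'
        exact hb' (top_le_iff.mp (le_trans (by simp) h'))
      exact_mod_cast (ENat.add_one_le_iff ha').mp h'

theorem localDim_lt (𝓘 : S.IdealSheafData) (h𝓘 : BlowUp.IsEffCartierIdeal 𝓘)
    (d : ↥𝓘.subscheme) (hfin : FlatMor.localDim ↥S (𝓘.subschemeι d) ≠ ⊤) :
    FlatMor.localDim ↥𝓘.subscheme d < FlatMor.localDim ↥S (𝓘.subschemeι d) :=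
  lt_of_add_one_le (localDim_add_one_le 𝓘 h𝓘 d) (localDim_nonneg _ _) hfin

end Groth.Agent.Helper4.CartierLocalDim
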