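import Mathlib

/-!
# Proportional effective Cartier divisors with connected support
-/

set_option autoImplicit false
set_option linter.style.haveILetI false

universe u

open CategoryTheory AlgebraicGeometry TopologicalSpace

namespace Groth.Agent.Helper4.CartierPropor

section Algebra

variable {A : Type*} [CommRing A]

theorem pow_eq_of_span_pow_eq (g : A) (hg : g ∈ nonZeroDivisors A) (hu : ¬ IsUnit g) (p q : ℕ)
    (h : Ideal.span {g} ^ p = Ideal.span {g} ^ q) : p = q := by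
  wlog hpq : p ≤ q generalizing p q
  · exact (this q p h.symm (le_of_not_ge hpq)).symm
  by_contra hne
  have hlt : p < q := lt_of_le_of_ne hpq hne
  rw [Ideal.span_singleton_pow, Ideal.span_singleton_pow] at h
  have h1 : g ^ p ∈ Ideal.span {g ^ q} := h ▸ Ideal.mem_span_singleton_self (g ^ p)
  obtain ⟨c, hc⟩ := Ideal.mem_span_singleton'.mp h1
  obtain ⟨k, rfl⟩ := Nat.exists_eq_add_of_lt hlt
  have h2 : (c * g ^ k * g) * g ^ p = 1 * g ^ p := by
    rw [one_mul]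
    calc (c * g ^ k * g) * g ^ p = c * g ^ (p + k + 1) := by ring
      _ = g ^ p := hc
  have h3 : c * g ^ k * g = 1 := (mul_cancel_right_mem_nonZeroDivisors (pow_mem hg p)).mp h2
  exact hu (IsUnit.of_mul_eq_one (c * g ^ k) (by rw [mul_comm]; exact h3))

theorem mul_eq_mul_of_span_pow_eq (g g' : A) (hg : g ∈ nonZeroDivisors A)
    (hg' : g' ∈ nonZeroDivisors A) (hu : ¬ IsUnit g ∨ ¬ IsUnit g') (m n m' n' : ℕ)
    (h1 : Ideal.span {g} ^ m = Ideal.span {g'} ^ n)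
    (h2 : Ideal.span {g} ^ m' = Ideal.span {g'} ^ n') : m * n' = m' * n := by
  rcases hu with hu | hu
  · apply pow_eq_of_span_pow_eq g hg hu
    rw [pow_mul, h1, ← pow_mul, mul_comm n n', pow_mul, ← h2, ← pow_mul]
  · have h3 : n * m' = n' * m := by
      apply pow_eq_of_span_pow_eq g' hg' hu
      rw [pow_mul, ← h1, ← pow_mul, mul_comm m m', pow_mul, h2, ← pow_mul]
    rw [mul_comm m n', ← h3, mul_comm]

theorem parallel_trans (m n m' n' m₁ n₁ : ℕ) (h0 : (m, n) ≠ (0, 0)) (h1 : m * n₁ = m₁ * n)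
    (h2 : m * n' = m' * n) : m' * n₁ = m₁ * n' := by
  rcases Nat.eq_zero_or_pos m with hm | hm
  · subst hm
    have hn : n ≠ 0 := fun h => h0 (by rw [h])
    have hm₁ : m₁ = 0 := by
      rw [zero_mul] at h1
      exact (Nat.mul_eq_zero.mp h1.symm).resolve_right hn
    have hm' : m' = 0 := by
      rw [zero_mul] at h2
      exact (Nat.mul_eq_zero.mp h2.symm).resolve_right hn
    rw [hm₁, hm', zero_mul, zero_mul]
  · apply Nat.eq_of_mul_eq_mul_left hm
    calc m * (m' * n₁) = m' * (m * n₁) := by ring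
      _ = m' * (m₁ * n) := by rw [h1]
      _ = m₁ * (m' * n) := by ring
      _ = m₁ * (m * n') := by rw [h2]
      _ = m * (m₁ * n') := by ring

end Algebra

section Geometry

variable {X : Scheme.{u}}

lemma germ_mem_nonZeroDivisors {W : X.Opens} (hW : IsAffineOpen W)
    (σ : Γ(X, W)) (hσ : σ ∈ nonZeroDivisors Γ(X, W)) (x : X) (hx : x ∈ W) :
    X.presheaf.germ W x hx σ ∈ nonZeroDivisors (X.presheaf.stalk x) := by
  let x₀ : W := ⟨x, hx⟩
  have hloc := hW.isLocalization_stalk x₀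
  exact @IsLocalization.map_nonZeroDivisors_le Γ(X, W) _ (hW.primeIdealOf x₀).asIdeal.primeCompl
    (X.presheaf.stalk x) _ (TopCat.Presheaf.algebra_section_stalk X.presheaf x₀) hloc
    _ ⟨σ, hσ, rfl⟩

/-- The ideal of the local ring at `x` generated by an ideal sheaf. -/
noncomputable def stalkIdeal (I : X.IdealSheafData) (x : X) : Ideal (X.presheaf.stalk x) :=
  ⨆ (U : X.affineOpens) (hx : x ∈ U.1), (I.ideal U).map (X.presheaf.germ U.1 x hx).hom

lemma map_germ_eq_of_le (I : X.IdealSheafData) {W U : X.affineOpens} (h : W ≤ U) (x : X)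
    (hx : x ∈ W.1) :
    (I.ideal W).map (X.presheaf.germ W.1 x hx).hom =
      (I.ideal U).map (X.presheaf.germ U.1 x (h hx)).hom := by
  rw [← I.map_ideal h, Ideal.map_map]
  congr 1
  rw [← CommRingCat.hom_comp]
  exact congrArg CommRingCat.Hom.hom (X.presheaf.germ_res (homOfLE h) x hx)

lemma stalkIdeal_eq (I : X.IdealSheafData) (U : X.affineOpens) (x : X) (hx : x ∈ U.1) :
    stalkIdeal I x = (I.ideal U).map (X.presheaf.germ U.1 x hx).hom := by
  apply le_antisymm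
  · refine iSup₂_le fun V hV => ?_
    obtain ⟨_, ⟨W, hW, rfl⟩, hxW, hWUV⟩ := X.isBasis_affineOpens.exists_subset_of_mem_open
      (show x ∈ ((U.1 ⊓ V.1 : X.Opens) : Set X) from ⟨hx, hV⟩) (U.1 ⊓ V.1).isOpen
    let W' : X.affineOpens := ⟨W, hW⟩
    have hxW' : x ∈ W'.1 := hxW
    have hWU : W' ≤ U := fun y hy => (hWUV hy).1
    have hWV : W' ≤ V := fun y hy => (hWUV hy).2
    rw [← map_germ_eq_of_le I hWV x hxW', map_germ_eq_of_le I hWU x hxW']
  · exact le_iSup₂ (f := fun (V : X.affineOpens) (hV : x ∈ V.1) =>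
      (I.ideal V).map (X.presheaf.germ V.1 x hV).hom) U hx

lemma stalkIdeal_pow_eq (D E : X.IdealSheafData) (U : X.affineOpens) (m n : ℕ)
    (h : D.ideal U ^ m = E.ideal U ^ n) (x : X) (hx : x ∈ U.1) :
    stalkIdeal D x ^ m = stalkIdeal E x ^ n := by
  rw [stalkIdeal_eq D U x hx, stalkIdeal_eq E U x hx, ← Ideal.map_pow, ← Ideal.map_pow, h]

lemma ideal_pow_eq_of_stalk (D E : X.IdealSheafData) (m n : ℕ)
    (h : ∀ x : X, stalkIdeal D x ^ m = stalkIdeal E x ^ n) (U : X.affineOpens) :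
    D.ideal U ^ m = E.ideal U ^ n := by
  rw [U.2.ideal_ext_iff]
  intro x hx
  rw [Ideal.map_pow, Ideal.map_pow, ← stalkIdeal_eq D U x hx, ← stalkIdeal_eq E U x hx]
  exact h x

lemma stalkIdeal_eq_top_iff (I : X.IdealSheafData) (x : X) :
    stalkIdeal I x = ⊤ ↔ x ∉ I.support := by
  obtain ⟨_, ⟨W, hW, rfl⟩, hxW, -⟩ :=
    X.isBasis_affineOpens.exists_subset_of_mem_open (Set.mem_univ x) isOpen_univ
  let U : X.affineOpens := ⟨W, hW⟩
  have hxU : x ∈ U.1 := hxW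
  rw [stalkIdeal_eq I U x hxU, Scheme.IdealSheafData.mem_support_iff_of_mem hxU,
    Scheme.mem_zeroLocus_iff]
  constructor
  · intro htop hzero
    have hle : (I.ideal U).map (X.presheaf.germ U.1 x hxU).hom ≤
        IsLocalRing.maximalIdeal (X.presheaf.stalk x) := by
      rw [Ideal.map_le_iff_le_comap]
      intro f hf
      rw [Ideal.mem_comap, IsLocalRing.mem_maximalIdeal, mem_nonunits_iff]
      intro hu
      exact hzero f hf ((X.mem_basicOpen f x hxU).mpr hu)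
    rw [htop] at hle
    exact (IsLocalRing.maximalIdeal.isMaximal _).ne_top (top_le_iff.mp hle)
  · intro hnz
    push Not at hnz
    obtain ⟨f, hf, hxf⟩ := hnz
    exact Ideal.eq_top_of_isUnit_mem _ (Ideal.mem_map_of_mem _ hf)
      ((X.mem_basicOpen f x hxU).mp hxf)

lemma exists_generator (D : X.IdealSheafData)
    (hD : ∀ x : X, ∃ U : X.affineOpens, x ∈ (U : X.Opens) ∧ ∃ g : Γ(X, U),
      g ∈ nonZeroDivisors Γ(X, U) ∧ D.ideal U = Ideal.span {g}) (x : X) :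
    ∃ g : X.presheaf.stalk x, g ∈ nonZeroDivisors (X.presheaf.stalk x) ∧
      stalkIdeal D x = Ideal.span {g} := by
  obtain ⟨U, hxU, g, hg, hDU⟩ := hD x
  refine ⟨X.presheaf.germ U.1 x hxU g, germ_mem_nonZeroDivisors U.2 g hg x hxU, ?_⟩
  rw [stalkIdeal_eq D U x hxU, hDU, Ideal.map_span, Set.image_singleton]

theorem main [IsNoetherian X] (D E : X.IdealSheafData)
    (hD : ∀ x : X, ∃ U : X.affineOpens, x ∈ (U : X.Opens) ∧ ∃ g : Γ(X, U),
      g ∈ nonZeroDivisors Γ(X, U) ∧ D.ideal U = Ideal.span {g})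
    (hE : ∀ x : X, ∃ U : X.affineOpens, x ∈ (U : X.Opens) ∧ ∃ g : Γ(X, U),
      g ∈ nonZeroDivisors Γ(X, U) ∧ E.ideal U = Ideal.span {g})
    (hconn : IsPreconnected ((D.support : Set X) ∪ (E.support : Set X)))
    (hloc : ∀ x : X, ∃ U : X.affineOpens, x ∈ (U : X.Opens) ∧
      ∃ m n : ℕ, (m, n) ≠ (0, 0) ∧ D.ideal U ^ m = E.ideal U ^ n) :
    ∃ m n : ℕ, (m, n) ≠ (0, 0) ∧ ∀ U : X.affineOpens, D.ideal U ^ m = E.ideal U ^ n := by
  classical
  suffices h : ∃ m n : ℕ, (m, n) ≠ (0, 0) ∧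
      ∀ x : X, stalkIdeal D x ^ m = stalkIdeal E x ^ n by
    obtain ⟨m, n, hmn, h⟩ := h
    exact ⟨m, n, hmn, ideal_pow_eq_of_stalk D E m n h⟩
  obtain ⟨T, hT⟩ : ∃ T : Set X, T = (D.support : Set X) ∪ (E.support : Set X) := ⟨_, rfl⟩
  rw [← hT] at hconn
  have hoff : ∀ x, x ∉ T → ∀ m n : ℕ, stalkIdeal D x ^ m = stalkIdeal E x ^ n := by
    intro x hx m n
    have h1 : stalkIdeal D x = ⊤ :=
      (stalkIdeal_eq_top_iff D x).mpr (fun h => hx (hT ▸ Or.inl h))
    have h2 : stalkIdeal E x = ⊤ :=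
      (stalkIdeal_eq_top_iff E x).mpr (fun h => hx (hT ▸ Or.inr h))
    rw [h1, h2, Ideal.top_pow, Ideal.top_pow]
  have hrank : ∀ x ∈ T, ∀ m n m' n' : ℕ, stalkIdeal D x ^ m = stalkIdeal E x ^ n →
      stalkIdeal D x ^ m' = stalkIdeal E x ^ n' → m * n' = m' * n := by
    intro x hx m n m' n' h1 h2
    obtain ⟨g, hg, hgD⟩ := exists_generator D hD x
    obtain ⟨g', hg', hgE⟩ := exists_generator E hE x
    have hx' : x ∈ (D.support : Set X) ∪ (E.support : Set X) := hT ▸ hx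
    rw [hgD, hgE] at h1 h2
    refine mul_eq_mul_of_span_pow_eq g g' hg hg' ?_ m n m' n' h1 h2
    rcases hx' with hx' | hx'
    · left
      intro hu
      have h3 : stalkIdeal D x = ⊤ := by
        rw [hgD]
        exact Ideal.span_singleton_eq_top.mpr hu
      exact (stalkIdeal_eq_top_iff D x).mp h3 hx'
    · right
      intro hu
      have h3 : stalkIdeal E x = ⊤ := by
        rw [hgE]
        exact Ideal.span_singleton_eq_top.mpr hu
      exact (stalkIdeal_eq_top_iff E x).mp h3 hx'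
  by_cases hTe : T = ∅
  · refine ⟨1, 1, by simp, fun x => hoff x (by rw [hTe]; exact Set.notMem_empty x) 1 1⟩
  obtain ⟨x₁, hx₁⟩ := Set.nonempty_iff_ne_empty.mpr hTe
  obtain ⟨U₁, hx₁U, m₁, n₁, hmn₁, hrel₁⟩ := hloc x₁
  obtain ⟨u, hudef⟩ : ∃ u : Set X, u = {y | ∃ U : X.affineOpens, y ∈ U.1 ∧ ∃ m n : ℕ,
    (m, n) ≠ (0, 0) ∧ D.ideal U ^ m = E.ideal U ^ n ∧ m * n₁ = m₁ * n} := ⟨_, rfl⟩
  obtain ⟨v, hvdef⟩ : ∃ v : Set X, v = {y | ∃ U : X.affineOpens, y ∈ U.1 ∧ ∃ m n : ℕ,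
    (m, n) ≠ (0, 0) ∧ D.ideal U ^ m = E.ideal U ^ n ∧ m * n₁ ≠ m₁ * n} := ⟨_, rfl⟩
  have hu : IsOpen u := by
    rw [isOpen_iff_forall_mem_open]
    intro y hy
    rw [hudef] at hy
    obtain ⟨U, hyU, m, n, hmn, hrel, hpar⟩ := hy
    refine ⟨U.1, fun z hz => ?_, U.1.isOpen, hyU⟩
    rw [hudef]
    exact ⟨U, hz, m, n, hmn, hrel, hpar⟩
  have hv : IsOpen v := by
    rw [isOpen_iff_forall_mem_open]
    intro y hy
    rw [hvdef] at hy
    obtain ⟨U, hyU, m, n, hmn, hrel, hpar⟩ := hy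
    refine ⟨U.1, fun z hz => ?_, U.1.isOpen, hyU⟩
    rw [hvdef]
    exact ⟨U, hz, m, n, hmn, hrel, hpar⟩
  have hTuv : T ⊆ u ∪ v := by
    intro y _
    obtain ⟨U, hyU, m, n, hmn, hrel⟩ := hloc y
    by_cases hpar : m * n₁ = m₁ * n
    · left
      rw [hudef]
      exact ⟨U, hyU, m, n, hmn, hrel, hpar⟩
    · right
      rw [hvdef]
      exact ⟨U, hyU, m, n, hmn, hrel, hpar⟩
  have hdisj : T ∩ (u ∩ v) = ∅ := by
    rw [Set.eq_empty_iff_forall_notMem]
    rintro y ⟨hyT, hyu, hyv⟩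
    rw [hudef] at hyu
    rw [hvdef] at hyv
    obtain ⟨U, hyU, m, n, hmn, hrel, hpar⟩ := hyu
    obtain ⟨U', hyU', m', n', hmn', hrel', hpar'⟩ := hyv
    apply hpar'
    have h1 := stalkIdeal_pow_eq D E U m n hrel y hyU
    have h2 := stalkIdeal_pow_eq D E U' m' n' hrel' y hyU'
    have h3 := hrank y hyT m n m' n' h1 h2
    exact parallel_trans m n m' n' m₁ n₁ hmn hpar h3
  have hx₁u : x₁ ∈ u := by
    rw [hudef]
    exact ⟨U₁, hx₁U, m₁, n₁, hmn₁, hrel₁, rfl⟩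
  have hTu : T ⊆ u := by
    rcases isPreconnected_iff_subset_of_disjoint.mp hconn u v hu hv hTuv hdisj with h | h
    · exact h
    · exfalso
      have h4 : x₁ ∈ T ∩ (u ∩ v) := ⟨hx₁, hx₁u, h hx₁⟩
      rw [hdisj] at h4
      exact h4
  have hpar : ∀ y ∈ T, ∀ m' n' : ℕ, stalkIdeal D y ^ m' = stalkIdeal E y ^ n' →
      m' * n₁ = m₁ * n' := by
    intro y hyT m' n' h2
    have hyu := hTu hyT
    rw [hudef] at hyu
    obtain ⟨U, hyU, m, n, hmn, hrel, hp⟩ := hyu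
    have h1 := stalkIdeal_pow_eq D E U m n hrel y hyU
    exact parallel_trans m n m' n' m₁ n₁ hmn hp (hrank y hyT m n m' n' h1 h2)
  choose U hxU m n hmn hrel using hloc
  obtain ⟨F, hF⟩ : ∃ F : Finset X, (Set.univ : Set X) ⊆ ⋃ z ∈ F, ((U z).1 : Set X) :=
    isCompact_univ.elim_finite_subcover (fun z : X => ((U z).1 : Set X))
      (fun z => (U z).1.isOpen) (fun y _ => Set.mem_iUnion.mpr ⟨y, hxU y⟩)
  obtain ⟨P, hPdef⟩ : ∃ P : ℕ, P = ∏ z ∈ F, (m z + n z) := ⟨_, rfl⟩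
  have hP : P ≠ 0 := by
    rw [hPdef]
    refine Finset.prod_ne_zero_iff.mpr (fun z _ h0 => hmn z ?_)
    have h5 := Nat.add_eq_zero_iff.mp h0
    rw [h5.1, h5.2]
  refine ⟨m₁ * P, n₁ * P, ?_, fun x => ?_⟩
  · intro h0
    have h1 : m₁ * P = 0 := (Prod.mk.inj h0).1
    have h2 : n₁ * P = 0 := (Prod.mk.inj h0).2
    apply hmn₁
    rw [(Nat.mul_eq_zero.mp h1).resolve_right hP, (Nat.mul_eq_zero.mp h2).resolve_right hP]
  · by_cases hxT : x ∈ T
    · obtain ⟨z, hzF, hxz⟩ := Set.mem_iUnion₂.mp (hF (Set.mem_univ x))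
      have h1 := stalkIdeal_pow_eq D E (U z) (m z) (n z) (hrel z) x hxz
      have hp := hpar x hxT (m z) (n z) h1
      obtain ⟨Q, hQdef⟩ : ∃ Q : ℕ, Q = ∏ w ∈ F.erase z, (m w + n w) := ⟨_, rfl⟩
      have hPz : P = (m z + n z) * Q := by
        rw [hPdef, hQdef]
        exact (Finset.mul_prod_erase F (fun w => m w + n w) hzF).symm
      have hM : m₁ * P = m z * ((m₁ + n₁) * Q) := by
        have h6 : m₁ * (m z + n z) = m z * (m₁ + n₁) := by
          rw [mul_add, mul_add, hp]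
          ring
        calc m₁ * P = (m₁ * (m z + n z)) * Q := by rw [hPz]; ring
          _ = (m z * (m₁ + n₁)) * Q := by rw [h6]
          _ = m z * ((m₁ + n₁) * Q) := by ring
      have hN : n₁ * P = n z * ((m₁ + n₁) * Q) := by
        have h6 : n₁ * (m z + n z) = n z * (m₁ + n₁) := by
          rw [mul_add, mul_add, mul_comm n₁ (m z), hp]
          ring
        calc n₁ * P = (n₁ * (m z + n z)) * Q := by rw [hPz]; ring
          _ = (n z * (m₁ + n₁)) * Q := by rw [h6]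
          _ = n z * ((m₁ + n₁) * Q) := by ring
      rw [hM, hN, pow_mul, h1, ← pow_mul]
    · exact hoff x hxT _ _

end Geometry

end Groth.Agent.Helper4.CartierPropor
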