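import Mathlib
import Groth.Prelude.Def_CohB1
import Groth.Prelude.Def_Curv2
import Groth.Agent.Lead.QCoh
import Groth.Agent.Lead.QCoh4
import Groth.Agent.Lead.FinType
import Groth.Agent.Lead.FinType3
import Groth.Agent.Lib.Helper4.HartogsMod

/-!
# Modules with zero-dimensional support on Noetherian schemes are globally generated
-/

set_option autoImplicit false
set_option linter.style.haveILetI false

universe u

open CategoryTheory CategoryTheory.Limits AlgebraicGeometry Opposite TopologicalSpace
open Groth.Agent.Lead.QCoh Groth.Agent.Lead.FinType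

namespace Groth.Agent.Helper4.ZeroDimGG

section Topology

variable {T : Type*} [TopologicalSpace T]

theorem isClosed_singleton_of_dim_zero [T0Space T] (h : topologicalKrullDim T ≤ 0) (t : T) :
    IsClosed ({t} : Set T) := by
  have hmax := Order.krullDim_nonpos_iff_forall_isMax.mp h
  have hcl : closure ({t} : Set T) = {t} := by
    apply Set.Subset.antisymm _ subset_closure
    intro y hy
    let A : IrreducibleCloseds T :=
      ⟨closure {y}, isIrreducible_singleton.closure, isClosed_closure⟩
    let B : IrreducibleCloseds T :=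
      ⟨closure {t}, isIrreducible_singleton.closure, isClosed_closure⟩
    have hAB : A ≤ B := by
      show closure ({y} : Set T) ⊆ closure {t}
      exact closure_minimal (Set.singleton_subset_iff.mpr hy) isClosed_closure
    have hBA : B ≤ A := hmax A hAB
    have hty : t ∈ closure ({y} : Set T) := hBA (subset_closure (Set.mem_singleton t))
    have h1 : t ⤳ y := specializes_iff_mem_closure.mpr hy
    have h2 : y ⤳ t := specializes_iff_mem_closure.mpr hty
    exact (h2.antisymm h1).eq
  rw [← hcl]
  exact isClosed_closure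

theorem finite_of_dim_zero [T0Space T] [NoetherianSpace T] (h : topologicalKrullDim T ≤ 0) :
    Finite T := by
  have hmax := Order.krullDim_nonpos_iff_forall_isMax.mp h
  have hfin : (irreducibleComponents T).Finite := NoetherianSpace.finite_irreducibleComponents
  have hsing : ∀ Z ∈ irreducibleComponents T, Z.Finite := by
    intro Z hZ
    have hirr : IsIrreducible Z := hZ.1
    have hcl : IsClosed Z := isClosed_of_mem_irreducibleComponents Z hZ
    obtain ⟨z, hz⟩ := hirr.nonempty
    let A : IrreducibleCloseds T :=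
      ⟨{z}, isIrreducible_singleton, isClosed_singleton_of_dim_zero h z⟩
    let B : IrreducibleCloseds T := ⟨Z, hirr, hcl⟩
    have hAB : A ≤ B := by
      show ({z} : Set T) ⊆ Z
      exact Set.singleton_subset_iff.mpr hz
    have hBA : B ≤ A := hmax A hAB
    have hZs : Z ⊆ {z} := hBA
    exact (Set.finite_singleton z).subset hZs
  have huniv : (Set.univ : Set T).Finite := by
    rw [← sUnion_irreducibleComponents]
    exact hfin.sUnion hsing
  exact Set.finite_univ_iff.mp huniv

end Topology

variable {X : Scheme.{u}}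

section Glue

/-- A germ at a closed point `x`, isolated in the support, is the germ of a global section. -/
theorem exists_global_section (F : X.Modules) (x : X) (hxc : IsClosed ({x} : Set X))
    (C : Set X) (hC : IsClosed C) (hxC : x ∉ C) (hsupp : CohB1.support F ⊆ C ∪ {x})
    (m : F.presheaf.stalk x) : ∃ τ : Γ(F, ⊤), F.presheaf.germ ⊤ x trivial τ = m := by
  obtain ⟨U₀, hxU₀, σ₀, rfl⟩ := TopCat.Presheaf.exists_germ_eq F.presheaf m
  let Cc : X.Opens := ⟨Cᶜ, hC.isOpen_compl⟩
  let U : X.Opens := U₀ ⊓ Cc
  let V : X.Opens := ⟨{x}ᶜ, hxc.isOpen_compl⟩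
  have hxU : x ∈ U := ⟨hxU₀, hxC⟩
  have hUU₀ : U ≤ U₀ := inf_le_left
  let Uι : ULift.{u} Bool → X.Opens := fun b => if b.down then U else V
  have hle : ∀ i, Uι i ≤ ⊤ := fun _ => le_top
  have hcov : (⊤ : X.Opens) ≤ iSup Uι := by
    intro y _
    by_cases hy : y = x
    · exact Opens.mem_iSup.mpr ⟨⟨true⟩, by rw [hy]; exact hxU⟩
    · exact Opens.mem_iSup.mpr ⟨⟨false⟩, hy⟩
  let sf : ∀ i, Γ(F, Uι i) := fun b =>
    match b with
    | ⟨true⟩ => F.presheaf.map (homOfLE hUU₀).op σ₀
    | ⟨false⟩ => 0
  have hzero : ∀ (W : X.Opens) (_ : W ≤ U) (_ : W ≤ V) (s : Γ(F, W)), s = 0 := by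
    intro W hWU hWV s
    apply HartogsMod.sec_ext
    intro y hy
    have hyC : y ∉ C := (hWU hy).2
    have hyx : y ≠ x := hWV hy
    have hns : y ∉ CohB1.support F := by
      intro hys
      rcases hsupp hys with h1 | h1
      · exact hyC h1
      · exact hyx h1
    have hsub : Subsingleton (F.presheaf.stalk y) := by
      by_contra hcon
      exact hns hcon
    exact Subsingleton.elim _ _
  have hcompat : ∀ i j, F.presheaf.map (homOfLE (inf_le_left : Uι i ⊓ Uι j ≤ Uι i)).op (sf i) =
      F.presheaf.map (homOfLE (inf_le_right : Uι i ⊓ Uι j ≤ Uι j)).op (sf j) := by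
    rintro ⟨i⟩ ⟨j⟩
    cases i <;> cases j
    · rfl
    · exact (hzero _ inf_le_right inf_le_left _).trans (hzero _ inf_le_right inf_le_left _).symm
    · exact (hzero _ inf_le_left inf_le_right _).trans (hzero _ inf_le_left inf_le_right _).symm
    · rfl
  obtain ⟨τ, hτ⟩ := HartogsMod.glue F Uι ⊤ hle hcov sf hcompat
  refine ⟨τ, ?_⟩
  have h1 := hτ ⟨true⟩
  have h2 := congrArg (F.presheaf.germ U x hxU) h1
  rw [TopCat.Presheaf.germ_res_apply] at h2
  rw [h2]
  exact TopCat.Presheaf.germ_res_apply F.presheaf (homOfLE hUU₀) x hxU σ₀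

end Glue

section GG

/-- If every germ of `F` is the germ of a global section then `F` is globally generated. -/
theorem isGloballyGenerated_of_germs (F : X.Modules)
    (h : ∀ (x : X) (m : F.presheaf.stalk x), ∃ τ : Γ(F, ⊤), F.presheaf.germ ⊤ x trivial τ = m) :
    Curv2.IsGloballyGenerated F := by
  let p : freeM X Γ(F, ⊤) ⟶ F :=
    (SheafOfModules.freeHomEquiv F).symm (fun t => ofTop F t)
  refine ⟨Γ(F, ⊤), p, ?_⟩
  apply epi_of_stalkMap_surjective p
  intro x m
  obtain ⟨τ, rfl⟩ := h x m
  refine ⟨(freeM X Γ(F, ⊤)).presheaf.germ ⊤ x trivial ((ιF τ).app ⊤ (toUnit ⊤ 1)), ?_⟩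
  rw [stalkMap_germ, app_ι_one F p τ ⊤]
  congr 1
  have h1 : SheafOfModules.freeHomEquiv F p τ = ofTop F τ := by
    have := (SheafOfModules.freeHomEquiv F).apply_symm_apply (fun t => ofTop F t)
    exact congrFun this τ
  rw [h1, secVal_ofTop]
  have h2 : (homOfLE (le_top : (⊤ : X.Opens) ≤ ⊤)).op = 𝟙 (op (⊤ : X.Opens)) := rfl
  rw [h2, CategoryTheory.Functor.map_id]
  rfl

end GG

section Main

theorem main_noetherian (X : Scheme.{u}) [IsNoetherian X] (F : X.Modules)
    (hcl : IsClosed (CohB1.support F))
    (hsupp : topologicalKrullDim (CohB1.support F) ≤ 0) :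
    Curv2.IsGloballyGenerated F := by
  classical
  apply isGloballyGenerated_of_germs
  intro x m
  by_cases hx : x ∈ CohB1.support F
  · haveI : Finite (CohB1.support F) := finite_of_dim_zero hsupp
    have hfin : (CohB1.support F).Finite := Set.toFinite _
    have hptS : ∀ y : CohB1.support F, IsClosed ({y} : Set (CohB1.support F)) :=
      fun y => isClosed_singleton_of_dim_zero hsupp y
    have hpt : ∀ y ∈ CohB1.support F, IsClosed ({y} : Set X) := by
      intro y hy
      have h1 := hcl.isClosedEmbedding_subtypeVal.isClosedMap _ (hptS ⟨y, hy⟩)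
      have h2 : (Subtype.val '' ({⟨y, hy⟩} : Set (CohB1.support F))) = {y} := by
        rw [Set.image_singleton]
      rw [h2] at h1
      exact h1
    let C : Set X := CohB1.support F \ {x}
    have hCfin : C.Finite := hfin.subset Set.diff_subset
    have hC : IsClosed C := by
      have h1 : C = ⋃ y ∈ C, ({y} : Set X) := by
        ext z; simp
      rw [h1]
      exact hCfin.isClosed_biUnion (fun y hy => hpt y hy.1)
    have hxC : x ∉ C := fun h => h.2 rfl
    have hsub : CohB1.support F ⊆ C ∪ {x} := by
      intro y hy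
      by_cases hyx : y = x
      · exact Or.inr hyx
      · exact Or.inl ⟨hy, hyx⟩
    exact exists_global_section F x (hpt x hx) C hC hxC hsub m
  · have hsub : Subsingleton (F.presheaf.stalk x) := by
      by_contra hcon
      exact hx hcon
    exact ⟨0, Subsingleton.elim _ _⟩

end Main

end Groth.Agent.Helper4.ZeroDimGG
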