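import Mathlib
import Groth.Prelude.Def_Coh
import Groth.Agent.Lib.Helper4.ZeroDimGG
import Groth.Agent.H10.CohTopB

/-!
# Modules with finite support consisting of closed points are flasque, hence acyclic
-/

set_option autoImplicit false
set_option linter.style.haveILetI false

universe u

open CategoryTheory CategoryTheory.Limits AlgebraicGeometry Opposite TopologicalSpace
open Groth.Agent.Lead.QCoh Groth.Agent.Lead.FinType

namespace Groth.Agent.Helper4.ZeroDimFlasque

variable {X : Scheme.{u}}

theorem surjective_res (F : X.Modules) (hfin : (CohB1.support F).Finite)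
    (hpt : ∀ y ∈ CohB1.support F, IsClosed ({y} : Set X)) {U V : X.Opens} (hVU : V ≤ U) :
    Function.Surjective (F.presheaf.map (homOfLE hVU).op) := by
  classical
  intro t
  let C : Set X := CohB1.support F ∩ (V : Set X)
  have hCfin : C.Finite := hfin.subset Set.inter_subset_left
  have hC : IsClosed C := by
    have h1 : C = ⋃ y ∈ C, ({y} : Set X) := by
      ext z; simp
    rw [h1]
    exact hCfin.isClosed_biUnion (fun y hy => hpt y hy.1)
  let Cc : X.Opens := ⟨Cᶜ, hC.isOpen_compl⟩
  let W : X.Opens := U ⊓ Cc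
  let Uι : ULift.{u} Bool → X.Opens := fun b => if b.down then V else W
  have hle : ∀ i, Uι i ≤ U := by
    rintro ⟨b⟩
    cases b
    · exact inf_le_left
    · exact hVU
  have hcov : U ≤ iSup Uι := by
    intro y hy
    by_cases hyC : y ∈ C
    · exact Opens.mem_iSup.mpr ⟨⟨true⟩, hyC.2⟩
    · exact Opens.mem_iSup.mpr ⟨⟨false⟩, ⟨hy, hyC⟩⟩
  let sf : ∀ i, Γ(F, Uι i) := fun b =>
    match b with
    | ⟨true⟩ => t
    | ⟨false⟩ => 0
  have hzero : ∀ (O : X.Opens) (_ : O ≤ V) (_ : O ≤ W) (s : Γ(F, O)), s = 0 := by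
    intro O hOV hOW s
    apply HartogsMod.sec_ext
    intro y hy
    have hyC : y ∉ C := (hOW hy).2
    have hns : y ∉ CohB1.support F := fun hys => hyC ⟨hys, hOV hy⟩
    have hsub : Subsingleton (F.presheaf.stalk y) := by
      by_contra hcon
      exact hns hcon
    exact Subsingleton.elim _ _
  have hcompat : ∀ i j, F.presheaf.map (homOfLE (inf_le_left : Uι i ⊓ Uι j ≤ Uι i)).op (sf i) =
      F.presheaf.map (homOfLE (inf_le_right : Uι i ⊓ Uι j ≤ Uι j)).op (sf j) := by
    rintro ⟨i⟩ ⟨j⟩
    cases i <;> cases j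
    · rfl
    · exact (hzero _ inf_le_right inf_le_left _).trans (hzero _ inf_le_right inf_le_left _).symm
    · exact (hzero _ inf_le_left inf_le_right _).trans (hzero _ inf_le_left inf_le_right _).symm
    · rfl
  obtain ⟨τ, hτ⟩ := HartogsMod.glue F Uι U hle hcov sf hcompat
  exact ⟨τ, hτ ⟨true⟩⟩

theorem isFlasque (F : X.Modules) (hfin : (CohB1.support F).Finite)
    (hpt : ∀ y ∈ CohB1.support F, IsClosed ({y} : Set X)) :
    TopCat.Sheaf.IsFlasque (Coh.toAb F) := by
  refine ⟨fun {U V} i => ?_⟩
  have h1 : Function.Surjective (F.presheaf.map (homOfLE i.unop.le).op) :=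
    surjective_res F hfin hpt i.unop.le
  exact (AddCommGrpCat.epi_iff_surjective _).mpr h1

theorem hh_eq_zero (X : Scheme.{u}) [IsNoetherian X] (F : X.Modules)
    (hcl : IsClosed (CohB1.support F))
    (hsupp : topologicalKrullDim (CohB1.support F) ≤ 0) (n : ℕ) (a : Coh.HH X F (n + 1)) :
    a = 0 := by
  haveI : Finite (CohB1.support F) := ZeroDimGG.finite_of_dim_zero hsupp
  have hfin : (CohB1.support F).Finite := Set.toFinite _
  have hptS : ∀ y : CohB1.support F, IsClosed ({y} : Set (CohB1.support F)) :=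
    fun y => ZeroDimGG.isClosed_singleton_of_dim_zero hsupp y
  have hpt : ∀ y ∈ CohB1.support F, IsClosed ({y} : Set X) := by
    intro y hy
    have h1 := hcl.isClosedEmbedding_subtypeVal.isClosedMap _ (hptS ⟨y, hy⟩)
    have h2 : (Subtype.val '' ({⟨y, hy⟩} : Set (CohB1.support F))) = {y} := by
      rw [Set.image_singleton]
    rw [h2] at h1
    exact h1
  haveI := isFlasque F hfin hpt
  exact Groth.Agent.H10.CohTopB.ext_const_eq_zero n (Coh.toAb F) a

end Groth.Agent.Helper4.ZeroDimFlasque
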