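import Mathlib
import Groth.Prelude.Def_Coh
import Groth.Agent.Lib.Helper4.ZeroDimFlasque
import Groth.Agent.H10.CohTopB

/-!
# Modules supported on a closed set of closed points of a locally Noetherian scheme
-/

set_option autoImplicit false
set_option linter.style.haveILetI false

universe u

open CategoryTheory CategoryTheory.Limits AlgebraicGeometry Opposite TopologicalSpace
open Groth.Agent.Lead.QCoh Groth.Agent.Lead.FinType

namespace Groth.Agent.Helper4.ClosedPtSupp

/-- In a Noetherian quasi-sober space, a closed set all of whose points are closed is finite. -/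
theorem finite_of_noetherian_quasiSober {T : Type*} [TopologicalSpace T] [NoetherianSpace T]
    [QuasiSober T] (Z : Set T) (hZ : IsClosed Z) (hpt : ∀ z ∈ Z, IsClosed ({z} : Set T)) :
    Z.Finite := by
  obtain ⟨S, hSf, hSc, hSi, hSU⟩ :=
    NoetherianSpace.exists_finite_set_isClosed_irreducible hZ
  rw [hSU]
  refine hSf.sUnion ?_
  intro t ht
  obtain ⟨η, hη⟩ := QuasiSober.sober (hSi t ht) (hSc t ht)
  have hηt : η ∈ t := hη.mem
  have hηZ : η ∈ Z := by
    rw [hSU]
    exact ⟨t, ht, hηt⟩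
  have h1 : closure ({η} : Set T) = t := hη
  rw [(hpt η hηZ).closure_eq] at h1
  rw [← h1]
  exact Set.finite_singleton η

variable {X : Scheme.{u}}

/-- In a locally Noetherian scheme, any subset of a closed set consisting of closed points is
closed. -/
theorem isClosed_of_subset [IsLocallyNoetherian X] (S : Set X) (hS : IsClosed S)
    (hpt : ∀ x ∈ S, IsClosed ({x} : Set X)) (C : Set X) (hC : C ⊆ S) : IsClosed C := by
  rw [← isOpen_compl_iff, isOpen_iff_forall_mem_open]
  intro x hx
  obtain ⟨W, hW, hxW, -⟩ := exists_isAffineOpen_mem_and_subset (X := X) (x := x) (U := ⊤) trivial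
  haveI : IsNoetherianRing Γ(X, W) := IsLocallyNoetherian.component_noetherian ⟨W, hW⟩
  haveI : NoetherianSpace W := noetherianSpace_of_isAffineOpen W hW
  haveI : QuasiSober W := W.isOpen.isOpenEmbedding_subtypeVal.quasiSober
  let Z : Set W := Subtype.val ⁻¹' S
  have hZ : IsClosed Z := hS.preimage continuous_subtype_val
  have hZpt : ∀ z ∈ Z, IsClosed ({z} : Set W) := by
    intro z hz
    have h1 : IsClosed (Subtype.val ⁻¹' ({z.1} : Set X) : Set W) :=
      (hpt z.1 hz).preimage continuous_subtype_val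
    have h2 : (Subtype.val ⁻¹' ({z.1} : Set X) : Set W) = {z} := by
      ext w
      simp only [Set.mem_preimage, Set.mem_singleton_iff]
      exact Subtype.ext_iff.symm
    rw [h2] at h1
    exact h1
  have hZfin : Z.Finite := finite_of_noetherian_quasiSober Z hZ hZpt
  have hCW : (C ∩ (W : Set X)) ⊆ Subtype.val '' Z := by
    rintro y ⟨hyC, hyW⟩
    exact ⟨⟨y, hyW⟩, hC hyC, rfl⟩
  have hCWfin : (C ∩ (W : Set X)).Finite := (hZfin.image _).subset hCW
  have hCWcl : IsClosed (C ∩ (W : Set X)) := by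
    have h1 : (C ∩ (W : Set X)) = ⋃ y ∈ (C ∩ (W : Set X)), ({y} : Set X) := by
      ext z; simp
    rw [h1]
    exact hCWfin.isClosed_biUnion (fun y hy => hpt y (hC hy.1))
  refine ⟨(W : Set X) ∩ (C ∩ (W : Set X))ᶜ, ?_, W.isOpen.inter hCWcl.isOpen_compl, ?_⟩
  · rintro y ⟨hyW, hyn⟩ hyC
    exact hyn ⟨hyC, hyW⟩
  · exact ⟨hxW, fun h => hx h.1⟩

theorem surjective_res (F : X.Modules)
    (hsub : ∀ C : Set X, C ⊆ CohB1.support F → IsClosed C) {U V : X.Opens} (hVU : V ≤ U) :
    Function.Surjective (F.presheaf.map (homOfLE hVU).op) := by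
  classical
  intro t
  let C : Set X := CohB1.support F ∩ (V : Set X)
  have hC : IsClosed C := hsub C Set.inter_subset_left
  let Cc : X.Opens := ⟨Cᶜ, hC.isOpen_compl⟩
  let W : X.Opens := U ⊓ Cc
  let Uι : ULift.{u} Bool → X.Opens := fun b => if b.down then V else W
  have hle : ∀ i, Uι i ≤ U := by
    rintro ⟨b⟩
    cases b
    · exact inf_le_left
    · exact hVU
  have hcov : U ≤ iSup Uι := by
    intro y hy
    by_cases hyC : y ∈ C
    · exact Opens.mem_iSup.mpr ⟨⟨true⟩, hyC.2⟩
    · exact Opens.mem_iSup.mpr ⟨⟨false⟩, ⟨hy, hyC⟩⟩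
  let sf : ∀ i, Γ(F, Uι i) := fun b =>
    match b with
    | ⟨true⟩ => t
    | ⟨false⟩ => 0
  have hzero : ∀ (O : X.Opens) (_ : O ≤ V) (_ : O ≤ W) (s : Γ(F, O)), s = 0 := by
    intro O hOV hOW s
    apply HartogsMod.sec_ext
    intro y hy
    have hyC : y ∉ C := (hOW hy).2
    have hns : y ∉ CohB1.support F := fun hys => hyC ⟨hys, hOV hy⟩
    have hsub : Subsingleton (F.presheaf.stalk y) := by
      by_contra hcon
      exact hns hcon
    exact Subsingleton.elim _ _
  have hcompat : ∀ i j, F.presheaf.map (homOfLE (inf_le_left : Uι i ⊓ Uι j ≤ Uι i)).op (sf i) =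
      F.presheaf.map (homOfLE (inf_le_right : Uι i ⊓ Uι j ≤ Uι j)).op (sf j) := by
    rintro ⟨i⟩ ⟨j⟩
    cases i <;> cases j
    · rfl
    · exact (hzero _ inf_le_right inf_le_left _).trans (hzero _ inf_le_right inf_le_left _).symm
    · exact (hzero _ inf_le_left inf_le_right _).trans (hzero _ inf_le_left inf_le_right _).symm
    · rfl
  obtain ⟨τ, hτ⟩ := HartogsMod.glue F Uι U hle hcov sf hcompat
  exact ⟨τ, hτ ⟨true⟩⟩

theorem isFlasque (F : X.Modules)
    (hsub : ∀ C : Set X, C ⊆ CohB1.support F → IsClosed C) :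
    TopCat.Sheaf.IsFlasque (Coh.toAb F) := by
  refine ⟨fun {U V} i => ?_⟩
  have h1 : Function.Surjective (F.presheaf.map (homOfLE i.unop.le).op) :=
    surjective_res F hsub i.unop.le
  exact (AddCommGrpCat.epi_iff_surjective _).mpr h1

theorem hh_eq_zero (X : Scheme.{u}) [IsLocallyNoetherian X] (F : X.Modules)
    (hcl : IsClosed (CohB1.support F))
    (hpt : ∀ x ∈ CohB1.support F, IsClosed ({x} : Set X)) (n : ℕ) (a : Coh.HH X F (n + 1)) :
    a = 0 := by
  haveI := isFlasque F (isClosed_of_subset _ hcl hpt)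
  exact Groth.Agent.H10.CohTopB.ext_const_eq_zero n (Coh.toAb F) a

end Groth.Agent.Helper4.ClosedPtSupp
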