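import Mathlib
import Groth.Prelude.Def_CAlg
import Groth.Prelude.Def_CurvBase
import Groth.Agent.Lib.Helper4.CohDepth

/-!
# The depth-two isomorphism criterion for torsion-free targets on integral schemes
-/

set_option autoImplicit false
set_option linter.style.haveILetI false

universe u

open CategoryTheory CategoryTheory.Limits AlgebraicGeometry Opposite TopologicalSpace
open Groth.Agent.Lead.QCoh Groth.Agent.Lead.EpiStalk Groth.Agent.Lead.FinType
  Groth.Agent.Lead.StalkExact

namespace Groth.Agent.Helper4.CohDepth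

variable {X : Scheme.{u}}

/-- On an integral scheme, a point whose local ring has zero maximal ideal is the generic point. -/
theorem eq_genericPoint_of_maximalIdeal_eq_bot [IsIntegral X] (x : X)
    (h : IsLocalRing.maximalIdeal (X.presheaf.stalk x) = ⊥) : x = genericPoint X := by
  have hηx : genericPoint X ⤳ x := genericPoint_specializes x
  have hr : genericPoint X ∈ Set.range (X.fromSpecStalk x) := by
    rw [Scheme.range_fromSpecStalk]; exact hηx
  obtain ⟨q, hq⟩ := hr
  have hqc : q = IsLocalRing.closedPoint (X.presheaf.stalk x) := by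
    apply PrimeSpectrum.ext
    show q.asIdeal = IsLocalRing.maximalIdeal (X.presheaf.stalk x)
    rw [h]
    exact le_bot_iff.mp (h ▸ IsLocalRing.le_maximalIdeal q.isPrime.ne_top)
  rw [← hq, hqc, Scheme.fromSpecStalk_closedPoint]

theorem not_isAssPoint_of_torsionFree [IsIntegral X] [IsLocallyNoetherian X] (G : X.Modules)
    (x : X) (htf : NoZeroSMulDivisors (X.presheaf.stalk x) (G.presheaf.stalk x))
    (hx : x ≠ genericPoint X) : ¬ Curv2.IsAssPoint G x := by
  intro hass
  obtain ⟨-, g, hg⟩ := isAssociatedPrime_iff.mp hass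
  have hg0 : g ≠ 0 := by
    intro h0
    apply (IsLocalRing.maximalIdeal.isMaximal (X.presheaf.stalk x)).ne_top
    rw [hg, h0]
    ext z
    simp [Submodule.mem_colon_singleton]
  apply hx
  apply eq_genericPoint_of_maximalIdeal_eq_bot x
  rw [eq_bot_iff]
  intro a ha
  rw [hg, Submodule.mem_colon_singleton, Submodule.mem_bot] at ha
  rcases smul_eq_zero.mp ha with h1 | h1
  · exact (Submodule.mem_bot _).mpr h1
  · exact absurd h1 hg0

theorem isIso_of_depth_torsionFree [IsIntegral X] [IsLocallyNoetherian X] {F G : X.Modules}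
    (φ : F ⟶ G) [F.IsQuasicoherent] [SheafOfModules.IsFiniteType (R := X.ringCatSheaf) F]
    [G.IsQuasicoherent]
    (htf : ∀ x : X, NoZeroSMulDivisors (X.presheaf.stalk x) (G.presheaf.stalk x))
    (h : ∀ x : X, Function.Bijective (stalkMap φ x) ∨
      ((2 : ℕ∞) ≤ LocCoh.depth (X.presheaf.stalk x) (F.presheaf.stalk x) ∧
        x ≠ genericPoint X)) :
    IsIso φ := by
  apply isIso_of_depth φ
  intro x
  rcases h x with hb | ⟨hd, hx⟩
  · exact Or.inl hb
  · exact Or.inr ⟨hd, not_isAssPoint_of_torsionFree G x (htf x) hx⟩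

end Groth.Agent.Helper4.CohDepth
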