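import Mathlib
import Groth.Agent.S10848
import Groth.Agent.S2269
import Groth.Agent.Lead.QCoh10

set_option autoImplicit false
universe u

open CategoryTheory CategoryTheory.Limits AlgebraicGeometry

namespace Groth.Agent.Helper4.CommonCoh

theorem main (X : Scheme.{u}) [IsNoetherian X] (U : X.Opens)
    (F₁ F₂ : X.Modules) (h₁ : Coh.IsCoh F₁) (h₂ : Coh.IsCoh F₂)
    (e : F₁.restrict U.ι ≅ F₂.restrict U.ι) :
    ∃ (G : X.Modules) (p₁ : G ⟶ F₁) (p₂ : G ⟶ F₂), Coh.IsCoh G ∧
      IsIso ((Scheme.Modules.restrictFunctor U.ι).map p₁) ∧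
      IsIso ((Scheme.Modules.restrictFunctor U.ι).map p₂) := by
  classical
  haveI : F₁.IsQuasicoherent := h₁.1
  haveI : F₂.IsQuasicoherent := h₂.1
  haveI : SheafOfModules.IsFiniteType.{u, u, u} (R := X.ringCatSheaf) F₁ := h₁.2
  haveI : TopologicalSpace.NoetherianSpace X := inferInstance
  have hUc : IsCompact (U : Set X) := TopologicalSpace.NoetherianSpace.isCompact _
  haveI hB : (F₁ ⊞ F₂).IsQuasicoherent := Groth.Agent.Lead.QCoh.isQuasicoherent_biprod F₁ F₂
  haveI := Groth.Agent.Lead.QCoh.preservesFiniteLimits_restrictFunctor U.ι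
  haveI : PreservesBinaryBiproduct F₁ F₂ (Scheme.Modules.restrictFunctor U.ι) :=
    preservesBinaryBiproduct_of_preservesBinaryProduct _
  let c := (Scheme.Modules.restrictFunctor U.ι).mapBiprod F₁ F₂
  have hc1 : c.hom ≫ biprod.fst = (Scheme.Modules.restrictFunctor U.ι).map biprod.fst := by
    simp only [c, Functor.mapBiprod_hom]
    exact biprod.lift_fst _ _
  have hc2 : c.hom ≫ biprod.snd = (Scheme.Modules.restrictFunctor U.ι).map biprod.snd := by
    simp only [c, Functor.mapBiprod_hom]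
    exact biprod.lift_snd _ _
  let i' : (Scheme.Modules.restrictFunctor U.ι).obj F₁ ⟶
      (Scheme.Modules.restrictFunctor U.ι).obj (F₁ ⊞ F₂) := biprod.lift (𝟙 _) e.hom ≫ c.inv
  have hfst : i' ≫ (Scheme.Modules.restrictFunctor U.ι).map biprod.fst = 𝟙 _ := by
    rw [← hc1]
    simp only [i', Category.assoc, Iso.inv_hom_id_assoc, biprod.lift_fst]
  have hsnd : i' ≫ (Scheme.Modules.restrictFunctor U.ι).map biprod.snd = e.hom := by
    rw [← hc2]
    simp only [i', Category.assoc, Iso.inv_hom_id_assoc, biprod.lift_snd]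
  haveI : Mono i' := mono_of_mono_fac hfst
  haveI hq1 : Coh.IsQCoh ((Scheme.Modules.restrictFunctor U.ι).obj F₁) :=
    inferInstanceAs ((Scheme.Modules.restrictFunctor U.ι).obj F₁).IsQuasicoherent
  have hft1 : CohB1.IsFT ((Scheme.Modules.restrictFunctor U.ι).obj F₁) :=
    Groth.Agent.S2269.isFiniteType_restrict F₁ U
  haveI hB' : Coh.IsQCoh (F₁ ⊞ F₂) := hB
  obtain ⟨G, i, ε, hmono, hGq, hGft, hcomp⟩ :=
    Groth.Agent.S10848.result U hUc (F₁ ⊞ F₂) ((Scheme.Modules.restrictFunctor U.ι).obj F₁) hft1 i'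
  refine ⟨G, i ≫ biprod.fst, i ≫ biprod.snd, ⟨hGq, hGft⟩, ?_, ?_⟩
  · rw [Functor.map_comp, ← hcomp, Category.assoc, hfst, Category.comp_id]
    infer_instance
  · rw [Functor.map_comp, ← hcomp, Category.assoc, hsnd]
    infer_instance

end Groth.Agent.Helper4.CommonCoh
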