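import Mathlib
import Groth.Agent.Lib.Helper8.LocalCrit

/-!
Projectivity lifts along nilpotent ideals for flat modules (Stacks 05CG-style).
-/

set_option autoImplicit false

namespace Groth.Agent.Helper4

open scoped TensorProduct
open Function TensorProduct

/-- Step 1: a surjection onto a flat module `M` with `M/IM` projective over `R/I` whose kernel is
killed by `I` splits. -/
theorem exists_section_of_torsion_ker {R : Type*} [CommRing R] (I : Ideal R) {E M : Type*}
    [AddCommGroup E] [Module R E] [AddCommGroup M] [Module R M]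
    [Module.Flat R M] [Module.Projective (R ⧸ I) ((R ⧸ I) ⊗[R] M)]
    (p : E →ₗ[R] M) (hp : Surjective p) (hK : ∀ a ∈ I, ∀ x ∈ LinearMap.ker p, a • x = 0) :
    ∃ s : M →ₗ[R] E, p ∘ₗ s = LinearMap.id := by
  set K := LinearMap.ker p with hKdef
  set ι : K →ₗ[R] E := K.subtype with hιdef
  have hex : Exact ι p := LinearMap.exact_subtype_ker_map p
  have hι : Injective ι := K.injective_subtype
  have h1 : Injective (ι.baseChange (R ⧸ I)) :=
    Groth.Agent.Helper8.LocalCrit.lTensor_injective_of_flat_coker hex hp hι (R ⧸ I)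
  have h2 : Exact (ι.baseChange (R ⧸ I)) (p.baseChange (R ⧸ I)) :=
    lTensor_exact (R ⧸ I) hex hp
  have h3 : Surjective (p.baseChange (R ⧸ I)) := LinearMap.lTensor_surjective (R ⧸ I) hp
  obtain ⟨σ, hσ⟩ := Module.projective_lifting_property (p.baseChange (R ⧸ I)) LinearMap.id h3
  obtain ⟨-, ρ, hρ⟩ := ((Function.Exact.split_tfae' h2).out 0 1 rfl rfl).mp ⟨h1, σ, hσ⟩
  have hbot : (I • (⊤ : Submodule R K)) = ⊥ := by
    rw [eq_bot_iff]
    refine Submodule.smul_le.mpr (fun a ha k _ => ?_)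
    rw [Submodule.mem_bot]
    apply Subtype.ext
    exact hK a ha k.1 k.2
  let μ : ((R ⧸ I) ⊗[R] K) →ₗ[R] K :=
    (Submodule.quotEquivOfEqBot _ hbot).toLinearMap ∘ₗ
      (TensorProduct.quotTensorEquivQuotSMul K I).toLinearMap
  have hμ : ∀ k : K, μ ((1 : R ⧸ I) ⊗ₜ[R] k) = k := by
    intro k
    simp only [μ, LinearMap.comp_apply, LinearEquiv.coe_coe]
    rw [TensorProduct.quotTensorEquivQuotSMul_mk_one_tmul]
    rfl
  let r : E →ₗ[R] K := μ ∘ₗ (ρ.restrictScalars R) ∘ₗ (TensorProduct.mk R (R ⧸ I) E 1)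
  have hr : r ∘ₗ ι = LinearMap.id := by
    refine LinearMap.ext fun k => ?_
    have h0 : (r ∘ₗ ι) k = μ (ρ ((1 : R ⧸ I) ⊗ₜ[R] (ι k))) := rfl
    have : (1 : R ⧸ I) ⊗ₜ[R] (ι k) = (ι.baseChange (R ⧸ I)) ((1 : R ⧸ I) ⊗ₜ[R] k) := rfl
    rw [h0, this, ← LinearMap.comp_apply, hρ, LinearMap.id_apply, hμ]
    rfl
  obtain ⟨-, s, hs⟩ := ((Function.Exact.split_tfae' hex).out 1 0 rfl rfl).mp ⟨hp, r, hr⟩
  exact ⟨s, hs⟩

universe u

/-- Step 2: induction on the nilpotency order of `I` on the kernel. -/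
theorem exists_section_of_pow_torsion_ker {R : Type u} [CommRing R] (I : Ideal R) {M : Type u}
    [AddCommGroup M] [Module R M]
    [Module.Flat R M] [Module.Projective (R ⧸ I) ((R ⧸ I) ⊗[R] M)] (k : ℕ) :
    ∀ (E : Type u) [AddCommGroup E] [Module R E] (p : E →ₗ[R] M), Surjective p →
      (∀ a ∈ I ^ k, ∀ x ∈ LinearMap.ker p, a • x = 0) →
      ∃ s : M →ₗ[R] E, p ∘ₗ s = LinearMap.id := by
  induction k with
  | zero =>
    intro E _ _ p hp hK
    have hinj : Injective p := by
      rw [← LinearMap.ker_eq_bot, eq_bot_iff]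
      intro x hx
      have := hK 1 (by rw [pow_zero, Ideal.one_eq_top]; trivial) x hx
      rw [one_smul] at this
      rw [Submodule.mem_bot]; exact this
    let e := LinearEquiv.ofBijective p ⟨hinj, hp⟩
    refine ⟨e.symm.toLinearMap, ?_⟩
    ext m
    exact e.apply_symm_apply m
  | succ k ih =>
    intro E _ _ p hp hK
    set K := LinearMap.ker p with hKdef
    set L : Submodule R E := I • K with hL
    have hLK : L ≤ K := Submodule.smul_le.mpr (fun a _ x hx => K.smul_mem a hx)
    let p' : (E ⧸ L) →ₗ[R] M := L.liftQ p hLK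
    have hp' : Surjective p' := by
      intro m
      obtain ⟨e, rfl⟩ := hp m
      exact ⟨L.mkQ e, rfl⟩
    have hK' : ∀ a ∈ I, ∀ x ∈ LinearMap.ker p', a • x = 0 := by
      intro a ha x hx
      obtain ⟨e, rfl⟩ := L.mkQ_surjective x
      have he : e ∈ K := by
        rw [LinearMap.mem_ker] at hx
        exact hx
      rw [← map_smul, Submodule.mkQ_apply, Submodule.Quotient.mk_eq_zero]
      exact Submodule.smul_mem_smul ha he
    obtain ⟨s', hs'⟩ := exists_section_of_torsion_ker I p' hp' hK'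
    have hs'a : ∀ m, p' (s' m) = m := fun m => LinearMap.congr_fun hs' m
    let E₂ : Submodule R E := Submodule.comap L.mkQ (LinearMap.range s')
    let p₂ : E₂ →ₗ[R] M := p ∘ₗ E₂.subtype
    have hp₂ : Surjective p₂ := by
      intro m
      obtain ⟨e, he⟩ := L.mkQ_surjective (s' m)
      refine ⟨⟨e, ⟨m, he.symm⟩⟩, ?_⟩
      show p e = m
      have : p' (L.mkQ e) = p e := rfl
      rw [← this, he, hs'a]
    have hK₂ : ∀ a ∈ I ^ k, ∀ x ∈ LinearMap.ker p₂, a • x = 0 := by
      intro a ha x hx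
      have hx0 : p x.1 = 0 := hx
      obtain ⟨m, hm⟩ := x.2
      have hm0 : m = 0 := by
        have : p' (L.mkQ x.1) = p x.1 := rfl
        rw [← hs'a m, hm, this, hx0]
      have hxL : x.1 ∈ L := by
        rw [← Submodule.Quotient.mk_eq_zero, ← Submodule.mkQ_apply, ← hm, hm0, map_zero]
      apply Subtype.ext
      show a • x.1 = 0
      -- x.1 ∈ I • K, a ∈ I^k, I^(k+1) kills K
      refine Submodule.smul_induction_on hxL ?_ ?_
      · intro b hb y hy
        rw [smul_smul]
        exact hK (a * b) (by rw [pow_succ]; exact Ideal.mul_mem_mul ha hb) y hy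
      · intro y z hy hz
        rw [smul_add, hy, hz, add_zero]
    obtain ⟨s₂, hs₂⟩ := ih E₂ p₂ hp₂ hK₂
    refine ⟨E₂.subtype ∘ₗ s₂, ?_⟩
    rw [← LinearMap.comp_assoc]
    exact hs₂

/-- If `I` is nilpotent, `M` is flat and `M/IM` is projective over `R/I`, then `M` is projective. -/
theorem projective_of_nilpotent_of_flat {R : Type u} [CommRing R] (I : Ideal R)
    (hI : IsNilpotent I) (M : Type u) [AddCommGroup M] [Module R M] [Module.Flat R M]
    (hproj : Module.Projective (R ⧸ I) ((R ⧸ I) ⊗[R] M)) : Module.Projective R M := by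
  obtain ⟨n, hn⟩ := hI
  apply Module.Projective.of_lifting_property''
  intro f hf
  refine exists_section_of_pow_torsion_ker I n (M →₀ R) f hf ?_
  intro a ha x _
  rw [hn] at ha
  have : a = 0 := ha
  rw [this, zero_smul]

end Groth.Agent.Helper4
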