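import Mathlib
import Groth.Agent.Lib.Helper4.ProjNilp
import Groth.Agent.Lib.Helper8.FlatLocal

/-!
Completion of a short exact sequence with flat cokernel which is projective modulo `I`
is split exact.
-/

set_option autoImplicit false

namespace Groth.Agent.Helper4.ComplSplit

open scoped TensorProduct
open Function

universe u

section

variable {R : Type u} [CommRing R]
  {K P M : Type u} [AddCommGroup K] [Module R K] [AddCommGroup P] [Module R P]
  [AddCommGroup M] [Module R M] {f : K →ₗ[R] P} {g : P →ₗ[R] M}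

theorem mem_smul_top_of_map_mem [Module.Flat R M] (hf : Injective f) (hg : Surjective g)
    (hfg : Exact f g) (J : Ideal R) {x : K} (hx : f x ∈ J • (⊤ : Submodule R P)) :
    x ∈ J • (⊤ : Submodule R K) := by
  have hinj : Injective (f.lTensor (R ⧸ J)) :=
    Groth.Agent.Helper8.LocalCrit.lTensor_injective_of_flat_coker hfg hg hf (R ⧸ J)
  rw [← Groth.Agent.Helper8.FlatLocal.one_tmul_eq_zero_iff] at hx ⊢
  have h1 : f.lTensor (R ⧸ J) ((1 : R ⧸ J) ⊗ₜ[R] x) = 0 := hx
  exact hinj (h1.trans (map_zero _).symm)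

theorem exists_sub_map_mem (hg : Surjective g) (hfg : Exact f g) (J : Ideal R) {p : P}
    (hp : g p ∈ J • (⊤ : Submodule R M)) : ∃ k : K, p - f k ∈ J • (⊤ : Submodule R P) := by
  have h1 : (J • ⊤ : Submodule R M) = Submodule.map g (J • ⊤) := by
    rw [Submodule.map_smul'', Submodule.map_top, LinearMap.range_eq_top.mpr hg]
  rw [h1] at hp
  obtain ⟨p', hp', hpp⟩ := hp
  have : g (p - p') = 0 := by rw [map_sub, hpp, sub_self]
  obtain ⟨k, hk⟩ := (hfg _).mp this
  refine ⟨k, ?_⟩
  rw [hk, sub_sub_cancel]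
  exact hp'

theorem map_injective [Module.Flat R M] (I : Ideal R) (hf : Injective f) (hg : Surjective g)
    (hfg : Exact f g) : Injective (AdicCompletion.map I f) := by
  rw [injective_iff_map_eq_zero]
  intro x hx
  apply AdicCompletion.ext
  intro n
  obtain ⟨k, hk⟩ := Submodule.Quotient.mk_surjective _ (x.val n)
  have h1 : (AdicCompletion.map I f x).val n = 0 := by rw [hx]; rfl
  rw [AdicCompletion.map_val_apply, ← hk, LinearMap.reduceModIdeal_apply,
    Submodule.Quotient.mk_eq_zero] at h1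
  rw [← hk, AdicCompletion.val_zero_apply, Submodule.Quotient.mk_eq_zero]
  exact mem_smul_top_of_map_mem hf hg hfg (I ^ n) h1

theorem map_exact [Module.Flat R M] (I : Ideal R) (hf : Injective f) (hg : Surjective g)
    (hfg : Exact f g) : Exact (AdicCompletion.map I f) (AdicCompletion.map I g) := by
  intro y
  constructor
  · intro hy
    have hrep : ∀ n, ∃ p : P, Submodule.Quotient.mk p = y.val n :=
      fun n => Submodule.Quotient.mk_surjective _ _
    choose p hp using hrep
    have hgp : ∀ n, g (p n) ∈ (I ^ n • ⊤ : Submodule R M) := by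
      intro n
      have h1 : (AdicCompletion.map I g y).val n = 0 := by rw [hy]; rfl
      rw [AdicCompletion.map_val_apply, ← hp n, LinearMap.reduceModIdeal_apply,
        Submodule.Quotient.mk_eq_zero] at h1
      exact h1
    choose k hk using fun n => exists_sub_map_mem hg hfg (I ^ n) (hgp n)
    have hpc : ∀ {m n}, m ≤ n → p n - p m ∈ (I ^ m • ⊤ : Submodule R P) := by
      intro m n hmn
      have h1 := y.2 hmn
      rw [← hp n, ← hp m] at h1
      rw [← Submodule.Quotient.eq]
      exact h1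
    have hcauchy : AdicCompletion.IsAdicCauchy I K k := by
      intro m n hmn
      rw [SModEq.comm, SModEq.sub_mem]
      apply mem_smul_top_of_map_mem hf hg hfg
      have e : f (k n - k m) = (p n - p m) - (p n - f (k n)) + (p m - f (k m)) := by
        rw [map_sub]; abel
      rw [e]
      refine Submodule.add_mem _ (Submodule.sub_mem _ (hpc hmn) ?_) (hk m)
      exact Submodule.pow_smul_top_le I P hmn (hk n)
    refine ⟨AdicCompletion.mk I K ⟨k, hcauchy⟩, ?_⟩
    apply AdicCompletion.ext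
    intro n
    rw [AdicCompletion.map_mk]
    show Submodule.Quotient.mk (f (k n)) = y.val n
    rw [← hp n, eq_comm, Submodule.Quotient.eq]
    exact hk n
  · rintro ⟨x, rfl⟩
    rw [AdicCompletion.map_comp_apply]
    have : g ∘ₗ f = 0 := by
      ext x
      exact hfg.apply_apply_eq_zero x
    rw [this, AdicCompletion.map_zero]
    rfl

theorem projective_tensor_of_quotient (I : Ideal R) (M : Type u) [AddCommGroup M] [Module R M]
    [Module.Projective (R ⧸ I) (M ⧸ (I • ⊤ : Submodule R M))] :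
    Module.Projective (R ⧸ I) ((R ⧸ I) ⊗[R] M) :=
  Module.Projective.of_equiv (LinearEquiv.extendScalarsOfSurjective Ideal.Quotient.mk_surjective
    (TensorProduct.quotTensorEquivQuotSMul M I).symm)

theorem exists_lift_step [Module.Flat R M] (I : Ideal R)
    [Module.Projective (R ⧸ I) ((R ⧸ I) ⊗[R] M)]
    (hg : Surjective g) (hfg : Exact f g) (n : ℕ)
    (σ : M →ₗ[R] P ⧸ (I ^ n • ⊤ : Submodule R P))
    (hσ : ∀ m, (g.reduceModIdeal (I ^ n)) (σ m) = Submodule.Quotient.mk m) :
    ∃ σ' : M →ₗ[R] P ⧸ (I ^ (n + 1) • ⊤ : Submodule R P),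
      (∀ m, (g.reduceModIdeal (I ^ (n + 1))) (σ' m) = Submodule.Quotient.mk m) ∧
      ∀ m, Submodule.factorPow I P (Nat.le_succ n) (σ' m) = σ m := by
  let τ : (P ⧸ (I ^ (n + 1) • ⊤ : Submodule R P)) →ₗ[R] P ⧸ (I ^ n • ⊤ : Submodule R P) :=
    Submodule.factorPow I P (Nat.le_succ n)
  let gq : (P ⧸ (I ^ (n + 1) • ⊤ : Submodule R P)) →ₗ[R]
      M ⧸ (I ^ (n + 1) • ⊤ : Submodule R M) :=
    (g.reduceModIdeal (I ^ (n + 1))).restrictScalars R
  let Φ : M × (P ⧸ (I ^ (n + 1) • ⊤ : Submodule R P)) →ₗ[R]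
      (P ⧸ (I ^ n • ⊤ : Submodule R P)) × (M ⧸ (I ^ (n + 1) • ⊤ : Submodule R M)) :=
    (τ ∘ₗ LinearMap.snd R _ _ - σ ∘ₗ LinearMap.fst R _ _).prod
      (gq ∘ₗ LinearMap.snd R _ _ - (Submodule.mkQ _) ∘ₗ LinearMap.fst R _ _)
  have hΦ : ∀ z, z ∈ LinearMap.ker Φ ↔
      τ z.2 = σ z.1 ∧ gq z.2 = Submodule.Quotient.mk z.1 := by
    intro z
    rw [LinearMap.mem_ker]
    show ((τ z.2 - σ z.1, gq z.2 - Submodule.Quotient.mk z.1) : _ × _) = 0 ↔ _
    rw [Prod.mk_eq_zero, sub_eq_zero, sub_eq_zero]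
  have hfm : ∀ x : P, Submodule.factorPow I P (Nat.le_succ n)
      (Submodule.Quotient.mk x) = Submodule.Quotient.mk x := fun x => rfl
  let pr : LinearMap.ker Φ →ₗ[R] M := LinearMap.fst R _ _ ∘ₗ (LinearMap.ker Φ).subtype
  have hpr : Surjective pr := by
    intro m
    obtain ⟨p₀, hp₀⟩ := hg m
    obtain ⟨q, hq⟩ := Submodule.Quotient.mk_surjective _ (σ m)
    have h1 : g (q - p₀) ∈ (I ^ n • ⊤ : Submodule R M) := by
      have h2 := hσ m
      rw [← hq, LinearMap.reduceModIdeal_apply, Submodule.Quotient.eq] at h2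
      rw [map_sub, hp₀]
      exact h2
    obtain ⟨k, hk⟩ := exists_sub_map_mem hg hfg (I ^ n) h1
    refine ⟨⟨(m, Submodule.Quotient.mk (p₀ + f k)), ?_⟩, rfl⟩
    rw [hΦ]
    constructor
    · show Submodule.factorPow I P (Nat.le_succ n) (Submodule.Quotient.mk (p₀ + f k)) = σ m
      rw [hfm, ← hq, eq_comm, Submodule.Quotient.eq]
      have e : q - (p₀ + f k) = q - p₀ - f k := by abel
      rw [e]
      exact hk
    · show (g.reduceModIdeal (I ^ (n + 1))) (Submodule.Quotient.mk (p₀ + f k)) =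
        Submodule.Quotient.mk m
      rw [LinearMap.reduceModIdeal_apply, map_add, hfg.apply_apply_eq_zero, add_zero, hp₀]
  have hK : ∀ a ∈ I, ∀ x ∈ LinearMap.ker pr, a • x = 0 := by
    intro a ha x hx
    have hx1 : x.1.1 = 0 := hx
    have hx2 := (hΦ x.1).mp x.2
    obtain ⟨q, hq⟩ := Submodule.Quotient.mk_surjective _ x.1.2
    have hq1 : q ∈ (I ^ n • ⊤ : Submodule R P) := by
      have h3 := hx2.1
      rw [hx1, map_zero, ← hq] at h3
      have h4 : Submodule.factorPow I P (Nat.le_succ n) (Submodule.Quotient.mk q) = 0 := h3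
      rw [hfm, Submodule.Quotient.mk_eq_zero] at h4
      exact h4
    apply Subtype.ext
    apply Prod.ext
    · show a • x.1.1 = 0
      rw [hx1, smul_zero]
    · show a • x.1.2 = 0
      rw [← hq, ← Submodule.Quotient.mk_smul, Submodule.Quotient.mk_eq_zero, pow_succ',
        Submodule.mul_smul]
      exact Submodule.smul_mem_smul ha hq1
  obtain ⟨s, hs⟩ := exists_section_of_torsion_ker I pr hpr hK
  have hs' : ∀ m, (s m).1.1 = m := fun m => LinearMap.congr_fun hs m
  refine ⟨LinearMap.snd R _ _ ∘ₗ (LinearMap.ker Φ).subtype ∘ₗ s, ?_, ?_⟩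
  · intro m
    have := ((hΦ (s m).1).mp (s m).2).2
    rw [hs'] at this
    exact this
  · intro m
    have := ((hΦ (s m).1).mp (s m).2).1
    rw [hs'] at this
    exact this

theorem subsingleton_quot_pow_zero (I : Ideal R) (M : Type u) [AddCommGroup M] [Module R M] :
    Subsingleton (M ⧸ (I ^ 0 • ⊤ : Submodule R M)) := by
  have h0 : ∀ z : M ⧸ (I ^ 0 • ⊤ : Submodule R M), z = 0 := by
    intro z
    obtain ⟨a, rfl⟩ := Submodule.Quotient.mk_surjective _ z
    rw [Submodule.Quotient.mk_eq_zero, pow_zero, Ideal.one_eq_top, Submodule.top_smul]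
    trivial
  exact ⟨fun a b => (h0 a).trans (h0 b).symm⟩

theorem exists_compatible_sections [Module.Flat R M] (I : Ideal R)
    [Module.Projective (R ⧸ I) ((R ⧸ I) ⊗[R] M)]
    (hg : Surjective g) (hfg : Exact f g) :
    ∃ σ : ∀ n, M →ₗ[R] P ⧸ (I ^ n • ⊤ : Submodule R P),
      (∀ n m, (g.reduceModIdeal (I ^ n)) (σ n m) = Submodule.Quotient.mk m) ∧
      ∀ n m, Submodule.factorPow I P (Nat.le_succ n) (σ (n + 1) m) = σ n m := by
  have step := exists_lift_step (f := f) (g := g) I hg hfg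
  choose! F hF using step
  let σ : ∀ n, M →ₗ[R] P ⧸ (I ^ n • ⊤ : Submodule R P) := fun n =>
    Nat.rec (motive := fun n => M →ₗ[R] P ⧸ (I ^ n • ⊤ : Submodule R P)) 0 (fun n s => F n s) n
  have hσ : ∀ n, ∀ m, (g.reduceModIdeal (I ^ n)) (σ n m) = Submodule.Quotient.mk m := by
    intro n
    induction n with
    | zero =>
      intro m
      haveI := subsingleton_quot_pow_zero I M
      exact Subsingleton.elim _ _
    | succ n ih => exact (hF n (σ n) ih).1
  exact ⟨σ, hσ, fun n => (hF n (σ n) (hσ n)).2⟩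

theorem exists_section [Module.Flat R M] (I : Ideal R)
    [Module.Projective (R ⧸ I) ((R ⧸ I) ⊗[R] M)]
    (hg : Surjective g) (hfg : Exact f g) :
    ∃ s : AdicCompletion I M →ₗ[AdicCompletion I R] AdicCompletion I P,
        AdicCompletion.map I g ∘ₗ s = LinearMap.id := by
  obtain ⟨σ, hσ1, hσ2⟩ := exists_compatible_sections (f := f) I hg hfg
  have hσ3 : ∀ {m n} (hmn : m ≤ n) (x : M), Submodule.factorPow I P hmn (σ n x) = σ m x := by
    intro m n hmn x
    symm
    have hanti : Antitone (fun n => (I ^ n • ⊤ : Submodule R P)) :=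
      fun a b le => Submodule.pow_smul_top_le I P le
    exact Submodule.eq_factor_of_eq_factor_succ hanti (fun n => σ n x)
      (fun s => (hσ2 s x).symm) hmn
  have hker : ∀ n, (I ^ n • ⊤ : Submodule R M) ≤ LinearMap.ker (σ n) := by
    intro n
    rw [Submodule.smul_le]
    intro a ha x _
    rw [LinearMap.mem_ker, map_smul]
    obtain ⟨q, hq⟩ := Submodule.Quotient.mk_surjective _ (σ n x)
    rw [← hq, ← Submodule.Quotient.mk_smul, Submodule.Quotient.mk_eq_zero]
    exact Submodule.smul_mem_smul ha Submodule.mem_top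
  let σb : ∀ n, (M ⧸ (I ^ n • ⊤ : Submodule R M)) →ₗ[R] P ⧸ (I ^ n • ⊤ : Submodule R P) :=
    fun n => (I ^ n • ⊤ : Submodule R M).liftQ (σ n) (hker n)
  have hσb : ∀ n x, σb n (Submodule.Quotient.mk x) = σ n x := fun n x => rfl
  let s₀ : AdicCompletion I M →ₗ[R] AdicCompletion I P :=
    AdicCompletion.lift I (fun n => σb n ∘ₗ AdicCompletion.eval I M n) (by
      intro m n hmn
      apply LinearMap.ext
      intro x
      show Submodule.factorPow I P hmn (σb n (x.val n)) = σb m (x.val m)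
      obtain ⟨a, ha⟩ := Submodule.Quotient.mk_surjective _ (x.val n)
      have hm : x.val m = Submodule.Quotient.mk a := by
        rw [← x.2 hmn, ← ha]; rfl
      rw [hm, ← ha, hσb, hσb, hσ3])
  have hs₀ : ∀ x n, (s₀ x).val n = σb n (x.val n) := fun x n => rfl
  have hsm : ∀ (N : Type u) [AddCommGroup N] [Module R N] (n : ℕ) (r' : R)
      (z : N ⧸ (I ^ n • ⊤ : Submodule R N)),
      (Ideal.Quotient.mk (I ^ n • ⊤ : Ideal R) r') • z = r' • z := by
    intro N _ _ n r' z
    obtain ⟨a, rfl⟩ := Submodule.Quotient.mk_surjective _ z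
    rfl
  refine ⟨{ s₀ with map_smul' := ?_ }, ?_⟩
  · intro r x
    apply AdicCompletion.ext
    intro n
    show (s₀ (r • x)).val n = (r • s₀ x).val n
    rw [hs₀, AdicCompletion.smul_eval, AdicCompletion.smul_eval, hs₀]
    obtain ⟨r', hr'⟩ := Ideal.Quotient.mk_surjective (r.val n)
    rw [← hr', hsm, hsm, map_smul]
  · apply LinearMap.ext
    intro x
    apply AdicCompletion.ext
    intro n
    show (AdicCompletion.map I g (s₀ x)).val n = x.val n
    rw [AdicCompletion.map_val_apply, hs₀]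
    obtain ⟨a, ha⟩ := Submodule.Quotient.mk_surjective _ (x.val n)
    rw [← ha, hσb, hσ1]

end

end Groth.Agent.Helper4.ComplSplit
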