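import Mathlib

/-!
Dimension of `k[x,y]/(x^a, y^b)` and the singular scheme of the standard cusp.
-/

set_option autoImplicit false

namespace Groth.Agent.Helper4.CuspSing

open MvPolynomial TensorProduct

universe u

variable (k : Type u) [Field k]

theorem finrank_adjoinRoot_X_pow (a : ℕ) :
    Module.finrank k (AdjoinRoot (Polynomial.X ^ a : Polynomial k)) = a := by
  rw [(AdjoinRoot.powerBasis' (Polynomial.monic_X_pow a)).finrank, AdjoinRoot.powerBasis'_dim,
    Polynomial.natDegree_X_pow]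

theorem finrank_quot_span_pow (a b : ℕ) :
    Module.finrank k (MvPolynomial (Fin 2) k ⧸
      Ideal.span ({X 0 ^ a, X 1 ^ b} : Set (MvPolynomial (Fin 2) k))) = a * b := by
  set I : Ideal (MvPolynomial (Fin 2) k) := Ideal.span {X 0 ^ a, X 1 ^ b} with hI
  let B₁ := AdjoinRoot (Polynomial.X ^ a : Polynomial k)
  let B₂ := AdjoinRoot (Polynomial.X ^ b : Polynomial k)
  have hr₁ : (AdjoinRoot.root (Polynomial.X ^ a : Polynomial k)) ^ a = 0 := by
    have := AdjoinRoot.eval₂_root (Polynomial.X ^ a : Polynomial k)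
    simpa using this
  have hr₂ : (AdjoinRoot.root (Polynomial.X ^ b : Polynomial k)) ^ b = 0 := by
    have := AdjoinRoot.eval₂_root (Polynomial.X ^ b : Polynomial k)
    simpa using this
  let φ : MvPolynomial (Fin 2) k →ₐ[k] B₁ ⊗[k] B₂ :=
    aeval ![(AdjoinRoot.root _ : B₁) ⊗ₜ[k] (1 : B₂), (1 : B₁) ⊗ₜ[k] (AdjoinRoot.root _ : B₂)]
  have hφ0 : φ (X 0) = (AdjoinRoot.root _ : B₁) ⊗ₜ[k] (1 : B₂) := by simp [φ]
  have hφ1 : φ (X 1) = (1 : B₁) ⊗ₜ[k] (AdjoinRoot.root _ : B₂) := by simp [φ]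
  have hφI : ∀ x ∈ I, φ x = 0 := by
    intro x hx
    have hle : I ≤ RingHom.ker φ.toRingHom := by
      rw [hI, Ideal.span_le]
      rintro y (rfl | rfl)
      · show φ (X 0 ^ a) = 0
        rw [map_pow, hφ0, Algebra.TensorProduct.tmul_pow, hr₁, zero_tmul]
      · show φ (X 1 ^ b) = 0
        rw [map_pow, hφ1, Algebra.TensorProduct.tmul_pow, hr₂, tmul_zero]
    exact hle hx
  let φb : (MvPolynomial (Fin 2) k ⧸ I) →ₐ[k] B₁ ⊗[k] B₂ := Ideal.Quotient.liftₐ I φ hφI
  have hx : (Ideal.Quotient.mk I (X 0)) ^ a = 0 := by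
    rw [← map_pow, Ideal.Quotient.eq_zero_iff_mem]
    exact Ideal.subset_span (Or.inl rfl)
  have hy : (Ideal.Quotient.mk I (X 1)) ^ b = 0 := by
    rw [← map_pow, Ideal.Quotient.eq_zero_iff_mem]
    exact Ideal.subset_span (Or.inr rfl)
  let ψ₁ : B₁ →ₐ[k] (MvPolynomial (Fin 2) k ⧸ I) :=
    AdjoinRoot.liftAlgHom _ (Algebra.ofId k _) (Ideal.Quotient.mk I (X 0)) (by simpa using hx)
  let ψ₂ : B₂ →ₐ[k] (MvPolynomial (Fin 2) k ⧸ I) :=
    AdjoinRoot.liftAlgHom _ (Algebra.ofId k _) (Ideal.Quotient.mk I (X 1)) (by simpa using hy)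
  let ψ : B₁ ⊗[k] B₂ →ₐ[k] (MvPolynomial (Fin 2) k ⧸ I) :=
    Algebra.TensorProduct.lift ψ₁ ψ₂ (fun _ _ => Commute.all _ _)
  have hψ₁ : ψ₁ (AdjoinRoot.root _) = Ideal.Quotient.mk I (X 0) :=
    AdjoinRoot.liftAlgHom_root _ _ _ _
  have hψ₂ : ψ₂ (AdjoinRoot.root _) = Ideal.Quotient.mk I (X 1) :=
    AdjoinRoot.liftAlgHom_root _ _ _ _
  have hψl : ψ ((AdjoinRoot.root _ : B₁) ⊗ₜ[k] (1 : B₂)) = Ideal.Quotient.mk I (X 0) := by
    show Algebra.TensorProduct.lift ψ₁ ψ₂ _ _ = _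
    rw [Algebra.TensorProduct.lift_tmul, hψ₁, map_one, mul_one]
  have hψr : ψ ((1 : B₁) ⊗ₜ[k] (AdjoinRoot.root _ : B₂)) = Ideal.Quotient.mk I (X 1) := by
    show Algebra.TensorProduct.lift ψ₁ ψ₂ _ _ = _
    rw [Algebra.TensorProduct.lift_tmul, hψ₂, map_one, one_mul]
  have h1 : ψ.comp φb = AlgHom.id k _ := by
    apply Ideal.Quotient.algHom_ext
    apply MvPolynomial.algHom_ext
    intro i
    fin_cases i
    · show ψ (φ (X 0)) = Ideal.Quotient.mk I (X 0)
      rw [hφ0]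
      exact hψl
    · show ψ (φ (X 1)) = Ideal.Quotient.mk I (X 1)
      rw [hφ1]
      exact hψr
  have h2 : φb.comp ψ = AlgHom.id k _ := by
    apply Algebra.TensorProduct.ext
    · apply AdjoinRoot.algHom_ext
      show φb (ψ ((AdjoinRoot.root _ : B₁) ⊗ₜ[k] (1 : B₂))) = (AdjoinRoot.root _ : B₁) ⊗ₜ[k] (1 : B₂)
      rw [hψl]
      exact hφ0
    · apply AdjoinRoot.algHom_ext
      show φb (ψ ((1 : B₁) ⊗ₜ[k] (AdjoinRoot.root _ : B₂))) = (1 : B₁) ⊗ₜ[k] (AdjoinRoot.root _ : B₂)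
      rw [hψr]
      exact hφ1
  let e : (MvPolynomial (Fin 2) k ⧸ I) ≃ₐ[k] B₁ ⊗[k] B₂ := AlgEquiv.ofAlgHom φb ψ h2 h1
  haveI : Module.Free k B₁ := Module.Free.of_basis (AdjoinRoot.powerBasis' (Polynomial.monic_X_pow a)).basis
  haveI : Module.Free k B₂ := Module.Free.of_basis (AdjoinRoot.powerBasis' (Polynomial.monic_X_pow b)).basis
  rw [e.toLinearEquiv.finrank_eq, Module.finrank_tensorProduct, finrank_adjoinRoot_X_pow,
    finrank_adjoinRoot_X_pow]

theorem two_ne_zero_of_char (p : ℕ) [CharP k p] (hp : p ≠ 2) : (2 : k) ≠ 0 := by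
  intro h
  have h1 : ((2 : ℕ) : k) = 0 := by exact_mod_cast h
  rw [CharP.cast_eq_zero_iff k p] at h1
  rcases (Nat.dvd_prime Nat.prime_two).mp h1 with h2 | h2
  · exact CharP.char_ne_one k p h2
  · exact hp h2

theorem three_ne_zero_of_char (p : ℕ) [CharP k p] (hp : p ≠ 3) : (3 : k) ≠ 0 := by
  intro h
  have h1 : ((3 : ℕ) : k) = 0 := by exact_mod_cast h
  rw [CharP.cast_eq_zero_iff k p] at h1
  rcases (Nat.dvd_prime Nat.prime_three).mp h1 with h2 | h2
  · exact CharP.char_ne_one k p h2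
  · exact hp h2

theorem main (p : ℕ) [CharP k p] :
    Module.finrank k (MvPolynomial (Fin 2) k ⧸ Ideal.span
      ({X 1 ^ 2 - X 0 ^ 3, pderiv 0 (X 1 ^ 2 - X 0 ^ 3), pderiv 1 (X 1 ^ 2 - X 0 ^ 3)} :
        Set (MvPolynomial (Fin 2) k))) = (if p = 2 then 4 else if p = 3 then 3 else 2) := by
  have hd0 : pderiv (0 : Fin 2) (X 1 ^ 2 - X 0 ^ 3 : MvPolynomial (Fin 2) k) = - (3 * X 0 ^ 2) := by
    simp [pderiv_X, Derivation.leibniz_pow]
  have hd1 : pderiv (1 : Fin 2) (X 1 ^ 2 - X 0 ^ 3 : MvPolynomial (Fin 2) k) = 2 * X 1 := by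
    simp [pderiv_X, Derivation.leibniz_pow]
  rw [hd0, hd1]
  have hC2 : (C (2 : k) : MvPolynomial (Fin 2) k) = 2 := map_ofNat C 2
  have hC3 : (C (3 : k) : MvPolynomial (Fin 2) k) = 3 := map_ofNat C 3
  by_cases h2 : p = 2
  · subst h2
    rw [if_pos rfl]
    have h20 : (2 : k) = 0 := by
      have : ((2 : ℕ) : k) = 0 := CharP.cast_eq_zero k 2
      exact_mod_cast this
    have h2' : (2 : MvPolynomial (Fin 2) k) = 0 := by rw [← hC2, h20, map_zero]
    have h3' : (3 : MvPolynomial (Fin 2) k) = 1 := by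
      have : (3 : MvPolynomial (Fin 2) k) = 2 + 1 := by norm_num
      rw [this, h2', zero_add]
    rw [h2', h3', zero_mul, one_mul]
    have hJ : Ideal.span ({X 1 ^ 2 - X 0 ^ 3, -(X 0 ^ 2), 0} : Set (MvPolynomial (Fin 2) k)) =
        Ideal.span {X 0 ^ 2, X 1 ^ 2} := by
      apply le_antisymm
      · rw [Ideal.span_le]
        rintro y (rfl | rfl | rfl)
        · have e : (X 1 ^ 2 - X 0 ^ 3 : MvPolynomial (Fin 2) k) = X 1 ^ 2 - X 0 * X 0 ^ 2 := by ring
          rw [e]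
          exact Ideal.sub_mem _ (Ideal.subset_span (Or.inr rfl))
            (Ideal.mul_mem_left _ _ (Ideal.subset_span (Or.inl rfl)))
        · exact neg_mem (Ideal.subset_span (Or.inl rfl))
        · exact Ideal.zero_mem _
      · rw [Ideal.span_le]
        have hg : (X 1 ^ 2 - X 0 ^ 3 : MvPolynomial (Fin 2) k) ∈ Ideal.span
            ({X 1 ^ 2 - X 0 ^ 3, -(X 0 ^ 2), 0} : Set (MvPolynomial (Fin 2) k)) :=
          Ideal.subset_span (Or.inl rfl)
        have hx2 : (X 0 ^ 2 : MvPolynomial (Fin 2) k) ∈ Ideal.span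
            ({X 1 ^ 2 - X 0 ^ 3, -(X 0 ^ 2), 0} : Set (MvPolynomial (Fin 2) k)) := by
          have := neg_mem (Ideal.subset_span (s := ({X 1 ^ 2 - X 0 ^ 3, -(X 0 ^ 2), 0} :
            Set (MvPolynomial (Fin 2) k))) (Or.inr (Or.inl rfl)))
          rwa [neg_neg] at this
        set J := Ideal.span ({X 1 ^ 2 - X 0 ^ 3, -(X 0 ^ 2), 0} : Set (MvPolynomial (Fin 2) k))
        rintro y (rfl | rfl)
        · exact hx2
        · have e : (X 1 ^ 2 : MvPolynomial (Fin 2) k) = (X 1 ^ 2 - X 0 ^ 3) + X 0 * X 0 ^ 2 := by ring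
          rw [e]
          exact Ideal.add_mem _ hg (Ideal.mul_mem_left _ _ hx2)
    rw [hJ, finrank_quot_span_pow]
  · rw [if_neg h2]
    have h2k : (2 : k) ≠ 0 := two_ne_zero_of_char k p h2
    have hx1 : ∀ S : Set (MvPolynomial (Fin 2) k), (2 * X 1 : MvPolynomial (Fin 2) k) ∈ S →
        (X 1 : MvPolynomial (Fin 2) k) ∈ Ideal.span S := by
      intro S hS
      have e : (X 1 : MvPolynomial (Fin 2) k) = C (2⁻¹ : k) * (2 * X 1) := by
        rw [← hC2, ← mul_assoc, ← C_mul, inv_mul_cancel₀ h2k, C_1, one_mul]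
      rw [e]
      exact Ideal.mul_mem_left _ _ (Ideal.subset_span hS)
    by_cases h3 : p = 3
    · subst h3
      rw [if_pos rfl]
      have h30 : (3 : k) = 0 := by
        have : ((3 : ℕ) : k) = 0 := CharP.cast_eq_zero k 3
        exact_mod_cast this
      have h3' : (3 : MvPolynomial (Fin 2) k) = 0 := by rw [← hC3, h30, map_zero]
      rw [h3', zero_mul, neg_zero]
      have hJ : Ideal.span ({X 1 ^ 2 - X 0 ^ 3, 0, 2 * X 1} : Set (MvPolynomial (Fin 2) k)) =
          Ideal.span {X 0 ^ 3, X 1 ^ 1} := by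
        apply le_antisymm
        · rw [Ideal.span_le]
          rintro y (rfl | rfl | rfl)
          · have e : (X 1 ^ 2 - X 0 ^ 3 : MvPolynomial (Fin 2) k) = X 1 * X 1 ^ 1 - X 0 ^ 3 := by ring
            rw [e]
            exact Ideal.sub_mem _ (Ideal.mul_mem_left _ _ (Ideal.subset_span (Or.inr rfl)))
              (Ideal.subset_span (Or.inl rfl))
          · exact Ideal.zero_mem _
          · have e : (2 * X 1 : MvPolynomial (Fin 2) k) = 2 * X 1 ^ 1 := by ring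
            rw [e]
            exact Ideal.mul_mem_left _ _ (Ideal.subset_span (Or.inr rfl))
        · rw [Ideal.span_le]
          have hy : (X 1 : MvPolynomial (Fin 2) k) ∈ Ideal.span
              ({X 1 ^ 2 - X 0 ^ 3, 0, 2 * X 1} : Set (MvPolynomial (Fin 2) k)) :=
            hx1 _ (Or.inr (Or.inr rfl))
          have hg : (X 1 ^ 2 - X 0 ^ 3 : MvPolynomial (Fin 2) k) ∈ Ideal.span
              ({X 1 ^ 2 - X 0 ^ 3, 0, 2 * X 1} : Set (MvPolynomial (Fin 2) k)) :=
            Ideal.subset_span (Or.inl rfl)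
          set J := Ideal.span ({X 1 ^ 2 - X 0 ^ 3, 0, 2 * X 1} : Set (MvPolynomial (Fin 2) k))
          rintro y (rfl | rfl)
          · have e : (X 0 ^ 3 : MvPolynomial (Fin 2) k) = X 1 * X 1 - (X 1 ^ 2 - X 0 ^ 3) := by ring
            rw [e]
            exact Ideal.sub_mem _ (Ideal.mul_mem_left _ _ hy) hg
          · rw [pow_one]
            exact hy
      rw [hJ, finrank_quot_span_pow]
    · rw [if_neg h3]
      have h3k : (3 : k) ≠ 0 := three_ne_zero_of_char k p h3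
      have hJ : Ideal.span ({X 1 ^ 2 - X 0 ^ 3, -(3 * X 0 ^ 2), 2 * X 1} :
          Set (MvPolynomial (Fin 2) k)) = Ideal.span {X 0 ^ 2, X 1 ^ 1} := by
        apply le_antisymm
        · rw [Ideal.span_le]
          rintro y (rfl | rfl | rfl)
          · have e : (X 1 ^ 2 - X 0 ^ 3 : MvPolynomial (Fin 2) k) =
                X 1 * X 1 ^ 1 - X 0 * X 0 ^ 2 := by ring
            rw [e]
            exact Ideal.sub_mem _ (Ideal.mul_mem_left _ _ (Ideal.subset_span (Or.inr rfl)))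
              (Ideal.mul_mem_left _ _ (Ideal.subset_span (Or.inl rfl)))
          · exact neg_mem (Ideal.mul_mem_left _ _ (Ideal.subset_span (Or.inl rfl)))
          · have e : (2 * X 1 : MvPolynomial (Fin 2) k) = 2 * X 1 ^ 1 := by ring
            rw [e]
            exact Ideal.mul_mem_left _ _ (Ideal.subset_span (Or.inr rfl))
        · rw [Ideal.span_le]
          have hg : (-(3 * X 0 ^ 2) : MvPolynomial (Fin 2) k) ∈ Ideal.span
              ({X 1 ^ 2 - X 0 ^ 3, -(3 * X 0 ^ 2), 2 * X 1} : Set (MvPolynomial (Fin 2) k)) :=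
            Ideal.subset_span (Or.inr (Or.inl rfl))
          have hy : (X 1 : MvPolynomial (Fin 2) k) ∈ Ideal.span
              ({X 1 ^ 2 - X 0 ^ 3, -(3 * X 0 ^ 2), 2 * X 1} : Set (MvPolynomial (Fin 2) k)) :=
            hx1 _ (Or.inr (Or.inr rfl))
          set J := Ideal.span ({X 1 ^ 2 - X 0 ^ 3, -(3 * X 0 ^ 2), 2 * X 1} :
            Set (MvPolynomial (Fin 2) k))
          rintro y (rfl | rfl)
          · have e : (X 0 ^ 2 : MvPolynomial (Fin 2) k) = - C (3⁻¹ : k) * (-(3 * X 0 ^ 2)) := by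
              rw [← hC3, neg_mul_neg, ← mul_assoc, ← C_mul, inv_mul_cancel₀ h3k, C_1, one_mul]
            rw [e]
            exact Ideal.mul_mem_left _ _ hg
          · rw [pow_one]
            exact hy
      rw [hJ, finrank_quot_span_pow]

end Groth.Agent.Helper4.CuspSing
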