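import Mathlib
import Groth.Prelude.Def_W4c5adicflatcomplDec
import Groth.Agent.H3.Decaying
import Groth.Agent.S17553
import Groth.Agent.S17544
import Groth.Agent.S17546

set_option autoImplicit false
universe u v w

namespace Groth.Agent.Helper4

open W4c5adicflatcompl

section General

variable {A : Type*} [CommRing A] (I : Ideal A)
variable {M : Type*} [AddCommGroup M] [Module A M] {N : Type*} [AddCommGroup N] [Module A N]

lemma map_mem_pow_smul_top (l : M →ₗ[A] N) (n : ℕ) {x : M}
    (hx : x ∈ (I ^ n • ⊤ : Submodule A M)) : l x ∈ (I ^ n • ⊤ : Submodule A N) := by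
  have h1 : (I ^ n • ⊤ : Submodule A M).map l ≤ (I ^ n • ⊤ : Submodule A N) := by
    rw [Submodule.map_smul'']
    exact Submodule.smul_mono le_rfl le_top
  exact h1 (Submodule.mem_map_of_mem hx)

/-- Functoriality of decaying functions in the target module. -/
def decayingMap (Z : Type*) (l : M →ₗ[A] N) : decaying I Z M →ₗ[A] decaying I Z N where
  toFun g := ⟨fun z => l ((g : Z → M) z), fun n => (g.2 n).subset (by
      intro z hz
      show (g : Z → M) z ∉ (I ^ n • ⊤ : Submodule A M)
      intro hcon
      exact hz (map_mem_pow_smul_top I l n hcon))⟩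
  map_add' g g' := by
    apply Subtype.ext
    funext z
    simp
  map_smul' a g := by
    apply Subtype.ext
    funext z
    simp

/-- A linear equivalence of targets induces one of decaying functions. -/
def decayingCongr (Z : Type*) (e : M ≃ₗ[A] N) : decaying I Z M ≃ₗ[A] decaying I Z N :=
  { decayingMap I Z e.toLinearMap with
    invFun := decayingMap I Z e.symm.toLinearMap
    left_inv := fun g => by
      apply Subtype.ext
      funext z
      show e.symm (e ((g : Z → M) z)) = (g : Z → M) z
      exact e.symm_apply_apply _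
    right_inv := fun g => by
      apply Subtype.ext
      funext z
      show e (e.symm ((g : Z → N) z)) = (g : Z → N) z
      exact e.apply_symm_apply _ }

theorem isAdicComplete_of_linearEquiv (e : M ≃ₗ[A] N) [IsAdicComplete I M] :
    IsAdicComplete I N := by
  refine { toIsHausdorff := ⟨fun x hx => ?_⟩, toIsPrecomplete := ⟨fun F hF => ?_⟩ }
  · have h1 : e.symm x = 0 := by
      apply IsHausdorff.haus (I := I) inferInstance
      intro n
      have h2 := hx n
      rw [SModEq.zero] at h2 ⊢
      exact map_mem_pow_smul_top I e.symm.toLinearMap n h2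
    simpa using h1
  · obtain ⟨L, hL⟩ := IsPrecomplete.prec (I := I) (M := M) inferInstance
      (f := fun n => e.symm (F n)) (by
        intro m n hmn
        have h2 := hF hmn
        rw [SModEq.sub_mem] at h2 ⊢
        rw [← map_sub]
        exact map_mem_pow_smul_top I e.symm.toLinearMap m h2)
    refine ⟨e L, fun n => ?_⟩
    have h2 := hL n
    rw [SModEq.sub_mem] at h2 ⊢
    have h3 := map_mem_pow_smul_top I e.toLinearMap n h2
    simpa using h3

theorem eq_bot_of_le_smul [IsHausdorff I M] (K : Submodule A M) (hK : K ≤ I • K) : K = ⊥ := by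
  have h1 : ∀ n : ℕ, K ≤ I ^ n • K := by
    intro n
    induction n with
    | zero => rw [pow_zero, one_smul]
    | succ n ih =>
      calc K ≤ I • K := hK
        _ ≤ I • (I ^ n • K) := Submodule.smul_mono le_rfl ih
        _ = I ^ (n + 1) • K := by rw [← mul_smul, ← pow_succ']
  rw [eq_bot_iff]
  intro x hx
  rw [Submodule.mem_bot]
  apply IsHausdorff.haus (I := I) inferInstance
  intro n
  rw [SModEq.zero]
  exact Submodule.smul_mono le_rfl le_top (h1 n hx)

theorem mem_smul_ker_of_flat {D : Type*} [AddCommGroup D] [Module A D] [Module.Flat A M]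
    (φ : D →ₗ[A] M) (hφ : Function.Surjective φ) {r : ℕ} (a : Fin r → A)
    (x : D) (hx : φ x = 0) (hx' : x ∈ Ideal.span (Set.range a) • (⊤ : Submodule A D)) :
    x ∈ Ideal.span (Set.range a) • LinearMap.ker φ := by
  obtain ⟨d, -, rfl⟩ := Groth.Agent.H3.Decaying.exists_sum_of_mem_span_smul a ⊤ x hx'
  rw [map_sum] at hx
  simp only [map_smul] at hx
  obtain ⟨k, b, y, hy, hb⟩ := Module.Flat.isTrivialRelation_of_sum_smul_eq_zero hx
  have hy' : ∀ i, φ (d i) = ∑ j, b i j • y j := hy
  choose e he using fun j => hφ (y j)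
  have hk : ∀ i, d i - ∑ j, b i j • e j ∈ LinearMap.ker φ := by
    intro i
    rw [LinearMap.mem_ker, map_sub, map_sum, hy' i, sub_eq_zero]
    refine Finset.sum_congr rfl fun j _ => ?_
    rw [map_smul, he]
  have hsum : ∑ i, a i • d i = ∑ i, a i • (d i - ∑ j, b i j • e j) := by
    have h2 : ∑ i, a i • ∑ j, b i j • e j = 0 := by
      simp only [Finset.smul_sum, smul_smul]
      rw [Finset.sum_comm]
      refine Finset.sum_eq_zero fun j _ => ?_
      rw [← Finset.sum_smul, hb j, zero_smul]
    simp only [smul_sub, Finset.sum_sub_distrib, h2, sub_zero]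
  rw [hsum]
  exact Submodule.sum_mem _ fun i _ =>
    Submodule.smul_mem_smul (Ideal.subset_span ⟨i, rfl⟩) (hk i)

end General

/-- A flat complete module over a Noetherian ring complete for a maximal ideal is a module of
decaying functions. -/
theorem exists_equiv_decaying_of_flat_of_complete {A : Type u} [CommRing A] [IsNoetherianRing A]
    (I : Ideal A) [hmax : I.IsMaximal] [IsAdicComplete I A]
    (M : Type u) [AddCommGroup M] [Module A M] [Module.Flat A M] [IsAdicComplete I M] :
    ∃ Z : Type u, Nonempty (M ≃ₗ[A] decaying I Z A) := by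
  classical
  letI : Field (A ⧸ I) := Ideal.Quotient.field I
  obtain ⟨Z, ⟨b⟩⟩ : ∃ Z : Type u,
      Nonempty (Module.Basis Z (A ⧸ I) (M ⧸ (I • ⊤ : Submodule A M))) :=
    ⟨_, ⟨Module.Basis.ofVectorSpace _ _⟩⟩
  refine ⟨Z, ?_⟩
  obtain ⟨f, hf⟩ : ∃ f : Z → M,
      ∀ z, (Submodule.Quotient.mk (f z) : M ⧸ (I • ⊤ : Submodule A M)) = b z := by
    choose f hf using fun z => Submodule.Quotient.mk_surjective (I • ⊤ : Submodule A M) (b z)
    exact ⟨f, hf⟩
  obtain ⟨φ, hφ⟩ := Groth.Agent.S17553.result I Z M f
  -- independence modulo `I`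
  have hindep : ∀ (S : Finset Z) (c : Z → A),
      ∑ z ∈ S, c z • f z ∈ (I • ⊤ : Submodule A M) → ∀ z ∈ S, c z ∈ I := by
    intro S c hc z hz
    have h0 : (Submodule.Quotient.mk (∑ z ∈ S, c z • f z) : M ⧸ (I • ⊤ : Submodule A M)) = 0 :=
      (Submodule.Quotient.mk_eq_zero _).mpr hc
    have h1 : ∑ z ∈ S, (Ideal.Quotient.mk I (c z)) • b z = 0 := by
      rw [← h0, ← Submodule.mkQ_apply, map_sum]
      refine Finset.sum_congr rfl fun w _ => ?_
      rw [← hf w, Module.Quotient.mk_smul_mk, Submodule.mkQ_apply]
    have h2 := linearIndependent_iff'.mp b.linearIndependent S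
      (fun z => Ideal.Quotient.mk I (c z)) h1 z hz
    exact Ideal.Quotient.eq_zero_iff_mem.mp h2
  -- value on the functions supported at one point
  have hφsingle : ∀ z, φ (single I z (1 : A)) = f z := by
    intro z
    rw [← sub_eq_zero]
    apply IsHausdorff.haus (I := I) inferInstance
    intro n
    rw [SModEq.zero]
    obtain ⟨S, hS1, hS2⟩ := hφ (single I z (1 : A)) n
    have h1 : ∑ w ∈ S, ((single I z (1 : A) : decaying I Z A) : Z → A) w • f w =
        if z ∈ S then f z else 0 := by
      simp only [coe_single, Pi.single_apply, ite_smul, one_smul, zero_smul]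
      rw [Finset.sum_ite_eq']
    rw [h1] at hS2
    by_cases hz : z ∈ S
    · rw [if_pos hz] at hS2
      exact hS2
    · rw [if_neg hz, sub_zero] at hS2
      have h2 := hS1 z hz
      rw [coe_single, Pi.single_eq_same, one_smul] at h2
      exact Submodule.sub_mem _ hS2 h2
  haveI : IsAdicComplete I (decaying I Z A) := Groth.Agent.S17546.result I Z
  -- surjectivity
  have hsurj : Function.Surjective φ := by
    apply surjective_of_mkQ_comp_surjective (I := I)
    intro v
    have hv : v ∈ Submodule.span (A ⧸ I) (Set.range b) := by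
      rw [b.span_eq]
      trivial
    induction hv using Submodule.span_induction with
    | mem x hx =>
      obtain ⟨z, rfl⟩ := hx
      exact ⟨single I z 1, by
        rw [LinearMap.comp_apply, hφsingle z, Submodule.mkQ_apply, hf z]⟩
    | zero => exact ⟨0, by simp⟩
    | add x y _ _ hx hy =>
      obtain ⟨g, rfl⟩ := hx
      obtain ⟨g', rfl⟩ := hy
      exact ⟨g + g', map_add _ _ _⟩
    | smul c x _ hx =>
      obtain ⟨g, rfl⟩ := hx
      obtain ⟨c, rfl⟩ := Ideal.Quotient.mk_surjective c
      refine ⟨c • g, ?_⟩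
      show (Submodule.Quotient.mk (φ (c • g)) : M ⧸ (I • ⊤ : Submodule A M)) =
        Ideal.Quotient.mk I c • Submodule.Quotient.mk (φ g)
      rw [map_smul, Module.Quotient.mk_smul_mk]
  -- injectivity modulo `I`
  obtain ⟨-, hmem⟩ := Groth.Agent.S17544.result I Z 1
  have hinj1 : ∀ g : decaying I Z A, φ g ∈ (I • ⊤ : Submodule A M) →
      g ∈ (I • ⊤ : Submodule A (decaying I Z A)) := by
    intro g hg
    have h1 : ∀ z, (g : Z → A) z ∈ I := by
      obtain ⟨S, hS1, hS2⟩ := hφ g 1
      rw [pow_one] at hS1 hS2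
      have h2 : ∑ z ∈ S, (g : Z → A) z • f z ∈ (I • ⊤ : Submodule A M) := by
        have h3 := Submodule.sub_mem _ hg hS2
        rwa [sub_sub_cancel] at h3
      intro z
      by_cases hz : z ∈ S
      · exact hindep S _ h2 z hz
      · have h3 := hS1 z hz
        have h4 : ∑ w ∈ ({z} : Finset Z), (g : Z → A) w • f w ∈ (I • ⊤ : Submodule A M) := by
          rwa [Finset.sum_singleton]
        exact hindep {z} _ h4 z (Finset.mem_singleton_self z)
    have h5 := (hmem g).mpr (by simpa using h1)
    simpa using h5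
  -- the kernel
  obtain ⟨r, a, ha⟩ : ∃ (r : ℕ) (a : Fin r → A), Ideal.span (Set.range a) = I :=
    Submodule.fg_iff_exists_fin_generating_family.mp (IsNoetherian.noetherian I)
  have hker : LinearMap.ker φ = ⊥ := by
    apply eq_bot_of_le_smul I
    intro x hx
    rw [LinearMap.mem_ker] at hx
    have h1 : x ∈ (I • ⊤ : Submodule A (decaying I Z A)) :=
      hinj1 x (by rw [hx]; exact Submodule.zero_mem _)
    have h2 : x ∈ Ideal.span (Set.range a) • (⊤ : Submodule A (decaying I Z A)) := by
      rw [ha]
      exact h1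
    have h3 := mem_smul_ker_of_flat φ hsurj a x hx h2
    rw [ha] at h3
    exact h3
  exact ⟨(LinearEquiv.ofBijective φ ⟨LinearMap.ker_eq_bot.mp hker, hsurj⟩).symm⟩

end Groth.Agent.Helper4
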