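import Mathlib

/-!
Automorphisms of a flat deformation of a module inducing the identity modulo `J`:
they correspond to `Hom(M₀, M₀ ⊗ J)` where `M₀ = M'/mM'` and `m * J = 0`.
-/

set_option autoImplicit false

namespace Groth.Agent.Helper4.DefAut

open scoped TensorProduct
open Function TensorProduct

universe u

variable {C' : Type u} [CommRing C'] (m J : Ideal C')
variable (A' : Type u) [CommRing A'] [Algebra C' A']
variable (M' : Type u) [AddCommGroup M'] [Module A' M'] [Module C' M'] [IsScalarTower C' A' M']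

/-- The `A'`-submodule `mM'`. -/
abbrev sub : Submodule A' M' := (m.map (algebraMap C' A')) • (⊤ : Submodule A' M')

theorem mem_sub_iff (x : M') : x ∈ sub m A' M' ↔ x ∈ m • (⊤ : Submodule C' M') := by
  have h := Ideal.smul_restrictScalars (S := A') m (⊤ : Submodule A' M')
  rw [Submodule.restrictScalars_top] at h
  rw [← h, Submodule.restrictScalars_mem]

/-- multiplication `M' ⊗ J → M'` as an `A'`-linear map. -/
noncomputable def multA : (M' ⊗[C'] ↥J) →ₗ[A'] M' :=
  (AlgebraTensorModule.rid C' A' M').toLinearMap ∘ₗ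
    AlgebraTensorModule.lTensor A' M' (Submodule.subtype J)

theorem multA_apply (z : M' ⊗[C'] ↥J) :
    multA J A' M' z = TensorProduct.rid C' M' (LinearMap.lTensor M' (Submodule.subtype J) z) :=
  rfl

theorem multA_tmul (x : M') (j : ↥J) : multA J A' M' (x ⊗ₜ j) = (j : C') • x := rfl

theorem multA_injective [Module.Flat C' M'] : Injective (multA J A' M') := by
  intro z w h
  rw [multA_apply, multA_apply] at h
  exact Module.Flat.lTensor_preserves_injective_linearMap (M := M') (Submodule.subtype J)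
    (Submodule.injective_subtype J) ((TensorProduct.rid C' M').injective h)

theorem multA_mem (z : M' ⊗[C'] ↥J) : multA J A' M' z ∈ J • (⊤ : Submodule C' M') := by
  induction z using TensorProduct.induction_on with
  | zero => rw [map_zero]; exact Submodule.zero_mem _
  | tmul x j => rw [multA_tmul]; exact Submodule.smul_mem_smul j.2 Submodule.mem_top
  | add a b ha hb => rw [map_add]; exact Submodule.add_mem _ ha hb

theorem exists_multA_eq (y : M') (hy : y ∈ J • (⊤ : Submodule C' M')) :
    ∃ z, multA J A' M' z = y := by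
  refine Submodule.smul_induction_on hy (fun j hj x _ => ⟨x ⊗ₜ ⟨j, hj⟩, rfl⟩) ?_
  rintro a b ⟨z, rfl⟩ ⟨w, rfl⟩
  exact ⟨z + w, map_add _ _ _⟩

theorem range_multA : LinearMap.range (multA J A' M') = sub J A' M' := by
  ext y
  rw [mem_sub_iff, LinearMap.mem_range]
  constructor
  · rintro ⟨z, rfl⟩; exact multA_mem J A' M' z
  · exact exists_multA_eq J A' M' y

/-- The projection `M' ⊗ J → M₀ ⊗ J`, `A'`-linear. -/
noncomputable def piA : (M' ⊗[C'] ↥J) →ₗ[A'] ((M' ⧸ sub m A' M') ⊗[C'] ↥J) :=
  AlgebraTensorModule.rTensor C' ↥J (Submodule.mkQ (sub m A' M'))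

theorem piA_apply (z : M' ⊗[C'] ↥J) :
    piA m J A' M' z =
      LinearMap.rTensor ↥J ((Submodule.mkQ (sub m A' M')).restrictScalars C') z := rfl

theorem piA_surjective : Surjective (piA m J A' M') := by
  intro w
  have hq : Surjective ((Submodule.mkQ (sub m A' M')).restrictScalars C') :=
    Submodule.mkQ_surjective _
  obtain ⟨z, hz⟩ := LinearMap.rTensor_surjective ↥J hq w
  exact ⟨z, hz⟩

theorem tmul_eq_zero_of_mem (hmJ : m * J = ⊥) (n : M') (hn : n ∈ m • (⊤ : Submodule C' M'))
    (j : ↥J) : n ⊗ₜ[C'] j = 0 := by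
  refine Submodule.smul_induction_on hn (fun c hc x _ => ?_) (fun a b ha hb => ?_)
  · rw [TensorProduct.smul_tmul]
    have : c • j = 0 := by
      apply Subtype.ext
      show c * (j : C') = 0
      have : c * (j : C') ∈ m * J := Ideal.mul_mem_mul hc j.2
      rw [hmJ] at this
      exact this
    rw [this, TensorProduct.tmul_zero]
  · rw [TensorProduct.add_tmul, ha, hb, add_zero]

theorem piA_injective (hmJ : m * J = ⊥) : Injective (piA m J A' M') := by
  rw [injective_iff_map_eq_zero]
  intro z hz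
  rw [piA_apply] at hz
  set N : Submodule C' M' := (sub m A' M').restrictScalars C' with hN
  have hex : Function.Exact N.subtype ((Submodule.mkQ (sub m A' M')).restrictScalars C') := by
    intro x
    constructor
    · intro hx
      have hx' : x ∈ sub m A' M' := (Submodule.Quotient.mk_eq_zero _).mp hx
      exact ⟨⟨x, hx'⟩, rfl⟩
    · rintro ⟨y, rfl⟩
      exact (Submodule.Quotient.mk_eq_zero _).mpr y.2
  have hex' := rTensor_exact ↥J hex (Submodule.mkQ_surjective _)
  obtain ⟨w, rfl⟩ := (hex' z).mp hz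
  clear hz
  induction w using TensorProduct.induction_on with
  | zero => rw [map_zero]
  | tmul n j =>
    rw [LinearMap.rTensor_tmul]
    exact tmul_eq_zero_of_mem m J M' hmJ n.1 ((mem_sub_iff m A' M' n.1).mp n.2) j
  | add a b ha hb => rw [map_add, ha, hb, add_zero]

variable {m J A' M'}

theorem smul_eq_zero_of_mem (hmJ : m * J = ⊥) {c : C'} (hc : c ∈ m) {y : M'}
    (hy : y ∈ J • (⊤ : Submodule C' M')) : c • y = 0 := by
  refine Submodule.smul_induction_on hy (fun j hj x _ => ?_) (fun a b ha hb => ?_)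
  · rw [← mul_smul]
    have : c * j ∈ m * J := Ideal.mul_mem_mul hc hj
    rw [hmJ] at this
    rw [this, zero_smul]
  · rw [smul_add, ha, hb, add_zero]

section main

variable (hmJ : m * J = ⊥) (hJm : J ≤ m) [Module.Flat C' M']

include hmJ in
theorem delta_eq_zero (δ : M' →ₗ[A'] M') (hδ : ∀ x, δ x ∈ sub J A' M') (n : M')
    (hn : n ∈ sub m A' M') : δ n = 0 := by
  rw [mem_sub_iff] at hn
  refine Submodule.smul_induction_on hn (fun c hc x _ => ?_) (fun a b ha hb => ?_)
  · rw [← algebraMap_smul A' c x, map_smul, algebraMap_smul]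
    exact smul_eq_zero_of_mem hmJ hc ((mem_sub_iff J A' M' _).mp (hδ x))
  · rw [map_add, ha, hb, add_zero]

include hJm in
theorem sub_le : sub J A' M' ≤ sub m A' M' := by
  intro x hx
  rw [mem_sub_iff] at hx ⊢
  exact Submodule.smul_mono_left hJm hx

include hmJ hJm in
theorem part1 (σ : M' →ₗ[A'] M') (hσ : ∀ x : M', σ x - x ∈ sub J A' M') :
    Function.Bijective σ ∧
      ∃! τ : (M' ⧸ sub m A' M') →ₗ[A'] ((M' ⧸ sub m A' M') ⊗[C'] ↥J),
        (∀ (x : M') (z : M' ⊗[C'] ↥J),
          TensorProduct.rid C' M' (LinearMap.lTensor M' (Submodule.subtype J) z) = σ x - x →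
          LinearMap.rTensor ↥J ((Submodule.mkQ (sub m A' M')).restrictScalars C') z =
            τ (Submodule.mkQ _ x)) := by
  set δ : M' →ₗ[A'] M' := σ - LinearMap.id with hδdef
  have hδ : ∀ x, δ x ∈ sub J A' M' := fun x => hσ x
  have hσδ : ∀ x, σ x = x + δ x := fun x => by
    rw [hδdef, LinearMap.sub_apply, LinearMap.id_apply]; abel
  have hδ0 : ∀ n ∈ sub m A' M', δ n = 0 := delta_eq_zero hmJ δ hδ
  have hδδ : ∀ x, δ (δ x) = 0 := fun x => hδ0 _ (sub_le hJm (hδ x))
  refine ⟨⟨?_, ?_⟩, ?_⟩
  · rw [injective_iff_map_eq_zero]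
    intro x hx
    rw [hσδ] at hx
    have h1 : x = - δ x := eq_neg_of_add_eq_zero_left hx
    have h2 : δ x = 0 := by
      have := congrArg δ h1
      rw [map_neg, hδδ, neg_zero] at this
      exact this
    rw [h1, h2, neg_zero]
  · intro y
    refine ⟨y - δ y, ?_⟩
    rw [hσδ, map_sub, hδδ, sub_zero, sub_add_cancel]
  · -- the map g : M' → M₀ ⊗ J
    have hex : ∀ x, ∃ z, multA J A' M' z = δ x := fun x =>
      exists_multA_eq J A' M' _ ((mem_sub_iff J A' M' _).mp (hδ x))
    choose ζ hζ using hex
    have hinj := multA_injective J A' M'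
    let g : M' →ₗ[A'] ((M' ⧸ sub m A' M') ⊗[C'] ↥J) :=
      { toFun := fun x => piA m J A' M' (ζ x)
        map_add' := fun x y => by
          rw [← map_add]
          congr 1
          apply hinj
          rw [map_add, hζ, hζ, hζ, map_add]
        map_smul' := fun a x => by
          rw [RingHom.id_apply, ← map_smul]
          congr 1
          apply hinj
          rw [map_smul, hζ, hζ, map_smul] }
    have hg : ∀ x, g x = piA m J A' M' (ζ x) := fun x => rfl
    have hgker : sub m A' M' ≤ LinearMap.ker g := by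
      intro n hn
      rw [LinearMap.mem_ker, hg]
      have : ζ n = 0 := by
        apply hinj
        rw [hζ, map_zero, hδ0 n hn]
      rw [this, map_zero]
    refine ⟨(sub m A' M').liftQ g hgker, ?_, ?_⟩
    · intro x z hz
      show _ = (sub m A' M').liftQ g hgker (Submodule.Quotient.mk x)
      rw [Submodule.liftQ_apply, hg, piA_apply]
      congr 1
      apply hinj
      rw [hζ, multA_apply J A' M', hz, hσδ]
      abel
    · intro τ' hτ'
      apply Submodule.linearMap_qext
      apply LinearMap.ext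
      intro x
      have := hτ' x (ζ x) (by rw [← multA_apply J A' M', hζ, hσδ]; abel)
      rw [LinearMap.comp_apply, LinearMap.comp_apply, ← this]
      rfl

include hmJ in
theorem part2 (τ : (M' ⧸ sub m A' M') →ₗ[A'] ((M' ⧸ sub m A' M') ⊗[C'] ↥J)) :
    ∃ σ : M' →ₗ[A'] M', (∀ x : M', σ x - x ∈ sub J A' M') ∧
      (∀ (x : M') (z : M' ⊗[C'] ↥J),
        TensorProduct.rid C' M' (LinearMap.lTensor M' (Submodule.subtype J) z) = σ x - x →
        LinearMap.rTensor ↥J ((Submodule.mkQ (sub m A' M')).restrictScalars C') z =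
          τ (Submodule.mkQ _ x)) := by
  let πe : (M' ⊗[C'] ↥J) ≃ₗ[A'] ((M' ⧸ sub m A' M') ⊗[C'] ↥J) :=
    LinearEquiv.ofBijective (piA m J A' M') ⟨piA_injective m J A' M' hmJ, piA_surjective m J A' M'⟩
  have hπe : ∀ z, πe z = piA m J A' M' z := fun z => rfl
  let δ : M' →ₗ[A'] M' :=
    multA J A' M' ∘ₗ πe.symm.toLinearMap ∘ₗ τ ∘ₗ Submodule.mkQ (sub m A' M')
  have hδ : ∀ x, δ x = multA J A' M' (πe.symm (τ (Submodule.mkQ _ x))) := fun x => rfl
  refine ⟨LinearMap.id + δ, ?_, ?_⟩
  · intro x
    rw [LinearMap.add_apply, LinearMap.id_apply, add_sub_cancel_left, ← range_multA]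
    exact ⟨_, (hδ x).symm⟩
  · intro x z hz
    rw [LinearMap.add_apply, LinearMap.id_apply, add_sub_cancel_left, hδ, ← multA_apply J A' M'] at hz
    have := multA_injective J A' M' hz
    rw [← piA_apply m J A' M', this, ← hπe, LinearEquiv.apply_symm_apply]

end main

end Groth.Agent.Helper4.DefAut
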