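import Mathlib

/-!
Deformations of ideals with flat quotients along a square-zero-type extension: the difference
map `I → B ⊗ J` of two liftings.
-/

set_option autoImplicit false

namespace Groth.Agent.Helper4.DefIdeal

open scoped TensorProduct
open Function TensorProduct

universe u

variable {C' : Type u} [CommRing C'] (J : Ideal C') (A' : Type u) [CommRing A'] [Algebra C' A']

/-- The multiplication map `A' ⊗ J → A'`. -/
noncomputable def mult : A' ⊗[C'] ↥J →ₗ[C'] A' :=
  (TensorProduct.rid C' A').toLinearMap ∘ₗ (J.subtype.lTensor A')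

theorem mult_apply (z : A' ⊗[C'] ↥J) :
    mult J A' z = TensorProduct.rid C' A' (LinearMap.lTensor A' (Submodule.subtype J) z) := rfl

theorem mult_tmul (a : A') (j : ↥J) : mult J A' (a ⊗ₜ[C'] j) = (j : C') • a := by
  rw [mult_apply, LinearMap.lTensor_tmul, TensorProduct.rid_tmul]
  rfl

theorem mult_smul (a : A') (z : A' ⊗[C'] ↥J) : mult J A' (a • z) = a * mult J A' z := by
  induction z using TensorProduct.induction_on with
  | zero => simp
  | tmul b j =>
    rw [TensorProduct.smul_tmul', mult_tmul, mult_tmul, smul_eq_mul, mul_smul_comm]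
  | add z z' h h' => rw [smul_add, map_add, map_add, h, h', mul_add]

theorem mult_injective [Module.Flat C' A'] : Injective (mult J A') := by
  have h1 : Injective (J.subtype.lTensor A') :=
    Module.Flat.lTensor_preserves_injective_linearMap _ (Submodule.injective_subtype _)
  exact (TensorProduct.rid C' A').injective.comp h1

theorem exists_mult_eq {d : A'} (hd : d ∈ J.map (algebraMap C' A')) :
    ∃ z, mult J A' z = d := by
  refine Submodule.span_induction (p := fun d _ => ∃ z, mult J A' z = d) ?_ ?_ ?_ ?_ hd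
  · rintro _ ⟨j, hj, rfl⟩
    refine ⟨(1 : A') ⊗ₜ[C'] ⟨j, hj⟩, ?_⟩
    rw [mult_tmul, Algebra.smul_def, mul_one]
  · exact ⟨0, map_zero _⟩
  · rintro x y _ _ ⟨z, rfl⟩ ⟨z', rfl⟩
    exact ⟨z + z', map_add _ _ _⟩
  · rintro a x _ ⟨z, rfl⟩
    exact ⟨a • z, by rw [mult_smul, smul_eq_mul]⟩

/-- If `A'/K` is flat over `C'`, elements of `A' ⊗ J` whose product lies in `K` come from
`K ⊗ J`. -/
theorem exists_of_mult_mem (K : Ideal A') [Module.Flat C' (A' ⧸ K)] (z : A' ⊗[C'] ↥J)
    (hz : mult J A' z ∈ K) :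
    ∃ u : ↥K ⊗[C'] ↥J, ((K.subtype.restrictScalars C').rTensor ↥J) u = z := by
  let q : A' →ₗ[C'] (A' ⧸ K) := (Submodule.mkQ K).restrictScalars C'
  have hex : Exact (K.subtype.restrictScalars C') q := by
    intro a
    constructor
    · intro ha
      have : a ∈ K := by
        rw [← Submodule.Quotient.mk_eq_zero]; exact ha
      exact ⟨⟨a, this⟩, rfl⟩
    · rintro ⟨k, rfl⟩
      show Submodule.Quotient.mk (k : A') = 0
      rw [Submodule.Quotient.mk_eq_zero]; exact k.2
  have hsurj : Surjective q := Submodule.mkQ_surjective K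
  have hex' := rTensor_exact ↥J hex hsurj
  have hinjQ : Injective (mult J (A' ⧸ K)) := mult_injective J (A' ⧸ K)
  have hnat : ∀ z : A' ⊗[C'] ↥J, mult J (A' ⧸ K) ((q.rTensor ↥J) z) = q (mult J A' z) := by
    intro z
    induction z using TensorProduct.induction_on with
    | zero => simp
    | tmul a j => rw [LinearMap.rTensor_tmul, mult_tmul, mult_tmul, map_smul]
    | add z z' h h' => simp only [map_add, h, h']
  have h0 : (q.rTensor ↥J) z = 0 := by
    apply hinjQ
    rw [hnat, map_zero]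
    show Submodule.Quotient.mk (mult J A' z) = 0
    rw [Submodule.Quotient.mk_eq_zero]; exact hz
  exact (hex' z).mp h0

section main

variable (I : Ideal (A' ⧸ J.map (algebraMap C' A')))

/-- The projection `A' → B = (A'/JA')/I` as a `C'`-linear map. -/
noncomputable abbrev piL : A' →ₗ[C'] ((A' ⧸ J.map (algebraMap C' A')) ⧸ I) :=
  (IsScalarTower.toAlgHom C' A' ((A' ⧸ J.map (algebraMap C' A')) ⧸ I)).toLinearMap

theorem piL_apply (a : A') :
    piL J A' I a = Ideal.Quotient.mk I (Ideal.Quotient.mk (J.map (algebraMap C' A')) a) := rfl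

theorem piL_eq_zero_of_mem {K : Ideal A'}
    (hK : K.map (Ideal.Quotient.mk (J.map (algebraMap C' A'))) = I) {k : A'} (hk : k ∈ K) :
    piL J A' I k = 0 := by
  rw [piL_apply, Ideal.Quotient.eq_zero_iff_mem, ← hK]
  exact Ideal.mem_map_of_mem _ hk

theorem piL_rTensor_subtype {K : Ideal A'}
    (hK : K.map (Ideal.Quotient.mk (J.map (algebraMap C' A'))) = I) (u : ↥K ⊗[C'] ↥J) :
    ((piL J A' I).rTensor ↥J) (((K.subtype.restrictScalars C').rTensor ↥J) u) = 0 := by
  induction u using TensorProduct.induction_on with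
  | zero => simp
  | tmul k j =>
    rw [LinearMap.rTensor_tmul, LinearMap.rTensor_tmul]
    have : piL J A' I ((K.subtype.restrictScalars C') k) = 0 := piL_eq_zero_of_mem J A' I hK k.2
    rw [this, TensorProduct.zero_tmul]
  | add u u' h h' => rw [map_add, map_add, h, h', add_zero]

theorem piL_rTensor_smul (a : A') (z : A' ⊗[C'] ↥J) :
    ((piL J A' I).rTensor ↥J) (a • z) = a • ((piL J A' I).rTensor ↥J) z := by
  induction z using TensorProduct.induction_on with
  | zero => simp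
  | tmul b j =>
    rw [TensorProduct.smul_tmul', LinearMap.rTensor_tmul, LinearMap.rTensor_tmul,
      TensorProduct.smul_tmul']
    congr 1
  | add z z' h h' => rw [smul_add, map_add, map_add, h, h', smul_add]

variable [Module.Flat C' A']

/-- Well-definedness of the difference. -/
theorem piL_rTensor_eq_of_lifts (I' I'' : Ideal A') [Module.Flat C' (A' ⧸ I')]
    [Module.Flat C' (A' ⧸ I'')]
    (hI' : I'.map (Ideal.Quotient.mk (J.map (algebraMap C' A'))) = I)
    (hI'' : I''.map (Ideal.Quotient.mk (J.map (algebraMap C' A'))) = I)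
    {x' y' x'' y'' : A'} (hx' : x' ∈ I') (hy' : y' ∈ I') (hx'' : x'' ∈ I'') (hy'' : y'' ∈ I'')
    (h' : Ideal.Quotient.mk (J.map (algebraMap C' A')) x' =
      Ideal.Quotient.mk (J.map (algebraMap C' A')) y')
    (h'' : Ideal.Quotient.mk (J.map (algebraMap C' A')) x'' =
      Ideal.Quotient.mk (J.map (algebraMap C' A')) y'')
    {z₁ z₂ : A' ⊗[C'] ↥J} (hz₁ : mult J A' z₁ = x'' - x') (hz₂ : mult J A' z₂ = y'' - y') :
    ((piL J A' I).rTensor ↥J) z₁ = ((piL J A' I).rTensor ↥J) z₂ := by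
  have hd' : x' - y' ∈ J.map (algebraMap C' A') := by
    rw [← Ideal.Quotient.eq_zero_iff_mem, map_sub, h', sub_self]
  have hd'' : x'' - y'' ∈ J.map (algebraMap C' A') := by
    rw [← Ideal.Quotient.eq_zero_iff_mem, map_sub, h'', sub_self]
  obtain ⟨w', hw'⟩ := exists_mult_eq J A' hd'
  obtain ⟨w'', hw''⟩ := exists_mult_eq J A' hd''
  obtain ⟨u', hu'⟩ := exists_of_mult_mem J A' I' w' (by rw [hw']; exact I'.sub_mem hx' hy')
  obtain ⟨u'', hu''⟩ := exists_of_mult_mem J A' I'' w'' (by rw [hw'']; exact I''.sub_mem hx'' hy'')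
  have hzz : z₁ - z₂ = w'' - w' := by
    apply mult_injective J A'
    rw [map_sub, map_sub, hz₁, hz₂, hw', hw'']
    ring
  have h0 : ((piL J A' I).rTensor ↥J) (z₁ - z₂) = 0 := by
    rw [hzz, map_sub, ← hu', ← hu'', piL_rTensor_subtype J A' I hI',
      piL_rTensor_subtype J A' I hI'', sub_zero]
  rw [map_sub, sub_eq_zero] at h0
  exact h0

/-- Existence and uniqueness of the difference map of two liftings. -/
theorem existsUnique_difference (I' I'' : Ideal A') [Module.Flat C' (A' ⧸ I')]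
    [Module.Flat C' (A' ⧸ I'')]
    (hI' : I'.map (Ideal.Quotient.mk (J.map (algebraMap C' A'))) = I)
    (hI'' : I''.map (Ideal.Quotient.mk (J.map (algebraMap C' A'))) = I) :
    ∃! φ : ↥I →ₗ[A'] (((A' ⧸ J.map (algebraMap C' A')) ⧸ I) ⊗[C'] ↥J),
      (∀ (x : (A' ⧸ J.map (algebraMap C' A'))) (hx : x ∈ I) (x' x'' : A'), x' ∈ I' → x'' ∈ I'' →
          Ideal.Quotient.mk (J.map (algebraMap C' A')) x' = x →
          Ideal.Quotient.mk (J.map (algebraMap C' A')) x'' = x →
          ∀ z : A' ⊗[C'] ↥J,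
            TensorProduct.rid C' A' (LinearMap.lTensor A' (Submodule.subtype J) z) = x'' - x' →
            LinearMap.rTensor ↥J (IsScalarTower.toAlgHom C' A'
              ((A' ⧸ J.map (algebraMap C' A')) ⧸ I)).toLinearMap z = φ ⟨x, hx⟩) := by
  -- existence of data
  have hdata : ∀ x : ↥I, ∃ (x' x'' : A') (z : A' ⊗[C'] ↥J), x' ∈ I' ∧ x'' ∈ I'' ∧
      Ideal.Quotient.mk (J.map (algebraMap C' A')) x' = x.1 ∧
      Ideal.Quotient.mk (J.map (algebraMap C' A')) x'' = x.1 ∧ mult J A' z = x'' - x' := by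
    intro x
    have h1 : x.1 ∈ I'.map (Ideal.Quotient.mk (J.map (algebraMap C' A'))) := by
      rw [hI']; exact x.2
    have h2 : x.1 ∈ I''.map (Ideal.Quotient.mk (J.map (algebraMap C' A'))) := by
      rw [hI'']; exact x.2
    obtain ⟨x', hx', hx'x⟩ :=
      (Ideal.mem_map_iff_of_surjective _ Ideal.Quotient.mk_surjective).mp h1
    obtain ⟨x'', hx'', hx''x⟩ :=
      (Ideal.mem_map_iff_of_surjective _ Ideal.Quotient.mk_surjective).mp h2
    have hd : x'' - x' ∈ J.map (algebraMap C' A') := by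
      rw [← Ideal.Quotient.eq_zero_iff_mem, map_sub, hx'x, hx''x, sub_self]
    obtain ⟨z, hz⟩ := exists_mult_eq J A' hd
    exact ⟨x', x'', z, hx', hx'', hx'x, hx''x, hz⟩
  choose cx' cx'' cz hc1 hc2 hc3 hc4 hc5 using hdata
  let φ : ↥I →ₗ[A'] (((A' ⧸ J.map (algebraMap C' A')) ⧸ I) ⊗[C'] ↥J) :=
    { toFun := fun x => ((piL J A' I).rTensor ↥J) (cz x)
      map_add' := by
        intro x y
        rw [← map_add]
        refine piL_rTensor_eq_of_lifts J A' I I' I'' hI' hI'' (hc1 (x + y))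
          (I'.add_mem (hc1 x) (hc1 y)) (hc2 (x + y)) (I''.add_mem (hc2 x) (hc2 y)) ?_ ?_
          (hc5 (x + y)) ?_
        · rw [hc3, map_add, hc3, hc3]; rfl
        · rw [hc4, map_add, hc4, hc4]; rfl
        · rw [map_add, hc5, hc5]; ring
      map_smul' := by
        intro a x
        rw [RingHom.id_apply, ← piL_rTensor_smul]
        refine piL_rTensor_eq_of_lifts J A' I I' I'' hI' hI'' (hc1 (a • x))
          (I'.mul_mem_left a (hc1 x)) (hc2 (a • x)) (I''.mul_mem_left a (hc2 x)) ?_ ?_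
          (hc5 (a • x)) ?_
        · rw [hc3, map_mul, hc3]; rfl
        · rw [hc4, map_mul, hc4]; rfl
        · rw [mult_smul, hc5]; ring }
  refine ⟨φ, ?_, ?_⟩
  · intro x hx x' x'' hx' hx'' hx'x hx''x z hz
    show ((piL J A' I).rTensor ↥J) z = ((piL J A' I).rTensor ↥J) (cz ⟨x, hx⟩)
    refine piL_rTensor_eq_of_lifts J A' I I' I'' hI' hI'' hx' (hc1 ⟨x, hx⟩) hx'' (hc2 ⟨x, hx⟩)
      ?_ ?_ hz (hc5 ⟨x, hx⟩)
    · rw [hx'x, hc3]
    · rw [hx''x, hc4]
  · intro ψ hψ
    refine LinearMap.ext fun x => ?_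
    have := hψ x.1 x.2 (cx' x) (cx'' x) (hc1 x) (hc2 x) (hc3 x) (hc4 x) (cz x) (hc5 x)
    exact this.symm

end main

section lift

variable (I : Ideal (A' ⧸ J.map (algebraMap C' A')))

theorem mult_mem (z : A' ⊗[C'] ↥J) : mult J A' z ∈ J.map (algebraMap C' A') := by
  induction z using TensorProduct.induction_on with
  | zero => rw [map_zero]; exact Ideal.zero_mem _
  | tmul a j =>
    rw [mult_tmul, Algebra.smul_def]
    exact Ideal.mul_mem_right _ _ (Ideal.mem_map_of_mem _ j.2)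
  | add z z' h h' => rw [map_add]; exact Ideal.add_mem _ h h'

theorem mk_mult (z : A' ⊗[C'] ↥J) :
    Ideal.Quotient.mk (J.map (algebraMap C' A')) (mult J A' z) = 0 :=
  Ideal.Quotient.eq_zero_iff_mem.mpr (mult_mem J A' z)

/-- Naturality of `mult` with respect to a `C'`-algebra map. -/
theorem mult_rTensor {Q : Type u} [CommRing Q] [Algebra C' Q] (f : A' →ₗ[C'] Q)
    (z : A' ⊗[C'] ↥J) : mult J Q ((f.rTensor ↥J) z) = f (mult J A' z) := by
  induction z using TensorProduct.induction_on with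
  | zero => simp
  | tmul a j => rw [LinearMap.rTensor_tmul, mult_tmul, mult_tmul, map_smul]
  | add z z' h h' => simp only [map_add, h, h']

theorem piL_surjective : Surjective (piL J A' I) := by
  intro b
  obtain ⟨a, rfl⟩ := Ideal.Quotient.mk_surjective b
  obtain ⟨a', rfl⟩ := Ideal.Quotient.mk_surjective a
  exact ⟨a', rfl⟩

theorem exists_of_piL_rTensor_eq_zero (z : A' ⊗[C'] ↥J)
    (hz : ((piL J A' I).rTensor ↥J) z = 0) :
    ∃ v : ↥(LinearMap.ker (piL J A' I)) ⊗[C'] ↥J,
      ((LinearMap.ker (piL J A' I)).subtype.rTensor ↥J) v = z :=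
  (rTensor_exact ↥J (LinearMap.exact_subtype_ker_map (piL J A' I)) (piL_surjective J A' I) z).mp hz

/-- Elements killed by `π` decompose as an element of `K` plus an element of `JA'` when `K`
reduces to `I`. -/
theorem exists_sub_mem_of_piL_eq_zero {K : Ideal A'}
    (hK : K.map (Ideal.Quotient.mk (J.map (algebraMap C' A'))) = I) {a : A'}
    (ha : piL J A' I a = 0) : ∃ k ∈ K, a - k ∈ J.map (algebraMap C' A') := by
  rw [piL_apply, Ideal.Quotient.eq_zero_iff_mem, ← hK] at ha
  obtain ⟨k, hk, hka⟩ := (Ideal.mem_map_iff_of_surjective _ Ideal.Quotient.mk_surjective).mp ha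
  refine ⟨k, hk, ?_⟩
  rw [← Ideal.Quotient.eq_zero_iff_mem, map_sub, hka, sub_self]

variable (hJ2 : J * J = ⊥)
include hJ2

theorem smul_eq_zero_of_mem {j : C'} (hj : j ∈ J) {d : A'} (hd : d ∈ J.map (algebraMap C' A')) :
    j • d = 0 := by
  have h1 : algebraMap C' A' j * d ∈ J.map (algebraMap C' A') * J.map (algebraMap C' A') :=
    Ideal.mul_mem_mul (Ideal.mem_map_of_mem _ hj) hd
  rw [← Ideal.map_mul, hJ2, Ideal.map_bot, Ideal.mem_bot] at h1
  rw [Algebra.smul_def]; exact h1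

/-- (L3) The product of an element of `ker(π ⊗ J)` lies in any `K` reducing to `I`. -/
theorem mult_mem_of_ker {K : Ideal A'}
    (hK : K.map (Ideal.Quotient.mk (J.map (algebraMap C' A'))) = I)
    (v : ↥(LinearMap.ker (piL J A' I)) ⊗[C'] ↥J) :
    mult J A' (((LinearMap.ker (piL J A' I)).subtype.rTensor ↥J) v) ∈ K := by
  induction v using TensorProduct.induction_on with
  | zero => simp
  | tmul a j =>
    rw [LinearMap.rTensor_tmul, mult_tmul]
    obtain ⟨k, hk, hd⟩ := exists_sub_mem_of_piL_eq_zero J A' I hK (LinearMap.mem_ker.mp a.2)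
    have h1 : (j : C') • ((LinearMap.ker (piL J A' I)).subtype a) =
        (j : C') • k + (j : C') • ((a : A') - k) := by
      rw [← smul_add]; congr 1; simp
    rw [h1, smul_eq_zero_of_mem J A' hJ2 j.2 hd, add_zero, Algebra.smul_def]
    exact K.mul_mem_left _ hk
  | add v v' h h' => rw [map_add, map_add]; exact K.add_mem h h'

/-- (L1) `ker(π ⊗ J)` dies in `(A'/K) ⊗ J` for any `K` reducing to `I`. -/
theorem mkQ_rTensor_of_ker {K : Ideal A'}
    (hK : K.map (Ideal.Quotient.mk (J.map (algebraMap C' A'))) = I)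
    (v : ↥(LinearMap.ker (piL J A' I)) ⊗[C'] ↥J) :
    (((Ideal.Quotient.mkₐ C' K).toLinearMap).rTensor ↥J)
      (((LinearMap.ker (piL J A' I)).subtype.rTensor ↥J) v) = 0 := by
  have L0 : ∀ d ∈ J.map (algebraMap C' A'), ∀ j : ↥J,
      (Ideal.Quotient.mk K d) ⊗ₜ[C'] j = (0 : (A' ⧸ K) ⊗[C'] ↥J) := by
    intro d hd j
    refine Submodule.span_induction
      (p := fun d _ => (Ideal.Quotient.mk K d) ⊗ₜ[C'] j = (0 : (A' ⧸ K) ⊗[C'] ↥J)) ?_ ?_ ?_ ?_ hd
    · rintro _ ⟨j₀, hj₀, rfl⟩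
      have h1 : Ideal.Quotient.mk K (algebraMap C' A' j₀) = j₀ • (1 : A' ⧸ K) := by
        rw [Algebra.smul_def, mul_one]; rfl
      have h2 : j₀ • j = 0 := by
        apply Subtype.ext
        have : j₀ * (j : C') ∈ J * J := Ideal.mul_mem_mul hj₀ j.2
        rw [hJ2, Ideal.mem_bot] at this
        exact this
      rw [h1, TensorProduct.smul_tmul, h2, TensorProduct.tmul_zero]
    · rw [map_zero, TensorProduct.zero_tmul]
    · intro x y _ _ hx hy
      rw [map_add, TensorProduct.add_tmul, hx, hy, add_zero]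
    · intro a x _ hx
      rw [smul_eq_mul, map_mul]
      have : (Ideal.Quotient.mk K a * Ideal.Quotient.mk K x) ⊗ₜ[C'] j =
          (Ideal.Quotient.mk K a) • ((Ideal.Quotient.mk K x) ⊗ₜ[C'] j) := by
        rw [TensorProduct.smul_tmul', smul_eq_mul]
      rw [this, hx, smul_zero]
  induction v using TensorProduct.induction_on with
  | zero => simp
  | tmul a j =>
    rw [LinearMap.rTensor_tmul, LinearMap.rTensor_tmul]
    obtain ⟨k, hk, hd⟩ := exists_sub_mem_of_piL_eq_zero J A' I hK (LinearMap.mem_ker.mp a.2)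
    have h1 : (Ideal.Quotient.mkₐ C' K).toLinearMap ((LinearMap.ker (piL J A' I)).subtype a) =
        Ideal.Quotient.mk K ((a : A') - k) := by
      show Ideal.Quotient.mk K (a : A') = _
      rw [map_sub, Ideal.Quotient.eq_zero_iff_mem.mpr hk, sub_zero]
    rw [h1]
    exact L0 _ hd j
  | add v v' h h' => rw [map_add, map_add, h, h', add_zero]

end lift

section construct

variable (I : Ideal (A' ⧸ J.map (algebraMap C' A'))) (I' : Ideal A')
  (φ : ↥I →ₗ[A'] (((A' ⧸ J.map (algebraMap C' A')) ⧸ I) ⊗[C'] ↥J))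

/-- The lifted ideal `I''` with prescribed difference `φ` from `I'`. -/
def liftIdeal : Ideal A' where
  carrier := {x'' | ∃ x' ∈ I', ∃ (x : ↥I) (z : A' ⊗[C'] ↥J),
    Ideal.Quotient.mk (J.map (algebraMap C' A')) x' = x.1 ∧ x'' = x' + mult J A' z ∧
      ((piL J A' I).rTensor ↥J) z = φ x}
  add_mem' := by
    rintro _ _ ⟨x'₁, hx'₁, x₁, z₁, h₁, rfl, hz₁⟩ ⟨x'₂, hx'₂, x₂, z₂, h₂, rfl, hz₂⟩
    refine ⟨x'₁ + x'₂, I'.add_mem hx'₁ hx'₂, x₁ + x₂, z₁ + z₂, ?_, ?_, ?_⟩
    · rw [map_add, h₁, h₂]; rfl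
    · rw [map_add]; ring
    · rw [map_add, map_add, hz₁, hz₂]
  zero_mem' := ⟨0, I'.zero_mem, 0, 0, by simp, by simp, by simp⟩
  smul_mem' := by
    rintro a _ ⟨x', hx', x, z, h, rfl, hz⟩
    refine ⟨a * x', I'.mul_mem_left a hx', a • x, a • z, ?_, ?_, ?_⟩
    · rw [map_mul, h]; rfl
    · rw [mult_smul, smul_eq_mul, mul_add]
    · rw [piL_rTensor_smul, hz, map_smul]

theorem mem_liftIdeal {x'' : A'} : x'' ∈ liftIdeal J A' I I' φ ↔
    ∃ x' ∈ I', ∃ (x : ↥I) (z : A' ⊗[C'] ↥J),
      Ideal.Quotient.mk (J.map (algebraMap C' A')) x' = x.1 ∧ x'' = x' + mult J A' z ∧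
        ((piL J A' I).rTensor ↥J) z = φ x := Iff.rfl

variable (hI' : I'.map (Ideal.Quotient.mk (J.map (algebraMap C' A'))) = I)
include hI'

theorem liftIdeal_map :
    (liftIdeal J A' I I' φ).map (Ideal.Quotient.mk (J.map (algebraMap C' A'))) = I := by
  apply le_antisymm
  · rw [Ideal.map_le_iff_le_comap]
    rintro _ ⟨x', hx', x, z, h, rfl, hz⟩
    rw [Ideal.mem_comap, map_add, mk_mult, add_zero, h]
    exact x.2
  · intro x hx
    have h1 : x ∈ I'.map (Ideal.Quotient.mk (J.map (algebraMap C' A'))) := by rw [hI']; exact hx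
    obtain ⟨x', hx', hx'x⟩ :=
      (Ideal.mem_map_iff_of_surjective _ Ideal.Quotient.mk_surjective).mp h1
    obtain ⟨z, hz⟩ := LinearMap.rTensor_surjective ↥J (piL_surjective J A' I) (φ ⟨x, hx⟩)
    have hmem : x' + mult J A' z ∈ liftIdeal J A' I I' φ :=
      ⟨x', hx', ⟨x, hx⟩, z, hx'x, rfl, hz⟩
    have : Ideal.Quotient.mk (J.map (algebraMap C' A')) (x' + mult J A' z) = x := by
      rw [map_add, mk_mult, add_zero, hx'x]
    rw [← this]
    exact Ideal.mem_map_of_mem _ hmem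

variable [Module.Flat C' A'] [Module.Flat C' (A' ⧸ I')]

theorem liftIdeal_difference (x : (A' ⧸ J.map (algebraMap C' A'))) (hx : x ∈ I) (x' x'' : A')
    (hx' : x' ∈ I') (hx'' : x'' ∈ liftIdeal J A' I I' φ)
    (hx'x : Ideal.Quotient.mk (J.map (algebraMap C' A')) x' = x)
    (hx''x : Ideal.Quotient.mk (J.map (algebraMap C' A')) x'' = x)
    (z : A' ⊗[C'] ↥J) (hz : mult J A' z = x'' - x') :
    ((piL J A' I).rTensor ↥J) z = φ ⟨x, hx⟩ := by
  obtain ⟨y', hy', x₀, z₀, h₀, rfl, hz₀⟩ := hx''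
  have hx₀ : x₀ = ⟨x, hx⟩ := by
    apply Subtype.ext
    show x₀.1 = x
    rw [← h₀, ← hx''x, map_add, mk_mult, add_zero]
  have hmem : mult J A' (z - z₀) ∈ I' := by
    rw [map_sub, hz]
    have : y' + mult J A' z₀ - x' - mult J A' z₀ = y' - x' := by ring
    rw [this]
    exact I'.sub_mem hy' hx'
  obtain ⟨u, hu⟩ := exists_of_mult_mem J A' I' (z - z₀) hmem
  have h0 : ((piL J A' I).rTensor ↥J) (z - z₀) = 0 := by
    rw [← hu]; exact piL_rTensor_subtype J A' I hI' u
  rw [map_sub, sub_eq_zero] at h0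
  rw [h0, hz₀, hx₀]

variable (hJ2 : J * J = ⊥)
include hJ2

theorem eq_liftIdeal_of_difference (K : Ideal A')
    (hK : K.map (Ideal.Quotient.mk (J.map (algebraMap C' A'))) = I)
    (hdiff : ∀ (x : (A' ⧸ J.map (algebraMap C' A'))) (hx : x ∈ I) (x' x'' : A'), x' ∈ I' →
      x'' ∈ K → Ideal.Quotient.mk (J.map (algebraMap C' A')) x' = x →
      Ideal.Quotient.mk (J.map (algebraMap C' A')) x'' = x →
      ∀ z : A' ⊗[C'] ↥J, mult J A' z = x'' - x' →
        ((piL J A' I).rTensor ↥J) z = φ ⟨x, hx⟩) :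
    K = liftIdeal J A' I I' φ := by
  apply le_antisymm
  · intro x'' hx''
    have hxI : Ideal.Quotient.mk (J.map (algebraMap C' A')) x'' ∈ I := by
      rw [← hK]; exact Ideal.mem_map_of_mem _ hx''
    have h1 : Ideal.Quotient.mk (J.map (algebraMap C' A')) x'' ∈
        I'.map (Ideal.Quotient.mk (J.map (algebraMap C' A'))) := by rw [hI']; exact hxI
    obtain ⟨x', hx', hx'x⟩ :=
      (Ideal.mem_map_iff_of_surjective _ Ideal.Quotient.mk_surjective).mp h1
    have hd : x'' - x' ∈ J.map (algebraMap C' A') := by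
      rw [← Ideal.Quotient.eq_zero_iff_mem, map_sub, hx'x, sub_self]
    obtain ⟨z, hz⟩ := exists_mult_eq J A' hd
    refine ⟨x', hx', ⟨_, hxI⟩, z, hx'x, ?_, hdiff _ hxI x' x'' hx' hx'' hx'x rfl z hz⟩
    rw [hz]; ring
  · rintro _ ⟨x', hx', x, z, h, rfl, hz⟩
    have h1 : x.1 ∈ K.map (Ideal.Quotient.mk (J.map (algebraMap C' A'))) := by rw [hK]; exact x.2
    obtain ⟨y'', hy'', hy''x⟩ :=
      (Ideal.mem_map_iff_of_surjective _ Ideal.Quotient.mk_surjective).mp h1
    have hd : y'' - x' ∈ J.map (algebraMap C' A') := by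
      rw [← Ideal.Quotient.eq_zero_iff_mem, map_sub, hy''x, h, sub_self]
    obtain ⟨z₂, hz₂⟩ := exists_mult_eq J A' hd
    have h2 := hdiff x.1 x.2 x' y'' hx' hy'' h hy''x z₂ hz₂
    have h3 : ((piL J A' I).rTensor ↥J) (z - z₂) = 0 := by
      rw [map_sub, hz, h2, sub_self]
    obtain ⟨v, hv⟩ := exists_of_piL_rTensor_eq_zero J A' I (z - z₂) h3
    have h4 := mult_mem_of_ker J A' I hJ2 hK v
    rw [hv, map_sub, hz₂] at h4
    have : x' + mult J A' z = y'' + (mult J A' z - (y'' - x')) := by ring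
    rw [this]
    exact K.add_mem hy'' h4

end construct

end Groth.Agent.Helper4.DefIdeal
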