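import Mathlib
import Groth.Agent.Lib.Helper4.DefIdeal
import Groth.Agent.Lib.Helper8.LocalCrit

/-!
Flatness of the quotient by the lifted ideal, and the existence/uniqueness statement.
-/

set_option autoImplicit false

namespace Groth.Agent.Helper4.DefIdeal

open scoped TensorProduct
open Function TensorProduct

universe u

variable {C' : Type u} [CommRing C'] (J : Ideal C') (A' : Type u) [CommRing A'] [Algebra C' A']
variable (I : Ideal (A' ⧸ J.map (algebraMap C' A'))) (I' : Ideal A')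
  (φ : ↥I →ₗ[A'] (((A' ⧸ J.map (algebraMap C' A')) ⧸ I) ⊗[C'] ↥J))

theorem flat_quotient_liftIdeal
    (hI' : I'.map (Ideal.Quotient.mk (J.map (algebraMap C' A'))) = I) (hJ2 : J * J = ⊥)
    [Module.Flat C' A'] [Module.Flat C' (A' ⧸ I')]
    [Module.Flat (C' ⧸ J) ((A' ⧸ J.map (algebraMap C' A')) ⧸ I)] :
    Module.Flat C' (A' ⧸ liftIdeal J A' I I' φ) := by
  set I'' := liftIdeal J A' I I' φ with hI''def
  have hI''map : I''.map (Ideal.Quotient.mk (J.map (algebraMap C' A'))) = I :=
    liftIdeal_map J A' I I' φ hI'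
  have hJ2' : J ^ 2 = ⊥ := by rw [pow_two]; exact hJ2
  refine Groth.Agent.Helper8.LocalCrit.flat_of_nilpotent J 2 hJ2' ?_ ?_
  · rw [← LinearMap.lTensor_inj_iff_rTensor_inj, injective_iff_map_eq_zero]
    intro w hw
    have hq : Function.Surjective ((Ideal.Quotient.mkₐ C' I'').toLinearMap) :=
      Ideal.Quotient.mkₐ_surjective C' I''
    obtain ⟨z, rfl⟩ := LinearMap.rTensor_surjective ↥J hq w
    have h1 : mult J (A' ⧸ I'') (((Ideal.Quotient.mkₐ C' I'').toLinearMap.rTensor ↥J) z) = 0 := by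
      rw [mult_apply, hw, map_zero]
    rw [mult_rTensor] at h1
    have hzmem : mult J A' z ∈ I'' := Ideal.Quotient.eq_zero_iff_mem.mp h1
    obtain ⟨x', hx', x, z₀, h, heq, hz₀⟩ := hzmem
    have hx'eq : x' = mult J A' (z - z₀) := by rw [map_sub, heq]; ring
    have hmem : mult J A' (z - z₀) ∈ I' := by rw [← hx'eq]; exact hx'
    obtain ⟨u, hu⟩ := exists_of_mult_mem J A' I' (z - z₀) hmem
    have h0 : ((piL J A' I).rTensor ↥J) (z - z₀) = 0 := by
      rw [← hu]; exact piL_rTensor_subtype J A' I hI' u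
    have hx0 : x = 0 := by
      apply Subtype.ext
      show x.1 = 0
      rw [← h, hx'eq]
      exact mk_mult J A' _
    have hz₀' : ((piL J A' I).rTensor ↥J) z₀ = 0 := by rw [hz₀, hx0, map_zero]
    have hz' : ((piL J A' I).rTensor ↥J) z = 0 := by
      rw [map_sub, hz₀', sub_zero] at h0; exact h0
    obtain ⟨v, hv⟩ := exists_of_piL_rTensor_eq_zero J A' I z hz'
    rw [← hv]
    exact mkQ_rTensor_of_ker J A' I hJ2 hI''map v
  · let ρ : (A' ⧸ I'') →ₗ[C'] ((A' ⧸ J.map (algebraMap C' A')) ⧸ I) :=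
      (Ideal.Quotient.liftₐ I''
        (IsScalarTower.toAlgHom C' A' ((A' ⧸ J.map (algebraMap C' A')) ⧸ I))
        (fun a ha => by
          have := piL_eq_zero_of_mem J A' I hI''map ha
          exact this)).toLinearMap
    have hρ : ∀ a, ρ (Ideal.Quotient.mk I'' a) = piL J A' I a := fun a => rfl
    have hρsurj : Surjective ρ := by
      intro b
      obtain ⟨a, rfl⟩ := piL_surjective J A' I b
      exact ⟨Ideal.Quotient.mk I'' a, rfl⟩
    have hker : LinearMap.ker ρ = (J • ⊤ : Submodule C' (A' ⧸ I'')) := by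
      apply le_antisymm
      · intro n hn
        obtain ⟨a, rfl⟩ := Ideal.Quotient.mk_surjective n
        rw [LinearMap.mem_ker, hρ] at hn
        obtain ⟨k, hk, hd⟩ := exists_sub_mem_of_piL_eq_zero J A' I hI''map hn
        have h1 : Ideal.Quotient.mk I'' a = Ideal.Quotient.mk I'' (a - k) := by
          rw [map_sub, Ideal.Quotient.eq_zero_iff_mem.mpr hk, sub_zero]
        rw [h1, Ideal.smul_top_eq_map, Submodule.restrictScalars_mem]
        have h2 : Ideal.Quotient.mk I'' (a - k) ∈
            (J.map (algebraMap C' A')).map (Ideal.Quotient.mk I'') := Ideal.mem_map_of_mem _ hd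
        rw [Ideal.map_map] at h2
        exact h2
      · refine Submodule.smul_le.mpr (fun j hj n _ => ?_)
        obtain ⟨a, rfl⟩ := Ideal.Quotient.mk_surjective n
        rw [LinearMap.mem_ker, map_smul, hρ, ← map_smul, piL_apply]
        have : Ideal.Quotient.mk (J.map (algebraMap C' A')) (j • a) = 0 := by
          rw [Ideal.Quotient.eq_zero_iff_mem, Algebra.smul_def]
          exact Ideal.mul_mem_right _ _ (Ideal.mem_map_of_mem _ hj)
        rw [this, map_zero]
    let e : ((C' ⧸ J) ⊗[C'] (A' ⧸ I'')) ≃ₗ[C'] ((A' ⧸ J.map (algebraMap C' A')) ⧸ I) :=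
      (TensorProduct.quotTensorEquivQuotSMul (A' ⧸ I'') J).trans
        ((Submodule.quotEquivOfEq _ _ hker.symm).trans
          (LinearMap.quotKerEquivOfSurjective ρ hρsurj))
    exact Module.Flat.of_linearEquiv
      (e.extendScalarsOfSurjective (Ideal.Quotient.mk_surjective (I := J)))

/-- Existence and uniqueness of the lifting `I''` with prescribed difference from `I'`. -/
theorem existsUnique_lift
    (hI' : I'.map (Ideal.Quotient.mk (J.map (algebraMap C' A'))) = I) (hJ2 : J * J = ⊥)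
    [Module.Flat C' A'] [Module.Flat C' (A' ⧸ I')]
    [Module.Flat (C' ⧸ J) ((A' ⧸ J.map (algebraMap C' A')) ⧸ I)] :
    ∃! I'' : Ideal A', Module.Flat C' (A' ⧸ I'') ∧
      I''.map (Ideal.Quotient.mk (J.map (algebraMap C' A'))) = I ∧
      (∀ (x : (A' ⧸ J.map (algebraMap C' A'))) (hx : x ∈ I) (x' x'' : A'), x' ∈ I' → x'' ∈ I'' →
          Ideal.Quotient.mk (J.map (algebraMap C' A')) x' = x →
          Ideal.Quotient.mk (J.map (algebraMap C' A')) x'' = x →
          ∀ z : A' ⊗[C'] ↥J,
            TensorProduct.rid C' A' (LinearMap.lTensor A' (Submodule.subtype J) z) = x'' - x' →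
            LinearMap.rTensor ↥J (IsScalarTower.toAlgHom C' A'
              ((A' ⧸ J.map (algebraMap C' A')) ⧸ I)).toLinearMap z = φ ⟨x, hx⟩) := by
  refine ⟨liftIdeal J A' I I' φ, ⟨flat_quotient_liftIdeal J A' I I' φ hI' hJ2,
    liftIdeal_map J A' I I' φ hI', ?_⟩, ?_⟩
  · intro x hx x' x'' hx' hx'' hx'x hx''x z hz
    exact liftIdeal_difference J A' I I' φ hI' x hx x' x'' hx' hx'' hx'x hx''x z hz
  · rintro K ⟨-, hKmap, hKdiff⟩
    exact eq_liftIdeal_of_difference J A' I I' φ hI' hJ2 K hKmap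
      (fun x hx x' x'' hx' hx'' hx'x hx''x z hz => hKdiff x hx x' x'' hx' hx'' hx'x hx''x z hz)

end Groth.Agent.Helper4.DefIdeal
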