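import Mathlib
import Groth.Prelude.Def_FSRel

/-!
# Relative formal smoothness and left invertibility of `Ω_{B/A} ⊗_B C → Ω_{C/A}`
-/

set_option autoImplicit false
universe u

namespace Groth.Agent.Helper4

open TensorProduct

section

variable (A B C : Type u) [CommRing A] [CommRing B] [CommRing C] [Algebra A B] [Algebra B C]
  [Algebra A C] [IsScalarTower A B C]

/-- The twisted ring map `B → C ⊕ (C ⊗_B Ω_{B/A})`, `b ↦ (b, 1 ⊗ d b)`. -/
noncomputable def tszeTw : B →+* TrivSqZeroExt C (C ⊗[B] Ω[B⁄A]) where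
  toFun b := TrivSqZeroExt.inl (algebraMap B C b) +
    TrivSqZeroExt.inr ((1 : C) ⊗ₜ[B] KaehlerDifferential.D A B b)
  map_one' := by
    ext <;> simp
  map_mul' a b := by
    ext
    · simp
    · simp only [TrivSqZeroExt.snd_add, TrivSqZeroExt.snd_inl, TrivSqZeroExt.snd_inr, zero_add,
        TrivSqZeroExt.snd_mul, TrivSqZeroExt.fst_add, TrivSqZeroExt.fst_inl,
        TrivSqZeroExt.fst_inr, add_zero, op_smul_eq_smul, Derivation.leibniz,
        TensorProduct.tmul_add, TensorProduct.tmul_smul]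
      rw [algebraMap_smul, algebraMap_smul]
  map_zero' := by
    ext <;> simp
  map_add' a b := by
    ext
    · simp
    · simp [TensorProduct.tmul_add]

theorem tszeTw_apply (b : B) : tszeTw A B C b = TrivSqZeroExt.inl (algebraMap B C b) +
    TrivSqZeroExt.inr ((1 : C) ⊗ₜ[B] KaehlerDifferential.D A B b) := rfl

theorem mapBaseChange_one_tmul_D (b : B) :
    KaehlerDifferential.mapBaseChange A B C ((1 : C) ⊗ₜ[B] KaehlerDifferential.D A B b) =
      KaehlerDifferential.D A C (algebraMap B C b) := by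
  rw [KaehlerDifferential.mapBaseChange_tmul, one_smul, KaehlerDifferential.map_D]

set_option maxHeartbeats 1000000 in
/-- Relative formal smoothness gives a left inverse. -/
theorem leftInv_of_fsRel (h : EGA41.IsFormallySmoothRel A B C) :
    ∃ l : Ω[C⁄A] →ₗ[C] C ⊗[B] Ω[B⁄A],
      l ∘ₗ KaehlerDifferential.mapBaseChange A B C = LinearMap.id := by
  classical
  letI algBE : Algebra B (TrivSqZeroExt C (C ⊗[B] Ω[B⁄A])) := (tszeTw A B C).toAlgebra
  have halgB : ∀ b, algebraMap B (TrivSqZeroExt C (C ⊗[B] Ω[B⁄A])) b = tszeTw A B C b :=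
    fun b => rfl
  have htower : ∀ a : A, algebraMap A (TrivSqZeroExt C (C ⊗[B] Ω[B⁄A])) a =
      algebraMap B (TrivSqZeroExt C (C ⊗[B] Ω[B⁄A])) (algebraMap A B a) := by
    intro a
    rw [halgB, tszeTw_apply, TrivSqZeroExt.algebraMap_eq_inl', Derivation.map_algebraMap,
      TensorProduct.tmul_zero, TrivSqZeroExt.inr_zero, add_zero,
      ← IsScalarTower.algebraMap_apply A B C]
  have htowerInst := IsScalarTower.of_algebraMap_eq htower
  have hJ : TrivSqZeroExt.kerIdeal C (C ⊗[B] Ω[B⁄A]) ^ 2 = ⊥ := TrivSqZeroExt.kerIdeal_sq _ _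
  have hmemJ : ∀ x : TrivSqZeroExt C (C ⊗[B] Ω[B⁄A]),
      x ∈ TrivSqZeroExt.kerIdeal C (C ⊗[B] Ω[B⁄A]) ↔ x.fst = 0 := fun x => Iff.rfl
  let u₀ : C →ₐ[B] (TrivSqZeroExt C (C ⊗[B] Ω[B⁄A])) ⧸ TrivSqZeroExt.kerIdeal C (C ⊗[B] Ω[B⁄A]) :=
    { toRingHom := (Ideal.Quotient.mk _).comp (TrivSqZeroExt.inlHom C (C ⊗[B] Ω[B⁄A]))
      commutes' := fun b => by
        change Ideal.Quotient.mk _ (TrivSqZeroExt.inl (algebraMap B C b)) =
          Ideal.Quotient.mk _ (tszeTw A B C b)
        rw [Ideal.Quotient.eq, hmemJ, tszeTw_apply]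
        simp }
  obtain ⟨v, hv⟩ := h (TrivSqZeroExt C (C ⊗[B] Ω[B⁄A])) (TrivSqZeroExt.kerIdeal C (C ⊗[B] Ω[B⁄A]))
    hJ u₀ ⟨TrivSqZeroExt.inlAlgHom A C (C ⊗[B] Ω[B⁄A]), by ext c; rfl⟩
  have hfst : ∀ c, (v c).fst = c := by
    intro c
    have h1 := congrArg (fun g => g c) hv
    have h2 : Ideal.Quotient.mk (TrivSqZeroExt.kerIdeal C (C ⊗[B] Ω[B⁄A])) (v c) =
        Ideal.Quotient.mk _ (TrivSqZeroExt.inl c) := h1
    rw [Ideal.Quotient.eq, hmemJ, TrivSqZeroExt.fst_sub, TrivSqZeroExt.fst_inl, sub_eq_zero] at h2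
    exact h2
  have hvb : ∀ b, v (algebraMap B C b) = tszeTw A B C b := fun b => v.commutes b
  let δ₀ : C →ₗ[A] (C ⊗[B] Ω[B⁄A]) :=
    { toFun := fun c => (v c).snd
      map_add' := fun c c' => by rw [map_add, TrivSqZeroExt.snd_add]
      map_smul' := fun a c => by
        have h1 : v (a • c) = a • v c := map_smul (v.restrictScalars A) a c
        rw [h1, TrivSqZeroExt.snd_smul, RingHom.id_apply] }
  have hleib : ∀ c c' : C, (v (c * c')).snd = c • (v c').snd + c' • (v c).snd := by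
    intro c c'
    rw [map_mul, TrivSqZeroExt.snd_mul, hfst, hfst, op_smul_eq_smul]
  let δ : Derivation A C (C ⊗[B] Ω[B⁄A]) := Derivation.mk' δ₀ (fun c c' => hleib c c')
  have hδ : ∀ c, δ c = (v c).snd := fun c => rfl
  refine ⟨δ.liftKaehlerDifferential, ?_⟩
  have key : ∀ ω : Ω[B⁄A], δ.liftKaehlerDifferential
      (KaehlerDifferential.mapBaseChange A B C ((1 : C) ⊗ₜ[B] ω)) = (1 : C) ⊗ₜ[B] ω := by
    intro ω
    have h1 : ((δ.liftKaehlerDifferential ∘ₗ KaehlerDifferential.mapBaseChange A B C).restrictScalars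
        B).comp (TensorProduct.mk B C (Ω[B⁄A]) 1) = TensorProduct.mk B C (Ω[B⁄A]) 1 := by
      refine LinearMap.ext_on_range (KaehlerDifferential.span_range_derivation A B) fun b => ?_
      rw [LinearMap.comp_apply, LinearMap.restrictScalars_apply, LinearMap.comp_apply,
        TensorProduct.mk_apply, mapBaseChange_one_tmul_D, Derivation.liftKaehlerDifferential_comp_D,
        hδ, hvb, tszeTw_apply]
      simp
    exact LinearMap.congr_fun h1 ω
  apply LinearMap.ext
  intro x
  induction x using TensorProduct.induction_on with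
  | zero => simp
  | tmul c ω =>
    have h1 : c ⊗ₜ[B] ω = c • ((1 : C) ⊗ₜ[B] ω) := by
      rw [TensorProduct.smul_tmul', smul_eq_mul, mul_one]
    rw [LinearMap.comp_apply, LinearMap.id_apply, h1, map_smul, map_smul, key]
  | add x y hx hy => rw [map_add, hx, hy, map_add]

set_option maxHeartbeats 1000000 in
/-- A left inverse gives relative formal smoothness. -/
theorem fsRel_of_leftInv (l : Ω[C⁄A] →ₗ[C] C ⊗[B] Ω[B⁄A])
    (hl : l ∘ₗ KaehlerDifferential.mapBaseChange A B C = LinearMap.id) :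
    EGA41.IsFormallySmoothRel A B C := by
  intro C' _ _ _ _ J hJ u₀ hu
  obtain ⟨u, hu⟩ := hu
  classical
  letI algCC' : Algebra C C' := u.toRingHom.toAlgebra
  have halgC : ∀ c, algebraMap C C' c = u c := fun c => rfl
  haveI : IsScalarTower A C C' := IsScalarTower.of_algebraMap_eq (fun a => (u.commutes a).symm)
  have hu' : ∀ c, Ideal.Quotient.mk J (u c) = u₀ c := fun c => congrArg (fun g => g c) hu
  have hJ0 : ∀ x ∈ J, ∀ y ∈ J, x * y = 0 := by
    intro x hx y hy
    have h1 : x * y ∈ J ^ 2 := by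
      rw [pow_two]; exact Ideal.mul_mem_mul hx hy
    rw [hJ] at h1
    exact h1
  have hdiff : ∀ b, u (algebraMap B C b) - algebraMap B C' b ∈ J := by
    intro b
    rw [← Ideal.Quotient.eq, hu', u₀.commutes]
    rfl
  haveI : IsScalarTower B C ↥J := ⟨fun b c j => Subtype.ext (by
    change (b • c) • (j : C') = b • (c • (j : C'))
    rw [Algebra.smul_def (b • c), Algebra.smul_def c, Algebra.smul_def b (_ * _), halgC, halgC,
      Algebra.smul_def, map_mul, ← sub_eq_zero]
    have h1 := hJ0 _ (hdiff b) _ (J.mul_mem_left (u c) j.2)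
    rw [← h1]
    ring)⟩
  -- the derivation `b ↦ u b - b`
  let f : B →ₐ[A] C' := u.comp (IsScalarTower.toAlgHom A B C)
  have hf : (Ideal.Quotient.mkₐ A J).comp f = IsScalarTower.toAlgHom A B (C' ⧸ J) := by
    ext b
    change Ideal.Quotient.mk J (u (algebraMap B C b)) = algebraMap B (C' ⧸ J) b
    rw [hu', u₀.commutes]
  let E₁ : Derivation A B ↥J := derivationToSquareZeroOfLift J hJ f hf
  have hE₁ : ∀ b, ((E₁ b : ↥J) : C') = u (algebraMap B C b) - algebraMap B C' b := fun b => rfl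
  let Ψ : C ⊗[B] Ω[B⁄A] →ₗ[C] ↥J := LinearMap.liftBaseChange C E₁.liftKaehlerDifferential
  let D' : Derivation A C ↥J := - ((Ψ ∘ₗ l).compDer (KaehlerDifferential.D A C))
  let v₁ : C →ₐ[A] C' := liftOfDerivationToSquareZero J hJ D'
  have hv₁ : ∀ c, v₁ c = ((D' c : ↥J) : C') + u c := fun c => rfl
  have hD'b : ∀ b, ((D' (algebraMap B C b) : ↥J) : C') =
      -(u (algebraMap B C b) - algebraMap B C' b) := by
    intro b
    have h1 : D' (algebraMap B C b) = - Ψ (l (KaehlerDifferential.D A C (algebraMap B C b))) := rfl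
    rw [h1, ← mapBaseChange_one_tmul_D, ← LinearMap.comp_apply l, hl, LinearMap.id_apply,
      LinearMap.liftBaseChange_tmul, one_smul, Derivation.liftKaehlerDifferential_comp_D,
      Submodule.coe_neg, hE₁]
  refine ⟨{ toRingHom := v₁.toRingHom, commutes' := fun b => ?_ }, ?_⟩
  · change v₁ (algebraMap B C b) = algebraMap B C' b
    rw [hv₁, hD'b]
    ring
  · ext c
    change Ideal.Quotient.mk J (v₁ c) = u₀ c
    rw [hv₁, map_add, Ideal.Quotient.eq_zero_iff_mem.mpr (D' c).2, zero_add, hu']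

end

end Groth.Agent.Helper4
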