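import Mathlib
import Groth.Prelude.Def_Coh
import Groth.Prelude.Def_CohB1
import Groth.Prelude.Def_FlatMod2
import Groth.Agent.Lead.StalkLoc
import Groth.Agent.Lib.Helper4.TorsFreeCurve
import Groth.Agent.Lib.Helper4.CohDepth

/-!
# Local freeness from free stalks and locally constant rank
-/

set_option autoImplicit false
set_option linter.style.haveILetI false

universe u

open CategoryTheory CategoryTheory.Limits AlgebraicGeometry Opposite TopologicalSpace
open Groth.Agent.Lead.QCoh Groth.Agent.Lead.FinType Groth.Agent.Lead.FinPres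
open Groth.Agent.Lead.AffSurj Groth.Agent.Lead.FreeEpi Groth.Agent.Lead.Extend
open Groth.Agent.Lead.FreeIso Groth.Agent.Lead.LocFree Groth.Agent.Lead.FPSec
open Groth.Agent.Lead.StalkLoc

namespace Groth.Agent.Helper4.FiberRank

theorem linearIndependent_of_span_eq_top {R M : Type*} [CommRing R] [Nontrivial R]
    [AddCommGroup M] [Module R M] [Module.Free R M] [Module.Finite R M] {n : ℕ} (v : Fin n → M)
    (hspan : Submodule.span R (Set.range v) = ⊤) (hn : Module.finrank R M = n) :
    LinearIndependent R v := by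
  rw [linearIndependent_iff_injective_fintypeLinearCombination]
  have hsurj : Function.Surjective (Fintype.linearCombination R v) := by
    rw [← LinearMap.range_eq_top, Fintype.range_linearCombination, hspan]
  exact (OrzechProperty.bijective_of_surjective_of_finrank_le (Fintype.linearCombination R v) hsurj
    (by rw [Module.finrank_fin_fun, hn])).1

variable {X : Scheme.{u}}

set_option backward.isDefEq.respectTransparency false in
theorem stalk_basis_of_iso (M : X.Modules) [M.IsQuasicoherent] (U : X.Opens) (n : ℕ)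
    (e : M.restrict U.ι ≅ FlatMod.freeMod (U : Scheme.{u}) n) (x : X) (hxU : x ∈ U) :
    Nonempty (Module.Basis (Fin n) (X.presheaf.stalk x) (M.presheaf.stalk x)) := by
  obtain ⟨W', hW'aff, hxW', -⟩ := Opens.isBasis_iff_nbhd.mp
    (U : Scheme.{u}).isBasis_affineOpens
    (show (⟨x, hxU⟩ : U) ∈ (⊤ : (U : Scheme.{u}).Opens) from trivial)
  obtain ⟨b⟩ := exists_basis_of_iso_freeMod M U e W'
  have hW : IsAffineOpen (U.ι ''ᵁ W') := hW'aff.image_of_isOpenImmersion U.ι
  have hx : x ∈ U.ι ''ᵁ W' := ⟨⟨x, hxU⟩, hxW', rfl⟩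
  letI : Algebra Γ(X, U.ι ''ᵁ W') (X.presheaf.stalk x) :=
    X.presheaf.algebra_section_stalk ⟨x, hx⟩
  haveI : IsLocalization.AtPrime (X.presheaf.stalk x) (hW.primeIdealOf ⟨x, hx⟩).asIdeal :=
    hW.isLocalization_stalk ⟨x, hx⟩
  letI : Module Γ(X, U.ι ''ᵁ W') (M.presheaf.stalk x) :=
    Module.compHom _ (X.presheaf.germ (U.ι ''ᵁ W') x hx).hom
  haveI : IsScalarTower Γ(X, U.ι ''ᵁ W') (X.presheaf.stalk x) (M.presheaf.stalk x) :=
    IsScalarTower.of_algebraMap_smul (fun r m => rfl)
  obtain ⟨germL, -, hloc⟩ := isLocalizedModule_germ M hW x hx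
  haveI := hloc
  exact ⟨b.ofIsLocalizedModule (X.presheaf.stalk x)
    (hW.primeIdealOf ⟨x, hx⟩).asIdeal.primeCompl germL⟩

theorem span_eq_top_of_span_germ {U : X.Opens} (hU : IsAffineOpen U) (F : X.Modules)
    [F.IsQuasicoherent] {r : ℕ} (m : Fin r → Γ(F, U))
    (h : ∀ (y : X) (hy : y ∈ U), Submodule.span (X.presheaf.stalk y)
      (Set.range fun i => F.presheaf.germ U y hy (m i)) = ⊤) :
    Submodule.span Γ(X, U) (Set.range m) = ⊤ := by
  rw [eq_top_iff]
  intro t _
  let J : Ideal Γ(X, U) := (Submodule.span Γ(X, U) (Set.range m)).comap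
    (LinearMap.toSpanSingleton Γ(X, U) Γ(F, U) t)
  have hJmem : ∀ a : Γ(X, U), a ∈ J ↔ a • t ∈ Submodule.span Γ(X, U) (Set.range m) := by
    intro a
    rw [Submodule.mem_comap, LinearMap.toSpanSingleton_apply]
  have hJ : J = ⊤ := by
    by_contra hne
    obtain ⟨p, hp, hle⟩ := Ideal.exists_le_maximal J hne
    let q : PrimeSpectrum Γ(X, U) := ⟨p, hp.isPrime⟩
    have hyU : hU.fromSpec q ∈ U := by
      have h1 : hU.fromSpec q ∈ hU.fromSpec.opensRange := ⟨q, rfl⟩
      rwa [hU.opensRange_fromSpec] at h1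
    have hq : hU.primeIdealOf ⟨hU.fromSpec q, hyU⟩ = q :=
      hU.fromSpec.isOpenEmbedding.injective (hU.fromSpec_primeIdealOf ⟨_, hyU⟩)
    obtain ⟨f, hyf, hf⟩ := GenFree.exists_smul_mem_span hU F m t (hU.fromSpec q) hyU
      (by rw [h _ hyU]; trivial)
    have hfp : f ∈ q.asIdeal := hle ((hJmem f).mpr hf)
    rw [← hq] at hfp
    exact ((mem_primeIdealOf_iff hU _ hyU f).mp hfp) hyf
  have h1 : (1 : Γ(X, U)) ∈ J := by rw [hJ]; trivial
  have h2 : (1 : Γ(X, U)) • t ∈ Submodule.span Γ(X, U) (Set.range m) := (hJmem 1).mp h1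
  rwa [one_smul] at h2

theorem linearIndependent_of_germs {U : X.Opens} (F : X.Modules) {r : ℕ} (m : Fin r → Γ(F, U))
    (h : ∀ (y : X) (hy : y ∈ U), LinearIndependent (X.presheaf.stalk y)
      (fun i => F.presheaf.germ U y hy (m i))) :
    LinearIndependent Γ(X, U) m := by
  rw [Fintype.linearIndependent_iff]
  intro c hc i
  apply TopCat.Presheaf.section_ext X.sheaf U
  intro y hy
  have h1 := congrArg (F.presheaf.germ U y hy) hc
  rw [map_sum, map_zero] at h1
  have h2 : ∑ j, X.presheaf.germ U y hy (c j) • F.presheaf.germ U y hy (m j) = 0 := by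
    rw [← h1]
    exact Finset.sum_congr rfl (fun j _ => (germ_smul F U y hy (c j) (m j)).symm)
  have h3 := Fintype.linearIndependent_iff.mp (h y hy)
    (fun j => X.presheaf.germ U y hy (c j)) h2 i
  exact h3.trans (map_zero _).symm

set_option backward.isDefEq.respectTransparency false in
theorem core (M : X.Modules) [M.IsQuasicoherent]
    [SheafOfModules.IsFiniteType (R := X.ringCatSheaf) M]
    (hfree : ∀ x : X, Module.Free (X.presheaf.stalk x) (M.presheaf.stalk x))
    (x : X) {U : X.Opens} (hU : IsAffineOpen U) (hxU : x ∈ U) (n : ℕ) (m : Fin n → Γ(M, U))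
    (hspan : Submodule.span (X.presheaf.stalk x)
      (Set.range fun i => M.presheaf.germ U x hxU (m i)) = ⊤)
    (hrank : ∀ y ∈ U, Module.finrank (X.presheaf.stalk y) (M.presheaf.stalk y) = n) :
    ∃ V : X.Opens, x ∈ V ∧ Nonempty (M.restrict V.ι ≅ FlatMod.freeMod (V : Scheme.{u}) n) := by
  classical
  obtain ⟨f, hxf, hf⟩ := GenFree.exists_basicOpen_span hU M m x hxU hspan
  have hVU : X.basicOpen f ≤ U := X.basicOpen_le f
  have hV : IsAffineOpen (X.basicOpen f) := hU.basicOpen f
  let s : Fin n → Γ(M, X.basicOpen f) := fun i => M.presheaf.map (homOfLE hVU).op (m i)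
  have hsp : ∀ (y : X) (hy : y ∈ X.basicOpen f), Submodule.span (X.presheaf.stalk y)
      (Set.range fun i => M.presheaf.germ (X.basicOpen f) y hy (s i)) = ⊤ := by
    intro y hy
    rw [eq_top_iff, ← hf y hy (hVU hy), Submodule.span_le]
    rintro _ ⟨i, rfl⟩
    refine Submodule.subset_span ⟨i, ?_⟩
    exact TopCat.Presheaf.germ_res_apply M.presheaf (homOfLE hVU) y hy (m i)
  have hliy : ∀ (y : X) (hy : y ∈ X.basicOpen f), LinearIndependent (X.presheaf.stalk y)
      (fun i => M.presheaf.germ (X.basicOpen f) y hy (s i)) := by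
    intro y hy
    haveI := hfree y
    haveI := CohDepth.finite_stalk M y
    exact linearIndependent_of_span_eq_top _ (hsp y hy) (hrank y (hVU hy))
  have hspanV := span_eq_top_of_span_germ hV M s hsp
  have hliV := linearIndependent_of_germs M s hliy
  let g' : ULift.{u} (Fin n) → Γ(M, X.basicOpen f) := fun i => s i.down
  have hg' : Submodule.span Γ(X, X.basicOpen f) (Set.range g') = ⊤ := by
    rw [eq_top_iff, ← hspanV]
    apply Submodule.span_mono
    rintro _ ⟨i, rfl⟩
    exact ⟨⟨i⟩, rfl⟩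
  have hli' : LinearIndependent Γ(X, X.basicOpen f) g' :=
    hliV.comp (fun i : ULift.{u} (Fin n) => i.down) Equiv.ulift.injective
  obtain ⟨e'⟩ := exists_iso_free_restrict M hV (ULift.{u} (Fin n)) g' hg' hli'
  exact ⟨X.basicOpen f, hxf,
    ⟨e'.symm ≪≫ (freeModIso ((X.basicOpen f : X.Opens) : Scheme.{u}) n).symm⟩⟩

theorem isFinLocFree_of_free_stalks (M : X.Modules) [M.IsQuasicoherent]
    [SheafOfModules.IsFiniteType (R := X.ringCatSheaf) M]
    (hfree : ∀ x : X, Module.Free (X.presheaf.stalk x) (M.presheaf.stalk x))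
    (hlc : IsLocallyConstant
      (fun x : X => Module.finrank (X.presheaf.stalk x) (M.presheaf.stalk x))) :
    FlatMod.IsFinLocFree M := by
  classical
  intro x
  haveI := hfree x
  haveI := CohDepth.finite_stalk M x
  obtain ⟨U₀, hU₀open, hxU₀, hconst⟩ := (IsLocallyConstant.iff_exists_open _).mp hlc x
  obtain ⟨U, hU, hxU, hUU₀⟩ :=
    exists_isAffineOpen_mem_and_subset (x := x) (U := ⟨U₀, hU₀open⟩) hxU₀
  obtain ⟨m, -, hspan⟩ := TorsFreeCurve.exists_sections_basis_at hU M x hxU
  obtain ⟨V, hxV, hV⟩ := core M hfree x hU hxU _ m hspan (fun y hy => hconst y (hUU₀ hy))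
  exact ⟨V, _, hxV, hV⟩

theorem fiberRank_eq (M : X.Modules) (x : X)
    [Module.Free (X.presheaf.stalk x) (M.presheaf.stalk x)] :
    Module.finrank (IsLocalRing.ResidueField (X.presheaf.stalk x))
      (TensorProduct (X.presheaf.stalk x) (IsLocalRing.ResidueField (X.presheaf.stalk x))
        (M.presheaf.stalk x)) =
    Module.finrank (X.presheaf.stalk x) (M.presheaf.stalk x) :=
  Module.finrank_baseChange

theorem finrank_stalk_of_iso (M : X.Modules) [M.IsQuasicoherent] (U : X.Opens) (n : ℕ)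
    (e : M.restrict U.ι ≅ FlatMod.freeMod (U : Scheme.{u}) n) (x : X) (hxU : x ∈ U) :
    Module.Free (X.presheaf.stalk x) (M.presheaf.stalk x) ∧
      Module.finrank (X.presheaf.stalk x) (M.presheaf.stalk x) = n := by
  obtain ⟨b⟩ := stalk_basis_of_iso M U n e x hxU
  exact ⟨Module.Free.of_basis b, by rw [Module.finrank_eq_card_basis b, Fintype.card_fin]⟩

end Groth.Agent.Helper4.FiberRank
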