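import Mathlib
import Groth.Agent.Lib.Helper4.FiberRank

/-!
# Local freeness over reduced schemes from locally constant fibre rank
-/

set_option autoImplicit false
set_option linter.style.haveILetI false

universe u

open CategoryTheory CategoryTheory.Limits AlgebraicGeometry Opposite TopologicalSpace
open Groth.Agent.Lead.QCoh Groth.Agent.Lead.FinType Groth.Agent.Lead.FinPres
open Groth.Agent.Lead.AffSurj Groth.Agent.Lead.FreeEpi Groth.Agent.Lead.Extend
open Groth.Agent.Lead.FreeIso Groth.Agent.Lead.LocFree Groth.Agent.Lead.FPSec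
open Groth.Agent.Lead.StalkLoc

namespace Groth.Agent.Helper4.FiberRank2

section Alg

open IsLocalRing TensorProduct

variable {R : Type*} [CommRing R] [IsLocalRing R] {N : Type*} [AddCommGroup N] [Module R N]
  [Module.Finite R N]

theorem exists_span_of_finrank (n : ℕ)
    (hn : Module.finrank (ResidueField R) (ResidueField R ⊗[R] N) = n) :
    ∃ v : Fin n → N, Submodule.span R (Set.range v) = ⊤ := by
  let b : Module.Basis (Fin n) (ResidueField R) (ResidueField R ⊗[R] N) :=
    Module.finBasisOfFinrankEq _ _ hn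
  have hsurj : Function.Surjective (TensorProduct.mk R (ResidueField R) N 1) :=
    TensorProduct.mk_surjective R N (ResidueField R) Ideal.Quotient.mk_surjective
  choose v hv using fun i => hsurj (b i)
  exact ⟨v, IsLocalRing.span_eq_top_of_tmul_eq_basis v b (fun i => hv i)⟩

theorem mem_maximalIdeal_of_sum_eq_zero {n : ℕ} (w : Fin n → N)
    (hspan : Submodule.span R (Set.range w) = ⊤)
    (hn : Module.finrank (ResidueField R) (ResidueField R ⊗[R] N) = n)
    (c : Fin n → R) (hc : ∑ i, c i • w i = 0) (i : Fin n) : c i ∈ maximalIdeal R := by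
  have hsp : ⊤ ≤ Submodule.span (ResidueField R)
      (Set.range fun i => TensorProduct.mk R (ResidueField R) N 1 (w i)) := by
    have h1 := Submodule.baseChange_span (R := R) (A := ResidueField R) (M := N) (Set.range w)
    rw [hspan, Submodule.baseChange_top] at h1
    rw [h1, ← Set.range_comp]
    rfl
  have hli : LinearIndependent (ResidueField R)
      (fun i => TensorProduct.mk R (ResidueField R) N 1 (w i)) :=
    linearIndependent_of_top_le_span_of_card_eq_finrank hsp (by rw [Fintype.card_fin, hn])
  have h2 : ∑ j, (algebraMap R (ResidueField R) (c j)) •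
      TensorProduct.mk R (ResidueField R) N 1 (w j) = 0 := by
    have h3 := congrArg (TensorProduct.mk R (ResidueField R) N 1) hc
    rw [map_sum, map_zero] at h3
    rw [← h3]
    refine Finset.sum_congr rfl (fun j _ => ?_)
    rw [map_smul, algebraMap_smul]
  have h4 := Fintype.linearIndependent_iff.mp hli
    (fun j => algebraMap R (ResidueField R) (c j)) h2 i
  exact (IsLocalRing.residue_eq_zero_iff _).mp h4

end Alg

variable {X : Scheme.{u}}

set_option backward.isDefEq.respectTransparency false in
theorem core' (M : X.Modules) [M.IsQuasicoherent] {V : X.Opens} (hV : IsAffineOpen V) (n : ℕ)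
    (s : Fin n → Γ(M, V))
    (hsp : ∀ (y : X) (hy : y ∈ V), Submodule.span (X.presheaf.stalk y)
      (Set.range fun i => M.presheaf.germ V y hy (s i)) = ⊤)
    (hli : LinearIndependent Γ(X, V) s) :
    Nonempty (M.restrict V.ι ≅ FlatMod.freeMod (V : Scheme.{u}) n) := by
  classical
  have hspanV := FiberRank.span_eq_top_of_span_germ hV M s hsp
  let g' : ULift.{u} (Fin n) → Γ(M, V) := fun i => s i.down
  have hg' : Submodule.span Γ(X, V) (Set.range g') = ⊤ := by
    rw [eq_top_iff, ← hspanV]
    apply Submodule.span_mono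
    rintro _ ⟨i, rfl⟩
    exact ⟨⟨i⟩, rfl⟩
  have hli' : LinearIndependent Γ(X, V) g' :=
    hli.comp (fun i : ULift.{u} (Fin n) => i.down) Equiv.ulift.injective
  obtain ⟨e'⟩ := exists_iso_free_restrict M hV (ULift.{u} (Fin n)) g' hg' hli'
  exact ⟨e'.symm ≪≫ (freeModIso (V : Scheme.{u}) n).symm⟩

set_option backward.isDefEq.respectTransparency false in
theorem isFinLocFree_of_reduced [IsReduced X] (M : X.Modules) [M.IsQuasicoherent]
    [SheafOfModules.IsFiniteType (R := X.ringCatSheaf) M]
    (hlc : IsLocallyConstant (fun x : X =>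
      Module.finrank (IsLocalRing.ResidueField (X.presheaf.stalk x))
        (TensorProduct (X.presheaf.stalk x) (IsLocalRing.ResidueField (X.presheaf.stalk x))
          (M.presheaf.stalk x)))) :
    FlatMod.IsFinLocFree M := by
  classical
  intro x
  haveI := CohDepth.finite_stalk M x
  obtain ⟨U₀, hU₀open, hxU₀, hconst⟩ := (IsLocallyConstant.iff_exists_open _).mp hlc x
  obtain ⟨U, hU, hxU, hUU₀⟩ :=
    exists_isAffineOpen_mem_and_subset (x := x) (U := ⟨U₀, hU₀open⟩) hxU₀
  obtain ⟨n, hn⟩ : ∃ n : ℕ, Module.finrank (IsLocalRing.ResidueField (X.presheaf.stalk x))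
      (TensorProduct (X.presheaf.stalk x) (IsLocalRing.ResidueField (X.presheaf.stalk x))
        (M.presheaf.stalk x)) = n := ⟨_, rfl⟩
  obtain ⟨v, hv⟩ := exists_span_of_finrank (R := X.presheaf.stalk x)
    (N := M.presheaf.stalk x) n hn
  choose a m hxa ham using fun i => exists_smul_eq_germ M hU x hxU (v i)
  have hspan : Submodule.span (X.presheaf.stalk x)
      (Set.range fun i => M.presheaf.germ U x hxU (m i)) = ⊤ := by
    rw [eq_top_iff, ← hv, Submodule.span_le]
    rintro _ ⟨i, rfl⟩
    have hu : IsUnit (X.presheaf.germ U x hxU (a i)) :=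
      (X.mem_basicOpen (a i) x hxU).mp (hxa i)
    obtain ⟨w, hw⟩ := hu
    have h1 : v i = (↑w⁻¹ : X.presheaf.stalk x) • M.presheaf.germ U x hxU (m i) := by
      rw [← ham i, ← hw, smul_smul, Units.inv_mul, one_smul]
    rw [h1]
    exact Submodule.smul_mem _ _ (Submodule.subset_span ⟨i, rfl⟩)
  obtain ⟨f, hxf, hf⟩ := GenFree.exists_basicOpen_span hU M m x hxU hspan
  have hVU : X.basicOpen f ≤ U := X.basicOpen_le f
  have hV : IsAffineOpen (X.basicOpen f) := hU.basicOpen f
  let s : Fin n → Γ(M, X.basicOpen f) := fun i => M.presheaf.map (homOfLE hVU).op (m i)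
  have hsp : ∀ (y : X) (hy : y ∈ X.basicOpen f), Submodule.span (X.presheaf.stalk y)
      (Set.range fun i => M.presheaf.germ (X.basicOpen f) y hy (s i)) = ⊤ := by
    intro y hy
    rw [eq_top_iff, ← hf y hy (hVU hy), Submodule.span_le]
    rintro _ ⟨i, rfl⟩
    refine Submodule.subset_span ⟨i, ?_⟩
    exact TopCat.Presheaf.germ_res_apply M.presheaf (homOfLE hVU) y hy (m i)
  have hliV : LinearIndependent Γ(X, X.basicOpen f) s := by
    rw [Fintype.linearIndependent_iff]
    intro c hc i
    apply (basicOpen_eq_bot_iff (c i)).mp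
    rw [eq_bot_iff]
    intro y hy
    exfalso
    have hyV : y ∈ X.basicOpen f := X.basicOpen_le (c i) hy
    have hu : IsUnit (X.presheaf.germ (X.basicOpen f) y hyV (c i)) :=
      (X.mem_basicOpen (c i) y hyV).mp hy
    haveI := CohDepth.finite_stalk M y
    have h1 := congrArg (M.presheaf.germ (X.basicOpen f) y hyV) hc
    rw [map_sum, map_zero] at h1
    have h2 : ∑ j, X.presheaf.germ (X.basicOpen f) y hyV (c j) •
        M.presheaf.germ (X.basicOpen f) y hyV (s j) = 0 := by
      rw [← h1]
      exact Finset.sum_congr rfl (fun j _ => (germ_smul M _ y hyV (c j) (s j)).symm)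
    have hmem := mem_maximalIdeal_of_sum_eq_zero (R := X.presheaf.stalk y)
      (N := M.presheaf.stalk y) (fun j => M.presheaf.germ (X.basicOpen f) y hyV (s j))
      (hsp y hyV) ((hconst y (hUU₀ (hVU hyV))).trans hn)
      (fun j => X.presheaf.germ (X.basicOpen f) y hyV (c j)) h2 i
    exact ((IsLocalRing.mem_maximalIdeal _).mp hmem) hu
  obtain ⟨e⟩ := core' M hV n s hsp hliV
  exact ⟨X.basicOpen f, n, hxf, ⟨e⟩⟩

end Groth.Agent.Helper4.FiberRank2
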