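import Mathlib
import Groth.Prelude.Def_CAlg
import Groth.Prelude.Def_CurvBase
import Groth.Agent.Lead.StalkExact
import Groth.Agent.Lead.QCoh2
import Groth.Agent.Lib.Helper4.DepthTwoAlg2
import Groth.Agent.Lib.Helper4.CohDepth

/-!
# Serre's condition `(S₁)` and embedded associated points of a coherent module
-/

set_option autoImplicit false
set_option linter.style.haveILetI false

universe u v

open CategoryTheory CategoryTheory.Limits AlgebraicGeometry Opposite TopologicalSpace
open Groth.Agent.Lead.QCoh Groth.Agent.Lead.FinType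

namespace Groth.Agent.Helper4.SerreS1

theorem one_le_depth_of_regular {R : Type u} [CommRing R] [IsLocalRing R] (M : Type v)
    [AddCommGroup M] [Module R M] (r : R) (hr : r ∈ IsLocalRing.maximalIdeal R)
    (hreg : IsSMulRegular M r) : (1 : ℕ∞) ≤ LocCoh.depth R M := by
  unfold LocCoh.depth LocCoh.idealDepth
  split_ifs with htop
  · exact le_top
  · refine le_iSup₂_of_le [r] ⟨?_, ?_⟩ (by simp)
    · exact (RingTheory.Sequence.isWeaklyRegular_cons_iff M r []).mpr
        ⟨hreg, RingTheory.Sequence.IsWeaklyRegular.nil _ _⟩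
    · intro r' hr'
      rw [List.mem_singleton] at hr'
      rw [hr']
      exact hr

variable {X : Scheme.{u}} (F : X.Modules) [F.IsQuasicoherent]

theorem nontrivial_stalk_of_mem_support (x : X) (q : PrimeSpectrum (X.presheaf.stalk x))
    (hq : q ∈ Module.support (X.presheaf.stalk x) (F.presheaf.stalk x)) :
    Nontrivial (F.presheaf.stalk ((X.fromSpecStalk x) q)) := by
  by_contra hns
  rw [not_nontrivial_iff_subsingleton] at hns
  obtain ⟨m, hm⟩ := Module.mem_support_iff'.mp hq
  obtain ⟨s, hs, hsm⟩ := exists_smul_eq_zero_of_subsingleton_stalk F x q hns m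
  exact hm s hs hsm

theorem mem_support_of_nontrivial_stalk (x : X) (q : PrimeSpectrum (X.presheaf.stalk x))
    (hnt : Nontrivial (F.presheaf.stalk ((X.fromSpecStalk x) q))) :
    q ∈ Module.support (X.presheaf.stalk x) (F.presheaf.stalk x) := by
  by_contra hq
  rw [Module.mem_support_iff'] at hq
  push Not at hq
  apply not_subsingleton (F.presheaf.stalk ((X.fromSpecStalk x) q))
  obtain ⟨_, ⟨U, hU, rfl⟩, hxU, -⟩ :=
    X.isBasis_affineOpens.exists_subset_of_mem_open (Set.mem_univ x) isOpen_univ
  have hU' : IsAffineOpen U := hU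
  rw [← hU'.fromSpecStalk_eq_fromSpecStalk hxU]
  set q' : PrimeSpectrum Γ(X, U) := Spec.map (X.presheaf.germ U x hxU) q with hq'
  have hyq : (hU'.fromSpecStalk hxU) q = hU'.fromSpec q' := rfl
  rw [hyq]
  have hyU : hU'.fromSpec q' ∈ U := by
    have : hU'.fromSpec q' ∈ Set.range hU'.fromSpec := ⟨q', rfl⟩
    rwa [hU'.range_fromSpec] at this
  rw [subsingleton_stalk_iff F hU' _ hyU]
  intro m₀
  obtain ⟨s, hsq, hsm⟩ := hq (F.presheaf.germ U x hxU m₀)
  letI alg : Algebra Γ(X, U) (X.presheaf.stalk x) :=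
    TopCat.Presheaf.algebra_section_stalk X.presheaf ⟨x, hxU⟩
  haveI hloc : IsLocalization.AtPrime (X.presheaf.stalk x)
      (hU'.primeIdealOf ⟨x, hxU⟩).asIdeal := hU'.isLocalization_stalk ⟨x, hxU⟩
  obtain ⟨a₁, s₁, rfl⟩ :=
    IsLocalization.exists_mk'_eq (hU'.primeIdealOf ⟨x, hxU⟩).asIdeal.primeCompl s
  have hspec : X.presheaf.germ U x hxU (s₁ : Γ(X, U)) *
      IsLocalization.mk' (X.presheaf.stalk x) a₁ s₁ = X.presheaf.germ U x hxU a₁ :=
    IsLocalization.mk'_spec' (X.presheaf.stalk x) a₁ s₁
  have h0 : F.presheaf.germ U x hxU (a₁ • m₀) = 0 := by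
    rw [germ_smul, ← hspec, mul_smul, hsm, smul_zero]
  obtain ⟨a₂, hxa₂, ha₂⟩ := (germ_eq_zero_iff F hU' x hxU (a₁ • m₀)).mp h0
  refine ⟨a₂ * a₁, ?_, by rw [mul_smul]; exact ha₂⟩
  show q' ∈ hU'.fromSpec ⁻¹ᵁ (X.basicOpen (a₂ * a₁))
  rw [hU'.fromSpec_preimage_basicOpen]
  show a₂ * a₁ ∉ q'.asIdeal
  intro hmem
  have hmem' : X.presheaf.germ U x hxU (a₂ * a₁) ∈ q.asIdeal := hmem
  rw [map_mul] at hmem'
  rcases q.isPrime.mem_or_mem hmem' with h1 | h1
  · exact q.isPrime.ne_top
      (Ideal.eq_top_of_isUnit_mem _ h1 ((X.mem_basicOpen a₂ x hxU).mp hxa₂))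
  · rw [← hspec] at h1
    rcases q.isPrime.mem_or_mem h1 with h2 | h2
    · exact q.isPrime.ne_top (Ideal.eq_top_of_isUnit_mem _ h2
        (IsLocalization.map_units (X.presheaf.stalk x) s₁))
    · exact hsq h2

variable [IsLocallyNoetherian X] [SheafOfModules.IsFiniteType (R := X.ringCatSheaf) F]

theorem s1_iff :
    (∀ x : X, Curv2.IsAssPoint F x → ∀ y : X, Curv2.IsAssPoint F y → y ⤳ x → y = x) ↔
      ∀ x : X, min (1 : WithBot ℕ∞)
          (Module.supportDim (X.presheaf.stalk x) (F.presheaf.stalk x)) ≤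
        ((LocCoh.depth (X.presheaf.stalk x) (F.presheaf.stalk x) : ℕ∞) : WithBot ℕ∞) := by
  constructor
  · intro hne x
    haveI := CohDepth.finite_stalk F x
    by_cases hd : (1 : ℕ∞) ≤ LocCoh.depth (X.presheaf.stalk x) (F.presheaf.stalk x)
    · exact (min_le_left _ _).trans (WithBot.coe_le_coe.mpr hd)
    · have hass : Curv2.IsAssPoint F x := by
        by_contra hnass
        obtain ⟨r, hr, hreg⟩ :=
          DepthTwoAlg.exists_regular_of_not_ass (F.presheaf.stalk x) hnass
        exact hd (one_le_depth_of_regular _ r hr hreg)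
      have hsub : Subsingleton (Module.support (X.presheaf.stalk x) (F.presheaf.stalk x)) := by
        have hall : ∀ q ∈ Module.support (X.presheaf.stalk x) (F.presheaf.stalk x),
            q = IsLocalRing.closedPoint (X.presheaf.stalk x) := by
          intro q hq
          have hnt := nontrivial_stalk_of_mem_support F x q hq
          obtain ⟨z, hzy, hz⟩ := exists_weakAssPoint_specializes F _ hnt
          have hzass : Curv2.IsAssPoint F z := (isAssPoint_iff F z).mpr hz
          have hyx : (X.fromSpecStalk x) q ⤳ x := by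
            have : (X.fromSpecStalk x) q ∈ Set.range (X.fromSpecStalk x) := ⟨q, rfl⟩
            rwa [Scheme.range_fromSpecStalk] at this
          have hzx : z = x := hne x hass z hzass (hzy.trans hyx)
          rw [hzx] at hzy
          have heq : (X.fromSpecStalk x) q = x := (hyx.antisymm hzy).eq
          apply (X.fromSpecStalk x).isEmbedding.injective
          rw [heq, Scheme.fromSpecStalk_closedPoint]
        refine ⟨fun a b => Subtype.ext ?_⟩
        rw [hall a.1 a.2, hall b.1 b.2]
      have hsd : Module.supportDim (X.presheaf.stalk x) (F.presheaf.stalk x) ≤ 0 :=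
        Order.krullDim_nonpos_of_subsingleton
      have h0 : (0 : WithBot ℕ∞) ≤
          ((LocCoh.depth (X.presheaf.stalk x) (F.presheaf.stalk x) : ℕ∞) : WithBot ℕ∞) :=
        WithBot.coe_le_coe.mpr zero_le
      exact (min_le_right _ _).trans (hsd.trans h0)
  · intro hS1 x hx y hy hyx
    by_contra hne
    haveI := CohDepth.finite_stalk F x
    have hnd := DepthTwoAlg.not_one_le_depth_of_isAssociatedPrime (F.presheaf.stalk x) hx
    have hyr : y ∈ Set.range (X.fromSpecStalk x) := by
      rw [Scheme.range_fromSpecStalk]; exact hyx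
    obtain ⟨q, rfl⟩ := hyr
    have hqs : q ∈ Module.support (X.presheaf.stalk x) (F.presheaf.stalk x) :=
      mem_support_of_nontrivial_stalk F x q
        (nontrivial_stalk_of_isWeakAssPoint F _ ((isAssPoint_iff F _).mp hy))
    have hcs : IsLocalRing.closedPoint (X.presheaf.stalk x) ∈
        Module.support (X.presheaf.stalk x) (F.presheaf.stalk x) := by
      apply mem_support_of_nontrivial_stalk F x
      rw [Scheme.fromSpecStalk_closedPoint]
      exact nontrivial_stalk_of_isWeakAssPoint F x ((isAssPoint_iff F x).mp hx)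
    have hqc : q ≠ IsLocalRing.closedPoint (X.presheaf.stalk x) := by
      intro h
      apply hne
      rw [h, Scheme.fromSpecStalk_closedPoint]
    have hlt : (⟨q, hqs⟩ : Module.support (X.presheaf.stalk x) (F.presheaf.stalk x)) <
        ⟨IsLocalRing.closedPoint (X.presheaf.stalk x), hcs⟩ := by
      refine lt_of_le_of_ne ?_ (fun h => hqc (congrArg Subtype.val h))
      have hle : (show PrimeSpectrum (X.presheaf.stalk x) from q) ≤
          IsLocalRing.closedPoint (X.presheaf.stalk x) := by
        show q.asIdeal ≤ (IsLocalRing.closedPoint (X.presheaf.stalk x)).asIdeal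
        exact IsLocalRing.le_maximalIdeal q.isPrime.ne_top
      exact Subtype.mk_le_mk.mpr hle
    have h1 : (1 : WithBot ℕ∞) ≤
        Module.supportDim (X.presheaf.stalk x) (F.presheaf.stalk x) :=
      Order.one_le_krullDim_iff.mpr ⟨_, _, hlt⟩
    have h2 := hS1 x
    rw [min_eq_left h1] at h2
    exact hnd (WithBot.coe_le_coe.mp h2)

end Groth.Agent.Helper4.SerreS1
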