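import Mathlib
import Groth.Agent.Lib.Helper4.SerreS1

/-!
# Finite length and support

A finite module over a Noetherian local ring has finite length iff its support is contained in the
closed point.  Geometric consequence: for a coherent module on a locally Noetherian scheme, the
points `x` at which the stalk has finite length are the maximal points of the support.
-/

set_option autoImplicit false
set_option linter.style.haveILetI false

universe u

open CategoryTheory CategoryTheory.Limits AlgebraicGeometry Opposite TopologicalSpace
open Groth.Agent.Lead.QCoh Groth.Agent.Lead.FinType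

namespace Groth.Agent.Helper4.FinLenSupp

section Algebra

theorem support_subset_of_isFiniteLength {A : Type u} [CommRing A] [IsLocalRing A]
    {M : Type u} [AddCommGroup M] [Module A M] (h : IsFiniteLength A M) :
    Module.support A M ⊆ {IsLocalRing.closedPoint A} := by
  induction h with
  | of_subsingleton =>
    rw [Module.support_eq_empty]
    exact Set.empty_subset _
  | @of_simple_quotient M _ _ N hs hN ih =>
    rw [Module.support_of_exact (LinearMap.exact_subtype_mkQ N) N.injective_subtype
      N.mkQ_surjective]
    refine Set.union_subset ih ?_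
    obtain ⟨J, hJ, ⟨e⟩⟩ := isSimpleModule_iff_quot_maximal.mp hs
    rw [e.support_eq, Module.support_eq_zeroLocus, Ideal.annihilator_quotient,
      IsLocalRing.eq_maximalIdeal hJ]
    intro q hq
    rw [Set.mem_singleton_iff]
    apply PrimeSpectrum.ext
    have hle : IsLocalRing.maximalIdeal A ≤ q.asIdeal := hq
    exact ((IsLocalRing.maximalIdeal.isMaximal A).eq_of_le q.2.ne_top hle).symm

theorem isFiniteLength_of_support_subset {A : Type u} [CommRing A] [IsNoetherianRing A]
    [IsLocalRing A] (M : Type u) [AddCommGroup M] [Module A M] [Module.Finite A M]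
    (h : Module.support A M ⊆ {IsLocalRing.closedPoint A}) : IsFiniteLength A M := by
  rw [isFiniteLength_iff_isNoetherian_isArtinian]
  refine ⟨inferInstance, ?_⟩
  set I := Module.annihilator A M with hI
  have htors : Module.IsTorsionBySet A M (I : Set A) := by
    intro m a
    exact Module.mem_annihilator.mp a.2 m
  letI : Module (A ⧸ I) M := htors.module
  haveI : IsScalarTower A (A ⧸ I) M := htors.isScalarTower
  haveI : Module.Finite (A ⧸ I) M := Module.Finite.of_restrictScalars_finite A (A ⧸ I) M
  haveI : Ring.KrullDimLE 0 (A ⧸ I) := by
    rw [Ring.krullDimLE_zero_iff]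
    intro P hP
    have hq : (P.comap (Ideal.Quotient.mk I)).IsPrime := Ideal.comap_isPrime _ P
    have hIq : I ≤ P.comap (Ideal.Quotient.mk I) := by
      intro a ha
      rw [Ideal.mem_comap, Ideal.Quotient.eq_zero_iff_mem.mpr ha]
      exact P.zero_mem
    have hmem : (⟨P.comap (Ideal.Quotient.mk I), hq⟩ : PrimeSpectrum A) ∈ Module.support A M := by
      rw [Module.support_eq_zeroLocus]
      exact hIq
    have heq := h hmem
    rw [Set.mem_singleton_iff] at heq
    have hqm : P.comap (Ideal.Quotient.mk I) = IsLocalRing.maximalIdeal A :=
      congrArg PrimeSpectrum.asIdeal heq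
    have hmap : P = (IsLocalRing.maximalIdeal A).map (Ideal.Quotient.mk I) := by
      rw [← hqm, Ideal.map_comap_of_surjective _ Ideal.Quotient.mk_surjective]
    rcases Ideal.map_eq_top_or_isMaximal_of_surjective (Ideal.Quotient.mk I)
      Ideal.Quotient.mk_surjective (IsLocalRing.maximalIdeal.isMaximal A) with htop | hmax
    · exact absurd (hmap.trans htop) hP.ne_top
    · rw [hmap]; exact hmax
  haveI : IsArtinianRing (A ⧸ I) := isArtinianRing_iff_krullDimLE_zero.mpr inferInstance
  haveI : IsArtinian (A ⧸ I) M := isArtinian_of_fg_of_artinian'
  exact isArtinian_of_surjective_algebraMap (R := A ⧸ I) (S := A) Ideal.Quotient.mk_surjective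

theorem isFiniteLength_iff_support_subset {A : Type u} [CommRing A] [IsNoetherianRing A]
    [IsLocalRing A] (M : Type u) [AddCommGroup M] [Module A M] [Module.Finite A M] :
    IsFiniteLength A M ↔ Module.support A M ⊆ {IsLocalRing.closedPoint A} :=
  ⟨support_subset_of_isFiniteLength, isFiniteLength_of_support_subset M⟩

end Algebra

section Geometry

variable {X : Scheme.{u}} (F : X.Modules) [F.IsQuasicoherent]

/-- The support of the stalk `F_x` is the closed point iff no proper generization of `x` has a
nontrivial stalk. -/
theorem support_stalk_subset_iff (x : X) :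
    Module.support (X.presheaf.stalk x) (F.presheaf.stalk x) ⊆
        {IsLocalRing.closedPoint (X.presheaf.stalk x)} ↔
      ∀ y : X, Nontrivial (F.presheaf.stalk y) → y ⤳ x → y = x := by
  constructor
  · intro h y hy hyx
    have hyr : y ∈ Set.range (X.fromSpecStalk x) := by
      rw [Scheme.range_fromSpecStalk]; exact hyx
    obtain ⟨q, rfl⟩ := hyr
    have hq := SerreS1.mem_support_of_nontrivial_stalk F x q hy
    have := h hq
    rw [Set.mem_singleton_iff] at this
    rw [this]
    exact Scheme.fromSpecStalk_closedPoint
  · intro h q hq
    rw [Set.mem_singleton_iff]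
    have hnt := SerreS1.nontrivial_stalk_of_mem_support F x q hq
    have hsp : (X.fromSpecStalk x) q ⤳ x := by
      have : (X.fromSpecStalk x) q ∈ Set.range (X.fromSpecStalk x) := ⟨q, rfl⟩
      rw [Scheme.range_fromSpecStalk] at this
      exact this
    have heq := h _ hnt hsp
    have hinj : Function.Injective (X.fromSpecStalk x) :=
      (X.fromSpecStalk x).isEmbedding.injective
    exact hinj (heq.trans Scheme.fromSpecStalk_closedPoint.symm)

end Geometry

end Groth.Agent.Helper4.FinLenSupp
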