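import Mathlib

set_option autoImplicit false
universe u

open TensorProduct

namespace Groth.Agent.Helper4.FlatDiag

section Ring

variable (A B M : Type*) [CommRing A] [CommRing B] [Algebra A B] [AddCommGroup M] [Module A M]
  [Module B M] [IsScalarTower A B M]

/-- `p ⊗ q ↦ p ⊗ q • m`. -/
noncomputable def Phi (m : M) : B ⊗[A] B →ₗ[A] B ⊗[A] M :=
  LinearMap.lTensor B ((LinearMap.toSpanSingleton B M m).restrictScalars A)

variable {A B M}

theorem Phi_tmul (m : M) (p q : B) : Phi A B M m (p ⊗ₜ q) = p ⊗ₜ (q • m) := by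
  simp [Phi, LinearMap.toSpanSingleton_apply]

theorem Phi_left (m : M) (b : B) (t : B ⊗[A] B) :
    Phi A B M m ((b ⊗ₜ 1) * t) = b • Phi A B M m t := by
  induction t using TensorProduct.induction_on with
  | zero => simp
  | tmul p q =>
    rw [Algebra.TensorProduct.tmul_mul_tmul, Phi_tmul, Phi_tmul, one_mul, TensorProduct.smul_tmul',
      smul_eq_mul]
  | add t t' h h' => rw [mul_add, map_add, map_add, smul_add, h, h']

theorem Phi_right (m : M) (b : B) (t : B ⊗[A] B) :
    Phi A B M m ((1 ⊗ₜ b) * t) = Phi A B M (b • m) t := by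
  induction t using TensorProduct.induction_on with
  | zero => simp
  | tmul p q =>
    rw [Algebra.TensorProduct.tmul_mul_tmul, Phi_tmul, Phi_tmul, one_mul, mul_comm, mul_smul]
  | add t t' h h' => rw [mul_add, map_add, map_add, h, h']

theorem Phi_add (m m' : M) (t : B ⊗[A] B) :
    Phi A B M (m + m') t = Phi A B M m t + Phi A B M m' t := by
  induction t using TensorProduct.induction_on with
  | zero => simp
  | tmul p q => rw [Phi_tmul, Phi_tmul, Phi_tmul, smul_add, TensorProduct.tmul_add]
  | add t t' h h' => rw [map_add, map_add, map_add, h, h']; abel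

theorem Phi_zero (t : B ⊗[A] B) : Phi A B M (0 : M) t = 0 := by
  induction t using TensorProduct.induction_on with
  | zero => simp
  | tmul p q => rw [Phi_tmul, smul_zero, TensorProduct.tmul_zero]
  | add t t' h h' => rw [map_add, h, h', add_zero]

theorem Phi_sum {ι : Type*} (s : Finset ι) (g : ι → M) (t : B ⊗[A] B) :
    ∑ i ∈ s, Phi A B M (g i) t = Phi A B M (∑ i ∈ s, g i) t := by
  classical
  induction s using Finset.induction_on with
  | empty => simp [Phi_zero]
  | insert a s ha ih => rw [Finset.sum_insert ha, Finset.sum_insert ha, ih, Phi_add]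

variable (A B M) in
/-- `b ⊗ m ↦ b • m`. -/
noncomputable def piMap : B ⊗[A] M →ₗ[A] M :=
  TensorProduct.lift ((Algebra.lsmul A A M : B →ₐ[A] Module.End A M).toLinearMap)

theorem piMap_tmul (b : B) (m : M) : piMap A B M (b ⊗ₜ m) = b • m := by
  simp [piMap]

theorem piMap_smul (b : B) (n : B ⊗[A] M) : piMap A B M (b • n) = b • piMap A B M n := by
  induction n using TensorProduct.induction_on with
  | zero => simp
  | tmul p m => rw [TensorProduct.smul_tmul', piMap_tmul, piMap_tmul, smul_eq_mul, mul_smul]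
  | add n n' h h' => rw [smul_add, map_add, map_add, smul_add, h, h']

theorem piMap_Phi (m : M) (t : B ⊗[A] B) :
    piMap A B M (Phi A B M m t) = Algebra.TensorProduct.lmul' A (S := B) t • m := by
  induction t using TensorProduct.induction_on with
  | zero => simp
  | tmul p q =>
    rw [Phi_tmul, piMap_tmul, Algebra.TensorProduct.lmul'_apply_tmul, mul_smul]
  | add t t' h h' => rw [map_add, map_add, map_add, add_smul, h, h']

theorem exists_idem_one (hfl : (Algebra.TensorProduct.lmul' A (S := B)).toRingHom.Flat)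
    (x : B ⊗[A] B) (hx : Algebra.TensorProduct.lmul' A (S := B) x = 0) :
    ∃ e : B ⊗[A] B, Algebra.TensorProduct.lmul' A (S := B) e = 1 ∧ x * e = 0 := by
  letI := (Algebra.TensorProduct.lmul' A (S := B)).toRingHom.toAlgebra
  haveI : Module.Flat (B ⊗[A] B) B := hfl
  have hsm : ∀ (t : B ⊗[A] B) (b : B), t • b = Algebra.TensorProduct.lmul' A (S := B) t * b :=
    fun t b => by rw [Algebra.smul_def]; rfl
  obtain ⟨k, a, y, h1, h2⟩ := Module.Flat.isTrivialRelation_of_sum_smul_eq_zero
    (R := B ⊗[A] B) (M := B) (f := fun _ : Fin 1 => x) (x := fun _ => (1 : B)) (by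
      rw [Fin.sum_univ_one]
      show x • (1 : B) = 0
      rw [hsm, hx, zero_mul])
  refine ⟨∑ j, a 0 j * (y j ⊗ₜ 1), ?_, ?_⟩
  · have h10 : (1 : B) = ∑ j, a 0 j • y j := h1 0
    rw [map_sum]
    refine Eq.trans ?_ h10.symm
    refine Finset.sum_congr rfl (fun j _ => ?_)
    rw [map_mul, Algebra.TensorProduct.lmul'_apply_tmul, mul_one]
    exact (hsm _ _).symm
  · rw [Finset.mul_sum]
    refine Finset.sum_eq_zero (fun j _ => ?_)
    have := h2 j
    simp only [Fin.sum_univ_one] at this
    rw [← mul_assoc, this, zero_mul]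

theorem exists_idem (hfl : (Algebra.TensorProduct.lmul' A (S := B)).toRingHom.Flat)
    (l : ℕ) (x : Fin l → B ⊗[A] B) (hx : ∀ i, Algebra.TensorProduct.lmul' A (S := B) (x i) = 0) :
    ∃ e : B ⊗[A] B, Algebra.TensorProduct.lmul' A (S := B) e = 1 ∧ ∀ i, x i * e = 0 := by
  choose ei h1 h2 using fun i => exists_idem_one hfl (x i) (hx i)
  refine ⟨∏ i, ei i, ?_, fun i => ?_⟩
  · rw [map_prod]
    simp [h1]
  · rw [← Finset.mul_prod_erase Finset.univ ei (Finset.mem_univ i), ← mul_assoc, h2 i, zero_mul]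

/-- Stacks 092C. -/
theorem flat_of_flat_lmul' (hfl : (Algebra.TensorProduct.lmul' A (S := B)).toRingHom.Flat)
    [Module.Flat A M] : Module.Flat B M := by
  apply Module.Flat.of_forall_isTrivialRelation
  intro l b m hbm
  obtain ⟨e, he1, he2⟩ := exists_idem hfl l (fun i => b i ⊗ₜ[A] (1 : B) - (1 : B) ⊗ₜ[A] b i)
    (by intro i; simp)
  have hrel : ∑ i, b i • Phi A B M (m i) e = 0 := by
    have h1 : ∀ i, b i • Phi A B M (m i) e = Phi A B M (b i • m i) e := by
      intro i
      rw [← Phi_left, ← Phi_right]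
      have := he2 i
      rw [sub_mul, sub_eq_zero] at this
      rw [this]
    rw [Finset.sum_congr rfl (fun i _ => h1 i), Phi_sum, hbm, Phi_zero]
  obtain ⟨k, c, n', hn1, hn2⟩ := Module.Flat.isTrivialRelation_of_sum_smul_eq_zero hrel
  refine ⟨k, c, fun j => piMap A B M (n' j), fun i => ?_, hn2⟩
  have h3 : piMap A B M (Phi A B M (m i) e) = m i := by rw [piMap_Phi, he1, one_smul]
  have hn1' : Phi A B M (m i) e = ∑ j, c i j • n' j := hn1 i
  show m i = ∑ j, c i j • piMap A B M (n' j)
  rw [← h3, hn1', map_sum]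
  exact Finset.sum_congr rfl (fun j _ => piMap_smul _ _)

end Ring

end Groth.Agent.Helper4.FlatDiag
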