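import Mathlib
import Groth.Prelude.Def_FlatMod2
import Groth.Agent.S1412
import Groth.Agent.Lib.Helper4.FlatDiag

set_option autoImplicit false
universe u

open CategoryTheory CategoryTheory.Limits AlgebraicGeometry TensorProduct

namespace Groth.Agent.Helper4.FlatDiag

theorem flat_diag_specMap_iff (A B : Type u) [CommRing A] [CommRing B] [Algebra A B] :
    Flat (pullback.diagonal (Spec.map (CommRingCat.ofHom (algebraMap A B)))) ↔
      (Algebra.TensorProduct.lmul' A (S := B)).toRingHom.Flat := by
  rw [Groth.Agent.S1412.diag_specMap1412,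
    MorphismProperty.cancel_right_of_respectsIso (P := @Flat), Flat.SpecMap_iff]
  exact Iff.rfl

theorem flat_diag_of_comp_mono {W Z V : Scheme.{u}} (g : W ⟶ Z) (k : Z ⟶ V) [Mono k]
    (h : Flat (pullback.diagonal (g ≫ k))) : Flat (pullback.diagonal g) := by
  rw [pullback.diagonal_comp] at h
  exact (MorphismProperty.cancel_right_of_respectsIso (P := @Flat) _ _).mp h

theorem flat_diag_comp {W Z V : Scheme.{u}} (g : W ⟶ Z) (k : Z ⟶ V)
    (hg : Flat (pullback.diagonal g)) (hk : Flat (pullback.diagonal k)) :
    Flat (pullback.diagonal (g ≫ k)) := by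
  have : (MorphismProperty.diagonal @Flat) (g ≫ k) :=
    MorphismProperty.comp_mem _ g k hg hk
  exact this

set_option backward.isDefEq.respectTransparency false in
theorem lmul_flat_of_flat_diagonal {X Y : Scheme.{u}} (f : X ⟶ Y)
    [hf : Flat (pullback.diagonal f)] (x : X) :
    letI := (f.stalkMap x).hom.toAlgebra
    (Algebra.TensorProduct.lmul' (S := ↑(X.presheaf.stalk x))
      (↑(Y.presheaf.stalk (f x)))).toRingHom.Flat := by
  have h1 : Flat (pullback.diagonal (X.fromSpecStalk x)) := inferInstance
  have h2 : Flat (pullback.diagonal (X.fromSpecStalk x ≫ f)) :=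
    flat_diag_comp _ _ h1 hf
  rw [← Scheme.SpecMap_stalkMap_fromSpecStalk] at h2
  have h3 : Flat (pullback.diagonal (Spec.map (f.stalkMap x))) :=
    flat_diag_of_comp_mono _ (Y.fromSpecStalk (f x)) h2
  letI := (f.stalkMap x).hom.toAlgebra
  exact (flat_diag_specMap_iff (Y.presheaf.stalk (f x)) (X.presheaf.stalk x)).mp h3

set_option backward.isDefEq.respectTransparency false in
theorem main {X Y : Scheme.{u}} (f : X ⟶ Y) [Flat (pullback.diagonal f)] (F : X.Modules)
    (hF : FlatMod.IsFlatOver f F) : FlatMod.IsFlat F := by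
  intro x
  have h1 := lmul_flat_of_flat_diagonal f x
  have h2 := hF x
  letI := (f.stalkMap x).hom.toAlgebra
  letI := FlatMod.moduleStalkOver f F x
  haveI : IsScalarTower (Y.presheaf.stalk (f x)) (X.presheaf.stalk x) (F.presheaf.stalk x) :=
    IsScalarTower.of_algebraMap_smul (fun r m => rfl)
  haveI : Module.Flat (Y.presheaf.stalk (f x)) (F.presheaf.stalk x) := h2
  exact flat_of_flat_lmul' h1

end Groth.Agent.Helper4.FlatDiag
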