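import Mathlib
import Groth.Agent.Lib.Helper4.FlatNilp

/-!
Flatness modulo an intersection of two ideals (Stacks 0912-style).
-/

set_option autoImplicit false

namespace Groth.Agent.Helper4

open scoped TensorProduct
open Function TensorProduct

theorem rTensor_injective_of_two_quotients {R : Type*} [CommRing R] (I₁ I₂ : Ideal R)
    {M : Type*} [AddCommGroup M] [Module R M]
    [Module.Flat (R ⧸ I₁) ((R ⧸ I₁) ⊗[R] M)] [Module.Flat (R ⧸ I₂) ((R ⧸ I₂) ⊗[R] M)]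
    {𝔞 X Y₁ Y₂ : Type*} [AddCommGroup 𝔞] [Module R 𝔞] [AddCommGroup X] [Module R X]
    [AddCommGroup Y₁] [Module R Y₁] [AddCommGroup Y₂] [Module R Y₂]
    (j : 𝔞 →ₗ[R] X) (q₁ : X →ₗ[R] Y₁) (q₂ : X →ₗ[R] Y₂)
    (hY₁ : ∀ a ∈ I₁, ∀ y : Y₁, a • y = 0) (hY₂ : ∀ a ∈ I₂, ∀ y : Y₂, a • y = 0)
    (hker : ∀ x : 𝔞, q₁ (j x) = 0 → q₂ (j x) = 0 → x = 0)
    (hk2 : ∀ a ∈ I₂, ∀ x : 𝔞, q₁ (j x) = 0 → a • x = 0) :
    Injective (j.rTensor M) := by
  set f : 𝔞 →ₗ[R] Y₁ := q₁ ∘ₗ j with hf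
  have hinj1 : Injective ((LinearMap.range f).subtype.rTensor M) :=
    rTensor_injective_of_torsion_of_flat_quotient I₁
      (fun a ha y => Subtype.ext (hY₁ a ha y.1)) hY₁ _ (Submodule.injective_subtype _)
  let κ : LinearMap.ker f →ₗ[R] 𝔞 := (LinearMap.ker f).subtype
  let g : LinearMap.ker f →ₗ[R] Y₂ := q₂ ∘ₗ (j ∘ₗ κ)
  have hg : Injective g := by
    rw [injective_iff_map_eq_zero]
    intro x hx
    apply Subtype.ext
    exact hker x.1 (LinearMap.mem_ker.mp x.2) hx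
  have hinj3 : Injective (g.rTensor M) :=
    rTensor_injective_of_torsion_of_flat_quotient I₂
      (fun a ha x => Subtype.ext (hk2 a ha x.1 (LinearMap.mem_ker.mp x.2))) hY₂ g hg
  have hex : Exact κ f.rangeRestrict := by
    intro x
    constructor
    · intro hx
      have : x ∈ LinearMap.ker f := by
        rw [← LinearMap.ker_rangeRestrict]; exact hx
      exact ⟨⟨x, this⟩, rfl⟩
    · rintro ⟨y, rfl⟩
      have h0 : (κ y) ∈ LinearMap.ker f.rangeRestrict := by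
        rw [LinearMap.ker_rangeRestrict]; exact y.2
      exact h0
  have hex' := rTensor_exact M hex f.surjective_rangeRestrict
  rw [injective_iff_map_eq_zero]
  intro z hz
  have h1 : (f.rangeRestrict.rTensor M) z = 0 := by
    apply hinj1
    rw [map_zero, ← LinearMap.comp_apply, ← LinearMap.rTensor_comp]
    have : (LinearMap.range f).subtype ∘ₗ f.rangeRestrict = q₁ ∘ₗ j := LinearMap.ext fun x => rfl
    rw [this, LinearMap.rTensor_comp, LinearMap.comp_apply, hz, map_zero]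
  obtain ⟨z', rfl⟩ := (hex' z).mp h1
  have h2 : (g.rTensor M) z' = 0 := by
    show ((q₂ ∘ₗ (j ∘ₗ κ)).rTensor M) z' = 0
    rw [LinearMap.rTensor_comp, LinearMap.rTensor_comp, LinearMap.comp_apply,
      LinearMap.comp_apply, hz, map_zero]
  rw [hinj3 (h2.trans (map_zero _).symm), map_zero]

universe u

/-- If `M/I₁M` is flat over `R/I₁` and `M/I₂M` is flat over `R/I₂` then `M/(I₁ ∩ I₂)M` is flat
over `R/(I₁ ∩ I₂)`. -/
theorem flat_quotient_inf {R : Type u} [CommRing R] (M : Type u) [AddCommGroup M] [Module R M]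
    (I₁ I₂ : Ideal R) [Module.Flat (R ⧸ I₁) ((R ⧸ I₁) ⊗[R] M)]
    [Module.Flat (R ⧸ I₂) ((R ⧸ I₂) ⊗[R] M)] :
    Module.Flat (R ⧸ (I₁ ⊓ I₂)) ((R ⧸ (I₁ ⊓ I₂)) ⊗[R] M) := by
  rw [Module.Flat.iff_rTensor_injective']
  intro 𝔞
  apply rTensor_baseChange_injective_of_restrictScalars
  let q₁ : (R ⧸ (I₁ ⊓ I₂)) →ₗ[R] (R ⧸ I₁) :=
    (Ideal.Quotient.factorₐ R (inf_le_left : I₁ ⊓ I₂ ≤ I₁)).toLinearMap
  let q₂ : (R ⧸ (I₁ ⊓ I₂)) →ₗ[R] (R ⧸ I₂) :=
    (Ideal.Quotient.factorₐ R (inf_le_right : I₁ ⊓ I₂ ≤ I₂)).toLinearMap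
  have hq₁ : ∀ r : R, q₁ (Ideal.Quotient.mk _ r) = Ideal.Quotient.mk _ r := fun r => rfl
  have hq₂ : ∀ r : R, q₂ (Ideal.Quotient.mk _ r) = Ideal.Quotient.mk _ r := fun r => rfl
  refine rTensor_injective_of_two_quotients I₁ I₂ (𝔞.subtype.restrictScalars R) q₁ q₂ ?_ ?_ ?_ ?_
  · intro a ha y
    obtain ⟨r, rfl⟩ := Ideal.Quotient.mk_surjective y
    rw [Algebra.smul_def, Ideal.Quotient.algebraMap_eq, ← map_mul,
      Ideal.Quotient.eq_zero_iff_mem]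
    exact Ideal.mul_mem_right _ _ ha
  · intro a ha y
    obtain ⟨r, rfl⟩ := Ideal.Quotient.mk_surjective y
    rw [Algebra.smul_def, Ideal.Quotient.algebraMap_eq, ← map_mul,
      Ideal.Quotient.eq_zero_iff_mem]
    exact Ideal.mul_mem_right _ _ ha
  · intro x h1 h2
    apply Subtype.ext
    obtain ⟨r, hr⟩ := Ideal.Quotient.mk_surjective x.1
    have h1' : q₁ x.1 = 0 := h1
    have h2' : q₂ x.1 = 0 := h2
    rw [← hr, hq₁, Ideal.Quotient.eq_zero_iff_mem] at h1'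
    rw [← hr, hq₂, Ideal.Quotient.eq_zero_iff_mem] at h2'
    show x.1 = 0
    rw [← hr, Ideal.Quotient.eq_zero_iff_mem]
    exact ⟨h1', h2'⟩
  · intro a ha x h1
    apply Subtype.ext
    obtain ⟨r, hr⟩ := Ideal.Quotient.mk_surjective x.1
    have h1' : q₁ x.1 = 0 := h1
    rw [← hr, hq₁, Ideal.Quotient.eq_zero_iff_mem] at h1'
    show a • x.1 = 0
    rw [← hr, Algebra.smul_def, Ideal.Quotient.algebraMap_eq, ← map_mul,
      Ideal.Quotient.eq_zero_iff_mem]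
    exact ⟨Ideal.mul_mem_left _ _ h1', Ideal.mul_mem_right _ _ ha⟩

end Groth.Agent.Helper4
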