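import Mathlib

/-!
# Descent of flatness along a faithfully flat tower `A → B → C`
-/

set_option autoImplicit false
universe u

namespace Groth.Agent.Helper4

open TensorProduct

/-- If `C` is faithfully flat over `B` and flat over `A` (for a tower `A → B → C`),
then `B` is flat over `A`. -/
theorem flat_of_faithfullyFlat_tower (A B C : Type u) [CommRing A] [CommRing B] [CommRing C]
    [Algebra A B] [Algebra B C] [Algebra A C] [IsScalarTower A B C]
    [Module.FaithfullyFlat B C] [Module.Flat A C] : Module.Flat A B := by
  rw [Module.Flat.iff_lTensor_preserves_injective_linearMap]
  intro N N' _ _ _ _ f hf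
  have h1 : Function.Injective (f.baseChange B) := by
    rw [← Module.FaithfullyFlat.lTensor_injective_iff_injective B C]
    have key : ∀ x : C ⊗[B] (B ⊗[A] N),
        AlgebraTensorModule.cancelBaseChange A B C C N' ((f.baseChange B).lTensor C x) =
        f.lTensor C (AlgebraTensorModule.cancelBaseChange A B C C N x) := by
      intro x
      induction x using TensorProduct.induction_on with
      | zero => simp
      | tmul c t =>
        induction t using TensorProduct.induction_on with
        | zero => simp
        | tmul b n =>
          rw [LinearMap.lTensor_tmul, LinearMap.baseChange_tmul,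
            AlgebraTensorModule.cancelBaseChange_tmul, AlgebraTensorModule.cancelBaseChange_tmul,
            LinearMap.lTensor_tmul]
        | add t₁ t₂ h₁ h₂ =>
          rw [TensorProduct.tmul_add, map_add, map_add, h₁, h₂, map_add, map_add]
      | add x y hx hy =>
        rw [map_add, map_add, hx, hy, map_add, map_add]
    intro x y hxy
    have h2 := congrArg (AlgebraTensorModule.cancelBaseChange A B C C N') hxy
    rw [key, key] at h2
    have h3 := Module.Flat.lTensor_preserves_injective_linearMap (M := C) f hf h2
    exact (AlgebraTensorModule.cancelBaseChange A B C C N).injective h3
  intro x y hxy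
  apply h1
  have h4 : ∀ z, f.baseChange B z = f.lTensor B z := fun z => rfl
  rw [h4, h4]
  exact hxy

end Groth.Agent.Helper4
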