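import Mathlib
import Groth.Prelude.Def_CohB1
import Groth.Prelude.Def_Pic
import Groth.Agent.Lead.QCoh
import Groth.Agent.Lead.QCoh2
import Groth.Agent.Lead.QCoh4
import Groth.Agent.Lead.FinType
import Groth.Agent.Lead.FinType3
import Groth.Agent.Lead.EpiStalk
import Groth.Agent.Lib.Helper4.WeakAss

/-!
# The locus where a section generates an invertible module; its inclusion is affine
-/

set_option autoImplicit false
set_option linter.style.haveILetI false

universe u

open CategoryTheory CategoryTheory.Limits AlgebraicGeometry Opposite TopologicalSpace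
open Groth.Agent.Lead.QCoh Groth.Agent.Lead.FinType Groth.Agent.Lead.EpiStalk

namespace Groth.Agent.Helper4.GenLocus

variable {X : Scheme.{u}}

section Stalks

theorem isIso_of_stalkMap_bijective {F G : X.Modules} (φ : F ⟶ G)
    (h : ∀ x, Function.Bijective (stalkMap φ x)) : IsIso φ := by
  haveI : Mono φ := mono_of_stalk_injective φ (fun x s t hst => (h x).1 hst)
  haveI : Epi φ := epi_of_stalkMap_surjective φ (fun x => (h x).2)
  exact isIso_of_mono_of_epi φ

theorem stalkMap_bijective_of_isIso {F G : X.Modules} (φ : F ⟶ G) [IsIso φ] (x : X) :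
    Function.Bijective (stalkMap φ x) := by
  haveI h1 : IsIso (Scheme.Modules.Hom.mapPresheaf φ) := by
    change IsIso ((Scheme.Modules.toPresheaf X).map φ)
    infer_instance
  haveI h2 : IsIso ((TopCat.Presheaf.stalkFunctor AddCommGrpCat.{u} x).map
      (Scheme.Modules.Hom.mapPresheaf φ)) := inferInstance
  exact ConcreteCategory.bijective_of_isIso
    ((TopCat.Presheaf.stalkFunctor AddCommGrpCat.{u} x).map (Scheme.Modules.Hom.mapPresheaf φ))

theorem stalkMap_restrict_bijective_iff {F G : X.Modules} (φ : F ⟶ G) (U : X.Opens)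
    (y : (U : Scheme.{u})) :
    Function.Bijective (stalkMap ((Scheme.Modules.restrictFunctor U.ι).map φ) y) ↔
      Function.Bijective (stalkMap φ (U.ι y)) := by
  have hnat := (Scheme.Modules.restrictStalkNatIso U.ι y).hom.naturality φ
  have e1 : Function.Bijective ((Scheme.Modules.restrictStalkNatIso U.ι y).hom.app F) :=
    ConcreteCategory.bijective_of_isIso _
  have e2 : Function.Bijective ((Scheme.Modules.restrictStalkNatIso U.ι y).hom.app G) :=
    ConcreteCategory.bijective_of_isIso _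
  have hcomp : ⇑((Scheme.Modules.restrictStalkNatIso U.ι y).hom.app G) ∘
      ⇑(stalkMap ((Scheme.Modules.restrictFunctor U.ι).map φ) y) =
      ⇑(stalkMap φ (U.ι y)) ∘ ⇑((Scheme.Modules.restrictStalkNatIso U.ι y).hom.app F) := by
    funext z
    exact ConcreteCategory.congr_hom hnat z
  have h1 := Function.Bijective.of_comp_iff' e2
    (⇑(stalkMap ((Scheme.Modules.restrictFunctor U.ι).map φ) y))
  have h2 := Function.Bijective.of_comp_iff (⇑(stalkMap φ (U.ι y))) e1
  refine h1.symm.trans (Iff.trans ?_ h2)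
  rw [hcomp]
  exact Iff.rfl

end Stalks

section Local

variable (L : X.Modules) (U : X.Opens) (e : L.restrict U.ι ≅ unitM (U : Scheme.{u}))

/-- The local generator of `L` on `U` given by the trivialisation. -/
noncomputable def gen : Γ(L, U.ι ''ᵁ ⊤) :=
  secVal (L.restrict U.ι) ((L.restrict U.ι).unitHomEquiv e.inv) ⊤

/-- The restriction of the generator. -/
noncomputable def genOn (W' : (U : Scheme.{u}).Opens) : Γ(L, U.ι ''ᵁ W') :=
  L.presheaf.map (homOfLE (U.ι.image_mono (le_top : W' ≤ ⊤))).op (gen L U e)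

theorem genOn_eq (W' : (U : Scheme.{u}).Opens) :
    (show Γ(L.restrict U.ι, W') from genOn L U e W') =
      secVal (L.restrict U.ι) ((L.restrict U.ι).unitHomEquiv e.inv) W' :=
  secVal_map (L.restrict U.ι) _ (homOfLE (le_top : W' ≤ ⊤))

theorem inv_app_toUnit (W' : (U : Scheme.{u}).Opens) (a' : Γ((U : Scheme.{u}), W')) :
    e.inv.app W' (toUnit W' a') =
      (show Γ(L.restrict U.ι, W') from ((U.ι.appIso W').inv a') • genOn L U e W') := by
  rw [unit_app (L.restrict U.ι) e.inv W' a', ← genOn_eq]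
  have h := restrict_smul L U W' ((U.ι.appIso W').inv a') (genOn L U e W') (genOn L U e W') rfl
  rw [Iso.inv_hom_id_apply] at h
  exact h

theorem section_eq (W' : (U : Scheme.{u}).Opens) (n : Γ(L, U.ι ''ᵁ W')) :
    n = ((U.ι.appIso W').inv (ofUnit W' (e.hom.app W' n))) • genOn L U e W' := by
  have h1 : e.inv.app W' (e.hom.app W' n) = n :=
    congrArg (fun φ => Scheme.Modules.Hom.app φ W' n) e.hom_inv_id
  have h2 := inv_app_toUnit L U e W' (ofUnit W' (e.hom.app W' n))
  exact h1.symm.trans h2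

theorem hom_app_smul_gen (W' : (U : Scheme.{u}).Opens) (b : Γ(X, U.ι ''ᵁ W')) :
    e.hom.app W' (show Γ(L.restrict U.ι, W') from b • genOn L U e W') =
      toUnit W' ((U.ι.appIso W').hom b) := by
  have h := inv_app_toUnit L U e W' ((U.ι.appIso W').hom b)
  rw [Iso.hom_inv_id_apply] at h
  rw [← h]
  exact congrArg (fun φ => Scheme.Modules.Hom.app φ W' (toUnit W' ((U.ι.appIso W').hom b)))
    e.inv_hom_id

theorem mem_T {y : X} (hy : y ∈ U) : y ∈ U.ι ''ᵁ (⊤ : (U : Scheme.{u}).Opens) :=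
  ⟨⟨y, hy⟩, trivial, rfl⟩

theorem germ_gen_surjective (y : X) (hy : y ∈ U) (m : L.presheaf.stalk y) :
    ∃ c : X.presheaf.stalk y,
      c • L.presheaf.germ (U.ι ''ᵁ ⊤) y (mem_T U hy) (gen L U e) = m := by
  obtain ⟨V, hyV, n, rfl⟩ := TopCat.Presheaf.exists_germ_eq L.presheaf m
  let W' : (U : Scheme.{u}).Opens := U.ι ⁻¹ᵁ V
  have hV' : U.ι ''ᵁ W' ≤ V := by
    rintro _ ⟨z, hz, rfl⟩
    exact hz
  have hyV' : y ∈ U.ι ''ᵁ W' := ⟨⟨y, hy⟩, hyV, rfl⟩
  have h1 := section_eq L U e W' (L.presheaf.map (homOfLE hV').op n)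
  refine ⟨X.presheaf.germ (U.ι ''ᵁ W') y hyV' ((U.ι.appIso W').inv
    (ofUnit W' (e.hom.app W' (L.presheaf.map (homOfLE hV').op n)))), ?_⟩
  have h2 := congrArg (L.presheaf.germ (U.ι ''ᵁ W') y hyV') h1
  rw [germ_smul, TopCat.Presheaf.germ_res_apply] at h2
  rw [h2]
  congr 1
  exact (TopCat.Presheaf.germ_res_apply L.presheaf
    (homOfLE (U.ι.image_mono (le_top : W' ≤ ⊤))) y hyV' (gen L U e)).symm

theorem germ_gen_injective (y : X) (hy : y ∈ U) (c : X.presheaf.stalk y)
    (hc : c • L.presheaf.germ (U.ι ''ᵁ ⊤) y (mem_T U hy) (gen L U e) = 0) : c = 0 := by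
  obtain ⟨V, hyV, a, rfl⟩ := X.presheaf.exists_germ_eq c
  have hyT : y ∈ U.ι ''ᵁ (⊤ : (U : Scheme.{u}).Opens) := mem_T U hy
  let V₁ : X.Opens := V ⊓ U.ι ''ᵁ ⊤
  have hyV₁ : y ∈ V₁ := ⟨hyV, hyT⟩
  have h1V : V₁ ≤ V := inf_le_left
  have h1T : V₁ ≤ U.ι ''ᵁ ⊤ := inf_le_right
  obtain ⟨d, hd⟩ : ∃ d : Γ(L, V₁), d = X.presheaf.map (homOfLE h1V).op a •
      L.presheaf.map (homOfLE h1T).op (gen L U e) := ⟨_, rfl⟩
  have hd0 : L.presheaf.germ V₁ y hyV₁ d = L.presheaf.germ V₁ y hyV₁ 0 := by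
    rw [map_zero, hd, germ_smul, TopCat.Presheaf.germ_res_apply,
      TopCat.Presheaf.germ_res_apply]
    exact hc
  obtain ⟨O', hyO', i₁, i₂, hO'⟩ := TopCat.Presheaf.germ_eq L.presheaf y hyV₁ hyV₁ d 0 hd0
  let W' : (U : Scheme.{u}).Opens := U.ι ⁻¹ᵁ O'
  have hV'O : U.ι ''ᵁ W' ≤ O' := by
    rintro _ ⟨z, hz, rfl⟩
    exact hz
  have hyV' : y ∈ U.ι ''ᵁ W' := ⟨⟨y, hy⟩, hyO', rfl⟩
  have hV'1 : U.ι ''ᵁ W' ≤ V₁ := hV'O.trans i₁.le
  obtain ⟨b, hb⟩ : ∃ b : Γ(X, U.ι ''ᵁ W'), b = X.presheaf.map (homOfLE (hV'1.trans h1V)).op a :=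
    ⟨_, rfl⟩
  have hbg : b • genOn L U e W' = 0 := by
    have h2 : L.presheaf.map (homOfLE hV'1).op d = 0 := by
      have h3 := congrArg (L.presheaf.map (homOfLE hV'O).op) hO'
      rw [map_zero, map_zero, map_map_apply L (homOfLE hV'O) i₁ (homOfLE hV'1)] at h3
      exact h3
    rw [hd, Scheme.Modules.map_smul,
      map_map_apply' (homOfLE hV'1) (homOfLE h1V) (homOfLE (hV'1.trans h1V)),
      map_map_apply L (homOfLE hV'1) (homOfLE h1T)
        (homOfLE (U.ι.image_mono (le_top : W' ≤ ⊤)))] at h2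
    rw [hb]
    exact h2
  have h4 := hom_app_smul_gen L U e W' b
  have h5 : toUnit W' ((U.ι.appIso W').hom b) = 0 := by
    rw [← h4]
    have : (show Γ(L.restrict U.ι, W') from b • genOn L U e W') = 0 := hbg
    rw [this, map_zero]
  have h6 : (U.ι.appIso W').hom b = 0 := h5
  have h7 : b = 0 := by
    have := congrArg (U.ι.appIso W').inv h6
    rw [Iso.hom_inv_id_apply, map_zero] at this
    exact this
  rw [← TopCat.Presheaf.germ_res_apply X.presheaf (homOfLE (hV'1.trans h1V)) y hyV' a, ← hb, h7,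
    map_zero]

end Local

section Section

variable (L : X.Modules) (s : unitM X ⟶ L)

/-- The global section of `L` defined by `s`. -/
noncomputable def tsec : Γ(L, ⊤) := secVal L (L.unitHomEquiv s) ⊤

theorem stalkMap_germ_unit (y : X) (V : X.Opens) (hyV : y ∈ V) (z' : Γ(unitM X, V)) :
    stalkMap s y ((unitM X).presheaf.germ V y hyV z') =
      X.presheaf.germ V y hyV (ofUnit V z') • L.presheaf.germ ⊤ y trivial (tsec L s) := by
  rw [stalkMap_germ]
  have h1 : s.app V z' = ofUnit V z' • secVal L (L.unitHomEquiv s) V :=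
    unit_app L s V (ofUnit V z')
  rw [h1, germ_smul]
  congr 1
  rw [← secVal_map L (L.unitHomEquiv s) (homOfLE (le_top : V ≤ ⊤))]
  exact TopCat.Presheaf.germ_res_apply L.presheaf (homOfLE (le_top : V ≤ ⊤)) y hyV (tsec L s)

variable (U : X.Opens) (e : L.restrict U.ι ≅ unitM (U : Scheme.{u}))

/-- The function on `U` describing `s` in the trivialisation. -/
noncomputable def fsec : Γ(X, U.ι ''ᵁ (⊤ : (U : Scheme.{u}).Opens)) :=
  (U.ι.appIso ⊤).inv (ofUnit ⊤ (e.hom.app ⊤
    (L.presheaf.map (homOfLE (le_top : U.ι ''ᵁ (⊤ : (U : Scheme.{u}).Opens) ≤ ⊤)).op (tsec L s))))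

theorem germ_tsec (y : X) (hy : y ∈ U) :
    L.presheaf.germ ⊤ y trivial (tsec L s) =
      X.presheaf.germ (U.ι ''ᵁ ⊤) y (mem_T U hy) (fsec L s U e) •
        L.presheaf.germ (U.ι ''ᵁ ⊤) y (mem_T U hy) (gen L U e) := by
  have h1 := section_eq L U e ⊤
    (L.presheaf.map (homOfLE (le_top : U.ι ''ᵁ (⊤ : (U : Scheme.{u}).Opens) ≤ ⊤)).op (tsec L s))
  have h2 := congrArg (L.presheaf.germ (U.ι ''ᵁ ⊤) y (mem_T U hy)) h1
  rw [germ_smul, TopCat.Presheaf.germ_res_apply] at h2
  rw [h2]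
  congr 1
  exact TopCat.Presheaf.germ_res_apply L.presheaf
    (homOfLE (U.ι.image_mono (le_top : (⊤ : (U : Scheme.{u}).Opens) ≤ ⊤))) y (mem_T U hy)
    (gen L U e)

theorem bijective_iff_isUnit (y : X) (hy : y ∈ U) :
    Function.Bijective (stalkMap s y) ↔
      IsUnit (X.presheaf.germ (U.ι ''ᵁ ⊤) y (mem_T U hy) (fsec L s U e)) := by
  have hτ := germ_tsec L s U e y hy
  constructor
  · intro hbij
    obtain ⟨z, hz⟩ := hbij.2 (L.presheaf.germ (U.ι ''ᵁ ⊤) y (mem_T U hy) (gen L U e))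
    obtain ⟨V, hyV, z', rfl⟩ := TopCat.Presheaf.exists_germ_eq (unitM X).presheaf z
    rw [stalkMap_germ_unit, hτ, ← mul_smul] at hz
    have h1 : (X.presheaf.germ V y hyV (ofUnit V z') *
        X.presheaf.germ (U.ι ''ᵁ ⊤) y (mem_T U hy) (fsec L s U e) - 1) •
        L.presheaf.germ (U.ι ''ᵁ ⊤) y (mem_T U hy) (gen L U e) = 0 := by
      rw [sub_smul, one_smul, hz, sub_self]
    have h2 := germ_gen_injective L U e y hy _ h1
    rw [sub_eq_zero] at h2
    exact IsUnit.of_mul_eq_one _ ((mul_comm _ _).trans h2)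
  · intro hu
    constructor
    · rw [injective_iff_map_eq_zero]
      intro z hz
      obtain ⟨V, hyV, z', rfl⟩ := TopCat.Presheaf.exists_germ_eq (unitM X).presheaf z
      rw [stalkMap_germ_unit, hτ, ← mul_smul] at hz
      have h2 := germ_gen_injective L U e y hy _ hz
      have h3 : X.presheaf.germ V y hyV (ofUnit V z') = 0 := (hu.mul_left_eq_zero).mp h2
      exact (WeakAss.germ_structureModule_eq_zero_iff y hyV (ofUnit V z')).mpr h3
    · intro m
      obtain ⟨c, rfl⟩ := germ_gen_surjective L U e y hy m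
      obtain ⟨w, hw⟩ := hu
      obtain ⟨V, hyV, a, ha⟩ := X.presheaf.exists_germ_eq (c * (↑w⁻¹ : X.presheaf.stalk y))
      refine ⟨(unitM X).presheaf.germ V y hyV (toUnit V a), ?_⟩
      rw [stalkMap_germ_unit, hτ, ← mul_smul]
      congr 1
      have h4 : X.presheaf.germ V y hyV (ofUnit V (toUnit V a)) = c * ↑w⁻¹ := ha
      rw [h4, ← hw, mul_assoc, Units.inv_mul, mul_one]

end Section

section Locus

variable (L : X.Modules) (s : Coh.structureModule X ⟶ L)

theorem bijective_of_mem_genLocus (x : X) (hx : x ∈ CohB1.genLocus L s) :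
    Function.Bijective (stalkMap s x) := by
  have hx' : x ∈ sSup {V : X.Opens | IsIso ((Scheme.Modules.restrictFunctor V.ι).map s)} := hx
  obtain ⟨V, hV, hxV⟩ : ∃ V : X.Opens,
      IsIso ((Scheme.Modules.restrictFunctor V.ι).map s) ∧ x ∈ V := by
    obtain ⟨V, hV, hxV⟩ := Opens.mem_sSup.mp hx'
    exact ⟨V, hV, hxV⟩
  haveI : IsIso ((Scheme.Modules.restrictFunctor V.ι).map s) := hV
  obtain ⟨y, hy⟩ : ∃ y : (V : Scheme.{u}), V.ι y = x := by
    have h0 : x ∈ Set.range V.ι := by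
      rw [Scheme.Opens.range_ι]; exact hxV
    exact h0
  have h1 := stalkMap_bijective_of_isIso ((Scheme.Modules.restrictFunctor V.ι).map s) y
  have h2 := (stalkMap_restrict_bijective_iff s V y).mp h1
  rw [hy] at h2
  exact h2

theorem le_genLocus (V : X.Opens) (h : ∀ y ∈ V, Function.Bijective (stalkMap s y)) :
    V ≤ CohB1.genLocus L s := by
  have hV : V ∈ {V : X.Opens | IsIso ((Scheme.Modules.restrictFunctor V.ι).map s)} := by
    show IsIso ((Scheme.Modules.restrictFunctor V.ι).map s)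
    apply isIso_of_stalkMap_bijective
    intro y
    have hy : V.ι y ∈ V := by
      have h0 : V.ι y ∈ Set.range V.ι := ⟨y, rfl⟩
      rw [Scheme.Opens.range_ι] at h0
      exact h0
    exact (stalkMap_restrict_bijective_iff s V y).mpr (h (V.ι y) hy)
  exact le_sSup hV

theorem main (X : Scheme.{u}) (L : X.Modules) (hL : PicF.IsInvertible L)
    (s : Coh.structureModule X ⟶ L) : IsAffineHom (CohB1.genLocus L s).ι := by
  apply isAffineHom_of_forall_exists_isAffineOpen
  intro x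
  obtain ⟨U, hxU, ⟨e⟩⟩ := hL x
  obtain ⟨_, ⟨W, hW, rfl⟩, hxW, hWU⟩ :=
    X.isBasis_affineOpens.exists_subset_of_mem_open hxU U.isOpen
  have hW' : IsAffineOpen W := hW
  have hWU' : W ≤ U := hWU
  have hUT : U ≤ U.ι ''ᵁ (⊤ : (U : Scheme.{u}).Opens) := U.ι_image_top.ge
  refine ⟨W, hxW, hW', ?_⟩
  obtain ⟨fW, hfW⟩ : ∃ fW : Γ(X, W), fW =
      X.presheaf.map (homOfLE (hWU'.trans hUT)).op (fsec L s U e) := ⟨_, rfl⟩
  have hgerm : ∀ (y : X) (hyW : y ∈ W), X.presheaf.germ W y hyW fW =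
      X.presheaf.germ (U.ι ''ᵁ ⊤) y (mem_T U (hWU' hyW)) (fsec L s U e) := by
    intro y hyW
    rw [hfW]
    exact TopCat.Presheaf.germ_res_apply X.presheaf _ y hyW _
  have key : CohB1.genLocus L s ⊓ W = X.basicOpen fW := by
    apply le_antisymm
    · intro y hy
      have hP := bijective_of_mem_genLocus L s y hy.1
      have hu := (bijective_iff_isUnit L s U e y (hWU' hy.2)).mp hP
      rw [X.mem_basicOpen fW y hy.2, hgerm y hy.2]
      exact hu
    · intro y hy
      have hyW : y ∈ W := X.basicOpen_le fW hy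
      refine ⟨?_, hyW⟩
      apply le_genLocus L s (X.basicOpen fW) ?_ hy
      intro z hz
      have hzW : z ∈ W := X.basicOpen_le fW hz
      apply (bijective_iff_isUnit L s U e z (hWU' hzW)).mpr
      have h1 := (X.mem_basicOpen fW z hzW).mp hz
      rwa [hgerm z hzW] at h1
  rw [← (CohB1.genLocus L s).ι.isAffineOpen_iff_of_isOpenImmersion,
    Scheme.Hom.image_preimage_eq_opensRange_inf, Scheme.Opens.opensRange_ι, key]
  exact hW'.basicOpen fW

end Locus

end Groth.Agent.Helper4.GenLocus
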