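import Mathlib
import Groth.Prelude.Def_CAlg
import Groth.Agent.Lib.Helper4.Hartogs2
import Groth.Agent.Lib.Helper4.MeroReg2

/-!
# Connected components and closed subsets of depth at least two
-/

set_option autoImplicit false
set_option linter.style.haveILetI false

universe u

open CategoryTheory AlgebraicGeometry TopologicalSpace

namespace Groth.Agent.Helper4.Hartogs

theorem exists_regular_of_one_le_depth (R : Type u) [CommRing R] [IsLocalRing R]
    (h : (1 : ℕ∞) ≤ LocCoh.depth R R) :
    ∃ r ∈ IsLocalRing.maximalIdeal R, IsSMulRegular R r := by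
  by_contra hcon
  push Not at hcon
  have hne : IsLocalRing.maximalIdeal R • (⊤ : Submodule R R) ≠ ⊤ := by
    rw [smul_eq_mul, Ideal.mul_top]
    exact (IsLocalRing.maximalIdeal.isMaximal R).ne_top
  unfold LocCoh.depth LocCoh.idealDepth at h
  rw [if_neg hne] at h
  have hle : (⨆ (rs : List R) (_ : RingTheory.Sequence.IsWeaklyRegular R rs ∧
      ∀ r ∈ rs, r ∈ IsLocalRing.maximalIdeal R), (rs.length : ℕ∞)) ≤ 0 := by
    refine iSup₂_le ?_
    intro rs hrs
    cases rs with
    | nil => simp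
    | cons r rs' =>
      exfalso
      have hreg : IsSMulRegular R r :=
        ((RingTheory.Sequence.isWeaklyRegular_cons_iff R r rs').mp hrs.1).1
      exact hcon r (hrs.2 r List.mem_cons_self) hreg
  have h2 : (1 : ℕ∞) ≤ 0 := h.trans hle
  simp at h2

variable {X : Scheme.{u}}

theorem not_one_le_depth_of_isMax (η : X) (hmax : ∀ z : X, z ⤳ η → z = η) :
    ¬ (1 : ℕ∞) ≤ LocCoh.depth (X.presheaf.stalk η) (X.presheaf.stalk η) := by
  intro h
  obtain ⟨r, hrm, hreg⟩ := exists_regular_of_one_le_depth _ h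
  have hnzd : r ∈ nonZeroDivisors (X.presheaf.stalk η) := by
    rw [mem_nonZeroDivisors_iff_right]
    intro x hx
    apply hreg
    show r • x = r • 0
    rw [smul_eq_mul, smul_eq_mul, mul_comm, hx, mul_zero]
  have hu := MeroReg2.isUnit_of_mem_nonZeroDivisors_of_isMax η hmax r hnzd
  exact (IsLocalRing.mem_maximalIdeal r).mp hrm hu

/-- Connected components of a locally Noetherian scheme are open. -/
theorem isOpen_connectedComponent (Z : Scheme.{u}) [IsLocallyNoetherian Z] (z : Z) :
    IsOpen (connectedComponent z) := by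
  classical
  rw [isOpen_iff_forall_mem_open]
  intro y hyC
  obtain ⟨_, ⟨W, hW, rfl⟩, hyW, -⟩ :=
    Z.isBasis_affineOpens.exists_subset_of_mem_open (Set.mem_univ y) isOpen_univ
  have hyW' : y ∈ W := hyW
  haveI : IsNoetherianRing Γ(Z, W) := IsLocallyNoetherian.component_noetherian ⟨W, hW⟩
  obtain ⟨qy, hqy⟩ : ∃ qy : PrimeSpectrum Γ(Z, W), qy = hW.primeIdealOf ⟨y, hyW'⟩ := ⟨_, rfl⟩
  have hqy' : hW.fromSpec qy = y := hqy ▸ hW.fromSpec_primeIdealOf ⟨y, hyW'⟩
  have hfin : (minimalPrimes Γ(Z, W)).Finite := minimalPrimes.finite_of_isNoetherianRing _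
  let P : Finset (Ideal Γ(Z, W)) := hfin.toFinset.filter (fun p => ¬ p ≤ qy.asIdeal)
  have hnot : ¬ P.inf id ≤ qy.asIdeal := by
    intro hle
    obtain ⟨p, hpP, hpq⟩ := (Ideal.IsPrime.inf_le' qy.isPrime).mp hle
    exact (Finset.mem_filter.mp hpP).2 hpq
  obtain ⟨g, hgP, hgq⟩ := SetLike.not_le_iff_exists.mp hnot
  have hmemg : ∀ (x : Z) (hxW : x ∈ W),
      x ∈ Z.basicOpen g ↔ g ∉ (hW.primeIdealOf ⟨x, hxW⟩).asIdeal := by
    intro x hxW
    letI alg : Algebra Γ(Z, W) (Z.presheaf.stalk x) :=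
      TopCat.Presheaf.algebra_section_stalk Z.presheaf ⟨x, hxW⟩
    haveI hloc : IsLocalization.AtPrime (Z.presheaf.stalk x)
        (hW.primeIdealOf ⟨x, hxW⟩).asIdeal := hW.isLocalization_stalk ⟨x, hxW⟩
    rw [Z.mem_basicOpen g x hxW]
    exact IsLocalization.AtPrime.isUnit_to_map_iff (Z.presheaf.stalk x)
      (hW.primeIdealOf ⟨x, hxW⟩).asIdeal g
  have hyg : y ∈ Z.basicOpen g := (hmemg y hyW').mpr (hqy ▸ hgq)
  refine ⟨Z.basicOpen g, ?_, (Z.basicOpen g).isOpen, hyg⟩
  intro x hxg
  have hxW : x ∈ W := Z.basicOpen_le g hxg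
  obtain ⟨qx, hqx⟩ : ∃ qx : PrimeSpectrum Γ(Z, W), qx = hW.primeIdealOf ⟨x, hxW⟩ := ⟨_, rfl⟩
  have hqx' : hW.fromSpec qx = x := hqx ▸ hW.fromSpec_primeIdealOf ⟨x, hxW⟩
  have hgqx : g ∉ qx.asIdeal := hqx ▸ (hmemg x hxW).mp hxg
  obtain ⟨p, hpmin, hpqx⟩ := Ideal.exists_minimalPrimes_le (I := ⊥) (J := qx.asIdeal) bot_le
  have hgp : g ∉ p := fun h => hgqx (hpqx h)
  have hpqy : p ≤ qy.asIdeal := by
    by_contra hn
    have hpP : p ∈ P := Finset.mem_filter.mpr ⟨hfin.mem_toFinset.mpr hpmin, hn⟩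
    have hle : P.inf id ≤ id p := Finset.inf_le hpP
    exact hgp (hle hgP)
  haveI hpp : p.IsPrime := hpmin.1.1
  let qp : PrimeSpectrum Γ(Z, W) := ⟨p, hpp⟩
  have hspec : ∀ q : PrimeSpectrum Γ(Z, W), p ≤ q.asIdeal → hW.fromSpec qp ⤳ hW.fromSpec q := by
    intro q hle
    have h1 : qp ⤳ q := (PrimeSpectrum.le_iff_specializes qp q).mp hle
    exact h1.map hW.fromSpec.continuous
  have hηy : hW.fromSpec qp ⤳ y := hqy' ▸ hspec qy hpqy
  have hηx : hW.fromSpec qp ⤳ x := hqx' ▸ hspec qx hpqx
  have hconn : _root_.IsConnected (closure ({hW.fromSpec qp} : Set Z)) := isConnected_singleton.closure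
  have hy' : y ∈ closure ({hW.fromSpec qp} : Set Z) := specializes_iff_mem_closure.mp hηy
  have hx' : x ∈ closure ({hW.fromSpec qp} : Set Z) := specializes_iff_mem_closure.mp hηx
  have h1 : closure ({hW.fromSpec qp} : Set Z) ⊆ connectedComponent y :=
    hconn.isPreconnected.subset_connectedComponent hy'
  rw [connectedComponent_eq hyC]
  exact h1 hx'

variable [IsLocallyNoetherian X]

theorem connectedComponents_bijective (U : X.Opens)
    (h : ∀ x : X, x ∉ (U : Set X) →
      (2 : ℕ∞) ≤ LocCoh.depth (X.presheaf.stalk x) (X.presheaf.stalk x)) :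
    Function.Bijective (Continuous.connectedComponentsMap
      (continuous_subtype_val : Continuous (fun x : U => (x : X)))) := by
  constructor
  · -- injectivity
    intro c₁ c₂ hc
    obtain ⟨u₁, rfl⟩ := _root_.ConnectedComponents.surjective_coe c₁
    obtain ⟨u₂, rfl⟩ := _root_.ConnectedComponents.surjective_coe c₂
    have hc' : _root_.ConnectedComponents.mk (u₁.1 : X) = _root_.ConnectedComponents.mk (u₂.1 : X) := hc
    rw [_root_.ConnectedComponents.coe_eq_coe'] at hc' ⊢
    -- the connected component of `u₂` in `U`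
    have hCopen : IsOpen (connectedComponent u₂) :=
      isOpen_connectedComponent (U : Scheme.{u}) u₂
    have hCclosed : IsClosed (connectedComponent u₂) := isClosed_connectedComponent
    have hAopen : IsOpen (Subtype.val '' (connectedComponent u₂) : Set X) :=
      U.isOpen.isOpenMap_subtype_val _ hCopen
    have hBopen : IsOpen (Subtype.val '' (connectedComponent u₂)ᶜ : Set X) :=
      U.isOpen.isOpenMap_subtype_val _ hCclosed.isOpen_compl
    let A : X.Opens := ⟨_, hAopen⟩
    let B : X.Opens := ⟨_, hBopen⟩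
    have hAU : A ≤ U := by rintro _ ⟨y, -, rfl⟩; exact y.2
    have hBU : B ≤ U := by rintro _ ⟨y, -, rfl⟩; exact y.2
    have hAB : ∀ y : X, y ∈ A → y ∈ B → False := by
      rintro _ ⟨y, hy, rfl⟩ ⟨y', hy', hyy'⟩
      exact hy' ((Subtype.ext hyy') ▸ hy)
    have hcov : ∀ y : X, y ∈ U → y ∈ A ∨ y ∈ B := by
      intro y hy
      by_cases hyC : (⟨y, hy⟩ : U) ∈ connectedComponent u₂
      · exact Or.inl ⟨⟨y, hy⟩, hyC, rfl⟩
      · exact Or.inr ⟨⟨y, hy⟩, hyC, rfl⟩
    -- glue the idempotent
    let Uι : Bool → X.Opens := fun b => cond b A B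
    let cst : Bool → Γ(X, ⊤) := fun b => cond b 1 0
    let sf : ∀ b : Bool, Γ(X, Uι b) := fun b => X.presheaf.map (homOfLE (le_top : Uι b ≤ ⊤)).op (cst b)
    have hsf : ∀ (b : Bool) (y : X) (hy : y ∈ Uι b), X.presheaf.germ (Uι b) y hy (sf b) =
        X.presheaf.germ ⊤ y trivial (cst b) := fun b y hy =>
      TopCat.Presheaf.germ_res_apply X.presheaf (homOfLE (le_top : Uι b ≤ ⊤)) y hy (cst b)
    have hcompat : TopCat.Presheaf.IsCompatible X.sheaf.1 Uι sf := by
      intro i j
      apply TopCat.Presheaf.section_ext X.sheaf (Uι i ⊓ Uι j) _ _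
      intro y hy
      change X.presheaf.germ (Uι i ⊓ Uι j) y hy
          (X.presheaf.map (Opens.infLELeft (Uι i) (Uι j)).op (sf i)) =
        X.presheaf.germ (Uι i ⊓ Uι j) y hy
          (X.presheaf.map (Opens.infLERight (Uι i) (Uι j)).op (sf j))
      have hL : X.presheaf.germ (Uι i ⊓ Uι j) y hy
          (X.presheaf.map (Opens.infLELeft (Uι i) (Uι j)).op (sf i)) =
          X.presheaf.germ ⊤ y trivial (cst i) :=
        (TopCat.Presheaf.germ_res_apply X.presheaf (Opens.infLELeft (Uι i) (Uι j)) y hy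
          (sf i)).trans (hsf i y hy.1)
      have hR : X.presheaf.germ (Uι i ⊓ Uι j) y hy
          (X.presheaf.map (Opens.infLERight (Uι i) (Uι j)).op (sf j)) =
          X.presheaf.germ ⊤ y trivial (cst j) :=
        (TopCat.Presheaf.germ_res_apply X.presheaf (Opens.infLERight (Uι i) (Uι j)) y hy
          (sf j)).trans (hsf j y hy.2)
      rw [hL, hR]
      cases i <;> cases j
      · rfl
      · exact (hAB y hy.2 hy.1).elim
      · exact (hAB y hy.1 hy.2).elim
      · rfl
    have hcover : U ≤ iSup Uι := by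
      intro y hy
      rcases hcov y hy with hA | hB
      · exact Opens.mem_iSup.mpr ⟨true, hA⟩
      · exact Opens.mem_iSup.mpr ⟨false, hB⟩
    have hUιU : ∀ b, Uι b ≤ U := fun b => by cases b; exact hBU; exact hAU
    obtain ⟨e, he, -⟩ := X.sheaf.existsUnique_gluing' Uι U (fun b => homOfLE (hUιU b)) hcover sf
      hcompat
    have hegerm : ∀ (b : Bool) (y : X) (hy : y ∈ Uι b),
        X.presheaf.germ U y (hUιU b hy) e = X.presheaf.germ ⊤ y trivial (cst b) := by
      intro b y hy
      have h1 := congrArg (X.presheaf.germ (Uι b) y hy) (he b)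
      have h2 : X.presheaf.germ (Uι b) y hy (X.presheaf.map (homOfLE (hUιU b)).op e) =
          X.presheaf.germ U y (hUιU b hy) e :=
        TopCat.Presheaf.germ_res_apply X.presheaf (homOfLE (hUιU b)) y hy e
      rw [← h2]
      exact h1.trans (hsf b y hy)
    -- extend it
    have hd : ∀ x : X, x ∈ (⊤ : X.Opens) → x ∉ U →
        (2 : ℕ∞) ≤ LocCoh.depth (X.presheaf.stalk x) (X.presheaf.stalk x) :=
      fun x _ hx => h x hx
    obtain ⟨e', he'⟩ := hartogs_surjective (le_top : U ≤ ⊤) hd e
    have he'germ : ∀ (y : X) (hy : y ∈ U),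
        X.presheaf.germ ⊤ y trivial e' = X.presheaf.germ U y hy e := by
      intro y hy
      have h1 := congrArg (X.presheaf.germ U y hy) he'
      rw [TopCat.Presheaf.germ_res_apply] at h1
      exact h1
    -- idempotent
    have hidem : e' * e' = e' := by
      apply hartogs_injective (le_top : U ≤ ⊤)
        (fun x hx hx' => le_trans (by norm_num) (hd x hx hx'))
      apply TopCat.Presheaf.section_ext X.sheaf U _ _
      intro y hy
      change X.presheaf.germ U y hy (X.presheaf.map (homOfLE (le_top : U ≤ ⊤)).op (e' * e')) =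
        X.presheaf.germ U y hy (X.presheaf.map (homOfLE (le_top : U ≤ ⊤)).op e')
      rw [TopCat.Presheaf.germ_res_apply, TopCat.Presheaf.germ_res_apply, map_mul,
        he'germ y hy]
      rcases hcov y hy with hA | hB
      · rw [hegerm true y hA]
        show X.presheaf.germ ⊤ y trivial 1 * X.presheaf.germ ⊤ y trivial 1 =
          X.presheaf.germ ⊤ y trivial 1
        rw [map_one, mul_one]
      · rw [hegerm false y hB]
        show X.presheaf.germ ⊤ y trivial 0 * X.presheaf.germ ⊤ y trivial 0 =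
          X.presheaf.germ ⊤ y trivial 0
        rw [map_zero, mul_zero]
    -- the clopen set
    have hDcompl : ((X.basicOpen e' : X.Opens) : Set X)ᶜ = (X.basicOpen (1 - e') : X.Opens) := by
      ext y
      have hε : X.presheaf.germ ⊤ y trivial e' * X.presheaf.germ ⊤ y trivial (1 - e') = 0 := by
        rw [← map_mul, mul_sub, mul_one, hidem, sub_self, map_zero]
      have h1 : y ∈ X.basicOpen e' ↔ IsUnit (X.presheaf.germ ⊤ y trivial e') :=
        X.mem_basicOpen e' y trivial
      have h2 : y ∈ X.basicOpen (1 - e') ↔ IsUnit (X.presheaf.germ ⊤ y trivial (1 - e')) :=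
        X.mem_basicOpen (U := ⊤) (1 - e') y trivial
      show ¬ y ∈ X.basicOpen e' ↔ y ∈ X.basicOpen (1 - e')
      rw [h1, h2]
      constructor
      · intro hnu
        have h3 := IsLocalRing.isUnit_or_isUnit_one_sub_self (X.presheaf.germ ⊤ y trivial e')
        rw [map_sub, map_one]
        exact h3.resolve_left hnu
      · intro hu hu'
        have h3 : X.presheaf.germ ⊤ y trivial (1 - e') = 0 := hu'.mul_right_eq_zero.mp hε
        rw [h3] at hu
        exact not_isUnit_zero hu
    have hDclopen : IsClopen ((X.basicOpen e' : X.Opens) : Set X) := by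
      refine ⟨?_, (X.basicOpen e').isOpen⟩
      rw [← isOpen_compl_iff, hDcompl]
      exact (X.basicOpen (1 - e')).isOpen
    have hu₂A : u₂.1 ∈ A := ⟨u₂, mem_connectedComponent, rfl⟩
    have hu₂D : u₂.1 ∈ X.basicOpen e' := by
      rw [X.mem_basicOpen e' u₂.1 trivial, he'germ u₂.1 u₂.2, hegerm true u₂.1 hu₂A]
      show IsUnit (X.presheaf.germ ⊤ u₂.1 trivial 1)
      rw [map_one]
      exact isUnit_one
    have hsub := hDclopen.connectedComponent_subset hu₂D
    have hu₁D : u₁.1 ∈ X.basicOpen e' := hsub hc'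
    rcases hcov u₁.1 u₁.2 with hA | hB
    · obtain ⟨y, hy, hyu⟩ := hA
      exact (Subtype.ext hyu) ▸ hy
    · exfalso
      rw [X.mem_basicOpen e' u₁.1 trivial, he'germ u₁.1 u₁.2, hegerm false u₁.1 hB] at hu₁D
      have h0 : X.presheaf.germ ⊤ u₁.1 trivial (0 : Γ(X, ⊤)) = 0 := map_zero _
      have hu₁D' : IsUnit (X.presheaf.germ ⊤ u₁.1 trivial (0 : Γ(X, ⊤))) := hu₁D
      rw [h0] at hu₁D'
      exact not_isUnit_zero hu₁D'
  · -- surjectivity
    intro c
    obtain ⟨x, rfl⟩ := _root_.ConnectedComponents.surjective_coe c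
    obtain ⟨η, -, hηx, hηmin⟩ := DepthOneCore.exists_minimal_generization X Set.univ x
      (Set.mem_univ x)
    have hηU : η ∈ U := by
      by_contra hηU
      have h2 := h η hηU
      exact not_one_le_depth_of_isMax η (fun z hz => hηmin z (Set.mem_univ z) hz)
        (le_trans (by norm_num) h2)
    refine ⟨_root_.ConnectedComponents.mk (⟨η, hηU⟩ : U), ?_⟩
    show _root_.ConnectedComponents.mk (η : X) = _root_.ConnectedComponents.mk x
    rw [_root_.ConnectedComponents.coe_eq_coe']
    have hconn : _root_.IsConnected (closure ({η} : Set X)) := isConnected_singleton.closure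
    have hx' : x ∈ closure ({η} : Set X) := specializes_iff_mem_closure.mp hηx
    exact hconn.isPreconnected.subset_connectedComponent hx' (subset_closure rfl)

end Groth.Agent.Helper4.Hartogs
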