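import Mathlib
import Groth.Prelude.Def_CAlg
import Groth.Agent.Lib.Helper4.HartogsMod2

/-!
# Extension of homomorphisms into a coherent module of depth at least two
-/

set_option autoImplicit false
set_option linter.style.haveILetI false

universe u

open CategoryTheory CategoryTheory.Limits AlgebraicGeometry Opposite TopologicalSpace
open Groth.Agent.Lead.QCoh Groth.Agent.Lead.FinType

namespace Groth.Agent.Helper4.HartogsHom

variable {X : Scheme.{u}}

/-- A morphism of modules which is bijective on all sections is an isomorphism. -/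
theorem isIso_of_bijective_app {A B : X.Modules} (η : A ⟶ B)
    (h : ∀ V : X.Opens, Function.Bijective (η.app V)) : IsIso η := by
  haveI : Mono η := by
    apply mono_of_stalk_injective η
    intro x s t hst
    exact TopCat.Presheaf.stalkFunctor_map_injective_of_app_injective
      (f := Scheme.Modules.Hom.mapPresheaf η) (fun U => (h U).1) x hst
  haveI : Epi η := by
    apply epi_of_stalkMap_surjective η
    intro x t
    obtain ⟨V, hxV, s', rfl⟩ := TopCat.Presheaf.exists_germ_eq B.presheaf t
    obtain ⟨s, rfl⟩ := (h V).2 s'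
    exact ⟨A.presheaf.germ V x hxV s, stalkMap_germ η x V hxV s⟩
  exact isIso_of_mono_of_epi η

variable [IsLocallyNoetherian X]

theorem isIso_unit (E : X.Modules) [E.IsQuasicoherent]
    [SheafOfModules.IsFiniteType (R := X.ringCatSheaf) E] (U : X.Opens)
    (hdepth : ∀ y : X, y ∉ U →
      (2 : ℕ∞) ≤ LocCoh.depth (X.presheaf.stalk y) (E.presheaf.stalk y)) :
    IsIso ((Scheme.Modules.restrictAdjunction U.ι).unit.app E) := by
  apply isIso_of_bijective_app
  intro V
  rw [Scheme.Modules.restrictAdjunction_unit_app_app]
  apply HartogsMod.hartogs_bijective E (U.ι.image_preimage_le V)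
  intro x hxV hx'
  apply hdepth x
  intro hxU
  apply hx'
  exact ⟨⟨x, hxU⟩, hxV, rfl⟩

theorem restrict_bijective (E F : X.Modules) [E.IsQuasicoherent]
    [SheafOfModules.IsFiniteType (R := X.ringCatSheaf) E] (U : X.Opens)
    (hdepth : ∀ y : X, y ∉ U →
      (2 : ℕ∞) ≤ LocCoh.depth (X.presheaf.stalk y) (E.presheaf.stalk y)) :
    Function.Bijective (fun φ : F ⟶ E => (Scheme.Modules.restrictFunctor U.ι).map φ) := by
  haveI hiso := isIso_unit E U hdepth
  have key : ∀ φ : F ⟶ E, (Scheme.Modules.restrictFunctor U.ι).map φ =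
      ((Scheme.Modules.restrictAdjunction U.ι).homEquiv F
        ((Scheme.Modules.restrictFunctor U.ι).obj E)).symm
        (φ ≫ (Scheme.Modules.restrictAdjunction U.ι).unit.app E) := by
    intro φ
    rw [Equiv.eq_symm_apply, Adjunction.homEquiv_unit]
    exact ((Scheme.Modules.restrictAdjunction U.ι).unit.naturality φ).symm
  constructor
  · intro φ₁ φ₂ h12
    have h1 : (Scheme.Modules.restrictFunctor U.ι).map φ₁ =
        (Scheme.Modules.restrictFunctor U.ι).map φ₂ := h12
    rw [key φ₁, key φ₂] at h1
    have h2 := (Equiv.injective _) h1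
    exact (cancel_mono _).mp h2
  · intro ψ
    refine ⟨((Scheme.Modules.restrictAdjunction U.ι).homEquiv F
        ((Scheme.Modules.restrictFunctor U.ι).obj E)) ψ ≫
          inv ((Scheme.Modules.restrictAdjunction U.ι).unit.app E), ?_⟩
    show (Scheme.Modules.restrictFunctor U.ι).map _ = ψ
    rw [key, Category.assoc, IsIso.inv_hom_id, Category.comp_id, Equiv.symm_apply_apply]

end Groth.Agent.Helper4.HartogsHom
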