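import Mathlib
import Groth.Prelude.Def_RefHull
import Groth.Prelude.Def_TorSh

/-!
# The sheaf Hom into a torsion-free module on an integral scheme is torsion free
-/

set_option autoImplicit false
set_option linter.style.haveILetI false

universe u

open CategoryTheory CategoryTheory.Limits AlgebraicGeometry Opposite TopologicalSpace

namespace Groth.Agent.Helper4.HomShTors

theorem isTorsionFree_homSh (X : Scheme.{u}) [IsIntegral X] (F G : X.Modules)
    (hGt : TorSh.IsTorsionFree G) : TorSh.IsTorsionFree (RefHull.homSh F G) := by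
  intro x
  refine ⟨fun r hr θ₁ θ₂ h => ?_⟩
  have hr0 : r ≠ 0 := hr.ne_zero
  have h' : r • (θ₁ - θ₂) = 0 := by
    rw [smul_sub, sub_eq_zero]; exact h
  rw [← sub_eq_zero]
  generalize θ₁ - θ₂ = θ at h'
  obtain ⟨V₁, hxV₁, ρ₀, rfl⟩ := X.presheaf.exists_germ_eq r
  obtain ⟨V₂, hxV₂, g₀, rfl⟩ :=
    TopCat.Presheaf.exists_germ_eq (RefHull.homSh F G).presheaf θ
  obtain ⟨H, hH⟩ : ∃ H : X.Modules, H = RefHull.homSh F G := ⟨_, rfl⟩
  let V₃ : X.Opens := V₁ ⊓ V₂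
  have hxV₃ : x ∈ V₃ := ⟨hxV₁, hxV₂⟩
  have h31 : V₃ ≤ V₁ := inf_le_left
  have h32 : V₃ ≤ V₂ := inf_le_right
  obtain ⟨d, hd⟩ : ∃ d : Γ(RefHull.homSh F G, V₃), d = X.presheaf.map (homOfLE h31).op ρ₀ •
      (RefHull.homSh F G).presheaf.map (homOfLE h32).op g₀ := ⟨_, rfl⟩
  have hd0 : (RefHull.homSh F G).presheaf.germ V₃ x hxV₃ d =
      (RefHull.homSh F G).presheaf.germ V₃ x hxV₃ 0 := by
    rw [map_zero, hd, Mero.germ_smul, TopCat.Presheaf.germ_res_apply,
      TopCat.Presheaf.germ_res_apply]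
    exact h'
  obtain ⟨O', hxO', i₁, i₂, hO'⟩ :=
    TopCat.Presheaf.germ_eq (RefHull.homSh F G).presheaf x hxV₃ hxV₃ d 0 hd0
  have hρ0 : ρ₀ ≠ 0 := by
    rintro rfl
    exact hr0 (map_zero _)
  have key : (RefHull.homSh F G).presheaf.map (i₁ ≫ homOfLE h32).op g₀ = 0 := by
    apply Subtype.ext
    funext y
    apply LinearMap.ext
    intro v
    have h1 : ((RefHull.homSh F G).presheaf.map i₁.op d).1 y = 0 := by
      rw [hO', map_zero]; rfl
    have h2 : X.presheaf.germ V₃ y.1 (i₁.le y.2) (X.presheaf.map (homOfLE h31).op ρ₀) •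
        g₀.1 ⟨y.1, h32 (i₁.le y.2)⟩ = 0 := by
      rw [← h1, hd]; rfl
    rw [TopCat.Presheaf.germ_res_apply] at h2
    have hne : X.presheaf.germ V₁ y.1 (h31 (i₁.le y.2)) ρ₀ ≠ 0 := fun h0 =>
      hρ0 (germ_injective_of_isIntegral X y.1 (h31 (i₁.le y.2)) (h0.trans (map_zero _).symm))
    have hreg : IsRegular (X.presheaf.germ V₁ y.1 (h31 (i₁.le y.2)) ρ₀) :=
      isRegular_of_ne_zero hne
    have hsr := (hGt y.1).isSMulRegular hreg
    have h3 : X.presheaf.germ V₁ y.1 (h31 (i₁.le y.2)) ρ₀ •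
        (g₀.1 ⟨y.1, h32 (i₁.le y.2)⟩ v) = 0 := by
      rw [← LinearMap.smul_apply, h2]; rfl
    exact hsr (h3.trans (smul_zero _).symm)
  rw [← TopCat.Presheaf.germ_res_apply (RefHull.homSh F G).presheaf (i₁ ≫ homOfLE h32) x hxO' g₀,
    key, map_zero]

end Groth.Agent.Helper4.HomShTors
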