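import Mathlib
import Groth.Agent.Lib.Helper4.EffCartierPull

/-!
# Pullback of ideal sheaves commutes with products and powers
-/

set_option autoImplicit false
set_option linter.style.haveILetI false

universe u

open CategoryTheory AlgebraicGeometry AlgebraicGeometry.Scheme TopologicalSpace

namespace Groth.Agent.Helper4.IdealComapMul

variable {X Y : Scheme.{u}}

/-- Affine opens of `X` mapping into affine opens of `Y` cover `X`. -/
theorem iSup_affine_pairs (f : X ⟶ Y) :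
    ⨆ i : {p : X.affineOpens × Y.affineOpens // p.1.1 ≤ f ⁻¹ᵁ p.2.1}, (i.1.1 : X.Opens) = ⊤ := by
  rw [eq_top_iff]
  intro x _
  obtain ⟨_, ⟨V, hV, rfl⟩, hxV, -⟩ :=
    Y.isBasis_affineOpens.exists_subset_of_mem_open (Set.mem_univ (f x)) isOpen_univ
  obtain ⟨_, ⟨U, hU, rfl⟩, hxU, hUV⟩ :=
    X.isBasis_affineOpens.exists_subset_of_mem_open (show x ∈ (f ⁻¹ᵁ V : Set X) from hxV)
      (f ⁻¹ᵁ V).isOpen
  exact Opens.mem_iSup.mpr ⟨⟨(⟨U, hU⟩, ⟨V, hV⟩), hUV⟩, hxU⟩

theorem comap_mul (f : X ⟶ Y) (I J : Y.IdealSheafData) :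
    (I * J).comap f = I.comap f * J.comap f := by
  apply IdealSheafData.ext_of_iSup_eq_top
    (fun i : {p : X.affineOpens × Y.affineOpens // p.1.1 ≤ f ⁻¹ᵁ p.2.1} => i.1.1)
    (iSup_affine_pairs f)
  rintro ⟨⟨U, V⟩, e⟩
  show ((I * J).comap f).ideal U = (I.comap f * J.comap f).ideal U
  rw [EffCartierPull.ideal_comap_appLE f (I * J) U V e, IdealSheafData.ideal_mul, Pi.mul_apply,
    Ideal.map_mul, IdealSheafData.ideal_mul, Pi.mul_apply,
    EffCartierPull.ideal_comap_appLE f I U V e, EffCartierPull.ideal_comap_appLE f J U V e]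

theorem comap_pow (f : X ⟶ Y) (I : Y.IdealSheafData) (n : ℕ) :
    (I ^ n).comap f = (I.comap f) ^ n := by
  apply IdealSheafData.ext_of_iSup_eq_top
    (fun i : {p : X.affineOpens × Y.affineOpens // p.1.1 ≤ f ⁻¹ᵁ p.2.1} => i.1.1)
    (iSup_affine_pairs f)
  rintro ⟨⟨U, V⟩, e⟩
  show ((I ^ n).comap f).ideal U = ((I.comap f) ^ n).ideal U
  rw [EffCartierPull.ideal_comap_appLE f (I ^ n) U V e, IdealSheafData.ideal_pow, Pi.pow_apply,
    Ideal.map_pow, IdealSheafData.ideal_pow, Pi.pow_apply,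
    EffCartierPull.ideal_comap_appLE f I U V e]

end Groth.Agent.Helper4.IdealComapMul
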