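import Groth.Agent.Lib.Helper4.CSA

/-!
# Two-sided ideals of `A ⊗ K` for `K` a central division algebra
-/

namespace Groth.Agent.Helper4

open TensorProduct

/-- If `K` is a division ring with center `k`, every two-sided ideal of `A ⊗[k] K` is generated by
the elements `a ⊗ 1` it contains. -/
theorem eq_span_tmul_one {k A K : Type*} [Field k] [Ring A] [Algebra k A] [DivisionRing K]
    [Algebra k K] [Algebra.IsCentral k K] (I : TwoSidedIdeal (A ⊗[k] K)) :
    I = TwoSidedIdeal.span
      ((fun a : A => a ⊗ₜ[k] (1 : K)) '' {a : A | a ⊗ₜ[k] (1 : K) ∈ I}) := by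
  classical
  obtain ⟨J, hJ⟩ : ∃ J, J = TwoSidedIdeal.span
      ((fun a : A => a ⊗ₜ[k] (1 : K)) '' {a : A | a ⊗ₜ[k] (1 : K) ∈ I}) := ⟨_, rfl⟩
  rw [← hJ]
  have hJI : J ≤ I := by
    rw [hJ, TwoSidedIdeal.span_le]
    rintro _ ⟨a, ha, rfl⟩
    exact ha
  have hgen : ∀ a : A, a ⊗ₜ[k] (1 : K) ∈ I → a ⊗ₜ[k] (1 : K) ∈ J := by
    intro a ha
    rw [hJ]
    exact TwoSidedIdeal.subset_span ⟨a, ha, rfl⟩
  apply le_antisymm _ hJI
  by_contra hnot
  have hex : ∃ x ∈ I, x ∉ J := by
    by_contra h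
    push Not at h
    exact hnot (fun x hx => h x hx)
  let 𝒜 := Module.Basis.ofVectorSpace k A
  let e := equivFinsuppOfBasisLeft 𝒜 (N := K)
  have he : ∀ x, e x = equivFinsuppOfBasisLeft 𝒜 x := fun _ => rfl
  let P : ℕ → Prop := fun n => ∃ x ∈ I, x ∉ J ∧ (e x).support.card = n
  have hP : ∃ n, P n := by
    obtain ⟨x, hxI, hxJ⟩ := hex
    exact ⟨_, x, hxI, hxJ, rfl⟩
  obtain ⟨x, hxI, hxJ, hcard⟩ := Nat.find_spec hP
  have hmin : ∀ y ∈ I, (e y).support.card < Nat.find hP → y ∈ J := by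
    intro y hy hlt
    by_contra hyJ
    exact absurd (Nat.find_min' hP ⟨y, hy, hyJ, rfl⟩) (not_le.2 hlt)
  have hx0 : x ≠ 0 := by
    rintro rfl
    exact hxJ J.zero_mem
  have hex0 : e x ≠ 0 := fun h => hx0 (e.map_eq_zero_iff.1 h)
  obtain ⟨i₀, hi₀⟩ := Finsupp.support_nonempty_iff.2 hex0
  obtain ⟨c, hc⟩ : ∃ c, c = e x i₀ := ⟨_, rfl⟩
  have hc0 : c ≠ 0 := by
    rw [hc]
    exact Finsupp.mem_support_iff.1 hi₀
  obtain ⟨x', hx'⟩ : ∃ x', x' = ((1 : A) ⊗ₜ[k] c⁻¹) * x := ⟨_, rfl⟩
  have hx'I : x' ∈ I := by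
    rw [hx']
    exact I.mul_mem_left _ _ hxI
  have hx'J : x' ∉ J := by
    intro h
    apply hxJ
    have : x = ((1 : A) ⊗ₜ[k] c) * x' := by
      rw [hx', ← mul_assoc, Algebra.TensorProduct.tmul_mul_tmul, mul_one, mul_inv_cancel₀ hc0,
        ← Algebra.TensorProduct.one_def, one_mul]
    rw [this]
    exact J.mul_mem_left _ _ h
  have hx'c : ∀ i, e x' i = c⁻¹ * e x i := fun i => by rw [hx', he, he, coord_mul_left]
  have hx'i₀ : e x' i₀ = 1 := by rw [hx'c, ← hc, inv_mul_cancel₀ hc0]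
  have hsupp : (e x').support = (e x).support := by
    ext i
    simp only [Finsupp.mem_support_iff, hx'c]
    constructor
    · intro h h0
      exact h (by rw [h0, mul_zero])
    · intro h h0
      exact h ((mul_eq_zero.1 h0).resolve_left (inv_ne_zero hc0))
  have hcard' : (e x').support.card = Nat.find hP := by rw [hsupp, hcard]
  have hi₀' : i₀ ∈ (e x').support := by
    rw [hsupp]
    exact hi₀
  -- commutators have smaller support, hence lie in `J`
  have hy : ∀ d : K, ∃ y ∈ I, y ∈ J ∧ (∀ j, e y j = d * e x' j - e x' j * d) := by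
    intro d
    obtain ⟨y, hy⟩ : ∃ y, y = ((1 : A) ⊗ₜ[k] d) * x' - x' * ((1 : A) ⊗ₜ[k] d) := ⟨_, rfl⟩
    have hyI : y ∈ I := by
      rw [hy]
      exact I.sub_mem (I.mul_mem_left _ _ hx'I) (I.mul_mem_right _ _ hx'I)
    have hyc : ∀ j, e y j = d * e x' j - e x' j * d := by
      intro j
      rw [hy, map_sub, Finsupp.sub_apply, he, he, coord_mul_left, coord_mul_right]
    have hys : (e y).support ⊆ (e x').support.erase i₀ := by
      intro j hj
      rw [Finsupp.mem_support_iff, hyc] at hj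
      rw [Finset.mem_erase, Finsupp.mem_support_iff]
      refine ⟨?_, ?_⟩
      · intro hji
        rw [hji, hx'i₀, mul_one, one_mul, sub_self] at hj
        exact hj rfl
      · intro h0
        rw [h0, mul_zero, zero_mul, sub_self] at hj
        exact hj rfl
    refine ⟨y, hyI, hmin y hyI ?_, hyc⟩
    calc (e y).support.card ≤ ((e x').support.erase i₀).card := Finset.card_le_card hys
      _ < (e x').support.card := Finset.card_erase_lt_of_mem hi₀'
      _ = Nat.find hP := hcard'
  by_cases hcen : ∀ (d : K) (i : _), d * e x' i = e x' i * d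
  · -- all coordinates central: `x' = a ⊗ 1`
    have hscalar : ∀ i, ∃ t : k, algebraMap k K t = e x' i := by
      intro i
      have hmem : e x' i ∈ Subalgebra.center k K := by
        rw [Subalgebra.mem_center_iff]
        intro b
        exact hcen b i
      have := Algebra.IsCentral.out (K := k) (D := K) hmem
      rwa [Algebra.mem_bot] at this
    choose t ht using hscalar
    have hxe : x' = e.symm (e x') := (e.symm_apply_apply x').symm
    have hterm : ∀ i ∈ (e x').support,
        𝒜 i ⊗ₜ[k] (e x' i) = (t i • 𝒜 i) ⊗ₜ[k] (1 : K) := by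
      intro i _
      rw [← ht i, Algebra.algebraMap_eq_smul_one, TensorProduct.tmul_smul,
        TensorProduct.smul_tmul']
    have hx'eq : x' = (∑ i ∈ (e x').support, t i • 𝒜 i) ⊗ₜ[k] (1 : K) := by
      rw [TensorProduct.sum_tmul, ← Finset.sum_congr rfl hterm]
      conv_lhs => rw [hxe, equivFinsuppOfBasisLeft_symm_apply, Finsupp.sum]
    apply hx'J
    rw [hx'eq]
    apply hgen
    rw [← hx'eq]
    exact hx'I
  · push Not at hcen
    obtain ⟨d, i₁, hne⟩ := hcen
    obtain ⟨y, hyI, hyJ, hyc⟩ := hy d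
    obtain ⟨u, hu⟩ : ∃ u, u = d * e x' i₁ - e x' i₁ * d := ⟨_, rfl⟩
    have hu0 : u ≠ 0 := by
      rw [hu]
      exact sub_ne_zero.2 hne
    have hi₁ : i₁ ∈ (e x').support := by
      rw [Finsupp.mem_support_iff]
      intro h0
      apply hu0
      rw [hu, h0, mul_zero, zero_mul, sub_self]
    obtain ⟨z, hz⟩ : ∃ z, z = ((1 : A) ⊗ₜ[k] (e x' i₁ * u⁻¹)) * y := ⟨_, rfl⟩
    have hzJ : z ∈ J := by
      rw [hz]
      exact J.mul_mem_left _ _ hyJ
    have hzc : ∀ j, e z j = e x' i₁ * u⁻¹ * (d * e x' j - e x' j * d) := by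
      intro j
      rw [hz, he, coord_mul_left, ← he, hyc]
    have hwI : x' - z ∈ I := I.sub_mem hx'I (hJI hzJ)
    have hws : (e (x' - z)).support ⊆ (e x').support.erase i₁ := by
      intro j hj
      rw [Finsupp.mem_support_iff, map_sub, Finsupp.sub_apply, hzc] at hj
      rw [Finset.mem_erase, Finsupp.mem_support_iff]
      refine ⟨?_, ?_⟩
      · intro hji
        apply hj
        rw [hji, ← hu, mul_assoc, inv_mul_cancel₀ hu0, mul_one, sub_self]
      · intro h0
        apply hj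
        rw [h0, mul_zero, zero_mul, sub_self, mul_zero, sub_self]
    have hwJ : x' - z ∈ J := by
      apply hmin _ hwI
      calc (e (x' - z)).support.card ≤ ((e x').support.erase i₁).card := Finset.card_le_card hws
        _ < (e x').support.card := Finset.card_erase_lt_of_mem hi₁
        _ = Nat.find hP := hcard'
    apply hx'J
    have : x' = (x' - z) + z := by abel
    rw [this]
    exact J.add_mem hwJ hzJ

end Groth.Agent.Helper4
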