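import Mathlib.RingTheory.SimpleModule.WedderburnArtin
import Mathlib.RingTheory.SimpleModule.Isotypic
import Mathlib.LinearAlgebra.Dimension.Constructions
import Mathlib.LinearAlgebra.FiniteDimensional.Basic
import Mathlib.Tactic

/-!
# Modules over a finite-dimensional simple algebra are classified by their dimension
-/

namespace Groth.Agent.Helper4

universe u v w

/-- Over a simple Artinian `k`-algebra `R`, two `R`-modules which are finite-dimensional over `k`
of the same dimension are isomorphic. -/
theorem nonempty_linearEquiv_of_finrank_eq (k : Type*) [Field k] (R : Type u) [Ring R] [Algebra k R]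
    [IsSimpleRing R] [FiniteDimensional k R]
    (M : Type v) [AddCommGroup M] [Module R M] [Module k M] [IsScalarTower k R M]
    (N : Type w) [AddCommGroup N] [Module R N] [Module k N] [IsScalarTower k R N]
    [FiniteDimensional k M] [FiniteDimensional k N]
    (h : Module.finrank k M = Module.finrank k N) : Nonempty (M ≃ₗ[R] N) := by
  classical
  have : IsArtinianRing R := IsArtinianRing.of_finite k R
  obtain ⟨I₀, hI₀⟩ := IsAtomic.exists_atom (Ideal R)
  rw [← isSimpleModule_iff_isAtom] at hI₀
  have hisoM : IsIsotypicOfType R M I₀ := by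
    intro m _
    obtain ⟨I, ⟨e⟩⟩ := IsSemisimpleRing.exists_linearEquiv_ideal_of_isSimpleModule R m
    have := IsSimpleModule.congr e.symm
    exact ⟨e.trans ((IsSimpleRing.isIsotypic R R) I₀ I).some⟩
  have hisoN : IsIsotypicOfType R N I₀ := by
    intro m _
    obtain ⟨I, ⟨e⟩⟩ := IsSemisimpleRing.exists_linearEquiv_ideal_of_isSimpleModule R m
    have := IsSimpleModule.congr e.symm
    exact ⟨e.trans ((IsSimpleRing.isIsotypic R R) I₀ I).some⟩
  have : Module.Finite R M := Module.Finite.of_restrictScalars_finite k R M
  have : Module.Finite R N := Module.Finite.of_restrictScalars_finite k R N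
  obtain ⟨n, ⟨eM⟩⟩ := hisoM.linearEquiv_fun
  obtain ⟨m, ⟨eN⟩⟩ := hisoN.linearEquiv_fun
  have hM : Module.finrank k M = n * Module.finrank k I₀ := by
    rw [LinearEquiv.finrank_eq (eM.restrictScalars k), Module.finrank_pi_fintype]
    simp
  have hN : Module.finrank k N = m * Module.finrank k I₀ := by
    rw [LinearEquiv.finrank_eq (eN.restrictScalars k), Module.finrank_pi_fintype]
    simp
  by_cases h0 : Module.finrank k I₀ = 0
  · -- then M and N are both trivial
    rw [h0, mul_zero] at hM hN
    have : Subsingleton M := Module.finrank_zero_iff.1 hM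
    have : Subsingleton N := Module.finrank_zero_iff.1 hN
    exact ⟨LinearEquiv.ofSubsingleton M N⟩
  · have hnm : n = m := by
      rw [hM, hN] at h
      exact Nat.eq_of_mul_eq_mul_right (Nat.pos_of_ne_zero h0) h
    subst hnm
    exact ⟨eM.trans eN.symm⟩

end Groth.Agent.Helper4
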