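import Groth.Agent.Lib.Helper4.CSA
import Groth.Agent.Lib.Helper4.SimpleModules
import Mathlib.Algebra.Algebra.Bilinear
import Mathlib.Algebra.Algebra.Opposite
import Mathlib.RingTheory.Flat.Basic

/-!
# The bimodule structure on `A` twisted by an algebra map `f : B → A`, as a module over
`B ⊗ Aᵐᵒᵖ`; Skolem–Noether.
-/

namespace Groth.Agent.Helper4

open TensorProduct MulOpposite

section
variable {k A B : Type*} [Field k] [Ring A] [Algebra k A] [Ring B] [Algebra k B]

/-- `b ⊗ op a ↦ (x ↦ f b * x * a)` as an algebra map into `End_k(A)`. -/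
noncomputable def twistHom (f : B →ₐ[k] A) : B ⊗[k] Aᵐᵒᵖ →ₐ[k] Module.End k A :=
  Algebra.TensorProduct.lift ((Algebra.lmul k A).comp f) (Algebra.lsmul k k A)
    (fun b a => by
      rw [commute_iff_eq]
      ext x
      simp [mul_assoc])

lemma twistHom_tmul (f : B →ₐ[k] A) (b : B) (a : Aᵐᵒᵖ) (x : A) :
    twistHom f (b ⊗ₜ[k] a) x = f b * (x * a.unop) := by
  rw [twistHom, Algebra.TensorProduct.lift_tmul, Module.End.mul_apply, Algebra.lsmul_apply,
    AlgHom.comp_apply]
  simp [MulOpposite.smul_eq_mul_unop]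

/-- The type `A` with the `B ⊗ Aᵐᵒᵖ`-module structure twisted by `f`. -/
@[nolint unusedArguments]
def Tw (_f : B →ₐ[k] A) : Type _ := A

noncomputable instance (f : B →ₐ[k] A) : AddCommGroup (Tw f) := inferInstanceAs (AddCommGroup A)
noncomputable instance (f : B →ₐ[k] A) : Module k (Tw f) := inferInstanceAs (Module k A)
noncomputable instance (f : B →ₐ[k] A) : Module (B ⊗[k] Aᵐᵒᵖ) (Tw f) :=
  Module.compHom A (twistHom f).toRingHom

lemma Tw.smul_def (f : B →ₐ[k] A) (r : B ⊗[k] Aᵐᵒᵖ) (x : Tw f) :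
    r • x = (twistHom f r) (x : A) := rfl

instance (f : B →ₐ[k] A) : IsScalarTower k (B ⊗[k] Aᵐᵒᵖ) (Tw f) where
  smul_assoc c r x := by
    change (twistHom f (c • r)) (x : A) = c • ((twistHom f r) (x : A))
    rw [map_smul]
    rfl

instance (f : B →ₐ[k] A) [FiniteDimensional k A] : FiniteDimensional k (Tw f) :=
  inferInstanceAs (FiniteDimensional k A)

/-- the identity `A → Tw f` -/
def Tw.of (f : B →ₐ[k] A) (x : A) : Tw f := x
/-- the identity `Tw f → A` -/
def Tw.val {f : B →ₐ[k] A} (x : Tw f) : A := x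

lemma Tw.tmul_smul (f : B →ₐ[k] A) (b : B) (a : Aᵐᵒᵖ) (x : Tw f) :
    ((b ⊗ₜ[k] a) • x).val = f b * (x.val * a.unop) :=
  twistHom_tmul f b a x

end

/-- The tensor product of a simple algebra with a central simple algebra is simple. -/
theorem isSimpleRing_tensorProduct (k : Type*) [Field k] (B : Type*) [Ring B] [Algebra k B]
    [IsSimpleRing B] (A : Type*) [Ring A] [Algebra k A] [Algebra.IsCentral k A] [IsSimpleRing A] :
    IsSimpleRing (B ⊗[k] A) := by
  have hinj' : Function.Injective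
      (Algebra.TensorProduct.includeLeft : B →ₐ[k] B ⊗[k] A) :=
    Algebra.TensorProduct.includeLeft_injective (algebraMap k A).injective
  have : Nontrivial (B ⊗[k] A) := hinj'.nontrivial
  apply IsSimpleRing.of_eq_bot_or_eq_top
  intro I
  by_cases hI : I = ⊥
  · exact Or.inl hI
  right
  obtain ⟨a, ha, haI⟩ := exists_tmul_one_mem_of_ne_bot I hI
  let J : TwoSidedIdeal B :=
    I.comap (Algebra.TensorProduct.includeLeft : B →ₐ[k] B ⊗[k] A).toRingHom
  have hJ : (1 : B) ∈ J := IsSimpleRing.one_mem_of_ne_zero_mem J ha (by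
    rw [TwoSidedIdeal.mem_comap]; exact haI)
  rw [TwoSidedIdeal.mem_comap] at hJ
  apply (TwoSidedIdeal.one_mem_iff I).1
  rw [Algebra.TensorProduct.one_def]
  exact hJ

/-- **Skolem–Noether.** -/
theorem skolem_noether (k : Type*) [Field k] (A : Type*) [Ring A] [Algebra k A]
    [Algebra.IsCentral k A] [IsSimpleRing A] [FiniteDimensional k A]
    (B : Type*) [Ring B] [Algebra k B] [IsSimpleRing B] (f g : B →ₐ[k] A) :
    ∃ x : Aˣ, ∀ b : B, f b = (x : A) * g b * (x⁻¹ : Aˣ) := by
  have hinj : Function.Injective f := (f : B →+* A).injective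
  have : FiniteDimensional k B := FiniteDimensional.of_injective f.toLinearMap hinj
  have : IsSimpleRing (B ⊗[k] Aᵐᵒᵖ) := isSimpleRing_tensorProduct k B Aᵐᵒᵖ
  have hfr : Module.finrank k (Tw f) = Module.finrank k (Tw g) := rfl
  obtain ⟨ψ⟩ := nonempty_linearEquiv_of_finrank_eq k (B ⊗[k] Aᵐᵒᵖ) (Tw f) (Tw g) hfr
  -- the key equivariance
  have hψ : ∀ (b : B) (a : A) (x : Tw f),
      (ψ (Tw.of f (f b * (x.val * a)))).val = g b * ((ψ x).val * a) := by
    intro b a x
    have h1 := ψ.map_smul (b ⊗ₜ[k] op a) x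
    have h3 : (b ⊗ₜ[k] op a) • x = Tw.of f (f b * (x.val * a)) := Tw.tmul_smul f b (op a) x
    rw [← h3, h1]
    exact Tw.tmul_smul g b (op a) (ψ x)
  have hψ' : ∀ (b : B) (a : A) (x : Tw g),
      (ψ.symm (Tw.of g (g b * (x.val * a)))).val = f b * ((ψ.symm x).val * a) := by
    intro b a x
    have h1 := ψ.symm.map_smul (b ⊗ₜ[k] op a) x
    have h3 : (b ⊗ₜ[k] op a) • x = Tw.of g (g b * (x.val * a)) := Tw.tmul_smul g b (op a) x
    rw [← h3, h1]
    exact Tw.tmul_smul f b (op a) (ψ.symm x)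
  set u : A := (ψ (Tw.of f 1)).val with hu
  set v : A := (ψ.symm (Tw.of g 1)).val with hv
  -- ψ x = u * x
  have hψu : ∀ x : A, (ψ (Tw.of f x)).val = u * x := by
    intro x
    have h := hψ 1 x (Tw.of f 1)
    rw [map_one, map_one, one_mul, one_mul] at h
    have e : (Tw.of f 1).val * x = x := one_mul x
    rw [e] at h
    exact h
  have hψv : ∀ x : A, (ψ.symm (Tw.of g x)).val = v * x := by
    intro x
    have h := hψ' 1 x (Tw.of g 1)
    rw [map_one, map_one, one_mul, one_mul] at h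
    have e : (Tw.of g 1).val * x = x := one_mul x
    rw [e] at h
    exact h
  have huv : u * v = 1 := by
    have h1 := hψu v
    have h2 : (ψ (Tw.of f v)) = Tw.of g 1 := by
      change ψ (ψ.symm (Tw.of g 1)) = _
      exact ψ.apply_symm_apply _
    rw [h2] at h1
    exact h1.symm
  have hvu : v * u = 1 := by
    have h1 := hψv u
    have h2 : (ψ.symm (Tw.of g u)) = Tw.of f 1 := by
      change ψ.symm (ψ (Tw.of f 1)) = _
      exact ψ.symm_apply_apply _
    rw [h2] at h1
    exact h1.symm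
  -- u * f b = g b * u
  have hcomm : ∀ b : B, u * f b = g b * u := by
    intro b
    have h1 := hψ b 1 (Tw.of f 1)
    rw [mul_one, mul_one] at h1
    have e : f b * (Tw.of f 1).val = f b := mul_one (f b)
    rw [e] at h1
    rw [← h1, hψu]
  refine ⟨⟨v, u, hvu, huv⟩, fun b => ?_⟩
  change f b = v * g b * u
  rw [mul_assoc, ← hcomm b, ← mul_assoc, hvu, one_mul]

end Groth.Agent.Helper4
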