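import Mathlib

/-!
# Largest open on which a source-local property holds

Generic lemma: for a class `Q` of morphisms of schemes containing open immersions, stable under
composition and base change and consisting of open maps, and a property `P` local at the source for
the precoverage of jointly surjective `Q`-families, every `f : X ⟶ Y` has a largest open `W` with
`P (W.ι ≫ f)` and its formation commutes with pulling back along `Q`-morphisms.
-/

universe u

open CategoryTheory AlgebraicGeometry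

namespace Groth.Agent.Helper4

theorem largestOpen (Q : MorphismProperty Scheme.{u}) [Q.IsStableUnderBaseChange]
    [Q.IsStableUnderComposition]
    (hQ1 : ∀ {A B : Scheme.{u}} (i : A ⟶ B), IsOpenImmersion i → Q i)
    (hQ3 : ∀ {A B : Scheme.{u}} (i : A ⟶ B), Q i → IsOpenMap i.base)
    (P : MorphismProperty Scheme.{u}) [P.IsLocalAtSource (Scheme.precoverage Q)]
    {X Y : Scheme.{u}} (f : X ⟶ Y) :
    ∃ W : X.Opens, (P (W.ι ≫ f) ∧ ∀ W' : X.Opens, P (W'.ι ≫ f) → W' ≤ W) ∧
      ∀ (X' : Scheme.{u}) (g : X' ⟶ X), Q g → ∀ (V : X'.Opens),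
        (P (V.ι ≫ g ≫ f) ∧ ∀ V' : X'.Opens, P (V'.ι ≫ g ≫ f) → V' ≤ V) → V = g ⁻¹ᵁ W := by
  have hpre : ∀ {A B C : Scheme.{u}} (i : A ⟶ B) (k : B ⟶ C), Q i → P k → P (i ≫ k) := by
    intro A B C i k hi hk
    let Ys : Bool → Scheme.{u} := fun b => Bool.rec B A b
    let fs : ∀ b, Ys b ⟶ B := fun b => Bool.rec (motive := fun b => Ys b ⟶ B) (𝟙 B) i b
    have hR : Presieve.ofArrows Ys fs ∈ Scheme.precoverage Q B := by
      rw [Scheme.ofArrows_mem_precoverage_iff]
      refine ⟨fun x => ⟨false, x, rfl⟩, fun b => ?_⟩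
      cases b
      · exact hQ1 (𝟙 B) inferInstance
      · exact hi
    exact MorphismProperty.IsLocalAtSource.comp (P := P) (K := Scheme.precoverage Q) hR (fs true)
      (Presieve.ofArrows.mk true) hk
  let S : Set X.Opens := {W' | P (W'.ι ≫ f)}
  have hWmax : ∀ W' : X.Opens, P (W'.ι ≫ f) → W' ≤ sSup S := fun W' h => le_sSup h
  have hW : P ((sSup S).ι ≫ f) := by
    let Ys : S → Scheme.{u} := fun W' => ((W' : X.Opens) : Scheme.{u})
    let fs : ∀ W' : S, Ys W' ⟶ ((sSup S : X.Opens) : Scheme.{u}) :=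
      fun W' => X.homOfLE (hWmax W'.1 W'.2)
    have hR : Presieve.ofArrows Ys fs ∈
        Scheme.precoverage Q ((sSup S : X.Opens) : Scheme.{u}) := by
      rw [Scheme.ofArrows_mem_precoverage_iff]
      refine ⟨fun x => ?_, fun W' => hQ1 _ inferInstance⟩
      have hx : (sSup S).ι x ∈ sSup S := by
        have h1 : (sSup S).ι x ∈ Set.range (sSup S).ι := Set.mem_range_self x
        rw [Scheme.Opens.range_ι] at h1
        exact h1
      obtain ⟨W', hW'S, hxW'⟩ : ∃ W' : X.Opens, W' ∈ S ∧ (sSup S).ι x ∈ W' :=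
        TopologicalSpace.Opens.mem_sSup.1 hx
      have h2 : (sSup S).ι x ∈ Set.range W'.ι := by
        rw [Scheme.Opens.range_ι]
        exact hxW'
      obtain ⟨y, hy⟩ := h2
      refine ⟨⟨W', hW'S⟩, y, ?_⟩
      apply (sSup S).ι.isOpenEmbedding.injective
      rw [← Scheme.Hom.comp_apply]
      show (X.homOfLE (hWmax W' hW'S) ≫ (sSup S).ι) y = _
      rw [X.homOfLE_ι]
      exact hy
    refine MorphismProperty.IsLocalAtSource.of_forall_comp (P := P)
      (K := Scheme.precoverage Q) hR ?_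
    rintro U' k ⟨W'⟩
    show P (X.homOfLE (hWmax W'.1 W'.2) ≫ (sSup S).ι ≫ f)
    rw [← Category.assoc, X.homOfLE_ι]
    exact W'.2
  refine ⟨sSup S, ⟨hW, hWmax⟩, ?_⟩
  intro X' g hQg V hV
  obtain ⟨hV1, hV2⟩ := hV
  apply le_antisymm
  · let U : X.Opens := ⟨g.base '' (V : Set X'), hQ3 g hQg _ V.2⟩
    have hrange : Set.range (V.ι ≫ g) ⊆ Set.range U.ι := by
      rw [Scheme.Opens.range_ι]
      rintro _ ⟨y, rfl⟩
      rw [Scheme.Hom.comp_apply]
      refine ⟨V.ι y, ?_, rfl⟩
      have h1 : V.ι y ∈ Set.range V.ι := Set.mem_range_self y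
      rw [Scheme.Opens.range_ι] at h1
      exact h1
    let h : (V : Scheme.{u}) ⟶ (U : Scheme.{u}) := IsOpenImmersion.lift U.ι (V.ι ≫ g) hrange
    have hfac : h ≫ U.ι = V.ι ≫ g := IsOpenImmersion.lift_fac _ _ _
    have hQh : Q h := by
      have sq : IsPullback (𝟙 (V : Scheme.{u})) h (V.ι ≫ g) U.ι :=
        IsPullback.of_horiz_isIso_mono ⟨by rw [Category.id_comp, hfac]⟩
      exact Q.of_isPullback sq (Q.comp_mem _ _ (hQ1 V.ι inferInstance) hQg)
    have hsurj : Function.Surjective h.base := by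
      intro u
      have hu : U.ι u ∈ g.base '' (V : Set X') := by
        have h1 : U.ι u ∈ Set.range U.ι := Set.mem_range_self u
        rw [Scheme.Opens.range_ι] at h1
        exact h1
      obtain ⟨v, hvV, hv⟩ := hu
      have h2 : v ∈ Set.range V.ι := by
        rw [Scheme.Opens.range_ι]
        exact hvV
      obtain ⟨v', rfl⟩ := h2
      refine ⟨v', ?_⟩
      apply U.ι.isOpenEmbedding.injective
      rw [← Scheme.Hom.comp_apply, hfac, Scheme.Hom.comp_apply]
      exact hv
    have hR : Presieve.singleton h ∈ Scheme.precoverage Q (U : Scheme.{u}) :=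
      (Scheme.singleton_mem_precoverage_iff Q h).2 ⟨hsurj, hQh⟩
    have hPU : P (U.ι ≫ f) := by
      refine MorphismProperty.IsLocalAtSource.of_forall_comp (P := P)
        (K := Scheme.precoverage Q) hR ?_
      rintro U' k ⟨⟩
      rw [← Category.assoc, hfac, Category.assoc]
      exact hV1
    have hUW : U ≤ sSup S := hWmax U hPU
    intro x hx
    have h3 : g.base x ∈ g.base '' (V : Set X') := Set.mem_image_of_mem _ hx
    exact hUW h3
  · apply hV2
    rw [← Category.assoc, ← morphismRestrict_ι, Category.assoc]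
    exact hpre (g ∣_ (sSup S)) ((sSup S).ι ≫ f)
      (Q.of_isPullback (isPullback_morphismRestrict g (sSup S)).flip hQg) hW

set_option backward.isDefEq.respectTransparency.types false in
theorem largestOpen_etale (P : MorphismProperty Scheme.{u})
    [P.IsLocalAtSource Scheme.etalePrecoverage] {X Y : Scheme.{u}} (f : X ⟶ Y) :
    ∃ W : X.Opens, (P (W.ι ≫ f) ∧ ∀ W' : X.Opens, P (W'.ι ≫ f) → W' ≤ W) ∧
      ∀ (X' : Scheme.{u}) (g : X' ⟶ X) [Etale g] (V : X'.Opens),
        (P (V.ι ≫ g ≫ f) ∧ ∀ V' : X'.Opens, P (V'.ι ≫ g ≫ f) → V' ≤ V) → V = g ⁻¹ᵁ W := by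
  have : P.IsLocalAtSource (Scheme.precoverage @Etale.{u}) :=
    ‹P.IsLocalAtSource Scheme.etalePrecoverage›
  obtain ⟨W, hW, hW2⟩ := largestOpen @Etale.{u}
    (fun i hi => by have := hi; infer_instance)
    (fun i hi => by have : Etale i := hi; exact i.isOpenMap) P f
  exact ⟨W, hW, fun X' g _ V hV => hW2 X' g inferInstance V hV⟩

set_option backward.isDefEq.respectTransparency.types false in
theorem largestOpen_fppf (P : MorphismProperty Scheme.{u})
    [P.IsLocalAtSource Scheme.fppfPrecoverage] {X Y : Scheme.{u}} (f : X ⟶ Y) :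
    ∃ W : X.Opens, (P (W.ι ≫ f) ∧ ∀ W' : X.Opens, P (W'.ι ≫ f) → W' ≤ W) ∧
      ∀ (X' : Scheme.{u}) (g : X' ⟶ X) [Flat g] [LocallyOfFinitePresentation g] (V : X'.Opens),
        (P (V.ι ≫ g ≫ f) ∧ ∀ V' : X'.Opens, P (V'.ι ≫ g ≫ f) → V' ≤ V) → V = g ⁻¹ᵁ W := by
  have : P.IsLocalAtSource
      (Scheme.precoverage (@Flat.{u} ⊓ @LocallyOfFinitePresentation.{u})) :=
    ‹P.IsLocalAtSource Scheme.fppfPrecoverage›
  obtain ⟨W, hW, hW2⟩ := largestOpen (@Flat.{u} ⊓ @LocallyOfFinitePresentation.{u})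
    (fun i hi => by have := hi; exact ⟨inferInstance, inferInstance⟩)
    (fun i hi => by
      have : Flat i := hi.1
      have : LocallyOfFinitePresentation i := hi.2
      exact i.isOpenMap) P f
  exact ⟨W, hW, fun X' g _ _ V hV => hW2 X' g ⟨inferInstance, inferInstance⟩ V hV⟩

end Groth.Agent.Helper4
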