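import Mathlib

/-!
# Left invertibility of maps from finite modules to projective modules (helper4 library)

For `u : M → N` with `M` finite and `N` projective over a ring `A`:
* `key`: if `u ⊗ κ(p)` is injective, some `a ∉ p` has `a • id_M` factoring through `u`.
* `lTensor_injective_of_localized_leftInv`: left invertibility of a localization of `u` gives
  injectivity of `u ⊗ κ` for every algebra `κ` in which the submonoid becomes invertible.
* `localized_leftInv_of_smul`: if `w ∘ u = a • id` with `a ∈ S` then `S⁻¹u` is left invertible.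
* `factorIdeal`, `exists_leftInv_of_forall_maximal`.
-/

set_option autoImplicit false
universe u

open TensorProduct

namespace Groth.Agent.Helper4.LeftInv

section Denoms

variable {A : Type*} [CommRing A] (p : Ideal A) [p.IsPrime]

lemma exists_denom (c : p.ResidueField) :
    ∃ s : A, s ∉ p ∧ ∃ a : A,
      algebraMap A p.ResidueField s * c = algebraMap A p.ResidueField a := by
  obtain ⟨y, rfl⟩ := IsLocalRing.residue_surjective c
  obtain ⟨⟨a, s⟩, rfl⟩ := IsLocalization.mk'_surjective p.primeCompl y
  refine ⟨s, s.2, a, ?_⟩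
  rw [IsScalarTower.algebraMap_apply A (Localization.AtPrime p) p.ResidueField,
    IsScalarTower.algebraMap_apply A (Localization.AtPrime p) p.ResidueField a,
    IsLocalRing.ResidueField.algebraMap_eq, ← map_mul, IsLocalization.mk'_spec']

lemma exists_common_denom {J : Type*} [Finite J] (c : J → p.ResidueField) :
    ∃ s : A, s ∉ p ∧ ∀ j, ∃ a : A,
      algebraMap A p.ResidueField s * c j = algebraMap A p.ResidueField a := by
  classical
  haveI := Fintype.ofFinite J
  choose s hs a ha using fun j => exists_denom p (c j)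
  refine ⟨∏ j, s j, ?_, fun j => ⟨a j * ∏ i ∈ Finset.univ.erase j, s i, ?_⟩⟩
  · have : ∏ j, s j ∈ p.primeCompl := prod_mem (fun j _ => hs j)
    exact this
  · rw [← Finset.mul_prod_erase Finset.univ s (Finset.mem_univ j), map_mul, mul_right_comm, ha j,
      ← map_mul]

end Denoms

section Key

variable {A : Type*} [CommRing A] {M : Type*} [AddCommGroup M] [Module A M] [Module.Finite A M]

theorem key_free {ι : Type*} (u : M →ₗ[A] (ι →₀ A)) (p : Ideal A) [p.IsPrime]
    (hinj : Function.Injective (u.lTensor p.ResidueField)) :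
    ∃ a : A, a ∉ p ∧ ∃ w : (ι →₀ A) →ₗ[A] M, w ∘ₗ u = a • LinearMap.id := by
  classical
  -- Step 1: a basis of the fibre of the form `1 ⊗ x j`
  have hspan : Submodule.span p.ResidueField
      (Set.range (fun m : M => (1 : p.ResidueField) ⊗ₜ[A] m)) = ⊤ := by
    rw [eq_top_iff]
    rintro z -
    induction z using TensorProduct.induction_on with
    | zero => exact zero_mem _
    | tmul c m =>
      have : c ⊗ₜ[A] m = c • ((1 : p.ResidueField) ⊗ₜ[A] m) := by
        rw [TensorProduct.smul_tmul', smul_eq_mul, mul_one]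
      rw [this]
      exact Submodule.smul_mem _ _ (Submodule.subset_span ⟨m, rfl⟩)
    | add z z' h h' => exact add_mem h h'
  obtain ⟨b, hbsub, hbspan, hbli⟩ := exists_linearIndependent p.ResidueField
    (Set.range (fun m : M => (1 : p.ResidueField) ⊗ₜ[A] m))
  rw [hspan] at hbspan
  have hbfin : b.Finite := hbli.setFinite
  haveI : Fintype b := hbfin.fintype
  choose x hx using fun j : b => hbsub j.2
  have hx' : ∀ j : b, (1 : p.ResidueField) ⊗ₜ[A] x j = (j : p.ResidueField ⊗[A] M) := hx
  -- Step 2, 3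
  have hkerbc : LinearMap.ker (u.baseChange p.ResidueField) = ⊥ := by
    rw [LinearMap.ker_eq_bot]
    intro z z' h
    apply hinj
    exact h
  have hli2 : LinearIndependent p.ResidueField
      (fun j : b => (1 : p.ResidueField) ⊗ₜ[A] u (x j)) := by
    have := hbli.map' (u.baseChange p.ResidueField) hkerbc
    have hfun : (fun j : b => (1 : p.ResidueField) ⊗ₜ[A] u (x j)) =
        (u.baseChange p.ResidueField) ∘ ((↑) : b → p.ResidueField ⊗[A] M) := by
      funext j
      rw [Function.comp_apply, ← hx' j, LinearMap.baseChange_tmul]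
    rw [hfun]
    exact this
  have hinj2 := linearIndependent_iff_injective_fintypeLinearCombination.mp hli2
  obtain ⟨Λ, hΛ⟩ := LinearMap.exists_leftInverse_of_injective
    (Fintype.linearCombination p.ResidueField
      (fun j : b => (1 : p.ResidueField) ⊗ₜ[A] u (x j)))
    (LinearMap.ker_eq_bot.mpr hinj2)
  have hΛ1 : ∀ l : b, Λ ((1 : p.ResidueField) ⊗ₜ[A] u (x l)) = Pi.single l 1 := by
    intro l
    have := LinearMap.congr_fun hΛ (Pi.single l 1)
    rw [LinearMap.comp_apply, Fintype.linearCombination_apply_single, one_smul] at this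
    exact this
  -- Step 4: clear denominators on the finitely many coordinates involved
  obtain ⟨T, hT⟩ : ∃ T : Finset ι, ∀ l : b, (u (x l)).support ⊆ T :=
    ⟨Finset.univ.biUnion (fun l : b => (u (x l)).support), fun l =>
      Finset.subset_biUnion_of_mem (fun l : b => (u (x l)).support) (Finset.mem_univ l)⟩
  obtain ⟨s, hs, ha⟩ := exists_common_denom p
    (fun tj : T × b => Λ ((1 : p.ResidueField) ⊗ₜ[A] Finsupp.single (tj.1 : ι) (1 : A)) tj.2)
  choose a ha using ha
  obtain ⟨g, hg⟩ : ∃ g : ι → (b → A), ∀ (t : ι) (ht : t ∈ T) (j : b), g t j = a (⟨t, ht⟩, j) :=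
    ⟨fun t => if ht : t ∈ T then fun j => a (⟨t, ht⟩, j) else 0, fun t ht j => by
      simp only [dif_pos ht]⟩
  obtain ⟨θ, hθ⟩ : ∃ θ : (ι →₀ A) →ₗ[A] (b → A), ∀ t, θ (Finsupp.single t 1) = g t :=
    ⟨Finsupp.linearCombination A g, fun t => by
      rw [Finsupp.linearCombination_single, one_smul]⟩
  -- Step 5
  obtain ⟨P, hP⟩ : ∃ P : (b → A) →ₗ[A] (b → p.ResidueField),
      ∀ f j, P f j = algebraMap A p.ResidueField (f j) :=
    ⟨(Algebra.linearMap A p.ResidueField).compLeft b, fun f j => rfl⟩
  obtain ⟨Ψ₂, hΨ₂⟩ : ∃ Ψ₂ : (ι →₀ A) →ₗ[A] (b → p.ResidueField),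
      ∀ f, Ψ₂ f = algebraMap A p.ResidueField s • Λ ((1 : p.ResidueField) ⊗ₜ[A] f) :=
    ⟨s • ((Λ.restrictScalars A) ∘ₗ TensorProduct.mk A p.ResidueField (ι →₀ A) 1), fun f => by
      rw [LinearMap.smul_apply, algebraMap_smul]
      rfl⟩
  have hEq : ∀ f ∈ Finsupp.supported A A (T : Set ι), P (θ f) = Ψ₂ f := by
    intro f hf
    rw [Finsupp.supported_eq_span_single] at hf
    induction hf using Submodule.span_induction with
    | mem f hf =>
      obtain ⟨t, ht, rfl⟩ := hf
      ext j
      rw [hP, hθ, hg t ht j, hΨ₂, Pi.smul_apply, smul_eq_mul]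
      exact (ha (⟨t, ht⟩, j)).symm
    | zero => rw [map_zero, map_zero, map_zero]
    | add f f' _ _ h h' => rw [map_add, map_add, map_add, h, h']
    | smul r f _ h => rw [map_smul, map_smul, map_smul, h]
  obtain ⟨xt, hxt⟩ : ∃ xt : (b → A) →ₗ[A] M, xt = Fintype.linearCombination A x := ⟨_, rfl⟩
  have hxt1 : ∀ l, xt (Pi.single l 1) = x l := by
    intro l
    rw [hxt, Fintype.linearCombination_apply_single, one_smul]
  obtain ⟨φ, hφ⟩ : ∃ φ : (b → A) →ₗ[A] (b → A), φ = θ ∘ₗ u ∘ₗ xt := ⟨_, rfl⟩
  obtain ⟨Φ, hΦ⟩ : ∃ Φ : Matrix b b A, Φ = LinearMap.toMatrix' φ := ⟨_, rfl⟩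
  have hφΦ : φ = Matrix.toLin' Φ := by rw [hΦ, Matrix.toLin'_toMatrix']
  have hentry : ∀ j l, algebraMap A p.ResidueField (Φ j l) =
      (algebraMap A p.ResidueField s • (1 : Matrix b b p.ResidueField)) j l := by
    intro j l
    have hsupp : u (x l) ∈ Finsupp.supported A A (T : Set ι) := by
      rw [Finsupp.mem_supported]
      exact Finset.coe_subset.mpr (hT l)
    rw [hΦ, LinearMap.toMatrix'_apply, hφ, LinearMap.comp_apply, LinearMap.comp_apply, hxt1 l,
      ← hP, hEq _ hsupp, hΨ₂, hΛ1, Matrix.smul_apply, Matrix.one_apply, Pi.smul_apply,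
      Pi.single_apply]
  have hdet : Φ.det ∉ p := by
    intro hmem
    have h0 : algebraMap A p.ResidueField Φ.det = 0 :=
      Ideal.algebraMap_residueField_eq_zero.mpr hmem
    rw [RingHom.map_det] at h0
    have hM : (algebraMap A p.ResidueField).mapMatrix Φ =
        algebraMap A p.ResidueField s • (1 : Matrix b b p.ResidueField) := by
      ext j l
      exact hentry j l
    rw [hM, Matrix.det_smul, Matrix.det_one, mul_one] at h0
    have hs0 : algebraMap A p.ResidueField s ≠ 0 :=
      fun h => hs (Ideal.algebraMap_residueField_eq_zero.mp h)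
    exact pow_ne_zero _ hs0 h0
  -- Step 6
  obtain ⟨ψ, hψ⟩ : ∃ ψ : (b → A) →ₗ[A] (b → A), ψ ∘ₗ φ = Φ.det • LinearMap.id := by
    refine ⟨Matrix.toLin' (Matrix.adjugate Φ), ?_⟩
    rw [hφΦ, ← Matrix.toLin'_mul, Matrix.adjugate_mul, map_smul, Matrix.toLin'_one]
  -- Step 7
  have hrange : ∀ l : b, x l ∈ LinearMap.range xt := fun l => ⟨Pi.single l 1, hxt1 l⟩
  have hsub : Subsingleton (p.ResidueField ⊗[A] (M ⧸ LinearMap.range xt)) := by
    have hsurj : Function.Surjective ((LinearMap.range xt).mkQ.baseChange p.ResidueField) :=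
      LinearMap.lTensor_surjective _ (Submodule.mkQ_surjective _)
    have hzero : ∀ z, (LinearMap.range xt).mkQ.baseChange p.ResidueField z = 0 := by
      intro z
      have hz : z ∈ Submodule.span p.ResidueField b := by rw [hbspan]; trivial
      induction hz using Submodule.span_induction with
      | mem z hz =>
        have : (1 : p.ResidueField) ⊗ₜ[A] x ⟨z, hz⟩ = z := hx' ⟨z, hz⟩
        rw [← this, LinearMap.baseChange_tmul, Submodule.mkQ_apply,
          (Submodule.Quotient.mk_eq_zero _).mpr (hrange _), tmul_zero]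
      | zero => rw [map_zero]
      | add z z' _ _ h h' => rw [map_add, h, h', add_zero]
      | smul c z _ h => rw [map_smul, h, smul_zero]
    refine ⟨fun q q' => ?_⟩
    obtain ⟨z, rfl⟩ := hsurj q
    obtain ⟨z', rfl⟩ := hsurj q'
    rw [hzero, hzero]
  obtain ⟨s', hs'ann, hs'p⟩ : ∃ s' : A,
      s' ∈ Module.annihilator A (M ⧸ LinearMap.range xt) ∧ s' ∉ p := by
    have hns : (⟨p, inferInstance⟩ : PrimeSpectrum A) ∉
        Module.support A (M ⧸ LinearMap.range xt) := by
      rw [Module.mem_support_iff_nontrivial_residueField_tensorProduct]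
      exact not_nontrivial _
    rw [Module.mem_support_iff_of_finite] at hns
    exact SetLike.not_le_iff_exists.mp hns
  -- Step 8
  refine ⟨Φ.det * s', ?_, s' • (xt ∘ₗ ψ ∘ₗ θ), ?_⟩
  · exact fun h => (Ideal.IsPrime.mem_or_mem inferInstance h).elim hdet hs'p
  · apply LinearMap.ext
    intro m
    have hm : s' • m ∈ LinearMap.range xt := by
      have := Module.mem_annihilator.mp hs'ann (Submodule.Quotient.mk m)
      rwa [← Submodule.Quotient.mk_smul, Submodule.Quotient.mk_eq_zero] at this
    obtain ⟨f, hf⟩ := hm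
    have e1 : s' • xt (ψ (θ (u m))) = xt (ψ (θ (u (s' • m)))) := by simp only [map_smul]
    have e2 : ψ (θ (u (xt f))) = Φ.det • f := by
      have := LinearMap.congr_fun hψ f
      rw [hφ] at this
      simpa using this
    simp only [LinearMap.comp_apply, LinearMap.smul_apply, LinearMap.id_apply]
    rw [e1, ← hf, e2, map_smul, hf, mul_smul]

theorem key {N : Type*} [AddCommGroup N] [Module A N] [Module.Projective A N]
    (u : M →ₗ[A] N) (p : Ideal A) [p.IsPrime]
    (hinj : Function.Injective (u.lTensor p.ResidueField)) :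
    ∃ a : A, a ∉ p ∧ ∃ w : N →ₗ[A] M, w ∘ₗ u = a • LinearMap.id := by
  obtain ⟨i, hi⟩ := Module.projective_def'.mp (inferInstance : Module.Projective A N)
  have hinj' : Function.Injective ((i ∘ₗ u).lTensor p.ResidueField) := by
    rw [LinearMap.lTensor_comp, LinearMap.coe_comp]
    refine Function.Injective.comp ?_ hinj
    apply Function.LeftInverse.injective
      (g := (Finsupp.linearCombination A id).lTensor p.ResidueField)
    intro z
    rw [← LinearMap.comp_apply, ← LinearMap.lTensor_comp, hi, LinearMap.lTensor_id,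
      LinearMap.id_apply]
  obtain ⟨a, ha, w, hw⟩ := key_free (i ∘ₗ u) p hinj'
  exact ⟨a, ha, w ∘ₗ i, by rw [LinearMap.comp_assoc, hw]⟩

end Key

section Loc

variable {A : Type*} [CommRing A] {M N : Type*} [AddCommGroup M] [Module A M]
  [AddCommGroup N] [Module A N]

theorem lTensor_injective_of_localized_leftInv (S : Submonoid A) (κ : Type*) [CommRing κ]
    [Algebra A κ] (hS : ∀ s ∈ S, IsUnit (algebraMap A κ s)) (u : M →ₗ[A] N)
    (w : LocalizedModule S N →ₗ[A] LocalizedModule S M)
    (hw : ∀ y, w (LocalizedModule.map S u y) = y) :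
    Function.Injective (u.lTensor κ) := by
  have hunits : ∀ s : S, IsUnit ((algebraMap A (Module.End A (κ ⊗[A] M))) s) := by
    intro s
    obtain ⟨c, hc⟩ := hS s s.2
    rw [Module.End.isUnit_iff]
    refine Function.bijective_iff_has_inverse.mpr ⟨fun z => (↑c⁻¹ : κ) • z, ?_, ?_⟩
    · intro z
      simp only [Module.algebraMap_end_apply]
      rw [← algebraMap_smul κ (s : A) z, ← hc, smul_smul, Units.inv_mul, one_smul]
    · intro z
      simp only [Module.algebraMap_end_apply]
      rw [← algebraMap_smul κ (s : A), ← hc, smul_smul, Units.mul_inv, one_smul]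
  obtain ⟨L, hL⟩ : ∃ L : LocalizedModule S M →ₗ[A] κ ⊗[A] M,
      ∀ m, L (LocalizedModule.mkLinearMap S M m) = (1 : κ) ⊗ₜ[A] m :=
    ⟨IsLocalizedModule.lift S (LocalizedModule.mkLinearMap S M) (TensorProduct.mk A κ M 1) hunits,
     fun m => IsLocalizedModule.lift_apply S _ _ hunits m⟩
  obtain ⟨W, hWdef⟩ : ∃ W : N →ₗ[A] κ ⊗[A] M,
      ∀ n, W n = L (w (LocalizedModule.mkLinearMap S N n)) :=
    ⟨L ∘ₗ w ∘ₗ LocalizedModule.mkLinearMap S N, fun n => rfl⟩
  have hW : ∀ m, W (u m) = (1 : κ) ⊗ₜ[A] m := by
    intro m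
    rw [hWdef]
    have : LocalizedModule.mkLinearMap S N (u m) =
        LocalizedModule.map S u (LocalizedModule.mkLinearMap S M m) := by
      rw [LocalizedModule.mkLinearMap_apply, LocalizedModule.mkLinearMap_apply,
        LocalizedModule.map_mk]
    rw [this, hw, hL]
  apply Function.LeftInverse.injective (g := LinearMap.liftBaseChange κ W)
  intro z
  induction z using TensorProduct.induction_on with
  | zero => simp
  | tmul c m =>
    rw [LinearMap.lTensor_tmul, LinearMap.liftBaseChange_tmul, hW, TensorProduct.smul_tmul',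
      smul_eq_mul, mul_one]
  | add z z' h h' => rw [map_add, map_add, h, h']

theorem localized_leftInv_of_smul (S : Submonoid A) (u : M →ₗ[A] N) (a : A) (ha : a ∈ S)
    (w : N →ₗ[A] M) (hw : w ∘ₗ u = a • LinearMap.id) :
    ∃ w' : LocalizedModule S N →ₗ[A] LocalizedModule S M,
      ∀ y, w' (LocalizedModule.map S u y) = y := by
  refine ⟨((LinearMap.lsmul (Localization S) (LocalizedModule S M)
    (Localization.mk 1 ⟨a, ha⟩)).restrictScalars A) ∘ₗ
      (LocalizedModule.map S w).restrictScalars A, ?_⟩
  intro y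
  induction y using LocalizedModule.induction_on with
  | h m t =>
    have h1 : w (u m) = a • m := by
      have := LinearMap.congr_fun hw m
      simpa using this
    simp only [LinearMap.comp_apply, LinearMap.restrictScalars_apply, LocalizedModule.map_mk,
      LinearMap.lsmul_apply]
    rw [h1, LocalizedModule.mk_smul_mk, one_smul]
    exact LocalizedModule.mk_cancel_common_left ⟨a, ha⟩ t m

/-- The ideal of scalars `a` such that `a • id_M` factors through `u`. -/
def factorIdeal (u : M →ₗ[A] N) : Ideal A where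
  carrier := {a | ∃ w : N →ₗ[A] M, w ∘ₗ u = a • LinearMap.id}
  add_mem' := by
    rintro a b ⟨w, hw⟩ ⟨w', hw'⟩
    exact ⟨w + w', by rw [LinearMap.add_comp, hw, hw', add_smul]⟩
  zero_mem' := ⟨0, by rw [LinearMap.zero_comp, zero_smul]⟩
  smul_mem' := by
    rintro c a ⟨w, hw⟩
    exact ⟨c • w, by rw [LinearMap.smul_comp, hw, smul_smul, smul_eq_mul]⟩

lemma mem_factorIdeal (u : M →ₗ[A] N) (a : A) :
    a ∈ factorIdeal u ↔ ∃ w : N →ₗ[A] M, w ∘ₗ u = a • LinearMap.id := Iff.rfl

lemma factorIdeal_eq_top_iff (u : M →ₗ[A] N) :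
    factorIdeal u = ⊤ ↔ ∃ w : N →ₗ[A] M, w ∘ₗ u = LinearMap.id := by
  rw [Ideal.eq_top_iff_one, mem_factorIdeal]
  constructor
  · rintro ⟨w, hw⟩
    exact ⟨w, by rw [hw, one_smul]⟩
  · rintro ⟨w, hw⟩
    exact ⟨w, by rw [hw, one_smul]⟩

variable [Module.Finite A M] [Module.Projective A N]

theorem exists_leftInv_of_forall_maximal (u : M →ₗ[A] N)
    (h : ∀ (m : Ideal A) [m.IsMaximal], Function.Injective (u.lTensor m.ResidueField)) :
    ∃ w : N →ₗ[A] M, w ∘ₗ u = LinearMap.id := by
  rw [← factorIdeal_eq_top_iff]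
  by_contra hne
  obtain ⟨m, hm, hle⟩ := Ideal.exists_le_maximal _ hne
  obtain ⟨a, ha, w, hw⟩ := key u m (h m)
  exact ha (hle ⟨w, hw⟩)

/-- Left invertibility after localization at a prime is equivalent to the factor ideal not
being contained in the prime. -/
theorem localized_leftInv_iff (u : M →ₗ[A] N) (p : Ideal A) [p.IsPrime] :
    (∃ w : LocalizedModule p.primeCompl N →ₗ[A] LocalizedModule p.primeCompl M,
      ∀ y, w (LocalizedModule.map p.primeCompl u y) = y) ↔ ¬ factorIdeal u ≤ p := by
  constructor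
  · rintro ⟨w, hw⟩ hle
    have hinj := lTensor_injective_of_localized_leftInv p.primeCompl p.ResidueField
      (fun s hs => IsUnit.mk0 _ (fun h => hs (Ideal.algebraMap_residueField_eq_zero.mp h)))
      u w hw
    obtain ⟨a, ha, w', hw'⟩ := key u p hinj
    exact ha (hle ⟨w', hw'⟩)
  · intro hle
    obtain ⟨a, ⟨w, hw⟩, ha⟩ := SetLike.not_le_iff_exists.mp hle
    exact localized_leftInv_of_smul p.primeCompl u a ha w hw

theorem exists_leftInv_of_faithfullyFlat (u : M →ₗ[A] N) (A' : Type*) [CommRing A']
    [Algebra A A'] [Module.FaithfullyFlat A A']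
    (w : A' ⊗[A] N →ₗ[A'] A' ⊗[A] M) (hw : w ∘ₗ u.baseChange A' = LinearMap.id) :
    ∃ w₀ : N →ₗ[A] M, w₀ ∘ₗ u = LinearMap.id := by
  apply exists_leftInv_of_forall_maximal
  intro m _
  rw [← Module.FaithfullyFlat.lTensor_injective_iff_injective A A']
  have hnat : ∀ z, TensorProduct.leftComm A A' m.ResidueField N
      ((u.lTensor m.ResidueField).lTensor A' z) =
      (u.lTensor A').lTensor m.ResidueField (TensorProduct.leftComm A A' m.ResidueField M z) := by
    intro z
    induction z using TensorProduct.induction_on with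
    | zero => simp
    | tmul a' y =>
      induction y using TensorProduct.induction_on with
      | zero => simp
      | tmul c x => simp
      | add y y' h h' => simp only [tmul_add, map_add, h, h']
    | add z z' h h' => simp only [map_add, h, h']
  have hw' : (w.restrictScalars A) ∘ₗ u.lTensor A' = LinearMap.id := by
    apply LinearMap.ext
    intro y
    exact LinearMap.congr_fun hw y
  have hinj2 : Function.Injective ((u.lTensor A').lTensor m.ResidueField) := by
    apply Function.LeftInverse.injective (g := (w.restrictScalars A).lTensor m.ResidueField)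
    intro z
    rw [← LinearMap.comp_apply, ← LinearMap.lTensor_comp, hw', LinearMap.lTensor_id,
      LinearMap.id_apply]
  intro z z' hzz
  apply (TensorProduct.leftComm A A' m.ResidueField M).injective
  apply hinj2
  rw [← hnat, ← hnat, hzz]

end Loc

end Groth.Agent.Helper4.LeftInv
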