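import Mathlib
import Groth.Prelude.Def_FlatMod2
import Groth.Agent.Lead.FinType
import Groth.Agent.Lead.QCoh2

/-!
# Local lifting of morphisms out of finite locally free modules along epimorphisms
-/

set_option autoImplicit false
set_option linter.style.haveILetI false

universe u

open CategoryTheory CategoryTheory.Limits AlgebraicGeometry Opposite TopologicalSpace
open Groth.Agent.Lead.QCoh Groth.Agent.Lead.FinType Groth.Agent.Lead.EpiStalk

namespace Groth.Agent.Helper4.LocLift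

variable {Y : Scheme.{u}}

/-- Two morphisms out of the structure module agreeing on the global section `1` are equal. -/
theorem unit_hom_ext {N : Y.Modules} (α β : unitM Y ⟶ N)
    (h : α.app ⊤ (toUnit ⊤ 1) = β.app ⊤ (toUnit ⊤ 1)) : α = β := by
  apply Scheme.Modules.hom_ext
  intro W
  ext t
  have key : ∀ γ : unitM Y ⟶ N, γ.app W t = (ofUnit W t) •
      N.presheaf.map (homOfLE (le_top : W ≤ ⊤)).op (γ.app ⊤ (toUnit ⊤ 1)) := by
    intro γ
    have h1 : t = (ofUnit W t) • toUnit W (1 : Γ(Y, W)) := by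
      have h0 : toUnit W (ofUnit W t) = (ofUnit W t) • toUnit W (1 : Γ(Y, W)) := by
        change ofUnit W t = ofUnit W t * 1
        rw [mul_one]
      exact h0
    have h2 : toUnit W (1 : Γ(Y, W)) =
        (unitM Y).presheaf.map (homOfLE (le_top : W ≤ ⊤)).op (toUnit ⊤ 1) := by
      change (1 : Γ(Y, W)) = Y.presheaf.map (homOfLE (le_top : W ≤ ⊤)).op 1
      rw [map_one]
    conv_lhs => rw [h1]
    rw [Scheme.Modules.Hom.app_smul, h2, app_naturality]
  rw [key α, key β, h]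

/-- The morphism from the structure module determined by a global section. -/
noncomputable def ofSection (N : Y.Modules) (m : Γ(N, ⊤)) : unitM Y ⟶ N :=
  N.unitHomEquiv.symm (PresheafOfModules.sectionsMk
    (fun W => (N.presheaf.map (homOfLE (le_top : W.unop ≤ ⊤)).op m : Γ(N, W.unop)))
    (by
      intro W W' f
      change N.presheaf.map f (N.presheaf.map (homOfLE (le_top : W.unop ≤ ⊤)).op m) =
        N.presheaf.map (homOfLE (le_top : W'.unop ≤ ⊤)).op m
      rw [← ConcreteCategory.comp_apply, ← Functor.map_comp]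
      rfl))

theorem ofSection_app (N : Y.Modules) (m : Γ(N, ⊤)) :
    (ofSection N m).app ⊤ (toUnit ⊤ 1) = m := by
  have h1 : (N.unitHomEquiv (ofSection N m)).val (op ⊤) =
      N.presheaf.map (homOfLE (le_top : (⊤ : Y.Opens) ≤ ⊤)).op m := by
    unfold ofSection
    rw [Equiv.apply_symm_apply]
    rfl
  have h2 : N.presheaf.map (homOfLE (le_top : (⊤ : Y.Opens) ≤ ⊤)).op m = m := by
    rw [show homOfLE (le_top : (⊤ : Y.Opens) ≤ ⊤) = 𝟙 _ from rfl, op_id, N.presheaf.map_id]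
    rfl
  refine Eq.trans ?_ (h1.trans h2)
  rfl

variable {V₀ : Scheme.{u}} (j : V₀ ⟶ Y) [IsOpenImmersion j]

theorem exists_lift_of_free {E G F : Y.Modules} (p : G ⟶ F) (φ : E ⟶ F) (n : ℕ)
    (e : E ≅ FlatMod.freeMod Y n)
    (g : Fin n → Γ(G, j ''ᵁ ⊤))
    (hg : ∀ i, p.app (j ''ᵁ ⊤) (g i) = F.presheaf.map (homOfLE (le_top : j ''ᵁ ⊤ ≤ ⊤)).op
        ((Sigma.ι (fun _ : Fin n => Coh.structureModule Y) i ≫ e.inv ≫ φ).app ⊤ (toUnit ⊤ 1))) :
    ∃ ψ : (Scheme.Modules.restrictFunctor j).obj E ⟶ (Scheme.Modules.restrictFunctor j).obj G,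
      ψ ≫ (Scheme.Modules.restrictFunctor j).map p = (Scheme.Modules.restrictFunctor j).map φ := by
  let adj := Scheme.Modules.restrictAdjunction j
  have hle : j ''ᵁ (j ⁻¹ᵁ ⊤) ≤ j ''ᵁ ⊤ := j.image_mono le_top
  let a : Fin n → (Coh.structureModule Y ⟶
      (Scheme.Modules.pushforward j).obj ((Scheme.Modules.restrictFunctor j).obj G)) := fun i =>
    ofSection ((Scheme.Modules.pushforward j).obj ((Scheme.Modules.restrictFunctor j).obj G))
      (G.presheaf.map (homOfLE hle).op (g i))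
  let ψt : E ⟶ (Scheme.Modules.pushforward j).obj ((Scheme.Modules.restrictFunctor j).obj G) :=
    e.hom ≫ Sigma.desc a
  refine ⟨(adj.homEquiv E ((Scheme.Modules.restrictFunctor j).obj G)).symm ψt, ?_⟩
  apply (adj.homEquiv E ((Scheme.Modules.restrictFunctor j).obj F)).injective
  rw [Adjunction.homEquiv_naturality_right, Equiv.apply_symm_apply, Adjunction.homEquiv_unit]
  have hnat : adj.unit.app E ≫ (Scheme.Modules.pushforward j).map
      ((Scheme.Modules.restrictFunctor j).map φ) = φ ≫ adj.unit.app F :=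
    (adj.unit.naturality φ).symm
  rw [hnat]
  rw [← cancel_epi e.inv]
  have h3 : e.inv ≫ ψt = Sigma.desc a := by
    simp only [ψt, Iso.inv_hom_id_assoc]
  rw [← Category.assoc, h3]
  apply Sigma.hom_ext
  intro i
  rw [← Category.assoc, Sigma.ι_desc]
  apply unit_hom_ext
  rw [Scheme.Modules.Hom.comp_app, ConcreteCategory.comp_apply, ofSection_app]
  have h4 : (Sigma.ι (fun _ : Fin n => Coh.structureModule Y) i ≫ e.inv ≫ φ ≫ adj.unit.app F) =
      (Sigma.ι (fun _ : Fin n => Coh.structureModule Y) i ≫ e.inv ≫ φ) ≫ adj.unit.app F := by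
    simp only [Category.assoc]
  rw [h4, Scheme.Modules.Hom.comp_app, ConcreteCategory.comp_apply]
  change p.app (j ''ᵁ (j ⁻¹ᵁ ⊤)) (G.presheaf.map (homOfLE hle).op (g i)) =
    F.presheaf.map (homOfLE (j.image_preimage_le ⊤)).op _
  rw [app_naturality, hg i, ← ConcreteCategory.comp_apply, ← Functor.map_comp]
  rfl

theorem main {X : Scheme.{u}} {E F G : X.Modules} (p : G ⟶ F) [Epi p] (φ : E ⟶ F)
    (hE : FlatMod.IsFinLocFree E) (x : X) :
    ∃ (V : X.Opens) (ψ : E.restrict V.ι ⟶ G.restrict V.ι), x ∈ V ∧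
      ψ ≫ (Scheme.Modules.restrictFunctor V.ι).map p =
        (Scheme.Modules.restrictFunctor V.ι).map φ := by
  obtain ⟨U, n, hxU, ⟨e⟩⟩ := hE x
  let f : Fin n → Γ(F, U.ι ''ᵁ ⊤) := fun i =>
    (Sigma.ι (fun _ : Fin n => Coh.structureModule (U : Scheme.{u})) i ≫ e.inv ≫
      (Scheme.Modules.restrictFunctor U.ι).map φ).app ⊤ (toUnit ⊤ 1)
  have hxU' : x ∈ U.ι ''ᵁ ⊤ := by rw [U.ι_image_top]; exact hxU
  have hlift : ∀ i, ∃ (W : X.Opens) (hW : W ≤ U.ι ''ᵁ ⊤) (_ : x ∈ W) (s : Γ(G, W)),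
      p.app W s = F.presheaf.map (homOfLE hW).op (f i) :=
    fun i => exists_local_lift_of_epi p (U.ι ''ᵁ ⊤) (f i) x hxU'
  choose W hW hxW s hs using hlift
  let V : X.Opens := U ⊓ ⟨⋂ i, (W i : Set X), isOpen_iInter_of_finite (fun i => (W i).isOpen)⟩
  have hVU : V ≤ U := inf_le_left
  have hVW : ∀ i, V ≤ W i := fun i y hy => Set.mem_iInter.mp hy.2 i
  have hxV : x ∈ V := ⟨hxU, Set.mem_iInter.mpr hxW⟩
  let j : (V : Scheme.{u}) ⟶ (U : Scheme.{u}) := X.homOfLE hVU
  have hj : j ≫ U.ι = V.ι := X.homOfLE_ι hVU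
  have himg : U.ι ''ᵁ (j ''ᵁ ⊤) = V := by
    have h1 : U.ι ''ᵁ (j ''ᵁ ⊤) = (j ≫ U.ι) ''ᵁ ⊤ := (Scheme.Hom.comp_image j U.ι ⊤).symm
    rw [h1]
    have h2 : ∀ (k : (V : Scheme.{u}) ⟶ X) [IsOpenImmersion k], k = V.ι → k ''ᵁ ⊤ = V := by
      intro k _ hk
      subst hk
      exact V.ι_image_top
    exact h2 _ hj
  have hle : ∀ i, U.ι ''ᵁ (j ''ᵁ ⊤) ≤ W i := fun i => himg.le.trans (hVW i)
  let g : Fin n → Γ((Scheme.Modules.restrictFunctor U.ι).obj G, j ''ᵁ ⊤) := fun i =>
    G.presheaf.map (homOfLE (hle i)).op (s i)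
  obtain ⟨ψ₀, hψ₀⟩ := exists_lift_of_free j ((Scheme.Modules.restrictFunctor U.ι).map p)
    ((Scheme.Modules.restrictFunctor U.ι).map φ) n e g (by
      intro i
      change p.app (U.ι ''ᵁ (j ''ᵁ ⊤)) (G.presheaf.map (homOfLE (hle i)).op (s i)) =
        F.presheaf.map (homOfLE (U.ι.image_mono (le_top : j ''ᵁ ⊤ ≤ ⊤))).op (f i)
      rw [app_naturality, hs i, ← ConcreteCategory.comp_apply, ← Functor.map_comp]
      rfl)
  let iso := Scheme.Modules.restrictFunctorCongr hj.symm ≪≫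
    Scheme.Modules.restrictFunctorComp j U.ι
  refine ⟨V, iso.hom.app E ≫ ψ₀ ≫ iso.inv.app G, hxV, ?_⟩
  have hnat1 : iso.inv.app G ≫ (Scheme.Modules.restrictFunctor V.ι).map p =
      (Scheme.Modules.restrictFunctor j).map ((Scheme.Modules.restrictFunctor U.ι).map p) ≫
        iso.inv.app F := (iso.inv.naturality p).symm
  have hnat2 : iso.hom.app E ≫
      (Scheme.Modules.restrictFunctor j).map ((Scheme.Modules.restrictFunctor U.ι).map φ) =
      (Scheme.Modules.restrictFunctor V.ι).map φ ≫ iso.hom.app F := (iso.hom.naturality φ).symm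
  rw [Category.assoc, Category.assoc, hnat1, ← Category.assoc ψ₀, hψ₀, ← Category.assoc, hnat2,
    Category.assoc, Iso.hom_inv_id_app, Category.comp_id]

end Groth.Agent.Helper4.LocLift
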