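import Groth.Agent.Lib.Helper4.Centralizer

/-!
# Maximal commutative subalgebras of division algebras
-/

namespace Groth.Agent.Helper4

open TensorProduct

/-- A subalgebra of a finite-dimensional division algebra is a simple ring. -/
theorem isSimpleRing_subalgebra_divisionRing (k : Type*) [Field k] (D : Type*) [DivisionRing D]
    [Algebra k D] [FiniteDimensional k D] (L : Subalgebra k D) : IsSimpleRing L := by
  apply IsSimpleRing.of_eq_bot_or_eq_top
  intro I
  by_cases hI : I = ⊥
  · exact Or.inl hI
  right
  have : ∃ x ∈ I, x ≠ 0 := by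
    by_contra hcon
    push Not at hcon
    apply hI
    rw [eq_bot_iff]
    intro x hx
    rw [TwoSidedIdeal.mem_bot]
    exact hcon x hx
  obtain ⟨x, hxI, hx0⟩ := this
  obtain ⟨y, hy⟩ := FiniteDimensional.exists_mul_eq_one k hx0
  apply (TwoSidedIdeal.one_mem_iff I).1
  rw [← hy]
  exact I.mul_mem_right x y hxI

/-- A maximal commutative subalgebra equals its own centralizer. -/
theorem centralizer_eq_of_maximal_comm (k : Type*) [Field k] (D : Type*) [Ring D] [Algebra k D]
    (L : Subalgebra k D) (hcomm : ∀ x ∈ L, ∀ y ∈ L, x * y = y * x)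
    (hmax : ∀ L' : Subalgebra k D, (∀ x ∈ L', ∀ y ∈ L', x * y = y * x) → L ≤ L' → L' = L) :
    Subalgebra.centralizer k (L : Set D) = L := by
  apply le_antisymm
  · intro x hx
    rw [Subalgebra.mem_centralizer_iff] at hx
    set S : Set D := (L : Set D) ∪ {x} with hS
    have hSS : S ⊆ Subalgebra.centralizer k S := by
      intro s hs
      rw [SetLike.mem_coe, Subalgebra.mem_centralizer_iff]
      intro t ht
      rcases hs with hs | hs <;> rcases ht with ht | ht
      · exact hcomm t ht s hs
      · rw [Set.mem_singleton_iff] at ht; subst ht; exact (hx s hs).symm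
      · rw [Set.mem_singleton_iff] at hs; subst hs; exact hx t ht
      · rw [Set.mem_singleton_iff] at hs ht; rw [hs, ht]
    set L' : Subalgebra k D := Subalgebra.centralizer k (Subalgebra.centralizer k S : Set D)
      with hL'
    have hL'S : L' ≤ Subalgebra.centralizer k S := Subalgebra.centralizer_le k _ _ hSS
    have hSL' : S ⊆ L' := Set.subset_centralizer_centralizer
    have hL'comm : ∀ a ∈ L', ∀ b ∈ L', a * b = b * a := by
      intro a ha b hb
      have hb' := hL'S hb
      rw [hL', Subalgebra.mem_centralizer_iff] at ha
      exact (ha b hb').symm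
    have hLL' : L ≤ L' := fun z hz => hSL' (Or.inl hz)
    have := hmax L' hL'comm hLL'
    rw [← this]
    exact hSL' (Or.inr rfl)
  · intro x hx
    rw [Subalgebra.mem_centralizer_iff]
    intro g hg
    exact hcomm g hg x hx

end Groth.Agent.Helper4
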