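import Mathlib
import Groth.Prelude.Def_MeroDiv
import Groth.Agent.Lib.Helper4.MeroReg
import Groth.Agent.Lib.Helper4.MeroReg2

/-!
# Divisors on an absolute curve

On a Noetherian scheme whose local rings at closed points are one-dimensional, a family of germs of
divisors is a divisor exactly when it is trivial outside a finite set of closed points.
-/

set_option autoImplicit false
set_option linter.style.haveILetI false

universe u

open CategoryTheory AlgebraicGeometry TopologicalSpace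

namespace Groth.Agent.Helper4.MeroCurve

variable {C : Scheme.{u}}

/-! ### Dimension of the local rings -/

lemma enat_aux (a : ℕ∞) (h : a + 1 ≤ 1) : a = 0 := by
  by_contra hne0
  have h5 : 1 ≤ a := Order.one_le_iff_ne_zero.mpr hne0
  have h6 : (1 : ℕ∞) + 1 ≤ a + 1 := by gcongr
  have h7 : (1 : ℕ∞) + 1 ≤ 1 := le_trans h6 h
  exact absurd h7 (by norm_num)

attribute [local instance] specializationOrder in
theorem dim_zero_of_not_closed [CompactSpace C]
    (hC : ∀ x : C, IsClosed ({x} : Set C) → ringKrullDim (C.presheaf.stalk x) = 1)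
    (x : C) (hx : ¬ IsClosed ({x} : Set C)) : ringKrullDim (C.presheaf.stalk x) = 0 := by
  obtain ⟨y, hy, hyc⟩ := (isClosed_closure (s := ({x} : Set C))).exists_closed_singleton
    ⟨x, subset_closure rfl⟩
  have hxy : x ⤳ y := specializes_iff_mem_closure.mpr hy
  have hne : ¬ y ⤳ x := by
    intro h
    have h1 : x ∈ closure ({y} : Set C) := specializes_iff_mem_closure.mp h
    rw [hyc.closure_eq] at h1
    have hxy' : x = y := h1
    exact hx (hxy' ▸ hyc)
  have hlt : y < x := ⟨hxy, hne⟩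
  have h1 := hC y hyc
  rw [ringKrullDim_stalk_eq_coheight] at h1 ⊢
  have h1' : Order.coheight y = 1 := by exact_mod_cast h1
  have h3 := Order.coheight_add_one_le hlt
  rw [h1'] at h3
  rw [enat_aux _ h3]
  rfl

theorem isUnit_of_nzd_of_dim_zero (x : C) (h0 : ringKrullDim (C.presheaf.stalk x) = 0)
    (a : C.presheaf.stalk x) (ha : a ∈ nonZeroDivisors (C.presheaf.stalk x)) : IsUnit a := by
  haveI : Ring.KrullDimLE 0 (C.presheaf.stalk x) := by
    rw [Ring.krullDimLE_iff, h0]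
    rfl
  by_contra hu
  have h3 : IsNilpotent a :=
    Ring.KrullDimLE.isNilpotent_iff_mem_maximalIdeal.mpr ((IsLocalRing.mem_maximalIdeal _).mpr hu)
  obtain ⟨n, hn⟩ := h3
  have h4 := pow_mem ha n
  rw [hn] at h4
  exact nonZeroDivisors.ne_zero h4 rfl

theorem isClosed_of_nonunit_nzd [CompactSpace C]
    (hC : ∀ x : C, IsClosed ({x} : Set C) → ringKrullDim (C.presheaf.stalk x) = 1)
    (y : C) (a : C.presheaf.stalk y) (ha : a ∈ nonZeroDivisors (C.presheaf.stalk y))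
    (hu : ¬ IsUnit a) : IsClosed ({y} : Set C) := by
  by_contra hcl
  exact hu (isUnit_of_nzd_of_dim_zero y (dim_zero_of_not_closed hC y hcl) a ha)

theorem dim_le_one [CompactSpace C]
    (hC : ∀ x : C, IsClosed ({x} : Set C) → ringKrullDim (C.presheaf.stalk x) = 1)
    (y : C) : ringKrullDim (C.presheaf.stalk y) ≤ 1 := by
  by_cases hcl : IsClosed ({y} : Set C)
  · exact (hC y hcl).le
  · rw [dim_zero_of_not_closed hC y hcl]
    exact zero_le_one

/-! ### Finiteness of the zero locus of a regular section -/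

theorem finite_nonunit_affine [IsLocallyNoetherian C] (W : C.Opens) (hW : IsAffineOpen W)
    (hdim : ∀ y ∈ W, ringKrullDim (C.presheaf.stalk y) ≤ 1)
    (f : Γ(C, W)) (hf : f ∈ nonZeroDivisors Γ(C, W)) :
    {y : C | ∃ hy : y ∈ W, ¬ IsUnit (C.presheaf.germ W y hy f)}.Finite := by
  haveI : IsNoetherianRing Γ(C, W) := IsLocallyNoetherian.component_noetherian ⟨W, hW⟩
  have hfin : (Ideal.span ({f} : Set Γ(C, W))).minimalPrimes.Finite :=
    Ideal.finite_minimalPrimes_of_isNoetherianRing _ _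
  have hfin' : {p : PrimeSpectrum Γ(C, W) |
      p.asIdeal ∈ (Ideal.span ({f} : Set Γ(C, W))).minimalPrimes}.Finite :=
    hfin.preimage (f := PrimeSpectrum.asIdeal) (fun p _ q _ h => PrimeSpectrum.ext h)
  refine (hfin'.image (fun p => hW.fromSpec p)).subset ?_
  rintro y ⟨hy, hu⟩
  let y₀ : W := ⟨y, hy⟩
  refine ⟨hW.primeIdealOf y₀, ?_, hW.fromSpec_primeIdealOf y₀⟩
  letI alg : Algebra Γ(C, W) (C.presheaf.stalk y) :=
    TopCat.Presheaf.algebra_section_stalk C.presheaf y₀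
  haveI hloc : IsLocalization.AtPrime (C.presheaf.stalk y) (hW.primeIdealOf y₀).asIdeal :=
    hW.isLocalization_stalk y₀
  obtain ⟨p, hp⟩ : ∃ p : Ideal Γ(C, W), p = (hW.primeIdealOf y₀).asIdeal := ⟨_, rfl⟩
  haveI hpp : p.IsPrime := hp ▸ (hW.primeIdealOf y₀).isPrime
  haveI hloc' : IsLocalization.AtPrime (C.presheaf.stalk y) p := hp ▸ hloc
  have hfp : f ∈ p := by
    by_contra hfp
    exact hu ((IsLocalization.AtPrime.isUnit_to_map_iff (C.presheaf.stalk y) p f).mpr hfp)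
  have hht : p.height ≤ 1 := by
    have h1 := IsLocalization.AtPrime.ringKrullDim_eq_height p (C.presheaf.stalk y)
    have h2 := hdim y hy
    rw [h1] at h2
    exact_mod_cast h2
  show (hW.primeIdealOf y₀).asIdeal ∈ (Ideal.span ({f} : Set Γ(C, W))).minimalPrimes
  rw [← hp]
  refine ⟨⟨hpp, (Ideal.span_singleton_le_iff_mem _).mpr hfp⟩, ?_⟩
  rintro q ⟨hqp, hfq⟩ hqle
  by_contra hnle
  have hlt : q < p := lt_of_le_not_ge hqle hnle
  haveI := hqp
  have h1 : q.height < p.height := Ideal.height_strict_mono_of_isPrime hlt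
  have h2 : q.height = 0 := by
    have h3 : q.height < 1 := lt_of_lt_of_le h1 hht
    exact Order.lt_one_iff.mp h3
  have h3 : q ∈ minimalPrimes Γ(C, W) := Ideal.height_eq_zero_iff.mp h2
  have h4 := Ideal.disjoint_nonZeroDivisors_of_mem_minimalPrimes h3
  exact Set.disjoint_left.mp h4 ((Ideal.span_singleton_le_iff_mem _).mp hfq) hf

theorem nzd_of_regSub (U : C.Opens) (f : Γ(C, U)) (hf : f ∈ Mero.regSub C U) :
    f ∈ nonZeroDivisors Γ(C, U) := by
  rw [mem_nonZeroDivisors_iff_right]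
  intro c hc
  apply TopCat.Presheaf.section_ext C.sheaf U _ _
  intro y hy
  have h1 : C.presheaf.germ U y hy c * C.presheaf.germ U y hy f = 0 := by
    rw [← map_mul, hc, map_zero]
  have h2 : C.presheaf.germ U y hy c = 0 :=
    (mem_nonZeroDivisors_iff_right.mp (hf ⟨y, hy⟩)) _ h1
  change C.presheaf.germ U y hy c = C.presheaf.germ U y hy 0
  rw [h2, map_zero]

theorem exists_nhd_unit [IsNoetherian C]
    (hC : ∀ x : C, IsClosed ({x} : Set C) → ringKrullDim (C.presheaf.stalk x) = 1)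
    (U : C.Opens) (α : Γ(C, U)) (hα : α ∈ Mero.regSub C U) (x : C) (hx : x ∈ U) :
    ∃ V : C.Opens, x ∈ V ∧ V ≤ U ∧
      ∀ (y : C) (hyU : y ∈ U), y ∈ V → y ≠ x → IsUnit (C.presheaf.germ U y hyU α) := by
  obtain ⟨_, ⟨W, hW, rfl⟩, hxW, hWU⟩ :=
    C.isBasis_affineOpens.exists_subset_of_mem_open hx U.isOpen
  have hWU' : W ≤ U := hWU
  obtain ⟨α', hα'⟩ : ∃ α' : Γ(C, W), α' = C.presheaf.map (homOfLE hWU').op α := ⟨_, rfl⟩
  have hα'reg : α' ∈ Mero.regSub C W := hα' ▸ Mero.regSub_res (homOfLE hWU') hα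
  have hfin := finite_nonunit_affine W hW (fun y _ => dim_le_one hC y) α'
    (nzd_of_regSub W α' hα'reg)
  obtain ⟨N, hN⟩ : ∃ N : Set C,
      N = {y : C | ∃ hy : y ∈ W, ¬ IsUnit (C.presheaf.germ W y hy α')} := ⟨_, rfl⟩
  rw [← hN] at hfin
  have hNcl : IsClosed (N \ {x}) := by
    have hfin' : (N \ {x}).Finite := hfin.subset Set.diff_subset
    rw [← Set.biUnion_of_singleton (N \ {x})]
    refine hfin'.isClosed_biUnion ?_
    rintro y ⟨hyN, -⟩
    rw [hN] at hyN
    obtain ⟨hy, hu⟩ := hyN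
    exact isClosed_of_nonunit_nzd hC y _ (hα'reg ⟨y, hy⟩) hu
  refine ⟨W ⊓ ⟨(N \ {x})ᶜ, hNcl.isOpen_compl⟩, ⟨hxW, fun h => h.2 rfl⟩,
    inf_le_left.trans hWU', ?_⟩
  rintro y hyU ⟨hyW, hyN⟩ hyx
  by_contra hu
  apply hyN
  refine ⟨?_, hyx⟩
  rw [hN]
  refine ⟨hyW, ?_⟩
  rw [hα', TopCat.Presheaf.germ_res_apply]
  exact hu

/-! ### Units of the ring of meromorphic functions -/

/-- The inverse of a regular section, as a meromorphic function. -/
noncomputable def invK (U : C.Opens) (b : Mero.regSub C U) : Γ(Mero.kmod C, U) :=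
  ⟨fun x => LocalizedModule.mk 1 (Mero.regGerm x b),
    fun x => ⟨U, x.2, 𝟙 _, 1, b, fun y => Mero.mk_congr (map_one _).symm rfl⟩⟩

theorem toK_mul_invK (U : C.Opens) (b : Mero.regSub C U) :
    Mero.toK C U b.1 * invK U b = 1 := by
  apply Subtype.ext
  funext x
  show (LocalizedModule.mk (C.presheaf.germ U x.1 x.2 b.1) 1 : Mero.KStalk C x.1) *
      LocalizedModule.mk 1 (Mero.regGerm x b) = 1
  refine (LocalizedModule.mk_mul_mk (S := Mero.regStalk C x.1)).trans ?_
  exact (Mero.mk_congr (mul_one _) (one_mul _)).trans (Mero.mk_self_eq_one (Mero.regGerm x b))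

/-- A regular section, as a unit of the ring of meromorphic functions. -/
noncomputable def unitK (U : C.Opens) (b : Mero.regSub C U) : (Γ(Mero.kmod C, U))ˣ :=
  ⟨Mero.toK C U b.1, invK U b, toK_mul_invK U b, by rw [mul_comm]; exact toK_mul_invK U b⟩

theorem unitK_val (U : C.Opens) (b : Mero.regSub C U) (y : C) (hy : y ∈ U) :
    ((Units.map (Mero.evalK C U ⟨y, hy⟩).toMonoidHom (unitK U b) : (Mero.KStalk C y)ˣ) :
        Mero.KStalk C y) =
      algebraMap (C.presheaf.stalk y) (Mero.KStalk C y) (C.presheaf.germ U y hy b.1) := by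
  show (Localization.mk (C.presheaf.germ U y hy b.1) 1 : Localization (Mero.regStalk C y)) = _
  exact Localization.mk_one_eq_algebraMap _

theorem spec_of_units (y : C) (F A B : (Mero.KStalk C y)ˣ) (hF : F = A * B⁻¹) :
    (B : Mero.KStalk C y) * F = A := by
  rw [hF, Units.val_mul, mul_left_comm, Units.mul_inv, mul_one]

theorem frac_spec (V : C.Opens) (α β : Mero.regSub C V) (y : C) (hy : y ∈ V) :
    algebraMap (C.presheaf.stalk y) (Mero.KStalk C y) (C.presheaf.germ V y hy β.1) *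
      ((Units.map (Mero.evalK C V ⟨y, hy⟩).toMonoidHom (unitK V α * (unitK V β)⁻¹) :
        (Mero.KStalk C y)ˣ) : Mero.KStalk C y) =
    algebraMap (C.presheaf.stalk y) (Mero.KStalk C y) (C.presheaf.germ V y hy α.1) := by
  rw [← unitK_val V β y hy, ← unitK_val V α y hy]
  apply spec_of_units
  rw [map_mul, map_inv]

/-! ### Germs of divisors -/

theorem mem_stalkUnits_of_frac (x : C) (u : (Mero.KStalk C x)ˣ) (a s : C.presheaf.stalk x)
    (ha : IsUnit a) (hs : IsUnit s)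
    (h : algebraMap (C.presheaf.stalk x) (Mero.KStalk C x) s * (u : Mero.KStalk C x) =
      algebraMap (C.presheaf.stalk x) (Mero.KStalk C x) a) : u ∈ Mero.stalkUnits C x := by
  refine MonoidHom.mem_range.mpr ⟨ha.unit * hs.unit⁻¹, Units.ext ?_⟩
  have hsu : IsUnit (algebraMap (C.presheaf.stalk x) (Mero.KStalk C x) s) := hs.map _
  apply hsu.mul_left_cancel
  rw [h]
  show algebraMap (C.presheaf.stalk x) (Mero.KStalk C x) s *
    algebraMap (C.presheaf.stalk x) (Mero.KStalk C x)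
      (a * ((hs.unit⁻¹ : (C.presheaf.stalk x)ˣ) : C.presheaf.stalk x)) = _
  rw [← map_mul, mul_left_comm, IsUnit.mul_val_inv, mul_one]

theorem nzd_of_spec (y : C) (u : (Mero.KStalk C y)ˣ) (a b : C.presheaf.stalk y)
    (hb : b ∈ nonZeroDivisors (C.presheaf.stalk y))
    (h : algebraMap (C.presheaf.stalk y) (Mero.KStalk C y) b * (u : Mero.KStalk C y) =
      algebraMap (C.presheaf.stalk y) (Mero.KStalk C y) a) :
    a ∈ nonZeroDivisors (C.presheaf.stalk y) := by
  rw [mem_nonZeroDivisors_iff_right]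
  intro c hc
  have h1 : algebraMap (C.presheaf.stalk y) (Mero.KStalk C y) (c * b) *
      (u : Mero.KStalk C y) = 0 := by
    rw [map_mul, mul_assoc, h, ← map_mul, hc, map_zero]
  have h2 : algebraMap (C.presheaf.stalk y) (Mero.KStalk C y) (c * b) = 0 :=
    u.isUnit.mul_left_eq_zero.mp h1
  have h3 : c * b = 0 := Mero.algebraMap_KStalk_injective y (by rw [h2, map_zero])
  exact (mem_nonZeroDivisors_iff_right.mp hb) c h3

theorem exists_frac_unit (x : C) (k : (Mero.KStalk C x)ˣ) :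
    ∃ (a : C.presheaf.stalk x) (s : Mero.regStalk C x),
      a ∈ nonZeroDivisors (C.presheaf.stalk x) ∧
      algebraMap (C.presheaf.stalk x) (Mero.KStalk C x) (s : C.presheaf.stalk x) *
        (k : Mero.KStalk C x) = algebraMap (C.presheaf.stalk x) (Mero.KStalk C x) a := by
  obtain ⟨a, s, has⟩ := IsLocalization.exists_mk'_eq (Mero.regStalk C x) (k : Mero.KStalk C x)
  have hspec : algebraMap (C.presheaf.stalk x) (Mero.KStalk C x) (s : C.presheaf.stalk x) *
      (k : Mero.KStalk C x) = algebraMap (C.presheaf.stalk x) (Mero.KStalk C x) a := by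
    rw [← has, IsLocalization.mk'_spec']
  exact ⟨a, s, nzd_of_spec x k a s (Mero.regStalk_le_nonZeroDivisors x s.2) hspec, hspec⟩

theorem germ_eq_one_of_dim_zero (x : C) (h0 : ringKrullDim (C.presheaf.stalk x) = 0)
    (k : Mero.Germ C x) : k = 1 := by
  obtain ⟨u, rfl⟩ := QuotientGroup.mk_surjective k
  obtain ⟨a, s, ha, hspec⟩ := exists_frac_unit x u
  have hs := Mero.regStalk_le_nonZeroDivisors x s.2
  rw [QuotientGroup.eq_one_iff]
  exact mem_stalkUnits_of_frac x u a s (isUnit_of_nzd_of_dim_zero x h0 a ha)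
    (isUnit_of_nzd_of_dim_zero x h0 s hs) hspec

/-! ### The main theorem -/

theorem forward [IsNoetherian C]
    (hC : ∀ x : C, IsClosed ({x} : Set C) → ringKrullDim (C.presheaf.stalk x) = 1)
    (g : ∀ x : C, Mero.Germ C x) (hg : g ∈ Mero.divisorGroup C) :
    {x : C | g x ≠ 1}.Finite ∧ ∀ x : C, ¬ IsClosed ({x} : Set C) → g x = 1 := by
  refine ⟨?_, fun x hx => germ_eq_one_of_dim_zero x (dim_zero_of_not_closed hC x hx) _⟩
  have hloc : ∀ x : C, ∃ V : C.Opens, x ∈ V ∧ ∀ y ∈ V, y ≠ x → g y = 1 := by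
    intro x
    obtain ⟨U, hxU, f, hU⟩ := hg x
    obtain ⟨W, hxW, hWU, a, b, hab⟩ := MeroReg2.exists_frac (f : Γ(Mero.kmod C, U)) x hxU
    have hval : ∀ (y : C) (hy : y ∈ W),
        algebraMap (C.presheaf.stalk y) (Mero.KStalk C y) (C.presheaf.germ W y hy b.1) *
          ((Units.map (Mero.evalK C U ⟨y, hWU hy⟩).toMonoidHom f : (Mero.KStalk C y)ˣ) :
            Mero.KStalk C y) =
        algebraMap (C.presheaf.stalk y) (Mero.KStalk C y) (C.presheaf.germ W y hy a) := by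
      intro y hy
      have e : ((Units.map (Mero.evalK C U ⟨y, hWU hy⟩).toMonoidHom f : (Mero.KStalk C y)ˣ) :
          Mero.KStalk C y) = (f : Γ(Mero.kmod C, U)).1 ⟨y, hWU hy⟩ := rfl
      rw [e, hab y hy]
      show algebraMap (C.presheaf.stalk y) (Localization (Mero.regStalk C y))
          ((Mero.regGerm ⟨y, hy⟩ b : Mero.regStalk C y) : C.presheaf.stalk y) *
        Localization.mk (C.presheaf.germ W y hy a) (Mero.regGerm ⟨y, hy⟩ b) = _
      rw [Localization.mk_eq_mk', IsLocalization.mk'_spec']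
    have hareg : a ∈ Mero.regSub C W := fun y => nzd_of_spec y.1 _ _ _ (b.2 y) (hval y.1 y.2)
    obtain ⟨V₁, hxV₁, hV₁W, hV₁⟩ := exists_nhd_unit hC W a hareg x hxW
    obtain ⟨V₂, hxV₂, hV₂W, hV₂⟩ := exists_nhd_unit hC W b.1 b.2 x hxW
    refine ⟨V₁ ⊓ V₂, ⟨hxV₁, hxV₂⟩, ?_⟩
    rintro y ⟨hy₁, hy₂⟩ hyx
    have hyW : y ∈ W := hV₁W hy₁
    rw [hU ⟨y, hWU hyW⟩]
    show (QuotientGroup.mk (Units.map (Mero.evalK C U ⟨y, hWU hyW⟩).toMonoidHom f) :
      Mero.Germ C y) = 1
    rw [QuotientGroup.eq_one_iff]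
    exact mem_stalkUnits_of_frac y _ _ _ (hV₁ y hyW hy₁ hyx) (hV₂ y hyW hy₂ hyx) (hval y hyW)
  choose V hxV hV using hloc
  obtain ⟨t, -, ht⟩ := isCompact_univ.elim_nhds_subcover (fun x => (V x : Set C))
    (fun x _ => (V x).isOpen.mem_nhds (hxV x))
  refine t.finite_toSet.subset ?_
  intro y hy
  obtain ⟨x, hxt, hyx⟩ := Set.mem_iUnion₂.mp (ht (Set.mem_univ y))
  by_contra hne
  have hyne : y ≠ x := fun h => hne (h ▸ hxt)
  exact hy (hV x y hyx hyne)

theorem backward [IsNoetherian C]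
    (hC : ∀ x : C, IsClosed ({x} : Set C) → ringKrullDim (C.presheaf.stalk x) = 1)
    (g : ∀ x : C, Mero.Germ C x) (hfin : {x : C | g x ≠ 1}.Finite)
    (hnc : ∀ x : C, ¬ IsClosed ({x} : Set C) → g x = 1) : g ∈ Mero.divisorGroup C := by
  intro x
  have hTcl : IsClosed ({z : C | g z ≠ 1} \ {x}) := by
    have hfin' : ({z : C | g z ≠ 1} \ {x}).Finite := hfin.subset Set.diff_subset
    rw [← Set.biUnion_of_singleton ({z : C | g z ≠ 1} \ {x})]
    refine hfin'.isClosed_biUnion ?_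
    rintro z ⟨hz, -⟩
    by_contra hcl
    exact hz (hnc z hcl)
  obtain ⟨k, hk⟩ := QuotientGroup.mk_surjective (g x)
  obtain ⟨a, s, ha, hspec⟩ := exists_frac_unit x k
  have har : a ∈ Mero.regStalk C x := by
    rw [MeroReg.regStalk_eq C x]; exact ha
  obtain ⟨U₁, hxU₁, α, hα, hαa⟩ := har
  obtain ⟨U₂, hxU₂, β, hβ, hβs⟩ := s.2
  obtain ⟨V₁, hxV₁, hV₁U, hV₁⟩ := exists_nhd_unit hC U₁ α hα x hxU₁
  obtain ⟨V₂, hxV₂, hV₂U, hV₂⟩ := exists_nhd_unit hC U₂ β hβ x hxU₂
  obtain ⟨T, hT⟩ : ∃ T : C.Opens, T = ⟨({z : C | g z ≠ 1} \ {x})ᶜ, hTcl.isOpen_compl⟩ :=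
    ⟨_, rfl⟩
  have hxT : x ∈ T := by
    rw [hT]; exact fun h => h.2 rfl
  obtain ⟨V, hV⟩ : ∃ V : C.Opens, V = V₁ ⊓ V₂ ⊓ T := ⟨_, rfl⟩
  have hVU₁ : V ≤ U₁ := by
    rw [hV]; exact (inf_le_left.trans inf_le_left).trans hV₁U
  have hVU₂ : V ≤ U₂ := by
    rw [hV]; exact (inf_le_left.trans inf_le_right).trans hV₂U
  obtain ⟨α', hα'⟩ : ∃ α' : Mero.regSub C V, α'.1 = C.presheaf.map (homOfLE hVU₁).op α :=
    ⟨⟨_, Mero.regSub_res (homOfLE hVU₁) hα⟩, rfl⟩
  obtain ⟨β', hβ'⟩ : ∃ β' : Mero.regSub C V, β'.1 = C.presheaf.map (homOfLE hVU₂).op β :=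
    ⟨⟨_, Mero.regSub_res (homOfLE hVU₂) hβ⟩, rfl⟩
  have hxV : x ∈ V := by
    rw [hV]; exact ⟨⟨hxV₁, hxV₂⟩, hxT⟩
  refine ⟨V, hxV, unitK V α' * (unitK V β')⁻¹, ?_⟩
  rintro ⟨y, hy⟩
  show g y = QuotientGroup.mk
    (Units.map (Mero.evalK C V ⟨y, hy⟩).toMonoidHom (unitK V α' * (unitK V β')⁻¹))
  have hFspec := frac_spec V α' β' y hy
  have hgerma : C.presheaf.germ V y hy α'.1 = C.presheaf.germ U₁ y (hVU₁ hy) α := by
    rw [hα']
    exact TopCat.Presheaf.germ_res_apply C.presheaf (homOfLE hVU₁) y hy α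
  have hgermb : C.presheaf.germ V y hy β'.1 = C.presheaf.germ U₂ y (hVU₂ hy) β := by
    rw [hβ']
    exact TopCat.Presheaf.germ_res_apply C.presheaf (homOfLE hVU₂) y hy β
  have hy' : y ∈ V₁ ⊓ V₂ ⊓ T := hV ▸ hy
  rcases eq_or_ne x y with rfl | hyx
  · rw [← hk]
    congr 1
    apply Units.ext
    have hsu : IsUnit (algebraMap (C.presheaf.stalk x) (Mero.KStalk C x)
        (s : C.presheaf.stalk x)) := IsLocalization.map_units (Mero.KStalk C x) s
    apply hsu.mul_left_cancel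
    rw [hgerma, hgermb, hαa, hβs] at hFspec
    exact hspec.trans hFspec.symm
  · have hgy : g y = 1 := by
      by_contra hgy
      have hyT : y ∈ T := hy'.2
      rw [hT] at hyT
      exact hyT ⟨hgy, hyx.symm⟩
    rw [hgy]
    symm
    rw [QuotientGroup.eq_one_iff]
    refine mem_stalkUnits_of_frac y _ _ _ ?_ ?_ hFspec
    · rw [hgerma]
      exact hV₁ y _ hy'.1.1 hyx.symm
    · rw [hgermb]
      exact hV₂ y _ hy'.1.2 hyx.symm

theorem main [IsNoetherian C]
    (hC : ∀ x : C, IsClosed ({x} : Set C) → ringKrullDim (C.presheaf.stalk x) = 1)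
    (g : ∀ x : C, Mero.Germ C x) :
    g ∈ Mero.divisorGroup C ↔
      ({x : C | g x ≠ 1}.Finite ∧ ∀ x : C, ¬ IsClosed ({x} : Set C) → g x = 1) :=
  ⟨forward hC g, fun h => backward hC g h.1 h.2⟩

end Groth.Agent.Helper4.MeroCurve
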