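import Mathlib
import Groth.Prelude.Def_MeroDiv
import Groth.Prelude.Def_CAlg
import Groth.Agent.Lib.Helper4.DepthOneCore
import Groth.Agent.Lib.Helper4.MeroReg
import Groth.Agent.Lib.Helper4.MeroReg2

/-!
# Divisors on locally Noetherian schemes are detected at points of depth one
-/

set_option autoImplicit false
set_option linter.style.haveILetI false

universe u

open CategoryTheory AlgebraicGeometry TopologicalSpace

namespace Groth.Agent.Helper4.MeroDepth

variable {X : Scheme.{u}}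

theorem effAt_iff [IsLocallyNoetherian X] (D : Mero.Divisor X) (y : X)
    (g : (Mero.KStalk X y)ˣ) (hg : D.1 y = QuotientGroup.mk g) :
    Mero.IsEffectiveAt D y ↔ ∃ c : X.presheaf.stalk y,
      algebraMap (X.presheaf.stalk y) (Mero.KStalk X y) c = (g : Mero.KStalk X y) := by
  constructor
  · rintro ⟨a, h⟩
    rw [hg] at h
    have h' : g⁻¹ * (IsLocalization.map_units (Mero.KStalk X y) a).unit ∈ Mero.stalkUnits X y :=
      QuotientGroup.eq.mp h
    obtain ⟨v, hv⟩ := MonoidHom.mem_range.mp h'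
    have hv' : algebraMap (X.presheaf.stalk y) (Mero.KStalk X y) (v : X.presheaf.stalk y) =
        ((g⁻¹ : (Mero.KStalk X y)ˣ) : Mero.KStalk X y) *
          algebraMap (X.presheaf.stalk y) (Mero.KStalk X y) (a : X.presheaf.stalk y) := by
      have := congrArg (fun w : (Mero.KStalk X y)ˣ => (w : Mero.KStalk X y)) hv
      simpa using this
    have h1 : algebraMap (X.presheaf.stalk y) (Mero.KStalk X y) (a : X.presheaf.stalk y) =
        (g : Mero.KStalk X y) *
          algebraMap (X.presheaf.stalk y) (Mero.KStalk X y) (v : X.presheaf.stalk y) := by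
      rw [hv', ← mul_assoc, Units.mul_inv, one_mul]
    refine ⟨(a : X.presheaf.stalk y) * ((v⁻¹ : (X.presheaf.stalk y)ˣ) : X.presheaf.stalk y), ?_⟩
    rw [map_mul, h1, mul_assoc, ← map_mul, Units.mul_inv, map_one, mul_one]
  · rintro ⟨c, hc⟩
    have hcn : c ∈ nonZeroDivisors (X.presheaf.stalk y) := by
      rw [mem_nonZeroDivisors_iff_right]
      intro z hz
      apply Mero.algebraMap_KStalk_injective y
      rw [map_zero]
      have : algebraMap (X.presheaf.stalk y) (Mero.KStalk X y) z * (g : Mero.KStalk X y) = 0 := by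
        rw [← hc, ← map_mul, hz, map_zero]
      exact g.isUnit.mul_left_eq_zero.mp this
    have hcr : c ∈ Mero.regStalk X y := by
      rw [Groth.Agent.Helper4.MeroReg.regStalk_eq X y]; exact hcn
    refine ⟨⟨c, hcr⟩, ?_⟩
    rw [hg]
    congr 1
    exact Units.ext hc.symm

theorem effAt_of_eq_one (D : Mero.Divisor X) (y : X) (h : D.1 y = 1) :
    Mero.IsEffectiveAt D y := by
  refine ⟨1, ?_⟩
  rw [h]
  symm
  rw [QuotientGroup.eq_one_iff]
  refine MonoidHom.mem_range.mpr ⟨1, Units.ext ?_⟩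
  simp

theorem inv_apply (D : Mero.Divisor X) (y : X) : (D⁻¹).1 y = (D.1 y)⁻¹ := by
  show ((D⁻¹ : Mero.Divisor X) : ∀ x, Mero.Germ X x) y = _
  rw [Subgroup.coe_inv, Pi.inv_apply]

theorem eq_one_of_effAt_of_effAt_inv (D : Mero.Divisor X) (y : X)
    (h1 : Mero.IsEffectiveAt D y) (h2 : Mero.IsEffectiveAt D⁻¹ y) : D.1 y = 1 := by
  obtain ⟨a, hD⟩ := h1
  obtain ⟨a', hD'⟩ := h2
  rw [inv_apply] at hD'
  have hmul : (QuotientGroup.mk ((IsLocalization.map_units (Mero.KStalk X y) a).unit *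
      (IsLocalization.map_units (Mero.KStalk X y) a').unit) : Mero.Germ X y) = 1 := by
    rw [QuotientGroup.mk_mul, ← hD, ← hD']
    exact mul_inv_cancel (D.1 y)
  have hmem := (QuotientGroup.eq_one_iff _).mp hmul
  obtain ⟨v, hv⟩ := MonoidHom.mem_range.mp hmem
  have hv' : algebraMap (X.presheaf.stalk y) (Mero.KStalk X y) (v : X.presheaf.stalk y) =
      algebraMap (X.presheaf.stalk y) (Mero.KStalk X y)
        ((a : X.presheaf.stalk y) * (a' : X.presheaf.stalk y)) := by
    have := congrArg (fun w : (Mero.KStalk X y)ˣ => (w : Mero.KStalk X y)) hv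
    rw [map_mul]
    simpa using this
  have hva : (v : X.presheaf.stalk y) = (a : X.presheaf.stalk y) * (a' : X.presheaf.stalk y) :=
    Mero.algebraMap_KStalk_injective y hv'
  have hu : IsUnit (a : X.presheaf.stalk y) := isUnit_of_mul_isUnit_left (hva ▸ v.isUnit)
  rw [hD]
  refine (QuotientGroup.eq_one_iff _).mpr (MonoidHom.mem_range.mpr ⟨hu.unit, Units.ext ?_⟩)
  simp

variable [IsLocallyNoetherian X]

theorem depth_eq_one_of_not_effAt (D : Mero.Divisor X) (x : X)
    (hx : ¬ Mero.IsEffectiveAt D x)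
    (h : ∀ z : X, z ⤳ x → z ≠ x → Mero.IsEffectiveAt D z) :
    LocCoh.depth (X.presheaf.stalk x) (X.presheaf.stalk x) = 1 := by
  obtain ⟨U, hxU, f, hU⟩ := D.2 x
  obtain ⟨W, hW, hxW, hWU, a, b, hab⟩ :=
    Groth.Agent.Helper4.MeroReg2.exists_frac_affine (f : Γ(Mero.kmod X, U)) x hxU
  have hval : ∀ (y : X) (hy : y ∈ W),
      algebraMap (X.presheaf.stalk y) (Mero.KStalk X y) (X.presheaf.germ W y hy b.1) *
        ((Units.map (Mero.evalK X U ⟨y, hWU hy⟩).toMonoidHom f : (Mero.KStalk X y)ˣ) :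
          Mero.KStalk X y) =
      algebraMap (X.presheaf.stalk y) (Mero.KStalk X y) (X.presheaf.germ W y hy a) := by
    intro y hy
    have e : ((Units.map (Mero.evalK X U ⟨y, hWU hy⟩).toMonoidHom f : (Mero.KStalk X y)ˣ) :
        Mero.KStalk X y) = (f : Γ(Mero.kmod X, U)).1 ⟨y, hWU hy⟩ := rfl
    rw [e, hab y hy]
    show algebraMap (X.presheaf.stalk y) (Localization (Mero.regStalk X y))
        ((Mero.regGerm ⟨y, hy⟩ b : Mero.regStalk X y) : X.presheaf.stalk y) *
      Localization.mk (X.presheaf.germ W y hy a) (Mero.regGerm ⟨y, hy⟩ b) = _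
    rw [Localization.mk_eq_mk', IsLocalization.mk'_spec']
  apply DepthOneCore.depth_eq_one_of_germs X hW x hxW a b.1
  · exact b.2 ⟨x, hxW⟩
  · intro hmem
    obtain ⟨c, hc⟩ := Ideal.mem_span_singleton'.mp hmem
    apply hx
    rw [effAt_iff D x _ (hU ⟨x, hxU⟩)]
    refine ⟨c, ?_⟩
    have hbu : IsUnit (algebraMap (X.presheaf.stalk x) (Mero.KStalk X x)
        (X.presheaf.germ W x hxW b.1)) :=
      IsLocalization.map_units (Mero.KStalk X x) (Mero.regGerm ⟨x, hxW⟩ b)
    apply hbu.mul_left_cancel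
    rw [hval x hxW, ← map_mul, mul_comm, hc]
  · intro z hzW hzx hne
    have hz := h z hzx hne
    rw [effAt_iff D z _ (hU ⟨z, hWU hzW⟩)] at hz
    obtain ⟨c, hc⟩ := hz
    refine ⟨c, Mero.algebraMap_KStalk_injective z ?_⟩
    rw [map_mul, hc, mul_comm, hval z hzW]

theorem depth_eq_one_of_mem_supp (D : Mero.Divisor X) (x : X) (hx : x ∈ Mero.supp D)
    (hmax : ∀ z : X, z ∈ Mero.supp D → z ⤳ x → z = x) :
    LocCoh.depth (X.presheaf.stalk x) (X.presheaf.stalk x) = 1 := by
  have hz1 : ∀ z : X, z ⤳ x → z ≠ x → D.1 z = 1 := by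
    intro z hzx hne
    by_contra hh
    exact hne (hmax z hh hzx)
  by_cases he : Mero.IsEffectiveAt D x
  · have he' : ¬ Mero.IsEffectiveAt D⁻¹ x :=
      fun h' => hx (eq_one_of_effAt_of_effAt_inv D x he h')
    apply depth_eq_one_of_not_effAt D⁻¹ x he'
    intro z hzx hne
    apply effAt_of_eq_one
    rw [inv_apply, hz1 z hzx hne, inv_one]
  · apply depth_eq_one_of_not_effAt D x he
    intro z hzx hne
    exact effAt_of_eq_one D z (hz1 z hzx hne)

theorem effective_of_depth_one (D : Mero.Divisor X)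
    (h : ∀ x : X, LocCoh.depth (X.presheaf.stalk x) (X.presheaf.stalk x) = 1 →
      Mero.IsEffectiveAt D x) : Mero.IsEffective D := by
  intro x
  by_contra hx
  obtain ⟨z, hzS, -, hzmin⟩ := DepthOneCore.exists_minimal_generization X
    {y | ¬ Mero.IsEffectiveAt D y} x hx
  have hd := depth_eq_one_of_not_effAt D z hzS (fun z' hz' hne => by
    by_contra hh
    exact hne (hzmin z' hh hz'))
  exact hzS (h z hd)

theorem eq_one_of_depth_one (D : Mero.Divisor X)
    (h : ∀ x : X, LocCoh.depth (X.presheaf.stalk x) (X.presheaf.stalk x) = 1 → D.1 x = 1) :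
    D = 1 := by
  apply Subtype.ext
  funext x
  by_contra hx
  have hx' : x ∈ Mero.supp D := hx
  obtain ⟨z, hzS, -, hzmin⟩ := DepthOneCore.exists_minimal_generization X (Mero.supp D) x hx'
  have hd := depth_eq_one_of_mem_supp D z hzS (fun z' hz'S hz' => hzmin z' hz'S hz')
  exact hzS (h z hd)

end Groth.Agent.Helper4.MeroDepth
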