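import Mathlib
import Groth.Prelude.Def_MeroDiv
import Groth.Agent.Lib.Helper4.MeroCurve
import Groth.Agent.Lib.Helper4.MeroDepth

/-!
# Divisors on an absolute curve: differences of effective divisors
-/

set_option autoImplicit false
set_option linter.style.haveILetI false

universe u

open CategoryTheory AlgebraicGeometry TopologicalSpace

namespace Groth.Agent.Helper4.MeroCurve

variable {C : Scheme.{u}}

theorem exists_germ_frac [IsLocallyNoetherian C] (x : C) (d : Mero.Germ C x) :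
    ∃ (a s : Mero.regStalk C x), d = QuotientGroup.mk
      ((IsLocalization.map_units (Mero.KStalk C x) a).unit *
        ((IsLocalization.map_units (Mero.KStalk C x) s).unit)⁻¹) := by
  obtain ⟨k, hk⟩ := QuotientGroup.mk_surjective d
  obtain ⟨a, s, ha, hspec⟩ := exists_frac_unit x k
  have har : a ∈ Mero.regStalk C x := by
    rw [MeroReg.regStalk_eq C x]; exact ha
  refine ⟨⟨a, har⟩, s, ?_⟩
  rw [← hk]
  congr 1
  apply Units.ext
  rw [Units.val_mul]
  have hsu : IsUnit (algebraMap (C.presheaf.stalk x) (Mero.KStalk C x)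
      (s : C.presheaf.stalk x)) := IsLocalization.map_units (Mero.KStalk C x) s
  apply hsu.mul_left_cancel
  rw [hspec]
  show _ = algebraMap (C.presheaf.stalk x) (Mero.KStalk C x) (s : C.presheaf.stalk x) *
    (algebraMap (C.presheaf.stalk x) (Mero.KStalk C x) a *
      ((hsu.unit⁻¹ : (Mero.KStalk C x)ˣ) : Mero.KStalk C x))
  rw [mul_left_comm, IsUnit.mul_val_inv, mul_one]

theorem decomp [IsNoetherian C]
    (hC : ∀ x : C, IsClosed ({x} : Set C) → ringKrullDim (C.presheaf.stalk x) = 1)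
    (D : Mero.Divisor C) :
    ∃ D₁ D₂ : Mero.Divisor C, Mero.IsEffective D₁ ∧ Mero.IsEffective D₂ ∧ D = D₁ * D₂⁻¹ ∧
      Mero.supp D₁ ⊆ Mero.supp D ∧ Mero.supp D₂ ⊆ Mero.supp D := by
  classical
  have hD := forward hC D.1 D.2
  choose a s hD' using fun x : C => exists_germ_frac x (D.1 x)
  obtain ⟨g₁, hg₁⟩ : ∃ g₁ : ∀ x : C, Mero.Germ C x, ∀ x, g₁ x = if D.1 x = 1 then 1 else
      QuotientGroup.mk (IsLocalization.map_units (Mero.KStalk C x) (a x)).unit := ⟨_, fun _ => rfl⟩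
  obtain ⟨g₂, hg₂⟩ : ∃ g₂ : ∀ x : C, Mero.Germ C x, ∀ x, g₂ x = if D.1 x = 1 then 1 else
      QuotientGroup.mk (IsLocalization.map_units (Mero.KStalk C x) (s x)).unit := ⟨_, fun _ => rfl⟩
  have hm₁ : g₁ ∈ Mero.divisorGroup C := by
    refine backward hC g₁ (hD.1.subset ?_) ?_
    · intro x hx hDx
      exact hx ((hg₁ x).trans (if_pos hDx))
    · intro x hx
      exact (hg₁ x).trans (if_pos (hD.2 x hx))
  have hm₂ : g₂ ∈ Mero.divisorGroup C := by
    refine backward hC g₂ (hD.1.subset ?_) ?_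
    · intro x hx hDx
      exact hx ((hg₂ x).trans (if_pos hDx))
    · intro x hx
      exact (hg₂ x).trans (if_pos (hD.2 x hx))
  refine ⟨⟨g₁, hm₁⟩, ⟨g₂, hm₂⟩, ?_, ?_, ?_, ?_, ?_⟩
  · intro x
    by_cases hDx : D.1 x = 1
    · exact MeroDepth.effAt_of_eq_one _ x ((hg₁ x).trans (if_pos hDx))
    · exact ⟨a x, (hg₁ x).trans (if_neg hDx)⟩
  · intro x
    by_cases hDx : D.1 x = 1
    · exact MeroDepth.effAt_of_eq_one _ x ((hg₂ x).trans (if_pos hDx))
    · exact ⟨s x, (hg₂ x).trans (if_neg hDx)⟩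
  · apply Subtype.ext
    funext x
    show D.1 x = g₁ x * (g₂ x)⁻¹
    by_cases hDx : D.1 x = 1
    · rw [hg₁ x, hg₂ x, if_pos hDx, if_pos hDx, hDx, inv_one]
      exact (mul_one (1 : Mero.Germ C x)).symm
    · rw [hg₁ x, hg₂ x, if_neg hDx, if_neg hDx, hD' x, QuotientGroup.mk_mul, QuotientGroup.mk_inv]
  · intro x hx hDx
    exact hx ((hg₁ x).trans (if_pos hDx))
  · intro x hx hDx
    exact hx ((hg₂ x).trans (if_pos hDx))

end Groth.Agent.Helper4.MeroCurve
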