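import Mathlib
import Groth.Prelude.Def_MeroDiv
import Groth.Agent.Lib.Helper4.MeroCurve
import Groth.Agent.Lib.Helper4.MeroDepth
import Groth.Agent.Lib.Helper4.WeakAss
import Groth.Agent.Lib.Helper4.BlowupIso

/-!
# Divisors on an absolute curve: an effective divisor meeting every component
-/

set_option autoImplicit false
set_option linter.style.haveILetI false

universe u

open CategoryTheory AlgebraicGeometry TopologicalSpace

namespace Groth.Agent.Helper4.MeroCurve

variable {C : Scheme.{u}}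

theorem exists_nonunit_nzd [IsLocallyNoetherian C] (W : C.Opens) (hW : IsAffineOpen W)
    (hne : (W : Set C).Nonempty)
    (hdim : ∀ y ∈ W, ringKrullDim (C.presheaf.stalk y) ≤ 1)
    (hpt : ∀ x : C, ¬ IsOpen ({x} : Set C)) :
    ∃ a ∈ nonZeroDivisors Γ(C, W), ¬ IsUnit a := by
  haveI : IsNoetherianRing Γ(C, W) := IsLocallyNoetherian.component_noetherian ⟨W, hW⟩
  by_contra hcon
  push Not at hcon
  have hprime : ∀ p : PrimeSpectrum Γ(C, W), p.asIdeal ∈ minimalPrimes Γ(C, W) ∪
      associatedPrimes Γ(C, W) Γ(C, W) := by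
    intro p
    by_cases hmax : p.asIdeal.IsMaximal
    · right
      have hfin : (associatedPrimes Γ(C, W) Γ(C, W)).Finite := associatedPrimes.finite _ _
      have hsub : (p.asIdeal : Set Γ(C, W)) ⊆
          ⋃ q ∈ (↑hfin.toFinset : Set (Ideal Γ(C, W))), ((id q : Ideal Γ(C, W)) : Set _) := by
        rw [Set.Finite.coe_toFinset]
        intro b hb
        have h1 : b ∈ (nonZeroDivisors Γ(C, W) : Set Γ(C, W))ᶜ := by
          intro hbn
          exact p.isPrime.ne_top (Ideal.eq_top_of_isUnit_mem _ hb (hcon b hbn))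
        rw [← biUnion_associatedPrimes_eq_compl_nonZeroDivisors] at h1
        exact h1
      obtain ⟨q, hqF, hpq⟩ := (Ideal.subset_union_prime (s := hfin.toFinset) (f := id) ⊥ ⊥
        (fun q hq _ _ => (hfin.mem_toFinset.mp hq).isPrime)).mp hsub
      have hqAss : IsAssociatedPrime q Γ(C, W) := hfin.mem_toFinset.mp hqF
      have hpq' : p.asIdeal = q := hmax.eq_of_le hqAss.isPrime.ne_top hpq
      rw [hpq']
      exact hqAss
    · left
      obtain ⟨m, hm, hpm⟩ := Ideal.exists_le_maximal p.asIdeal p.isPrime.ne_top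
      have hlt : p.asIdeal < m := lt_of_le_of_ne hpm (fun h => hmax (h ▸ hm))
      haveI hmp : m.IsPrime := hm.isPrime
      let ym : PrimeSpectrum Γ(C, W) := ⟨m, hmp⟩
      obtain ⟨x, hxdef⟩ : ∃ x : C, x = hW.fromSpec ym := ⟨_, rfl⟩
      have hxW : x ∈ W := hxdef ▸ WeakAss.fromSpec_mem hW ym
      letI algx : Algebra Γ(C, W) (C.presheaf.stalk x) :=
        TopCat.Presheaf.algebra_section_stalk C.presheaf ⟨x, hxW⟩
      haveI hlocx : IsLocalization.AtPrime (C.presheaf.stalk x) m := by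
        subst hxdef
        exact hW.isLocalization_stalk' ym hxW
      have hht : m.height ≤ 1 := by
        have h1 := IsLocalization.AtPrime.ringKrullDim_eq_height m (C.presheaf.stalk x)
        have h2 := hdim x hxW
        rw [h1] at h2
        exact_mod_cast h2
      haveI := p.isPrime
      have h1 : p.asIdeal.height < m.height := Ideal.height_strict_mono_of_isPrime hlt
      have h2 : p.asIdeal.height = 0 := Order.lt_one_iff.mp (lt_of_lt_of_le h1 hht)
      exact Ideal.height_eq_zero_iff.mp h2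
  have hfinSpec : (Set.univ : Set (PrimeSpectrum Γ(C, W))).Finite := by
    have h1 : (minimalPrimes Γ(C, W) ∪ associatedPrimes Γ(C, W) Γ(C, W)).Finite :=
      (minimalPrimes.finite_of_isNoetherianRing Γ(C, W)).union (associatedPrimes.finite _ _)
    refine (h1.preimage (f := PrimeSpectrum.asIdeal)
      (fun p _ q _ h => PrimeSpectrum.ext h)).subset ?_
    intro p _
    exact hprime p
  have hWfin : (W : Set C).Finite := by
    refine (hfinSpec.image (fun p => hW.fromSpec p)).subset ?_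
    intro y hy
    exact ⟨hW.primeIdealOf ⟨y, hy⟩, Set.mem_univ _, hW.fromSpec_primeIdealOf ⟨y, hy⟩⟩
  obtain ⟨x, -, hxo⟩ := exists_isOpen_singleton_of_isOpen_finite hWfin hne W.isOpen
  exact hpt x hxo

theorem exists_open_in_component [IsNoetherian C] (Z : Set C)
    (hZ : Z ∈ irreducibleComponents C) :
    ∃ O : C.Opens, (O : Set C).Nonempty ∧ (O : Set C) ⊆ Z := by
  classical
  have hfin : (irreducibleComponents C).Finite := finite_irreducibleComponents_of_isNoetherian
  obtain ⟨F, hF⟩ : ∃ F : Finset (Set C), F = hfin.toFinset.erase Z := ⟨_, rfl⟩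
  have hFmem : ∀ z ∈ F, z ∈ irreducibleComponents C ∧ z ≠ Z := by
    intro z hz
    rw [hF] at hz
    exact ⟨hfin.mem_toFinset.mp (Finset.mem_of_mem_erase hz), Finset.ne_of_mem_erase hz⟩
  have hFcl : ∀ z ∈ F, IsClosed z := fun z hz =>
    isClosed_of_mem_irreducibleComponents z (hFmem z hz).1
  have hcl : IsClosed (⋃₀ (↑F : Set (Set C))) := by
    rw [Set.sUnion_eq_biUnion]
    exact F.finite_toSet.isClosed_biUnion hFcl
  refine ⟨⟨(⋃₀ (↑F : Set (Set C)))ᶜ, hcl.isOpen_compl⟩, ?_, ?_⟩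
  · by_contra hempty
    have hsub : Z ⊆ ⋃₀ (↑F : Set (Set C)) := by
      intro x _
      by_contra hx
      exact hempty ⟨x, hx⟩
    obtain ⟨z, hzF, hZz⟩ := (isIrreducible_iff_sUnion_isClosed.mp hZ.1) F hFcl hsub
    have hz := hFmem z hzF
    have hzZ : z ⊆ Z := hZ.2 hz.1.1 hZz
    exact hz.2 (Set.Subset.antisymm hzZ hZz)
  · intro x hx
    have hx' : x ∉ ⋃₀ (↑F : Set (Set C)) := hx
    by_contra hxZ
    apply hx'
    refine ⟨irreducibleComponent x, ?_, mem_irreducibleComponent⟩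
    rw [Finset.mem_coe, hF, Finset.mem_erase]
    refine ⟨?_, hfin.mem_toFinset.mpr (irreducibleComponent_mem_irreducibleComponents x)⟩
    intro h
    exact hxZ (h ▸ mem_irreducibleComponent)

theorem exists_good_point [IsNoetherian C]
    (hC : ∀ x : C, IsClosed ({x} : Set C) → ringKrullDim (C.presheaf.stalk x) = 1)
    (hpt : ∀ x : C, ¬ IsOpen ({x} : Set C)) (U : C.Opens) (hU : Dense (U : Set C))
    (Z : Set C) (hZ : Z ∈ irreducibleComponents C) :
    ∃ x : C, x ∈ U ∧ x ∈ Z ∧ IsClosed ({x} : Set C) ∧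
      ∃ a : Mero.regStalk C x, ¬ IsUnit (a : C.presheaf.stalk x) := by
  obtain ⟨O, hOne, hOZ⟩ := exists_open_in_component Z hZ
  obtain ⟨x₀, hx₀U, hx₀O⟩ := hU.exists_mem_open O.isOpen hOne
  have hx₀ : x₀ ∈ (O ⊓ U : C.Opens) := ⟨hx₀O, hx₀U⟩
  obtain ⟨_, ⟨W, hW, rfl⟩, hx₀W, hWOU⟩ :=
    C.isBasis_affineOpens.exists_subset_of_mem_open hx₀ (O ⊓ U).isOpen
  obtain ⟨a, ha, hau⟩ := exists_nonunit_nzd W hW ⟨x₀, hx₀W⟩ (fun y _ => dim_le_one hC y) hpt
  obtain ⟨m, hm, ham⟩ := Ideal.exists_le_maximal (Ideal.span {a})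
    (by rw [Ne, Ideal.span_singleton_eq_top]; exact hau)
  haveI hmp : m.IsPrime := hm.isPrime
  let ym : PrimeSpectrum Γ(C, W) := ⟨m, hmp⟩
  obtain ⟨x, hxdef⟩ : ∃ x : C, x = hW.fromSpec ym := ⟨_, rfl⟩
  have hxW : x ∈ W := hxdef ▸ WeakAss.fromSpec_mem hW ym
  letI algx : Algebra Γ(C, W) (C.presheaf.stalk x) :=
    TopCat.Presheaf.algebra_section_stalk C.presheaf ⟨x, hxW⟩
  haveI hlocx : IsLocalization.AtPrime (C.presheaf.stalk x) m := by
    subst hxdef
    exact hW.isLocalization_stalk' ym hxW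
  have hgu : ¬ IsUnit (C.presheaf.germ W x hxW a) := by
    intro hu
    have h1 := (IsLocalization.AtPrime.isUnit_to_map_iff (C.presheaf.stalk x) m a).mp hu
    exact h1 (ham (Ideal.mem_span_singleton_self a))
  have hgn : C.presheaf.germ W x hxW a ∈ nonZeroDivisors (C.presheaf.stalk x) :=
    BlowupIso.germ_mem_nonZeroDivisors hW a ha x hxW
  have hgr : C.presheaf.germ W x hxW a ∈ Mero.regStalk C x := by
    rw [MeroReg.regStalk_eq C x]; exact hgn
  have hxOU := hWOU hxW
  exact ⟨x, hxOU.2, hOZ hxOU.1, isClosed_of_nonunit_nzd hC x _ hgn hgu, ⟨_, hgr⟩, hgu⟩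

theorem isUnit_of_mk_eq_one (x : C) (a : Mero.regStalk C x)
    (h : (QuotientGroup.mk (IsLocalization.map_units (Mero.KStalk C x) a).unit :
      Mero.Germ C x) = 1) : IsUnit (a : C.presheaf.stalk x) := by
  rw [QuotientGroup.eq_one_iff] at h
  obtain ⟨v, hv⟩ := MonoidHom.mem_range.mp h
  have hv' : algebraMap (C.presheaf.stalk x) (Mero.KStalk C x) (v : C.presheaf.stalk x) =
      algebraMap (C.presheaf.stalk x) (Mero.KStalk C x) (a : C.presheaf.stalk x) :=
    congrArg Units.val hv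
  rw [← Mero.algebraMap_KStalk_injective x hv']
  exact v.isUnit

theorem exists_effective [IsNoetherian C]
    (hC : ∀ x : C, IsClosed ({x} : Set C) → ringKrullDim (C.presheaf.stalk x) = 1)
    (hpt : ∀ x : C, ¬ IsOpen ({x} : Set C)) (U : C.Opens) (hU : Dense (U : Set C)) :
    ∃ D : Mero.Divisor C, Mero.IsEffective D ∧ Mero.supp D ⊆ (U : Set C) ∧
      ∀ Z ∈ irreducibleComponents (C : Type u), (Mero.supp D ∩ Z).Nonempty := by
  classical
  have hfin : (irreducibleComponents C).Finite := finite_irreducibleComponents_of_isNoetherian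
  choose p hpU hpZ hpcl hpa using exists_good_point hC hpt U hU
  haveI : Finite ↥(irreducibleComponents C) := hfin.to_subtype
  obtain ⟨E, hE⟩ : ∃ E : Set C,
      E = Set.range (fun Z : irreducibleComponents C => p Z.1 Z.2) := ⟨_, rfl⟩
  have hEfin : E.Finite := hE ▸ Set.finite_range _
  have hEgood : ∀ x ∈ E, x ∈ U ∧ IsClosed ({x} : Set C) ∧
      ∃ a : Mero.regStalk C x, ¬ IsUnit (a : C.presheaf.stalk x) := by
    intro x hx
    rw [hE] at hx
    obtain ⟨Z, rfl⟩ := hx
    exact ⟨hpU Z.1 Z.2, hpcl Z.1 Z.2, hpa Z.1 Z.2⟩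
  obtain ⟨g, hg⟩ : ∃ g : ∀ x : C, Mero.Germ C x, ∀ x, g x = if h : x ∈ E then
      QuotientGroup.mk (IsLocalization.map_units (Mero.KStalk C x)
        (Classical.choose (hEgood x h).2.2)).unit else 1 := ⟨_, fun _ => rfl⟩
  have hm : g ∈ Mero.divisorGroup C := by
    refine backward hC g (hEfin.subset ?_) ?_
    · intro x hx
      by_contra hxE
      exact hx ((hg x).trans (dif_neg hxE))
    · intro x hx
      have hxE : x ∉ E := fun h => hx (hEgood x h).2.1
      exact (hg x).trans (dif_neg hxE)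
  refine ⟨⟨g, hm⟩, ?_, ?_, ?_⟩
  · intro x
    by_cases hxE : x ∈ E
    · exact ⟨Classical.choose (hEgood x hxE).2.2, (hg x).trans (dif_pos hxE)⟩
    · exact MeroDepth.effAt_of_eq_one _ x ((hg x).trans (dif_neg hxE))
  · intro x hx
    by_contra hxU
    have hxE : x ∉ E := fun h => hxU (hEgood x h).1
    exact hx ((hg x).trans (dif_neg hxE))
  · intro Z hZ
    have hxE : p Z hZ ∈ E := by
      rw [hE]; exact ⟨⟨Z, hZ⟩, rfl⟩
    refine ⟨p Z hZ, ?_, hpZ Z hZ⟩
    show g (p Z hZ) ≠ 1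
    rw [hg, dif_pos hxE]
    intro h1
    exact Classical.choose_spec (hEgood (p Z hZ) hxE).2.2 (isUnit_of_mk_eq_one _ _ h1)

end Groth.Agent.Helper4.MeroCurve
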