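import Mathlib
import Groth.Prelude.Def_MeroDiv

/-!
# The fractional ideal of a divisor determines the divisor
-/

set_option autoImplicit false
set_option linter.style.haveILetI false

universe u

open CategoryTheory AlgebraicGeometry TopologicalSpace

namespace Groth.Agent.Helper4.MeroDivCond

variable {X : Scheme.{u}}

theorem val_inv_eq {U : X.Opens} (f : (Γ(Mero.kmod X, U))ˣ) (y : U) :
    (((Units.map (Mero.evalK X U y).toMonoidHom f)⁻¹ : (Mero.KStalk X y.1)ˣ) :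
      Mero.KStalk X y.1) = ((f⁻¹ : (Γ(Mero.kmod X, U))ˣ) : Γ(Mero.kmod X, U)).1 y := by
  rw [← map_inv]
  rfl

theorem exists_of_divCond_imp (D₁ D₂ : Mero.Divisor X) (x : X) {U₁ U₂ : X.Opens}
    (hx₁ : x ∈ U₁) (hx₂ : x ∈ U₂)
    (f₁ : (Γ(Mero.kmod X, U₁))ˣ) (f₂ : (Γ(Mero.kmod X, U₂))ˣ)
    (h₁ : ∀ y : U₁, D₁.1 y.1 = Mero.germOf f₁ y) (h₂ : ∀ y : U₂, D₂.1 y.1 = Mero.germOf f₂ y)
    (himp : ∀ (V : X.Opens) (t : Γ(Mero.kmod X, V)),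
      (∀ y : V, Mero.DivCond D₁ y.1 (t.1 y)) → (∀ y : V, Mero.DivCond D₂ y.1 (t.1 y))) :
    ∃ c : X.presheaf.stalk x, algebraMap (X.presheaf.stalk x) (Mero.KStalk X x) c =
      ((f₁⁻¹ : (Γ(Mero.kmod X, U₁))ˣ) : Γ(Mero.kmod X, U₁)).1 ⟨x, hx₁⟩ *
        (f₂ : Γ(Mero.kmod X, U₂)).1 ⟨x, hx₂⟩ := by
  let V : X.Opens := U₁ ⊓ U₂
  let t : Γ(Mero.kmod X, V) := (Mero.kmod X).presheaf.map (homOfLE (inf_le_left : V ≤ U₁)).op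
    ((f₁⁻¹ : (Γ(Mero.kmod X, U₁))ˣ) : Γ(Mero.kmod X, U₁))
  have ht : ∀ y : V, t.1 y =
      ((f₁⁻¹ : (Γ(Mero.kmod X, U₁))ˣ) : Γ(Mero.kmod X, U₁)).1 ⟨y.1, y.2.1⟩ := fun y => rfl
  have hD₁ : ∀ y : V, Mero.DivCond D₁ y.1 (t.1 y) := by
    intro y g hg
    rw [h₁ ⟨y.1, y.2.1⟩] at hg
    have h' : (Units.map (Mero.evalK X U₁ ⟨y.1, y.2.1⟩).toMonoidHom f₁)⁻¹ * g ∈
        Mero.stalkUnits X y.1 := QuotientGroup.eq.mp hg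
    obtain ⟨v, hv⟩ := MonoidHom.mem_range.mp h'
    refine ⟨(v : X.presheaf.stalk y.1), ?_⟩
    have hval : algebraMap (X.presheaf.stalk y.1) (Mero.KStalk X y.1) (v : X.presheaf.stalk y.1) =
        (((Units.map (Mero.evalK X U₁ ⟨y.1, y.2.1⟩).toMonoidHom f₁)⁻¹ * g :
          (Mero.KStalk X y.1)ˣ) : Mero.KStalk X y.1) := by
      rw [← hv]; rfl
    show algebraMap (X.presheaf.stalk y.1) (Mero.KStalk X y.1) (v : X.presheaf.stalk y.1) = _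
    rw [hval, Units.val_mul, val_inv_eq f₁ ⟨y.1, y.2.1⟩, ht y]
  have hD₂ := himp V t hD₁ ⟨x, ⟨hx₁, hx₂⟩⟩
    (Units.map (Mero.evalK X U₂ ⟨x, hx₂⟩).toMonoidHom f₂) (h₂ ⟨x, hx₂⟩)
  obtain ⟨c, hc⟩ := hD₂
  exact ⟨c, hc⟩

theorem eq_of_divCond_iff (D D' : Mero.Divisor X)
    (h : ∀ (U : X.Opens) (t : Γ(Mero.kmod X, U)),
      (∀ x : U, Mero.DivCond D x.1 (t.1 x)) ↔ (∀ x : U, Mero.DivCond D' x.1 (t.1 x))) :
    D = D' := by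
  apply Subtype.ext
  funext x
  obtain ⟨U, hxU, f, hU⟩ := D.2 x
  obtain ⟨U', hxU', f', hU'⟩ := D'.2 x
  obtain ⟨c, hc⟩ := exists_of_divCond_imp D D' x hxU hxU' f f' hU hU' (fun V t => (h V t).mp)
  obtain ⟨c', hc'⟩ := exists_of_divCond_imp D' D x hxU' hxU f' f hU' hU (fun V t => (h V t).mpr)
  have e1 : ((f⁻¹ : (Γ(Mero.kmod X, U))ˣ) : Γ(Mero.kmod X, U)).1 ⟨x, hxU⟩ *
      (f : Γ(Mero.kmod X, U)).1 ⟨x, hxU⟩ = 1 := by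
    rw [← Mero.kmod_mul_apply, Units.inv_mul, Mero.kmod_one_apply]
  have e2 : ((f'⁻¹ : (Γ(Mero.kmod X, U'))ˣ) : Γ(Mero.kmod X, U')).1 ⟨x, hxU'⟩ *
      (f' : Γ(Mero.kmod X, U')).1 ⟨x, hxU'⟩ = 1 := by
    rw [← Mero.kmod_mul_apply, Units.inv_mul, Mero.kmod_one_apply]
  have hcc : c * c' = 1 := by
    apply Mero.algebraMap_KStalk_injective x
    rw [map_mul, hc, hc', map_one]
    calc ((f⁻¹ : (Γ(Mero.kmod X, U))ˣ) : Γ(Mero.kmod X, U)).1 ⟨x, hxU⟩ *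
          (f' : Γ(Mero.kmod X, U')).1 ⟨x, hxU'⟩ *
          (((f'⁻¹ : (Γ(Mero.kmod X, U'))ˣ) : Γ(Mero.kmod X, U')).1 ⟨x, hxU'⟩ *
            (f : Γ(Mero.kmod X, U)).1 ⟨x, hxU⟩)
        = (((f⁻¹ : (Γ(Mero.kmod X, U))ˣ) : Γ(Mero.kmod X, U)).1 ⟨x, hxU⟩ *
            (f : Γ(Mero.kmod X, U)).1 ⟨x, hxU⟩) *
          (((f'⁻¹ : (Γ(Mero.kmod X, U'))ˣ) : Γ(Mero.kmod X, U')).1 ⟨x, hxU'⟩ *
            (f' : Γ(Mero.kmod X, U')).1 ⟨x, hxU'⟩) := by ring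
      _ = 1 := by rw [e1, e2, mul_one]
  have hcc' : c' * c = 1 := by rw [mul_comm]; exact hcc
  show D.1 x = D'.1 x
  rw [hU ⟨x, hxU⟩, hU' ⟨x, hxU'⟩]
  apply QuotientGroup.eq.mpr
  refine MonoidHom.mem_range.mpr ⟨⟨c, c', hcc, hcc'⟩, Units.ext ?_⟩
  rw [Units.coe_map, Units.val_mul, val_inv_eq f ⟨x, hxU⟩]
  exact hc

end Groth.Agent.Helper4.MeroDivCond
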