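import Mathlib
import Groth.Prelude.Def_MeroDiv
import Groth.Agent.Lib.Helper4.MeroReg2
import Groth.Agent.Lib.Helper4.MeroCurve

/-!
# The domain of definition of a meromorphic function is open and schematically dense
-/

set_option autoImplicit false
set_option linter.style.haveILetI false

universe u

open CategoryTheory AlgebraicGeometry TopologicalSpace

namespace Groth.Agent.Helper4.MeroDomain

variable {X : Scheme.{u}}

theorem frac_val {U W : X.Opens} (hWU : W ≤ U) (t : Γ(Mero.kmod X, U)) (a : Γ(X, W))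
    (b : Mero.regSub X W) (y : X) (hy : y ∈ W)
    (hab : t.1 ⟨y, hWU hy⟩ =
      LocalizedModule.mk (X.presheaf.germ W y hy a) (Mero.regGerm ⟨y, hy⟩ b)) :
    algebraMap (X.presheaf.stalk y) (Mero.KStalk X y) (X.presheaf.germ W y hy b.1) *
      t.1 ⟨y, hWU hy⟩ =
    algebraMap (X.presheaf.stalk y) (Mero.KStalk X y) (X.presheaf.germ W y hy a) := by
  rw [hab]
  show algebraMap (X.presheaf.stalk y) (Localization (Mero.regStalk X y))
      ((Mero.regGerm ⟨y, hy⟩ b : Mero.regStalk X y) : X.presheaf.stalk y) *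
    Localization.mk (X.presheaf.germ W y hy a) (Mero.regGerm ⟨y, hy⟩ b) = _
  rw [Localization.mk_eq_mk', IsLocalization.mk'_spec']

theorem mem_range_iff {U W : X.Opens} (hWU : W ≤ U) (t : Γ(Mero.kmod X, U)) (a : Γ(X, W))
    (b : Mero.regSub X W) (y : X) (hy : y ∈ W)
    (hab : t.1 ⟨y, hWU hy⟩ =
      LocalizedModule.mk (X.presheaf.germ W y hy a) (Mero.regGerm ⟨y, hy⟩ b)) :
    t.1 ⟨y, hWU hy⟩ ∈ (algebraMap (X.presheaf.stalk y) (Mero.KStalk X y)).range ↔
      ∃ c : X.presheaf.stalk y, X.presheaf.germ W y hy b.1 * c = X.presheaf.germ W y hy a := by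
  have hval := frac_val hWU t a b y hy hab
  constructor
  · rintro ⟨c, hc⟩
    refine ⟨c, Mero.algebraMap_KStalk_injective y ?_⟩
    rw [map_mul, hc, hval]
  · rintro ⟨c, hc⟩
    refine ⟨c, ?_⟩
    have hbu : IsUnit (algebraMap (X.presheaf.stalk y) (Mero.KStalk X y)
        (X.presheaf.germ W y hy b.1)) :=
      IsLocalization.map_units (Mero.KStalk X y) (Mero.regGerm ⟨y, hy⟩ b)
    apply hbu.mul_left_cancel
    rw [hval, ← map_mul, hc]

theorem isOpen_domain (f : Γ(Mero.kmod X, ⊤)) :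
    IsOpen {x : X | f.1 ⟨x, Opens.mem_top x⟩ ∈
      (algebraMap (X.presheaf.stalk x) (Mero.KStalk X x)).range} := by
  rw [isOpen_iff_forall_mem_open]
  intro x hx
  obtain ⟨W, hxW, hWU, a, b, hab⟩ := MeroReg2.exists_frac f x (Opens.mem_top x)
  obtain ⟨c, h1⟩ := (mem_range_iff hWU f a b x hxW (hab x hxW)).mp hx
  obtain ⟨V₀, hxV₀, r, hr⟩ := X.presheaf.exists_germ_eq c
  have hxO : x ∈ W ⊓ V₀ := ⟨hxW, hxV₀⟩
  obtain ⟨b', hb'⟩ : ∃ b' : Γ(X, W ⊓ V₀),
      b' = X.presheaf.map (homOfLE (inf_le_left : W ⊓ V₀ ≤ W)).op b.1 := ⟨_, rfl⟩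
  obtain ⟨a', ha'⟩ : ∃ a' : Γ(X, W ⊓ V₀),
      a' = X.presheaf.map (homOfLE (inf_le_left : W ⊓ V₀ ≤ W)).op a := ⟨_, rfl⟩
  obtain ⟨r', hr'⟩ : ∃ r' : Γ(X, W ⊓ V₀),
      r' = X.presheaf.map (homOfLE (inf_le_right : W ⊓ V₀ ≤ V₀)).op r := ⟨_, rfl⟩
  have hgb : ∀ (y : X) (hy : y ∈ W ⊓ V₀),
      X.presheaf.germ (W ⊓ V₀) y hy b' = X.presheaf.germ W y hy.1 b.1 := fun y hy => by
    rw [hb']; exact TopCat.Presheaf.germ_res_apply X.presheaf (homOfLE inf_le_left) y hy b.1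
  have hga : ∀ (y : X) (hy : y ∈ W ⊓ V₀),
      X.presheaf.germ (W ⊓ V₀) y hy a' = X.presheaf.germ W y hy.1 a := fun y hy => by
    rw [ha']; exact TopCat.Presheaf.germ_res_apply X.presheaf (homOfLE inf_le_left) y hy a
  have hgr : ∀ (y : X) (hy : y ∈ W ⊓ V₀),
      X.presheaf.germ (W ⊓ V₀) y hy r' = X.presheaf.germ V₀ y hy.2 r := fun y hy => by
    rw [hr']; exact TopCat.Presheaf.germ_res_apply X.presheaf (homOfLE inf_le_right) y hy r
  have h2 : X.presheaf.germ (W ⊓ V₀) x hxO (b' * r') = X.presheaf.germ (W ⊓ V₀) x hxO a' := by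
    rw [map_mul, hgb, hgr, hga, hr]
    exact h1
  obtain ⟨W', hxW', i₁, i₂, h3⟩ := X.presheaf.germ_eq x hxO hxO _ _ h2
  refine ⟨W', ?_, W'.isOpen, hxW'⟩
  intro y hyW'
  have hyO : y ∈ W ⊓ V₀ := i₁.le hyW'
  have h4 : X.presheaf.germ W y hyO.1 b.1 * X.presheaf.germ V₀ y hyO.2 r =
      X.presheaf.germ W y hyO.1 a := by
    have h5 := congrArg (X.presheaf.germ W' y hyW') h3
    rw [TopCat.Presheaf.germ_res_apply, TopCat.Presheaf.germ_res_apply, map_mul, hgb, hgr,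
      hga] at h5
    exact h5
  exact (mem_range_iff hWU f a b y hyO.1 (hab y hyO.1)).mpr ⟨_, h4⟩

theorem isSchematicallyDense_domain (f : Γ(Mero.kmod X, ⊤)) (D : X.Opens)
    (hD : (D : Set X) = {x : X | f.1 ⟨x, Opens.mem_top x⟩ ∈
      (algebraMap (X.presheaf.stalk x) (Mero.KStalk X x)).range}) (V : X.Opens) :
    Function.Injective (X.presheaf.map (homOfLE (inf_le_left : V ⊓ D ≤ V)).op) := by
  intro s₁ s₂ h
  have hgerm : ∀ (y : X) (hy : y ∈ V ⊓ D),
      X.presheaf.germ V y hy.1 s₁ = X.presheaf.germ V y hy.1 s₂ := by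
    intro y hy
    have h5 := congrArg (X.presheaf.germ (V ⊓ D) y hy) h
    rw [TopCat.Presheaf.germ_res_apply, TopCat.Presheaf.germ_res_apply] at h5
    exact h5
  apply TopCat.Presheaf.section_ext X.sheaf V _ _
  intro x hxV
  obtain ⟨W, hxW, hWU, a, b, hab⟩ := MeroReg2.exists_frac f x (Opens.mem_top x)
  have hxO : x ∈ W ⊓ V := ⟨hxW, hxV⟩
  obtain ⟨_, ⟨W', hW', rfl⟩, hxW', hW'O⟩ :=
    X.isBasis_affineOpens.exists_subset_of_mem_open hxO (W ⊓ V).isOpen
  have hW'W : W' ≤ W := fun y hy => (hW'O hy).1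
  have hW'V : W' ≤ V := fun y hy => (hW'O hy).2
  obtain ⟨b', hb'⟩ : ∃ b' : Γ(X, W'), b' = X.presheaf.map (homOfLE hW'W).op b.1 := ⟨_, rfl⟩
  have hb'reg : b' ∈ Mero.regSub X W' := hb' ▸ Mero.regSub_res (homOfLE hW'W) b.2
  have hb'nzd : b' ∈ nonZeroDivisors Γ(X, W') := MeroCurve.nzd_of_regSub W' b' hb'reg
  obtain ⟨t, ht⟩ : ∃ t : Γ(X, W'), t = X.presheaf.map (homOfLE hW'V).op s₁ -
      X.presheaf.map (homOfLE hW'V).op s₂ := ⟨_, rfl⟩
  have hgt : ∀ (y : X) (hy : y ∈ W'), X.presheaf.germ W' y hy t =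
      X.presheaf.germ V y (hW'V hy) s₁ - X.presheaf.germ V y (hW'V hy) s₂ := by
    intro y hy
    rw [ht, map_sub, TopCat.Presheaf.germ_res_apply, TopCat.Presheaf.germ_res_apply]
  haveI hloc := hW'.isLocalization_basicOpen b'
  have h6 : algebraMap Γ(X, W') Γ(X, X.basicOpen b') t = algebraMap Γ(X, W') Γ(X, X.basicOpen b') 0 := by
    rw [map_zero]
    apply TopCat.Presheaf.section_ext X.sheaf (X.basicOpen b') _ _
    intro y hyb
    have hyW' : y ∈ W' := X.basicOpen_le b' hyb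
    have hbu : IsUnit (X.presheaf.germ W' y hyW' b') := (X.mem_basicOpen b' y hyW').mp hyb
    have hbu' : IsUnit (X.presheaf.germ W y (hW'W hyW') b.1) := by
      rw [hb', TopCat.Presheaf.germ_res_apply] at hbu
      exact hbu
    have hyD : y ∈ D := by
      show y ∈ (D : Set X)
      rw [hD]
      refine (mem_range_iff hWU f a b y (hW'W hyW') (hab y (hW'W hyW'))).mpr
        ⟨((hbu'.unit⁻¹ : (X.presheaf.stalk y)ˣ) : X.presheaf.stalk y) *
          X.presheaf.germ W y (hW'W hyW') a, ?_⟩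
      rw [← mul_assoc, IsUnit.mul_val_inv, one_mul]
    have h7 := hgerm y ⟨hW'V hyW', hyD⟩
    have h8 : X.presheaf.germ (X.basicOpen b') y hyb
        (algebraMap Γ(X, W') Γ(X, X.basicOpen b') t) = X.presheaf.germ W' y hyW' t :=
      TopCat.Presheaf.germ_res_apply X.presheaf (homOfLE (X.basicOpen_le b')) y hyb t
    change X.presheaf.germ (X.basicOpen b') y hyb
      (algebraMap Γ(X, W') Γ(X, X.basicOpen b') t) = X.presheaf.germ (X.basicOpen b') y hyb 0
    rw [h8, hgt y hyW', h7, sub_self, map_zero]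
  obtain ⟨n, hn⟩ := IsLocalization.Away.exists_of_eq b' h6
  rw [mul_zero] at hn
  have ht0 : t = 0 := (mem_nonZeroDivisors_iff_left.mp (pow_mem hb'nzd n)) t hn
  have h9 := hgt x hxW'
  rw [ht0, map_zero] at h9
  exact (sub_eq_zero.mp h9.symm)

end Groth.Agent.Helper4.MeroDomain
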