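import Mathlib
import Groth.Prelude.Def_MeroSh
import Groth.Agent.Lib.Helper4.WeakAss
import Groth.Agent.Lib.Helper4.MeroReg2

/-!
# Pullback of regular sections along a morphism sending weakly associated points to maximal
points
-/

set_option autoImplicit false
set_option linter.style.haveILetI false

universe u

open CategoryTheory AlgebraicGeometry TopologicalSpace

namespace Groth.Agent.Helper4.MeroRegPull

open Groth.Agent.Helper4.WeakAss Groth.Agent.Helper4.MeroReg2 Groth.Agent.Helper4.BlowupIso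

theorem regSub_pullback_of_weakAss {X Y : Scheme.{u}} (f : X ⟶ Y)
    (h : ∀ x : ↥X, Curv2.IsWeakAssPoint (Coh.structureModule X) x → ∀ y : ↥Y, y ⤳ f x → y = f x)
    (U : Y.Opens) (s : Γ(Y, U)) (hs : s ∈ Mero.regSub Y U) :
    f.app U s ∈ Mero.regSub X (f ⁻¹ᵁ U) := by
  rintro ⟨x, hx⟩
  show X.presheaf.germ (f ⁻¹ᵁ U) x hx (f.app U s) ∈ nonZeroDivisors _
  obtain ⟨_, ⟨W, hW, rfl⟩, hxW, hWU⟩ :=
    X.isBasis_affineOpens.exists_subset_of_mem_open hx (f ⁻¹ᵁ U).isOpen
  have hWU' : W ≤ f ⁻¹ᵁ U := hWU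
  obtain ⟨σ, hσ⟩ : ∃ σ : Γ(X, W), σ = X.presheaf.map (homOfLE hWU').op (f.app U s) := ⟨_, rfl⟩
  have hσnzd : σ ∈ nonZeroDivisors Γ(X, W) := by
    rw [mem_nonZeroDivisors_iff_left]
    intro c hac
    by_contra hc0
    obtain ⟨p, hp, hap⟩ := exists_minimalPrimes_of_mul_eq_zero σ c hac hc0
    haveI : p.IsPrime := hp.1.1
    let y : PrimeSpectrum Γ(X, W) := ⟨p, inferInstance⟩
    have hw := isWeakAssPoint_of_minimalPrimes hW c y hp
    have hyW : hW.fromSpec y ∈ W := fromSpec_mem hW y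
    have hfyU : f (hW.fromSpec y) ∈ U := hWU' hyW
    have hunit : IsUnit (Y.presheaf.germ U (f (hW.fromSpec y)) hfyU s) :=
      isUnit_of_mem_nonZeroDivisors_of_isMax (f (hW.fromSpec y)) (h _ hw) _
        (hs ⟨f (hW.fromSpec y), hfyU⟩)
    have hfys : f (hW.fromSpec y) ∈ Y.basicOpen s := (Y.mem_basicOpen s _ hfyU).mpr hunit
    have hyσ : hW.fromSpec y ∈ X.basicOpen σ := by
      rw [hσ, Scheme.basicOpen_res, ← Scheme.preimage_basicOpen]
      exact ⟨hyW, hfys⟩
    rw [X.mem_basicOpen _ _ hyW] at hyσ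
    have := (@IsLocalization.AtPrime.isUnit_to_map_iff Γ(X, W) _
      (X.presheaf.stalk (hW.fromSpec y)) _
      (TopCat.Presheaf.algebra_section_stalk X.presheaf ⟨hW.fromSpec y, hyW⟩) p _
      (hW.isLocalization_stalk' y hyW) _).mp hyσ
    exact this hap
  have h3 := germ_mem_nonZeroDivisors hW σ hσnzd x hxW
  rw [hσ, TopCat.Presheaf.germ_res_apply] at h3
  exact h3

end Groth.Agent.Helper4.MeroRegPull
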