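import Mathlib
import Groth.Prelude.Def_MeroDiv
import Groth.Prelude.Def_CAlg
import Groth.Agent.Lib.Helper4.DepthOne
import Groth.Agent.Lib.Helper4.MeroReg2
import Groth.Agent.Lib.Helper4.BlowupIso

/-!
# Divisors on the spectrum of a Noetherian local ring of depth zero
-/

set_option autoImplicit false
set_option linter.style.haveILetI false

universe u

open CategoryTheory AlgebraicGeometry TopologicalSpace

namespace Groth.Agent.Helper4.MeroSpecLocal

variable (A : Type u) [CommRing A] [IsLocalRing A]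

theorem eq_top_of_mem (U : (Spec (CommRingCat.of A)).Opens)
    (h : (IsLocalRing.closedPoint A : Spec (CommRingCat.of A)) ∈ U) : U = ⊤ :=
  (IsLocalRing.closedPoint_mem_iff (R := A) U).mp h

variable [IsNoetherianRing A]

theorem isUnit_of_mem_regSub (hd : LocCoh.depth A A = 0)
    (s : Γ(Spec (CommRingCat.of A), ⊤))
    (hs : s ∈ Mero.regSub (Spec (CommRingCat.of A)) ⊤) : IsUnit s := by
  have hnzd : s ∈ nonZeroDivisors Γ(Spec (CommRingCat.of A), ⊤) :=
    Groth.Agent.Helper4.BlowupIso.mem_nonZeroDivisors_of_germ s (fun x hx => hs ⟨x, hx⟩)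
  let e : Γ(Spec (CommRingCat.of A), ⊤) ≃+* A :=
    (Scheme.ΓSpecIso (CommRingCat.of A)).commRingCatIsoToRingEquiv
  have hnzd' : e s ∈ nonZeroDivisors A := by
    rw [mem_nonZeroDivisors_iff_right]
    intro z hz
    have h1 : e.symm z * s = 0 := by
      apply e.injective
      rw [map_mul, e.apply_symm_apply, hz, map_zero]
    have h2 := (mem_nonZeroDivisors_iff_right.mp hnzd) _ h1
    have h3 := congrArg e h2
    rwa [e.apply_symm_apply, map_zero] at h3
  have hass : IsAssociatedPrime (IsLocalRing.maximalIdeal A) A := by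
    by_contra hna
    have h1 := (Groth.Agent.Helper4.DepthOne.one_le_depth_iff A).mpr hna
    rw [hd] at h1
    simp at h1
  rw [isAssociatedPrime_iff] at hass
  obtain ⟨-, t, ht⟩ := hass
  have hu : IsUnit (e s) := by
    rw [← IsLocalRing.notMem_maximalIdeal]
    intro hm
    rw [ht, Submodule.mem_colon_singleton, Submodule.mem_bot, smul_eq_mul] at hm
    have ht0 : t = 0 := (mem_nonZeroDivisors_iff.mp hnzd').1 t hm
    apply (IsLocalRing.maximalIdeal.isMaximal A).ne_top
    rw [ht, ht0]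
    ext z
    simp [Submodule.mem_colon_singleton]
  exact (isUnit_map_iff e s).mp hu

theorem eq_one_of_depth_zero (hd : LocCoh.depth A A = 0)
    (D : Mero.Divisor (Spec (CommRingCat.of A))) : D = 1 := by
  apply Subtype.ext
  funext y
  show D.1 y = 1
  obtain ⟨U, hxU, f, hU⟩ := D.2 (IsLocalRing.closedPoint A : Spec (CommRingCat.of A))
  obtain rfl : U = ⊤ := eq_top_of_mem A U hxU
  obtain ⟨W, hxW, hWU, a, b, hab⟩ := Groth.Agent.Helper4.MeroReg2.exists_frac
    (f : Γ(Mero.kmod (Spec (CommRingCat.of A)), ⊤))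
    (IsLocalRing.closedPoint A : Spec (CommRingCat.of A)) hxU
  obtain rfl : W = ⊤ := eq_top_of_mem A W hxW
  obtain ⟨W', hxW', hWU', a', b', hab'⟩ := Groth.Agent.Helper4.MeroReg2.exists_frac
    ((f⁻¹ : (Γ(Mero.kmod (Spec (CommRingCat.of A)), ⊤))ˣ) :
      Γ(Mero.kmod (Spec (CommRingCat.of A)), ⊤))
    (IsLocalRing.closedPoint A : Spec (CommRingCat.of A)) hxU
  obtain rfl : W' = ⊤ := eq_top_of_mem A W' hxW'
  have ha : a ∈ Mero.regSub (Spec (CommRingCat.of A)) ⊤ := by
    intro z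
    have h1 : (f : Γ(Mero.kmod (Spec (CommRingCat.of A)), ⊤)).1 ⟨z.1, z.2⟩ *
        ((f⁻¹ : (Γ(Mero.kmod (Spec (CommRingCat.of A)), ⊤))ˣ) :
          Γ(Mero.kmod (Spec (CommRingCat.of A)), ⊤)).1 ⟨z.1, z.2⟩ = 1 := by
      rw [← Mero.kmod_mul_apply, Units.mul_inv, Mero.kmod_one_apply]
    rw [hab z.1 z.2, hab' z.1 z.2] at h1
    have h1' : (LocalizedModule.mk ((Spec (CommRingCat.of A)).presheaf.germ ⊤ z.1 z.2 a *
          (Spec (CommRingCat.of A)).presheaf.germ ⊤ z.1 z.2 a')
        (Mero.regGerm ⟨z.1, z.2⟩ b * Mero.regGerm ⟨z.1, z.2⟩ b') :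
        Mero.KStalk (Spec (CommRingCat.of A)) z.1) = 1 :=
      LocalizedModule.mk_mul_mk.symm.trans h1
    have h2 := h1'.trans (Mero.mk_self_eq_one
      (Mero.regGerm ⟨z.1, z.2⟩ b * Mero.regGerm ⟨z.1, z.2⟩ b')).symm
    rw [Groth.Agent.Helper4.MeroReg2.mk_eq_mk_iff] at h2
    have hbb := Mero.regStalk_le_nonZeroDivisors z.1
      (Mero.regGerm ⟨z.1, z.2⟩ b * Mero.regGerm ⟨z.1, z.2⟩ b').2
    have h3 := (mul_cancel_left_mem_nonZeroDivisors hbb).mp h2
    have h4 : (Spec (CommRingCat.of A)).presheaf.germ ⊤ z.1 z.2 a *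
        (Spec (CommRingCat.of A)).presheaf.germ ⊤ z.1 z.2 a' ∈
        nonZeroDivisors ((Spec (CommRingCat.of A)).presheaf.stalk z.1) := by
      rw [h3]; exact hbb
    exact (mul_mem_nonZeroDivisors.mp h4).1
  have hyT : y ∈ (⊤ : (Spec (CommRingCat.of A)).Opens) := trivial
  have hau := isUnit_of_mem_regSub A hd a ha
  have hbu := isUnit_of_mem_regSub A hd b.1 b.2
  rw [hU ⟨y, hyT⟩, QuotientGroup.eq_one_iff]
  have hay : IsUnit ((Spec (CommRingCat.of A)).presheaf.germ ⊤ y hyT a) :=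
    hau.map ((Spec (CommRingCat.of A)).presheaf.germ ⊤ y hyT).hom
  have hby : IsUnit ((Spec (CommRingCat.of A)).presheaf.germ ⊤ y hyT b.1) :=
    hbu.map ((Spec (CommRingCat.of A)).presheaf.germ ⊤ y hyT).hom
  refine MonoidHom.mem_range.mpr ⟨hay.unit * hby.unit⁻¹, Units.ext ?_⟩
  rw [Units.coe_map]
  show algebraMap ((Spec (CommRingCat.of A)).presheaf.stalk y)
      (Mero.KStalk (Spec (CommRingCat.of A)) y)
      ((hay.unit * hby.unit⁻¹ : ((Spec (CommRingCat.of A)).presheaf.stalk y)ˣ) :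
        (Spec (CommRingCat.of A)).presheaf.stalk y) =
    (f : Γ(Mero.kmod (Spec (CommRingCat.of A)), ⊤)).1 ⟨y, hyT⟩
  rw [hab y hyT]
  have hbK : IsUnit (algebraMap ((Spec (CommRingCat.of A)).presheaf.stalk y)
      (Mero.KStalk (Spec (CommRingCat.of A)) y)
      ((Spec (CommRingCat.of A)).presheaf.germ ⊤ y hyT b.1)) := hby.map _
  apply hbK.mul_left_cancel
  rw [← map_mul]
  have e1 : (Spec (CommRingCat.of A)).presheaf.germ ⊤ y hyT b.1 *
      ((hay.unit * hby.unit⁻¹ : ((Spec (CommRingCat.of A)).presheaf.stalk y)ˣ) :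
        (Spec (CommRingCat.of A)).presheaf.stalk y) =
      (Spec (CommRingCat.of A)).presheaf.germ ⊤ y hyT a := by
    have h1 : (hay.unit : (Spec (CommRingCat.of A)).presheaf.stalk y) =
        (Spec (CommRingCat.of A)).presheaf.germ ⊤ y hyT a := hay.unit_spec
    have h2 : (Spec (CommRingCat.of A)).presheaf.germ ⊤ y hyT b.1 *
        ((hby.unit⁻¹ : ((Spec (CommRingCat.of A)).presheaf.stalk y)ˣ) :
          (Spec (CommRingCat.of A)).presheaf.stalk y) = 1 := hby.mul_val_inv
    rw [Units.val_mul, h1, mul_left_comm, h2, mul_one]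
  rw [e1]
  symm
  show algebraMap ((Spec (CommRingCat.of A)).presheaf.stalk y)
      (Localization (Mero.regStalk (Spec (CommRingCat.of A)) y))
      ((Mero.regGerm ⟨y, hyT⟩ b : Mero.regStalk (Spec (CommRingCat.of A)) y) :
        (Spec (CommRingCat.of A)).presheaf.stalk y) *
    Localization.mk ((Spec (CommRingCat.of A)).presheaf.germ ⊤ y hyT a)
      (Mero.regGerm ⟨y, hyT⟩ b) = _
  rw [Localization.mk_eq_mk', IsLocalization.mk'_spec']

theorem depth_zero_of_forall_eq_one
    (h : ∀ D : Mero.Divisor (Spec (CommRingCat.of A)), D = 1) : LocCoh.depth A A = 0 := by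
  by_contra hne
  have h1 : (1 : ℕ∞) ≤ LocCoh.depth A A := Order.one_le_iff_ne_zero.mpr hne
  obtain ⟨r, hrm, hreg⟩ : ∃ r ∈ IsLocalRing.maximalIdeal A, IsSMulRegular A r := by
    have hne' : IsLocalRing.maximalIdeal A • (⊤ : Submodule A A) ≠ ⊤ := by
      rw [smul_eq_mul, Ideal.mul_top]
      exact (IsLocalRing.maximalIdeal.isMaximal A).ne_top
    unfold LocCoh.depth LocCoh.idealDepth at h1
    rw [if_neg hne'] at h1
    have hpos : (0 : ℕ∞) < ⨆ (rs : List A) (_ : RingTheory.Sequence.IsWeaklyRegular A rs ∧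
        ∀ r ∈ rs, r ∈ IsLocalRing.maximalIdeal A), (rs.length : ℕ∞) :=
      lt_of_lt_of_le zero_lt_one h1
    obtain ⟨rs, hrs⟩ := lt_iSup_iff.mp hpos
    obtain ⟨hrs1, hrs2⟩ := lt_iSup_iff.mp hrs
    cases rs with
    | nil => simp at hrs2
    | cons b rest =>
      exact ⟨b, hrs1.2 b List.mem_cons_self,
        ((RingTheory.Sequence.isWeaklyRegular_cons_iff A b rest).mp hrs1.1).1⟩
  let e : Γ(Spec (CommRingCat.of A), ⊤) ≃+* A :=
    (Scheme.ΓSpecIso (CommRingCat.of A)).commRingCatIsoToRingEquiv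
  let s : Γ(Spec (CommRingCat.of A), ⊤) := (Scheme.ΓSpecIso (CommRingCat.of A)).inv r
  have hes : e s = r := e.apply_symm_apply r
  have hsnzd : s ∈ nonZeroDivisors Γ(Spec (CommRingCat.of A), ⊤) := by
    rw [mem_nonZeroDivisors_iff_right]
    intro z hz
    have h2 : e z * r = 0 := by rw [← hes, ← map_mul, hz, map_zero]
    have h3 : e z = 0 := hreg (by
      show r • e z = r • (0 : A)
      rw [smul_eq_mul, smul_zero, mul_comm]; exact h2)
    have h4 := congrArg e.symm h3
    rwa [e.symm_apply_apply, map_zero] at h4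
  have hsreg : s ∈ Mero.regSub (Spec (CommRingCat.of A)) ⊤ := fun y =>
    Groth.Agent.Helper4.BlowupIso.germ_mem_nonZeroDivisors
      (isAffineOpen_top (Spec (CommRingCat.of A))) s hsnzd y.1 y.2
  let sb : Mero.regSub (Spec (CommRingCat.of A)) ⊤ := ⟨s, hsreg⟩
  let g : Γ(Mero.kmod (Spec (CommRingCat.of A)), ⊤) :=
    ⟨fun y => LocalizedModule.mk 1 (Mero.regGerm y sb),
      fun y => ⟨⊤, trivial, 𝟙 _, 1, sb, fun z => Mero.mk_congr (map_one _).symm rfl⟩⟩
  have hfg : Mero.toK (Spec (CommRingCat.of A)) ⊤ s * g = 1 := by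
    apply Subtype.ext
    funext y
    show (LocalizedModule.mk ((Spec (CommRingCat.of A)).presheaf.germ ⊤ y.1 y.2 s) 1 :
        Mero.KStalk (Spec (CommRingCat.of A)) y.1) *
      LocalizedModule.mk 1 (Mero.regGerm y sb) = 1
    exact LocalizedModule.mk_mul_mk.trans ((Mero.mk_congr (mul_one _) (by rw [one_mul])).trans
      (Mero.mk_self_eq_one (Mero.regGerm y sb)))
  let fu : (Γ(Mero.kmod (Spec (CommRingCat.of A)), ⊤))ˣ :=
    ⟨Mero.toK (Spec (CommRingCat.of A)) ⊤ s, g, hfg, by rw [mul_comm]; exact hfg⟩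
  have hD := h (Mero.div fu)
  have hD0 : (Mero.div fu).1 (IsLocalRing.closedPoint A : Spec (CommRingCat.of A)) = 1 := by
    rw [hD]; rfl
  have hmem : Units.map (Mero.evalK (Spec (CommRingCat.of A)) ⊤
      ⟨(IsLocalRing.closedPoint A : Spec (CommRingCat.of A)), trivial⟩).toMonoidHom fu ∈
      Mero.stalkUnits (Spec (CommRingCat.of A))
        (IsLocalRing.closedPoint A : Spec (CommRingCat.of A)) :=
    (QuotientGroup.eq_one_iff _).mp hD0
  obtain ⟨v, hv⟩ := MonoidHom.mem_range.mp hmem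
  have hv' : algebraMap ((Spec (CommRingCat.of A)).presheaf.stalk
        (IsLocalRing.closedPoint A : Spec (CommRingCat.of A)))
      (Mero.KStalk (Spec (CommRingCat.of A))
        (IsLocalRing.closedPoint A : Spec (CommRingCat.of A)))
      (v : (Spec (CommRingCat.of A)).presheaf.stalk
        (IsLocalRing.closedPoint A : Spec (CommRingCat.of A))) =
      algebraMap _ _ ((Spec (CommRingCat.of A)).presheaf.germ ⊤
        (IsLocalRing.closedPoint A : Spec (CommRingCat.of A)) trivial s) :=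
    congrArg (fun w : (Mero.KStalk (Spec (CommRingCat.of A))
      (IsLocalRing.closedPoint A : Spec (CommRingCat.of A)))ˣ =>
      (w : Mero.KStalk (Spec (CommRingCat.of A))
        (IsLocalRing.closedPoint A : Spec (CommRingCat.of A)))) hv
  have hvs := Mero.algebraMap_KStalk_injective _ hv'
  have hunit : IsUnit ((Spec (CommRingCat.of A)).presheaf.germ ⊤
      (IsLocalRing.closedPoint A : Spec (CommRingCat.of A)) trivial s) := hvs ▸ v.isUnit
  have hmemb : (IsLocalRing.closedPoint A : Spec (CommRingCat.of A)) ∈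
      (Spec (CommRingCat.of A)).basicOpen s :=
    (Scheme.mem_basicOpen (Spec (CommRingCat.of A)) s _ trivial).mpr hunit
  have hbo : (Spec (CommRingCat.of A)).basicOpen s = PrimeSpectrum.basicOpen r :=
    basicOpen_eq_of_affine (R := CommRingCat.of A) r
  rw [hbo] at hmemb
  exact hmemb hrm

end Groth.Agent.Helper4.MeroSpecLocal
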