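import Mathlib
import Groth.Prelude.Def_MeroSh
import Groth.Agent.Lib.Helper4.MeroReg2
import Groth.Agent.Lib.Helper4.SchDense
import Groth.Agent.Lib.Helper4.WeakAss

/-!
# Meromorphic functions on an affine open of a locally Noetherian scheme form the total ring of
fractions
-/

set_option autoImplicit false
set_option linter.style.haveILetI false

universe u

open CategoryTheory AlgebraicGeometry TopologicalSpace

namespace Groth.Agent.Helper4.MeroTotalFrac

open Groth.Agent.Helper4.MeroReg2 Groth.Agent.Helper4.BlowupIso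

theorem exists_pow_mul_eq_zero_of_isCompact (X : Scheme.{u}) (U : X.Opens)
    (hUc : IsCompact (U : Set X)) (h : Γ(X, U)) (f : Γ(Mero.kmod X, U))
    (hf : ∀ (y : X) (hy : y ∈ X.basicOpen h), f.1 ⟨y, X.basicOpen_le h hy⟩ = 0) :
    ∃ n : ℕ, Mero.toK X U h ^ n * f = 0 := by
  have hloc : ∀ x : U, ∃ (W : X.Opens) (n : ℕ), x.1 ∈ W ∧
      ∀ (y : X) (hyU : y ∈ U) (_ : y ∈ W) (m : ℕ), n ≤ m →
      (Mero.toK X U (h ^ m)).1 ⟨y, hyU⟩ * f.1 ⟨y, hyU⟩ = 0 := by
    rintro ⟨x, hxU⟩
    obtain ⟨W, hW, hxW, hWU, a, b, w⟩ := exists_frac_affine f x hxU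
    set hW' : Γ(X, W) := X.presheaf.map (homOfLE hWU).op h with hhW
    have hres : (X.presheaf.map (homOfLE (X.basicOpen_le hW')).op).hom a = 0 := by
      apply TopCat.Presheaf.section_ext X.sheaf (X.basicOpen hW') _ 0
      intro y hy
      have hyW : y ∈ W := X.basicOpen_le hW' hy
      have hyh : y ∈ X.basicOpen h := by
        have := hy
        rw [hhW, Scheme.basicOpen_res] at this
        exact this.2
      have e1 := w y hyW
      rw [hf y hyh] at e1
      have e2 : X.presheaf.germ W y hyW a = 0 := (mk_eq_zero_iff y _ _).mp e1.symm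
      change X.presheaf.germ (X.basicOpen hW') y hy
        (X.presheaf.map (homOfLE (X.basicOpen_le hW')).op a) =
          X.presheaf.germ (X.basicOpen hW') y hy 0
      rw [map_zero, TopCat.Presheaf.germ_res_apply]
      exact e2
    obtain ⟨n, hn⟩ :=
      exists_pow_mul_eq_zero_of_res_basicOpen_eq_zero_of_isAffineOpen X hW a hW' hres
    refine ⟨W, n, hxW, ?_⟩
    intro y hyU hy m hm
    rw [w y hy]
    show (LocalizedModule.mk (X.presheaf.germ U y hyU (h ^ m)) 1 : Mero.KStalk X y) *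
      LocalizedModule.mk _ _ = 0
    refine (LocalizedModule.mk_mul_mk (S := Mero.regStalk X y)).trans ?_
    refine (mk_eq_zero_iff y _ _).mpr ?_
    have e5 : X.presheaf.germ U y hyU (h ^ m) = X.presheaf.germ W y hy (hW' ^ m) := by
      rw [hhW, ← map_pow, TopCat.Presheaf.germ_res_apply]
    rw [e5, ← map_mul]
    have e6 : hW' ^ m * a = 0 := by
      obtain ⟨k, rfl⟩ := Nat.exists_eq_add_of_le hm
      rw [pow_add, mul_right_comm, hn, zero_mul]
    rw [e6, map_zero]
  choose W n hxW hWn using hloc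
  obtain ⟨t, ht⟩ := hUc.elim_finite_subcover (fun x : U => (W x : Set X))
    (fun x => (W x).isOpen) (fun y hy => Set.mem_iUnion.mpr ⟨⟨y, hy⟩, hxW ⟨y, hy⟩⟩)
  refine ⟨t.sup n, ?_⟩
  rw [← map_pow]
  apply Subtype.ext
  funext ⟨y, hy⟩
  obtain ⟨x, hxt, hyx⟩ := Set.mem_iUnion₂.mp (ht hy)
  exact hWn x y hy hyx (t.sup n) (Finset.le_sup hxt)

theorem isLocalization_kmod (X : Scheme.{u}) [IsLocallyNoetherian X] (U : X.affineOpens) :
    @IsLocalization Γ(X, U.1) _ (nonZeroDivisors Γ(X, U.1)) Γ(Mero.kmod X, U.1) _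
      (Mero.toK X U.1).toAlgebra := by
  letI alg : Algebra Γ(X, U.1) Γ(Mero.kmod X, U.1) := (Mero.toK X U.1).toAlgebra
  haveI : IsNoetherianRing Γ(X, U.1) := IsLocallyNoetherian.component_noetherian U
  have hreg : ∀ b ∈ nonZeroDivisors Γ(X, U.1), b ∈ Mero.regSub X U.1 :=
    fun b hb x => germ_mem_nonZeroDivisors U.2 b hb x.1 x.2
  rw [isLocalization_iff]
  refine ⟨?_, ?_, ?_⟩
  · rintro ⟨b, hb⟩
    let v : Γ(Mero.kmod X, U.1) :=
      ⟨fun x => LocalizedModule.mk 1 (Mero.regGerm x ⟨b, hreg b hb⟩),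
        fun x => ⟨U.1, x.2, 𝟙 _, 1, ⟨b, hreg b hb⟩, fun y => Mero.mk_congr (map_one _).symm rfl⟩⟩
    refine IsUnit.of_mul_eq_one v ?_
    apply Subtype.ext
    funext x
    show (LocalizedModule.mk (X.presheaf.germ U.1 x.1 x.2 b) 1 : Mero.KStalk X x.1) *
      LocalizedModule.mk 1 (Mero.regGerm x ⟨b, hreg b hb⟩) = 1
    refine (LocalizedModule.mk_mul_mk (S := Mero.regStalk X x.1)).trans ?_
    exact (Mero.mk_congr (mul_one _) (one_mul _)).trans
      (Mero.mk_self_eq_one (Mero.regGerm x ⟨b, hreg b hb⟩))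
  · intro t
    let I : Ideal Γ(X, U.1) :=
      { carrier := {b | ∃ a, Mero.toK X U.1 b * t = Mero.toK X U.1 a}
        zero_mem' := ⟨0, by rw [map_zero, zero_mul]⟩
        add_mem' := by
          rintro b b' ⟨a, ha⟩ ⟨a', ha'⟩
          exact ⟨a + a', by rw [map_add, add_mul, ha, ha', map_add]⟩
        smul_mem' := by
          rintro c b ⟨a, ha⟩
          exact ⟨c * a, by rw [smul_eq_mul, map_mul, mul_assoc, ha, map_mul]⟩ }
    have hImem : ∀ b, b ∈ I ↔ ∃ a, Mero.toK X U.1 b * t = Mero.toK X U.1 a := fun b => Iff.rfl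
    have hI : ∃ b ∈ I, b ∈ nonZeroDivisors Γ(X, U.1) := by
      by_contra hcon
      push Not at hcon
      have hfin : (associatedPrimes Γ(X, U.1) Γ(X, U.1)).Finite := associatedPrimes.finite _ _
      have hsub : (I : Set Γ(X, U.1)) ⊆
          ⋃ p ∈ (↑hfin.toFinset : Set (Ideal Γ(X, U.1))), ((id p : Ideal Γ(X, U.1)) : Set _) := by
        rw [Set.Finite.coe_toFinset]
        intro b hb
        have h1 : b ∈ (nonZeroDivisors Γ(X, U.1) : Set Γ(X, U.1))ᶜ := hcon b hb
        rw [← biUnion_associatedPrimes_eq_compl_nonZeroDivisors] at h1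
        exact h1
      obtain ⟨p, hpF, hIp⟩ := (Ideal.subset_union_prime (s := hfin.toFinset) (f := id) ⊥ ⊥
        (fun q hq _ _ => (hfin.mem_toFinset.mp hq).isPrime)).mp hsub
      have hpAss : IsAssociatedPrime p Γ(X, U.1) := hfin.mem_toFinset.mp hpF
      obtain ⟨hpprime, c, hpc⟩ := isAssociatedPrime_iff.mp hpAss
      haveI := hpprime
      let y : PrimeSpectrum Γ(X, U.1) := ⟨p, hpprime⟩
      obtain ⟨x, hxdef⟩ : ∃ x : X, x = U.2.fromSpec y := ⟨_, rfl⟩
      have hxU : x ∈ U.1 := hxdef ▸ WeakAss.fromSpec_mem U.2 y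
      letI algx : Algebra Γ(X, U.1) (X.presheaf.stalk x) :=
        TopCat.Presheaf.algebra_section_stalk X.presheaf ⟨x, hxU⟩
      haveI hlocx : IsLocalization.AtPrime (X.presheaf.stalk x) p := by
        subst hxdef
        exact U.2.isLocalization_stalk' y hxU
      have halgx : ∀ r : Γ(X, U.1), algebraMap Γ(X, U.1) (X.presheaf.stalk x) r =
          X.presheaf.germ U.1 x hxU r := fun r => rfl
      have hass : IsAssociatedPrime (IsLocalRing.maximalIdeal (X.presheaf.stalk x))
          (X.presheaf.stalk x) :=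
        SchDense.isAssociatedPrime_maximalIdeal_of_eq_colon p c hpc
      have hunit : ∀ s : X.presheaf.stalk x, s ∈ nonZeroDivisors (X.presheaf.stalk x) →
          IsUnit s := by
        intro s hs
        by_contra hsu
        obtain ⟨-, m, hm⟩ := isAssociatedPrime_iff.mp hass
        have hsm : s ∈ IsLocalRing.maximalIdeal (X.presheaf.stalk x) :=
          (IsLocalRing.mem_maximalIdeal s).mpr hsu
        rw [hm, Submodule.mem_colon_singleton, Submodule.mem_bot, smul_eq_mul] at hsm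
        have hm0 : m = 0 := mem_nonZeroDivisors_iff_left.mp hs m hsm
        have h1 : (1 : X.presheaf.stalk x) ∈ IsLocalRing.maximalIdeal (X.presheaf.stalk x) := by
          rw [hm, hm0, Submodule.mem_colon_singleton, smul_zero]
          exact Submodule.zero_mem _
        exact (IsLocalRing.maximalIdeal.isMaximal _).ne_top ((Ideal.eq_top_iff_one _).mpr h1)
      -- the value of `t` at `x` lies in the local ring
      obtain ⟨W, hxW, hWU, a₁, b₁, w⟩ := exists_frac t x hxU
      have hb₁u : IsUnit (X.presheaf.germ W x hxW b₁.1) := hunit _ (b₁.2 ⟨x, hxW⟩)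
      obtain ⟨e, he⟩ := hb₁u.exists_right_inv
      obtain ⟨a₀, s₀, hq⟩ := IsLocalization.exists_mk'_eq p.primeCompl
        (X.presheaf.germ W x hxW a₁ * e)
      have hq' : (X.presheaf.germ W x hxW a₁ * e) * X.presheaf.germ U.1 x hxU (s₀ : Γ(X, U.1)) =
          X.presheaf.germ U.1 x hxU a₀ := by
        rw [← hq]
        exact IsLocalization.mk'_spec _ a₀ s₀
      obtain ⟨u, hudef⟩ : ∃ u : Γ(Mero.kmod X, U.1),
          u = Mero.toK X U.1 (s₀ : Γ(X, U.1)) * t - Mero.toK X U.1 a₀ := ⟨_, rfl⟩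
      have hux : u.1 ⟨x, hxU⟩ = 0 := by
        rw [hudef]
        show (LocalizedModule.mk (X.presheaf.germ U.1 x hxU (s₀ : Γ(X, U.1))) 1 :
            Mero.KStalk X x) * t.1 ⟨x, hxU⟩ -
          LocalizedModule.mk (X.presheaf.germ U.1 x hxU a₀) 1 = 0
        rw [sub_eq_zero, w x hxW]
        refine (LocalizedModule.mk_mul_mk (S := Mero.regStalk X x)).trans ?_
        rw [mk_eq_mk_iff]
        show (1 : X.presheaf.stalk x) * (X.presheaf.germ U.1 x hxU (s₀ : Γ(X, U.1)) *
            X.presheaf.germ W x hxW a₁) =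
          ((1 : X.presheaf.stalk x) * X.presheaf.germ W x hxW b₁.1) *
            X.presheaf.germ U.1 x hxU a₀
        rw [← hq']
        calc (1 : X.presheaf.stalk x) * (X.presheaf.germ U.1 x hxU (s₀ : Γ(X, U.1)) *
              X.presheaf.germ W x hxW a₁)
            = (X.presheaf.germ W x hxW b₁.1 * e) *
              (X.presheaf.germ U.1 x hxU (s₀ : Γ(X, U.1)) * X.presheaf.germ W x hxW a₁) := by
              rw [he]
          _ = ((1 : X.presheaf.stalk x) * X.presheaf.germ W x hxW b₁.1) *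
              ((X.presheaf.germ W x hxW a₁ * e) *
                X.presheaf.germ U.1 x hxU (s₀ : Γ(X, U.1))) := by ring
      -- `u` vanishes near `x`
      obtain ⟨W₂, hxW₂, hW₂U, a₂, b₂, w₂⟩ := exists_frac u x hxU
      have ha₂x : X.presheaf.germ W₂ x hxW₂ a₂ = 0 := by
        have h1 := w₂ x hxW₂
        rw [hux] at h1
        exact (mk_eq_zero_iff x _ _).mp h1.symm
      have ha₂x' : X.presheaf.germ W₂ x hxW₂ a₂ = X.presheaf.germ W₂ x hxW₂ 0 := by
        rw [ha₂x, map_zero]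
      obtain ⟨W₃, hxW₃, i₁, i₂, hres⟩ := X.presheaf.germ_eq x hxW₂ hxW₂ _ _ ha₂x'
      obtain ⟨f, hfW₃, hxf⟩ := U.2.exists_basicOpen_le ⟨x, hxW₃⟩ hxU
      have huf : ∀ (z : X) (hz : z ∈ X.basicOpen f), u.1 ⟨z, X.basicOpen_le f hz⟩ = 0 := by
        intro z hz
        have hzW₃ : z ∈ W₃ := hfW₃ hz
        have hzW₂ : z ∈ W₂ := i₁.le hzW₃
        rw [w₂ z hzW₂]
        refine (mk_eq_zero_iff z _ _).mpr ?_
        have h1 := TopCat.Presheaf.germ_res_apply X.presheaf i₁ z hzW₃ a₂
        rw [← h1, hres, map_zero, map_zero]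
      obtain ⟨n, hn⟩ := exists_pow_mul_eq_zero_of_isCompact X U.1 U.2.isCompact f u huf
      have hmemI : f ^ n * (s₀ : Γ(X, U.1)) ∈ I := by
        rw [hImem]
        refine ⟨f ^ n * a₀, ?_⟩
        rw [hudef, mul_sub, sub_eq_zero] at hn
        rw [map_mul, map_mul, map_pow, mul_assoc]
        exact hn
      have hmemp := hIp hmemI
      rcases hpprime.mem_or_mem hmemp with h1 | h1
      · have h2 : f ∈ p := hpprime.mem_of_pow_mem n h1
        have h3 : IsUnit (X.presheaf.germ U.1 x hxU f) := (X.mem_basicOpen f x hxU).mp hxf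
        have h4 := (IsLocalization.AtPrime.isUnit_to_map_iff (X.presheaf.stalk x) p f).mp h3
        exact h4 h2
      · exact s₀.2 h1
    obtain ⟨b, ⟨a, hab⟩, hb⟩ := hI
    refine ⟨(a, ⟨b, hb⟩), ?_⟩
    show t * Mero.toK X U.1 b = Mero.toK X U.1 a
    rw [mul_comm]
    exact hab
  · intro a a' h
    refine ⟨1, ?_⟩
    rw [Submonoid.coe_one, one_mul, one_mul]
    apply TopCat.Presheaf.section_ext X.sheaf U.1 a a'
    intro x hx
    have h1 := congrArg (fun t : Γ(Mero.kmod X, U.1) => t.1 ⟨x, hx⟩) h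
    have h2 : (LocalizedModule.mk (X.presheaf.germ U.1 x hx a) 1 : Mero.KStalk X x) =
        LocalizedModule.mk (X.presheaf.germ U.1 x hx a') 1 := h1
    have h3 := (mk_eq_mk_iff x _ _ 1 1).mp h2
    rw [Submonoid.coe_one, one_mul, one_mul] at h3
    exact h3

end Groth.Agent.Helper4.MeroTotalFrac
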