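import Mathlib
import Groth.Prelude.Def_GSzMilK
import Groth.Agent.Lib.Helper5.MilKDVR

set_option autoImplicit false
universe u

namespace Groth.Agent.Helper4

open MilK

/-- `{a} · {v₁, …, vₘ}`, regarded in degree `m + 1`, is the symbol `{a, v₁, …, vₘ}`. -/
theorem cast_mul_symbol_one {K : Type u} [Field K] (a : Kˣ) {m : ℕ} (v : Fin m → Kˣ) :
    MilK.cast K (Nat.add_comm 1 m) (MilK.mul K 1 m (MilK.symbol ![a]) (MilK.symbol v)) =
      MilK.symbol (Fin.cons a v) := by
  simp only [MilK.mul_symbol_symbol, MilK.cast_symbol]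
  congr 1
  rw [Fin.append_left_eq_cons]
  ext i
  simp

/-- Swapping the first two entries. -/
theorem cons_cons_eq_comp_swap {α : Type*} {m : ℕ} (a b : α) (v : Fin m → α) :
    (Fin.cons a (Fin.cons b v) : Fin (m + 1 + 1) → α) =
      (Fin.cons b (Fin.cons a v) : Fin (m + 1 + 1) → α) ∘ Equiv.swap 0 1 := by
  funext i
  refine Fin.cases ?_ (fun j => ?_) i
  · simp
  · refine Fin.cases ?_ (fun k => ?_) j
    · simp
    · have hne1 : (k.succ.succ : Fin (m + 1 + 1)) ≠ 1 := by
        intro h
        have := congrArg Fin.val h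
        simp at this
      have h1 : Equiv.swap (0 : Fin (m + 1 + 1)) 1 k.succ.succ = k.succ.succ :=
        Equiv.swap_apply_of_ne_of_ne (Fin.succ_ne_zero _) hne1
      simp [h1]

/-- `{a ^ m, c} = m • {a, c}`. -/
theorem symbol_cons_pow' {F : Type u} [Field F] {n : ℕ} (a : Fˣ) (c : Fin n → Fˣ) (m : ℕ) :
    (MilK.symbol (Fin.cons (a ^ m) c) : MilK.K F (n + 1)) = m • MilK.symbol (Fin.cons a c) := by
  induction m with
  | zero =>
    have h := Groth.Agent.Helper5.symbol_cons_mul (F := F) 1 1 c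
    rw [mul_one] at h
    rw [pow_zero, zero_smul]
    exact left_eq_add.mp h
  | succ m ih => rw [pow_succ, Groth.Agent.Helper5.symbol_cons_mul, ih, succ_nsmul]

end Groth.Agent.Helper4
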