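import Mathlib
import Groth.Prelude.Def_BlowUp2
import Groth.Prelude.Def_W4c6modpairsegaMP
import Groth.Agent.Lib.Helper4.StrictTransform

/-!
Products of modulus pairs when one leg is minimal.
-/

set_option autoImplicit false
set_option linter.style.haveILetI false

open CategoryTheory CategoryTheory.Limits AlgebraicGeometry AlgebraicGeometry.Scheme TopologicalSpace

namespace Groth.Agent.Helper4.ModPairProd

universe u

open Groth.Agent.Helper4.CartierDense Groth.Agent.Helper4.StrictTransform

variable {S T X : Scheme.{u}}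

lemma mem_interior_iff {Z : Scheme.{u}} (I : Z.IdealSheafData) (z : Z) :
    z ∈ ModPair.interior I ↔ z ∉ I.support := Iff.rfl

/-- If the second leg is minimal, the product interior is the preimage of the interior of `X`. -/
lemma prodInterior_eq_of_minimal_right (IS : S.IdealSheafData) (IT : T.IdealSheafData)
    (IX : X.IdealSheafData) (p : X ⟶ S) (hp : ModPair.IsAmbient IX IS p) (f : T ⟶ S)
    (hf : ModPair.IsMinimal IT IS f) :
    ModPair.prodInterior p f IX IT = pullback.fst p f ⁻¹ᵁ IX.support.compl := by
  ext y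
  constructor
  · rintro ⟨h1, -⟩
    exact h1
  · intro h1
    refine ⟨h1, ?_⟩
    intro hcon
    apply h1
    have h2 : (pullback.snd p f) y ∈ IT.support := hcon
    rw [hf, IdealSheafData.support_comap] at h2
    have h3 : f ((pullback.snd p f) y) ∈ IS.support := h2
    have h4 : f ((pullback.snd p f) y) = p ((pullback.fst p f) y) := by
      rw [← Scheme.Hom.comp_apply, ← Scheme.Hom.comp_apply, pullback.condition]
    rw [h4] at h3
    have h5 : (pullback.fst p f) y ∈ (IS.comap p).support := by
      rw [IdealSheafData.support_comap]; exact h3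
    exact IdealSheafData.support_antitone hp h5

/-- If the first leg is minimal, the product interior is the preimage of the interior of `T`. -/
lemma prodInterior_eq_of_minimal_left (IS : S.IdealSheafData) (IT : T.IdealSheafData)
    (IX : X.IdealSheafData) (s : X ⟶ S) (hs : ModPair.IsMinimal IX IS s) (g : T ⟶ S)
    (hg : ModPair.IsAmbient IT IS g) :
    ModPair.prodInterior s g IX IT = pullback.snd s g ⁻¹ᵁ IT.support.compl := by
  ext y
  constructor
  · rintro ⟨-, h1⟩
    exact h1
  · intro h1
    refine ⟨?_, h1⟩
    intro hcon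
    apply h1
    have h2 : (pullback.fst s g) y ∈ IX.support := hcon
    rw [hs, IdealSheafData.support_comap] at h2
    have h3 : s ((pullback.fst s g) y) ∈ IS.support := h2
    have h4 : s ((pullback.fst s g) y) = g ((pullback.snd s g) y) := by
      rw [← Scheme.Hom.comp_apply, ← Scheme.Hom.comp_apply, pullback.condition]
    rw [h4] at h3
    have h5 : (pullback.snd s g) y ∈ (IS.comap g).support := by
      rw [IdealSheafData.support_comap]; exact h3
    exact IdealSheafData.support_antitone hg h5

/-- General statement: for an effective Cartier `I` on `Z` and `q : P ⟶ Z`, the pullback of `I` to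
the scheme-theoretic image of `q⁻¹(Z°)` is effective Cartier. -/
theorem isEffCartier_comap_image {P Z : Scheme.{u}} (I : Z.IdealSheafData)
    (hI : BlowUp.IsEffCartierIdeal I) (q : P ⟶ Z) (V : P.Opens)
    (hV : V = q ⁻¹ᵁ I.support.compl) :
    BlowUp.IsEffCartierIdeal (I.comap (V.ι.imageι ≫ q)) := by
  subst hV
  haveI : IsAffineHom (q ⁻¹ᵁ I.support.compl).ι := isAffineHom_preimage_compl I hI q
  haveI : QuasiCompact (q ⁻¹ᵁ I.support.compl).ι := inferInstance
  have h1 : IsSchemeTheoreticallyDominant
      ((q ⁻¹ᵁ I.support.compl).ι.imageι ⁻¹ᵁ (q ⁻¹ᵁ I.support.compl)).ι :=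
    isSchemeTheoreticallyDominant_preimage_image (q ⁻¹ᵁ I.support.compl)
  haveI h2 : IsAffineHom
      (((q ⁻¹ᵁ I.support.compl).ι.imageι ≫ q) ⁻¹ᵁ I.support.compl).ι :=
    isAffineHom_preimage_compl I hI ((q ⁻¹ᵁ I.support.compl).ι.imageι ≫ q)
  haveI : QuasiCompact (((q ⁻¹ᵁ I.support.compl).ι.imageι ≫ q) ⁻¹ᵁ I.support.compl).ι :=
    inferInstance
  haveI : IsSchemeTheoreticallyDominant
      (((q ⁻¹ᵁ I.support.compl).ι.imageι ≫ q) ⁻¹ᵁ I.support.compl).ι := h1
  exact isEffCartier_comap_of_dominant I hI ((q ⁻¹ᵁ I.support.compl).ι.imageι ≫ q)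

theorem prod_minimal_right (IS : S.IdealSheafData) (IT : T.IdealSheafData)
    (IX : X.IdealSheafData) (hX : BlowUp.IsEffCartierIdeal IX)
    (p : X ⟶ S) (hp : ModPair.IsAmbient IX IS p) (f : T ⟶ S) (hf : ModPair.IsMinimal IT IS f) :
    BlowUp.IsEffCartierIdeal (IX.comap (ModPair.mprodι p f IX IT ≫ pullback.fst p f)) ∧
      ModPair.IsAmbient (IX.comap (ModPair.mprodι p f IX IT ≫ pullback.fst p f)) IT
        (ModPair.mprodι p f IX IT ≫ pullback.snd p f) ∧
      ∀ (W : Scheme.{u}) (IW : W.IdealSheafData), BlowUp.IsEffCartierIdeal IW →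
        ∀ (a : W ⟶ T) (b : W ⟶ X), ModPair.IsAmbient IW IT a → ModPair.IsAmbient IW IX b →
          a ≫ f = b ≫ p →
          ∃! c : W ⟶ ModPair.mprod p f IX IT,
            c ≫ ModPair.mprodι p f IX IT ≫ pullback.snd p f = a ∧
              c ≫ ModPair.mprodι p f IX IT ≫ pullback.fst p f = b ∧
              ModPair.IsAmbient IW (IX.comap (ModPair.mprodι p f IX IT ≫ pullback.fst p f)) c := by
  refine ⟨?_, ?_, ?_⟩
  · exact isEffCartier_comap_image IX hX (pullback.fst p f) (ModPair.prodInterior p f IX IT)
      (prodInterior_eq_of_minimal_right IS IT IX p hp f hf)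
  · show IX.comap (ModPair.mprodι p f IX IT ≫ pullback.fst p f) ≤
      IT.comap (ModPair.mprodι p f IX IT ≫ pullback.snd p f)
    have e1 : IT.comap (ModPair.mprodι p f IX IT ≫ pullback.snd p f) =
        (IS.comap p).comap (ModPair.mprodι p f IX IT ≫ pullback.fst p f) := by
      rw [hf, ← IdealSheafData.comap_comp, ← IdealSheafData.comap_comp, Category.assoc,
        Category.assoc, pullback.condition]
    rw [e1]
    exact IdealSheafData.comap_mono _ hp
  · intro W IW hW a b ha hb hab
    let ℓ : W ⟶ pullback p f := pullback.lift b a hab.symm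
    let W₀ : W.Opens := IW.support.compl
    haveI : IsSchemeTheoreticallyDominant W₀.ι := isSchemeTheoreticallyDominant_compl _ hW
    have hW₀ : W₀ ≤ ℓ ⁻¹ᵁ (ModPair.prodInterior p f IX IT) := by
      intro w hw
      constructor
      · show (pullback.fst p f) (ℓ w) ∉ IX.support
        intro hcon
        apply hw
        have e1 : (pullback.fst p f) (ℓ w) = b w := by
          rw [← Scheme.Hom.comp_apply, pullback.lift_fst]
        rw [e1] at hcon
        have h5 : w ∈ (IX.comap b).support := by
          rw [IdealSheafData.support_comap]; exact hcon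
        exact IdealSheafData.support_antitone hb h5
      · show (pullback.snd p f) (ℓ w) ∉ IT.support
        intro hcon
        apply hw
        have e1 : (pullback.snd p f) (ℓ w) = a w := by
          rw [← Scheme.Hom.comp_apply, pullback.lift_snd]
        rw [e1] at hcon
        have h5 : w ∈ (IT.comap a).support := by
          rw [IdealSheafData.support_comap]; exact hcon
        exact IdealSheafData.support_antitone ha h5
    obtain ⟨c, hc⟩ := exists_lift_image (ModPair.prodInterior p f IX IT) ℓ W₀ hW₀
    have hc' : c ≫ ModPair.mprodι p f IX IT = ℓ := hc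
    refine ⟨c, ⟨?_, ?_, ?_⟩, ?_⟩
    · rw [← Category.assoc, hc', pullback.lift_snd]
    · rw [← Category.assoc, hc', pullback.lift_fst]
    · show IW ≤ (IX.comap (ModPair.mprodι p f IX IT ≫ pullback.fst p f)).comap c
      rw [← IdealSheafData.comap_comp, ← Category.assoc, hc', pullback.lift_fst]
      exact hb
    · rintro c' ⟨h1, h2, -⟩
      have e1 : c' ≫ ModPair.mprodι p f IX IT = ℓ := by
        apply pullback.hom_ext
        · rw [Category.assoc, h2, pullback.lift_fst]
        · rw [Category.assoc, h1, pullback.lift_snd]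
      rw [← cancel_mono (ModPair.mprodι p f IX IT), e1, hc']

end Groth.Agent.Helper4.ModPairProd
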