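import Mathlib
import Groth.Prelude.Def_BlowUp2
import Groth.Prelude.Def_W4c6modpairsegaMP
import Groth.Agent.Lib.Helper4.ModPairProd

/-!
Admissible blow-ups of modulus pairs are stable under base change along ambient morphisms.
-/

set_option autoImplicit false
set_option linter.style.haveILetI false

open CategoryTheory CategoryTheory.Limits AlgebraicGeometry AlgebraicGeometry.Scheme TopologicalSpace

namespace Groth.Agent.Helper4.ModPairAdm

universe u

open Groth.Agent.Helper4.ModPairProd

/-- The scheme-theoretic image inclusion of an open `V` restricts to an isomorphism over `V`. -/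
theorem isIso_imageι_restrict {P : Scheme.{u}} (V : P.Opens) : IsIso (V.ι.imageι ∣_ V) := by
  have sq := isPullback_morphismRestrict V.ι.imageι V
  let σ : (V : Scheme.{u}) ⟶ (V.ι.imageι ⁻¹ᵁ V : Scheme.{u}) :=
    sq.lift (𝟙 _) V.ι.toImage (by rw [Category.id_comp, Scheme.Hom.toImage_imageι])
  have hσ : σ ≫ (V.ι.imageι ∣_ V) = 𝟙 _ := sq.lift_fst _ _ _
  haveI : Mono ((V.ι.imageι ∣_ V) ≫ V.ι) := by
    rw [morphismRestrict_ι]
    infer_instance
  haveI : Mono (V.ι.imageι ∣_ V) := mono_of_mono (V.ι.imageι ∣_ V) V.ι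
  haveI : IsSplitEpi (V.ι.imageι ∣_ V) := IsSplitEpi.mk' ⟨σ, hσ⟩
  exact isIso_of_mono_of_isSplitEpi _

/-- Base change of a morphism that is an isomorphism over `U`, restricted over an open mapping
into `U`, is an isomorphism. -/
theorem isIso_snd_restrict {S T X : Scheme.{u}} (s : X ⟶ S) (g : T ⟶ S) (U : S.Opens)
    (W : T.Opens) (hW : W ≤ g ⁻¹ᵁ U) [IsIso (s ∣_ U)] : IsIso (pullback.snd s g ∣_ W) := by
  let h : (W : Scheme.{u}) ⟶ (U : Scheme.{u}) := T.homOfLE hW ≫ (g ∣_ U)
  have hh : h ≫ U.ι = W.ι ≫ g := by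
    simp only [h, Category.assoc, morphismRestrict_ι, Scheme.homOfLE_ι_assoc]
  have sqS := isPullback_morphismRestrict s U
  have sqP := isPullback_morphismRestrict (pullback.snd s g) W
  have sq2 : IsPullback (pullback.snd s g) (pullback.fst s g) g s :=
    (IsPullback.of_hasPullback s g).flip
  have big := sqP.paste_vert sq2
  have hcomm : ((pullback.snd s g ∣_ W) ≫ h) ≫ U.ι =
      ((pullback.snd s g ⁻¹ᵁ W).ι ≫ pullback.fst s g) ≫ s := by
    rw [Category.assoc, hh, morphismRestrict_ι_assoc, Category.assoc, pullback.condition]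
  let k := sqS.lift ((pullback.snd s g ∣_ W) ≫ h)
    ((pullback.snd s g ⁻¹ᵁ W).ι ≫ pullback.fst s g) hcomm
  have hk : k ≫ (s ⁻¹ᵁ U).ι = (pullback.snd s g ⁻¹ᵁ W).ι ≫ pullback.fst s g :=
    sqS.lift_snd _ _ _
  have hk1 : k ≫ (s ∣_ U) = (pullback.snd s g ∣_ W) ≫ h := sqS.lift_fst _ _ _
  have big' : IsPullback (pullback.snd s g ∣_ W) (k ≫ (s ⁻¹ᵁ U).ι) (h ≫ U.ι) s := by
    rw [hk, hh]; exact big
  have small := IsPullback.of_bot big' hk1.symm sqS
  exact small.isIso_fst_of_isIso

/-- If `q` is an isomorphism over `U`, so is its restriction to the scheme-theoretic closure of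
`q⁻¹ U`. -/
theorem isIso_comp_restrict {P Z : Scheme.{u}} (q : P ⟶ Z) (U : Z.Opens) (V : P.Opens)
    (hV : V = q ⁻¹ᵁ U) [IsIso (q ∣_ U)] : IsIso ((V.ι.imageι ≫ q) ∣_ U) := by
  subst hV
  rw [morphismRestrict_comp]
  haveI h1 : IsIso ((q ⁻¹ᵁ U).ι.imageι ∣_ (q ⁻¹ᵁ U)) := isIso_imageι_restrict (q ⁻¹ᵁ U)
  refine @IsIso.comp_isIso _ _ _ _ _ _ _ ?_ ?_
  · exact h1
  · infer_instance

variable {S T X : Scheme.{u}}

theorem admBlowup_baseChange (IS : S.IdealSheafData)
    (IT : T.IdealSheafData) (IX : X.IdealSheafData)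
    (hT : BlowUp.IsEffCartierIdeal IT)
    (g : T ⟶ S) (hg : ModPair.IsAmbient IT IS g) (s : X ⟶ S) (hs : ModPair.IsAdmBlowup IX IS s) :
    BlowUp.IsEffCartierIdeal (IT.comap (ModPair.mprodι s g IX IT ≫ pullback.snd s g)) ∧
      ModPair.IsAdmBlowup (IT.comap (ModPair.mprodι s g IX IT ≫ pullback.snd s g)) IT
        (ModPair.mprodι s g IX IT ≫ pullback.snd s g) ∧
      ModPair.IsAmbient (IT.comap (ModPair.mprodι s g IX IT ≫ pullback.snd s g)) IX
        (ModPair.mprodι s g IX IT ≫ pullback.fst s g) := by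
  have hq1 : ModPair.prodInterior s g IX IT = pullback.snd s g ⁻¹ᵁ IT.support.compl :=
    prodInterior_eq_of_minimal_left IS IT IX s hs.1 g hg
  refine ⟨isEffCartier_comap_image IT hT (pullback.snd s g) (ModPair.prodInterior s g IX IT) hq1,
    ⟨rfl, ?_, ?_⟩, ?_⟩
  · haveI : IsProper s := hs.2.1
    infer_instance
  · have hle : IT.support.compl ≤ g ⁻¹ᵁ IS.support.compl := by
      intro t ht
      show g t ∉ IS.support
      intro hcon
      apply ht
      have h5 : t ∈ (IS.comap g).support := by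
        rw [IdealSheafData.support_comap]; exact hcon
      exact IdealSheafData.support_antitone hg h5
    haveI : IsIso (s ∣_ IS.support.compl) := hs.2.2
    haveI : IsIso (pullback.snd s g ∣_ IT.support.compl) :=
      isIso_snd_restrict s g IS.support.compl IT.support.compl hle
    exact isIso_comp_restrict (pullback.snd s g) IT.support.compl
      (ModPair.prodInterior s g IX IT) hq1
  · show IT.comap (ModPair.mprodι s g IX IT ≫ pullback.snd s g) ≤
      IX.comap (ModPair.mprodι s g IX IT ≫ pullback.fst s g)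
    have hX' : IX = IS.comap s := hs.1
    have e1 : IX.comap (ModPair.mprodι s g IX IT ≫ pullback.fst s g) =
        (IS.comap g).comap (ModPair.mprodι s g IX IT ≫ pullback.snd s g) := by
      have e0 : IX.comap (ModPair.mprodι s g IX IT ≫ pullback.fst s g) =
          (IS.comap s).comap (ModPair.mprodι s g IX IT ≫ pullback.fst s g) :=
        congrArg (fun I => IdealSheafData.comap I (ModPair.mprodι s g IX IT ≫ pullback.fst s g)) hX'
      rw [e0, ← IdealSheafData.comap_comp, ← IdealSheafData.comap_comp, Category.assoc,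
        Category.assoc, pullback.condition]
    rw [e1]
    exact IdealSheafData.comap_mono _ hg

end Groth.Agent.Helper4.ModPairAdm
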