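import Mathlib
import Groth.Prelude.Def_BlowUp2
import Groth.Prelude.Def_W4c6modpairsegaMP
import Groth.Agent.Lib.Helper4.ModPairAdm

/-!
Splitting the interior of a modulus pair into two disjoint opens gives an admissible blow-up
from the coproduct of the two scheme-theoretic closures.
-/

set_option autoImplicit false
set_option linter.style.haveILetI false

open CategoryTheory CategoryTheory.Limits AlgebraicGeometry AlgebraicGeometry.Scheme TopologicalSpace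

namespace Groth.Agent.Helper4.ModPairCoprod

universe u

open Groth.Agent.Helper4.CartierDense Groth.Agent.Helper4.StrictTransform
  Groth.Agent.Helper4.ModPairAdm

variable {X : Scheme.{u}}

lemma not_mem_of_disjoint {U₀ U₁ : X.Opens} (hd : Disjoint U₀ U₁) {x : X} (h0 : x ∈ U₀)
    (h1 : x ∈ U₁) : False := by
  have h2 : x ∈ U₀ ⊓ U₁ := ⟨h0, h1⟩
  have h3 : U₀ ⊓ U₁ = ⊥ := hd.eq_bot
  rw [h3] at h2
  exact h2

/-- A clopen piece of a quasi-compact open is quasi-compact. -/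
lemma quasiCompact_ι_of_disjoint_sup (U U₀ U₁ : X.Opens) [QuasiCompact U.ι] (hU : U₀ ⊔ U₁ = U)
    (hd : Disjoint U₀ U₁) : QuasiCompact U₀.ι := by
  rw [quasiCompact_iff_forall_isAffineOpen]
  intro W hW
  have h1 : IsCompact (U.ι ⁻¹ᵁ W : Set U) :=
    (quasiCompact_iff_forall_isAffineOpen.mp ‹QuasiCompact U.ι›) W hW
  have h2 : IsCompact ((W : Set X) ∩ U) := by
    have h := h1.image U.ι.continuous
    convert h using 1
    ext x; constructor
    · rintro ⟨hxW, hxU⟩; exact ⟨⟨x, hxU⟩, hxW, rfl⟩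
    · rintro ⟨y, hy, rfl⟩; exact ⟨hy, y.2⟩
  have h3 : IsCompact (((W : Set X) ∩ U) ∩ (U₁ : Set X)ᶜ) :=
    h2.inter_right U₁.isOpen.isClosed_compl
  rw [U₀.ι.isOpenEmbedding.isEmbedding.isInducing.isCompact_iff]
  convert h3 using 1
  ext x
  constructor
  · rintro ⟨y, hy, rfl⟩
    refine ⟨⟨hy, ?_⟩, ?_⟩
    · rw [← hU]; exact Opens.mem_sup.mpr (Or.inl y.2)
    · intro h1; exact not_mem_of_disjoint hd y.2 h1
  · rintro ⟨⟨hxW, hxU⟩, hx1⟩
    have hx0 : x ∈ U₀ := by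
      have hxU' : x ∈ U := hxU
      rw [← hU] at hxU'
      rcases Opens.mem_sup.mp hxU' with h | h
      · exact h
      · exact absurd h hx1
    exact ⟨⟨x, hx0⟩, hxW, rfl⟩

/-- Points of the closure of `U₀` do not lie in an open disjoint from `U₀`. -/
lemma imageι_not_mem (U₀ U₁ : X.Opens) [QuasiCompact U₀.ι] (hd : Disjoint U₀ U₁)
    (x : U₀.ι.image) : U₀.ι.imageι x ∉ U₁ := by
  intro hx
  have h1 : U₀.ι.imageι x ∈ (U₀.ι.ker).support := by
    rw [← SetLike.mem_coe, ← IdealSheafData.range_subschemeι]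
    exact ⟨x, rfl⟩
  rw [← SetLike.mem_coe, Scheme.Hom.support_ker, Scheme.Opens.range_ι] at h1
  obtain ⟨z, hz1, hz0⟩ := mem_closure_iff.mp h1 U₁ U₁.isOpen hx
  exact not_mem_of_disjoint hd hz0 hz1

/-- A section on a coproduct vanishes if both its restrictions vanish. -/
lemma eq_zero_of_coprod {X₀ X₁ : Scheme.{u}} (W : (X₀ ⨿ X₁).Opens) (t : Γ(X₀ ⨿ X₁, W))
    (h0 : ((coprod.inl : X₀ ⟶ X₀ ⨿ X₁).app W).hom t = 0)
    (h1 : ((coprod.inr : X₁ ⟶ X₀ ⨿ X₁).app W).hom t = 0) : t = 0 := by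
  have hinj : Function.Injective (Scheme.coprodPresheafObjIso W).hom.hom :=
    (ConcreteCategory.bijective_of_isIso (Scheme.coprodPresheafObjIso W).hom).1
  apply hinj
  rw [map_zero]
  apply Concrete.limit_ext
  rintro ⟨_ | _⟩
  · have e := Scheme.coprodPresheafObjIso_hom_fst W
    have e' : (prod.fst : Γ(X₀, coprod.inl (C := Scheme) ⁻¹ᵁ W) ⨯
        Γ(X₁, coprod.inr (C := Scheme) ⁻¹ᵁ W) ⟶ _).hom
        ((Scheme.coprodPresheafObjIso W).hom.hom t) = 0 := by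
      rw [← CommRingCat.comp_apply, e]; exact h0
    rw [map_zero]
    exact e'
  · have e := Scheme.coprodPresheafObjIso_hom_snd W
    have e' : (prod.snd : Γ(X₀, coprod.inl (C := Scheme) ⁻¹ᵁ W) ⨯
        Γ(X₁, coprod.inr (C := Scheme) ⁻¹ᵁ W) ⟶ _).hom
        ((Scheme.coprodPresheafObjIso W).hom.hom t) = 0 := by
      rw [← CommRingCat.comp_apply, e]; exact h1
    rw [map_zero]
    exact e'

lemma app_eq_zero_of_res {Z Y : Scheme.{u}} (j : Z ⟶ Y) (V W : Y.Opens)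
    [QuasiCompact (j ⁻¹ᵁ V).ι] [IsSchemeTheoreticallyDominant (j ⁻¹ᵁ V).ι] (t : Γ(Y, W))
    (ht : (Y.presheaf.map (homOfLE (inf_le_left : W ⊓ V ≤ W)).op).hom t = 0) :
    (j.app W).hom t = 0 := by
  have h1 : j ⁻¹ᵁ (W ⊓ V) ≤ j ⁻¹ᵁ W := fun z hz => hz.1
  have h2 : j ⁻¹ᵁ W ⊓ j ⁻¹ᵁ V ≤ j ⁻¹ᵁ (W ⊓ V) := fun z hz => hz
  have hinj := res_injective (j ⁻¹ᵁ V) (j ⁻¹ᵁ W) (j ⁻¹ᵁ (W ⊓ V)) h1 h2
  apply hinj
  rw [map_zero]
  have nat := j.naturality (homOfLE (inf_le_left : W ⊓ V ≤ W)).op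
  have e : (Z.presheaf.map (homOfLE h1).op).hom ((j.app W).hom t) =
      (j.app (W ⊓ V)).hom ((Y.presheaf.map (homOfLE (inf_le_left : W ⊓ V ≤ W)).op).hom t) := by
    rw [← CommRingCat.comp_apply, ← CommRingCat.comp_apply]
    exact congrArg (fun φ => φ.hom t) nat.symm
  rw [e, ht, map_zero]

lemma isSchemeTheoreticallyDominant_coprod {X₀ X₁ : Scheme.{u}} (V : (X₀ ⨿ X₁).Opens)
    [QuasiCompact ((coprod.inl : X₀ ⟶ X₀ ⨿ X₁) ⁻¹ᵁ V).ι]
    [IsSchemeTheoreticallyDominant ((coprod.inl : X₀ ⟶ X₀ ⨿ X₁) ⁻¹ᵁ V).ι]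
    [QuasiCompact ((coprod.inr : X₁ ⟶ X₀ ⨿ X₁) ⁻¹ᵁ V).ι]
    [IsSchemeTheoreticallyDominant ((coprod.inr : X₁ ⟶ X₀ ⨿ X₁) ⁻¹ᵁ V).ι] :
    IsSchemeTheoreticallyDominant V.ι := by
  apply isSchemeTheoreticallyDominant_ι_of_res
  intro W t ht
  apply eq_zero_of_coprod
  · exact app_eq_zero_of_res coprod.inl V W.1 t ht
  · exact app_eq_zero_of_res coprod.inr V W.1 t ht

/-- Being an isomorphism over `U` can be checked on an open cover of `U`. -/
lemma isIso_restrict_of_cover {Y : Scheme.{u}} (f : Y ⟶ X) (U : X.Opens) {ι : Type*}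
    (V : ι → X.Opens) (hV : ∀ i, V i ≤ U) (hU : U ≤ ⨆ i, V i) (h : ∀ i, IsIso (f ∣_ V i)) :
    IsIso (f ∣_ U) := by
  have key : (MorphismProperty.isomorphisms Scheme.{u}) (f ∣_ U) := by
    rw [IsZariskiLocalAtTarget.iff_of_iSup_eq_top (P := MorphismProperty.isomorphisms Scheme.{u})
      (U := fun i => U.ι ⁻¹ᵁ V i)]
    · intro i
      have e : U.ι ''ᵁ U.ι ⁻¹ᵁ V i = V i := by
        rw [image_preimage_ι]; exact inf_eq_left.mpr (hV i)
      rw [(MorphismProperty.isomorphisms Scheme.{u}).arrow_mk_iso_iff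
        (morphismRestrictRestrict f U (U.ι ⁻¹ᵁ V i) ≪≫ morphismRestrictEq f e)]
      exact h i
    · rw [eq_top_iff]
      rintro ⟨x, hx⟩ -
      obtain ⟨i, hi⟩ := Opens.mem_iSup.mp (hU hx)
      exact Opens.mem_iSup.mpr ⟨i, hi⟩
  exact key

lemma isIso_restrict_sup {Y : Scheme.{u}} (f : Y ⟶ X) (U₀ U₁ : X.Opens) (h0 : IsIso (f ∣_ U₀))
    (h1 : IsIso (f ∣_ U₁)) : IsIso (f ∣_ (U₀ ⊔ U₁)) := by
  refine isIso_restrict_of_cover f (U₀ ⊔ U₁) (fun b : Bool => cond b U₀ U₁) ?_ ?_ ?_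
  · rintro (_ | _)
    · exact le_sup_right
    · exact le_sup_left
  · intro x hx
    rcases Opens.mem_sup.mp hx with h | h
    · exact Opens.mem_iSup.mpr ⟨true, h⟩
    · exact Opens.mem_iSup.mpr ⟨false, h⟩
  · rintro (_ | _)
    · exact h1
    · exact h0

lemma isIso_restrict_of_openImmersion {Z Y : Scheme.{u}} (j : Z ⟶ Y) [IsOpenImmersion j]
    (p : Y ⟶ X) (O : X.Opens) (hsurj : ∀ y : Y, p y ∈ O → y ∈ Set.range j)
    (hiso : IsIso ((j ≫ p) ∣_ O)) : IsIso (p ∣_ O) := by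
  haveI : IsOpenImmersion (j ∣_ (p ⁻¹ᵁ O)) := inferInstance
  haveI : Surjective (j ∣_ (p ⁻¹ᵁ O)) := by
    constructor
    rintro ⟨y, hy⟩
    obtain ⟨z, rfl⟩ := hsurj y hy
    refine ⟨⟨z, hy⟩, ?_⟩
    apply Subtype.ext
    rw [morphismRestrict_base_coe]
  haveI : IsIso (j ∣_ (p ⁻¹ᵁ O)) :=
    (isIso_iff_isOpenImmersion_and_surjective _).mpr ⟨inferInstance, inferInstance⟩
  haveI : IsIso ((j ∣_ (p ⁻¹ᵁ O)) ≫ (p ∣_ O)) := by
    have e := morphismRestrict_comp j p O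
    rw [← e]; exact hiso
  exact IsIso.of_isIso_comp_left (j ∣_ (p ⁻¹ᵁ O)) (p ∣_ O)

theorem coprod_admBlowup (I : X.IdealSheafData) (hI : BlowUp.IsEffCartierIdeal I)
    (U₀ U₁ : X.Opens) (hU : U₀ ⊔ U₁ = ModPair.interior I) (hd : Disjoint U₀ U₁) :
    BlowUp.IsEffCartierIdeal (I.comap (coprod.desc U₀.ι.imageι U₁.ι.imageι)) ∧
      ModPair.IsAdmBlowup (I.comap (coprod.desc U₀.ι.imageι U₁.ι.imageι)) I
        (coprod.desc U₀.ι.imageι U₁.ι.imageι) := by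
  have hU' : U₀ ⊔ U₁ = I.support.compl := hU
  haveI : IsAffineHom (Scheme.Opens.ι (X := X) I.support.compl) := isAffineHom_compl I hI
  haveI : QuasiCompact (Scheme.Opens.ι (X := X) I.support.compl) := inferInstance
  haveI q0 : QuasiCompact U₀.ι := quasiCompact_ι_of_disjoint_sup I.support.compl U₀ U₁ hU' hd
  haveI q1 : QuasiCompact U₁.ι :=
    quasiCompact_ι_of_disjoint_sup I.support.compl U₁ U₀ (by rw [sup_comm]; exact hU') hd.symm
  have hp0 : coprod.inl ≫ coprod.desc U₀.ι.imageι U₁.ι.imageι = U₀.ι.imageι :=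
    coprod.inl_desc _ _
  have hp1 : coprod.inr ≫ coprod.desc U₀.ι.imageι U₁.ι.imageι = U₁.ι.imageι :=
    coprod.inr_desc _ _
  -- preimages of the interior in the two pieces
  have e0 : U₀.ι.imageι ⁻¹ᵁ I.support.compl = U₀.ι.imageι ⁻¹ᵁ U₀ := by
    ext x
    constructor
    · intro hx
      have hx' : U₀.ι.imageι x ∈ I.support.compl := hx
      rw [← hU'] at hx'
      rcases Opens.mem_sup.mp hx' with h | h
      · exact h
      · exact absurd h (imageι_not_mem U₀ U₁ hd x)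
    · intro hx
      have hx' : U₀.ι.imageι x ∈ U₀ := hx
      show U₀.ι.imageι x ∈ I.support.compl
      rw [← hU']; exact Opens.mem_sup.mpr (Or.inl hx')
  have e1 : U₁.ι.imageι ⁻¹ᵁ I.support.compl = U₁.ι.imageι ⁻¹ᵁ U₁ := by
    ext x
    constructor
    · intro hx
      have hx' : U₁.ι.imageι x ∈ I.support.compl := hx
      rw [← hU'] at hx'
      rcases Opens.mem_sup.mp hx' with h | h
      · exact absurd h (imageι_not_mem U₁ U₀ hd.symm x)
      · exact h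
    · intro hx
      have hx' : U₁.ι.imageι x ∈ U₁ := hx
      show U₁.ι.imageι x ∈ I.support.compl
      rw [← hU']; exact Opens.mem_sup.mpr (Or.inr hx')
  refine ⟨?_, rfl, ?_, ?_⟩
  · haveI : IsAffineHom
        ((coprod.desc U₀.ι.imageι U₁.ι.imageι) ⁻¹ᵁ I.support.compl).ι :=
      isAffineHom_preimage_compl I hI _
    haveI : QuasiCompact ((coprod.desc U₀.ι.imageι U₁.ι.imageι) ⁻¹ᵁ I.support.compl).ι :=
      inferInstance
    have f0 : (coprod.inl : U₀.ι.image ⟶ U₀.ι.image ⨿ U₁.ι.image) ⁻¹ᵁ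
        ((coprod.desc U₀.ι.imageι U₁.ι.imageι) ⁻¹ᵁ I.support.compl) =
        U₀.ι.imageι ⁻¹ᵁ U₀ := by
      rw [← e0]
      show (coprod.inl ≫ coprod.desc U₀.ι.imageι U₁.ι.imageι) ⁻¹ᵁ I.support.compl = _
      rw [hp0]
    have f1 : (coprod.inr : U₁.ι.image ⟶ U₀.ι.image ⨿ U₁.ι.image) ⁻¹ᵁ
        ((coprod.desc U₀.ι.imageι U₁.ι.imageι) ⁻¹ᵁ I.support.compl) =
        U₁.ι.imageι ⁻¹ᵁ U₁ := by
      rw [← e1]
      show (coprod.inr ≫ coprod.desc U₀.ι.imageι U₁.ι.imageι) ⁻¹ᵁ I.support.compl = _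
      rw [hp1]
    haveI a0 : IsAffineHom (U₀.ι.imageι ⁻¹ᵁ U₀).ι := by
      rw [← e0]; exact isAffineHom_preimage_compl I hI _
    haveI a1 : IsAffineHom (U₁.ι.imageι ⁻¹ᵁ U₁).ι := by
      rw [← e1]; exact isAffineHom_preimage_compl I hI _
    haveI d0 : IsSchemeTheoreticallyDominant (U₀.ι.imageι ⁻¹ᵁ U₀).ι :=
      isSchemeTheoreticallyDominant_preimage_image U₀
    haveI d1 : IsSchemeTheoreticallyDominant (U₁.ι.imageι ⁻¹ᵁ U₁).ι :=
      isSchemeTheoreticallyDominant_preimage_image U₁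
    haveI : QuasiCompact ((coprod.inl : U₀.ι.image ⟶ U₀.ι.image ⨿ U₁.ι.image) ⁻¹ᵁ
        ((coprod.desc U₀.ι.imageι U₁.ι.imageι) ⁻¹ᵁ I.support.compl)).ι := by
      rw [f0]; infer_instance
    haveI : IsSchemeTheoreticallyDominant
        ((coprod.inl : U₀.ι.image ⟶ U₀.ι.image ⨿ U₁.ι.image) ⁻¹ᵁ
        ((coprod.desc U₀.ι.imageι U₁.ι.imageι) ⁻¹ᵁ I.support.compl)).ι := by
      rw [f0]; exact d0
    haveI : QuasiCompact ((coprod.inr : U₁.ι.image ⟶ U₀.ι.image ⨿ U₁.ι.image) ⁻¹ᵁ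
        ((coprod.desc U₀.ι.imageι U₁.ι.imageι) ⁻¹ᵁ I.support.compl)).ι := by
      rw [f1]; infer_instance
    haveI : IsSchemeTheoreticallyDominant
        ((coprod.inr : U₁.ι.image ⟶ U₀.ι.image ⨿ U₁.ι.image) ⁻¹ᵁ
        ((coprod.desc U₀.ι.imageι U₁.ι.imageι) ⁻¹ᵁ I.support.compl)).ι := by
      rw [f1]; exact d1
    haveI : IsSchemeTheoreticallyDominant
        ((coprod.desc U₀.ι.imageι U₁.ι.imageι) ⁻¹ᵁ I.support.compl).ι :=
      isSchemeTheoreticallyDominant_coprod _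
    exact isEffCartier_comap_of_dominant I hI (coprod.desc U₀.ι.imageι U₁.ι.imageι)
  · haveI : IsFinite (coprod.desc U₀.ι.imageι U₁.ι.imageι) := inferInstance
    infer_instance
  · show IsIso (coprod.desc U₀.ι.imageι U₁.ι.imageι ∣_ ModPair.interior I)
    rw [← hU]
    apply isIso_restrict_sup
    · have hiso : IsIso ((coprod.inl ≫ coprod.desc U₀.ι.imageι U₁.ι.imageι) ∣_ U₀) := by
        rw [hp0]; exact isIso_imageι_restrict U₀
      refine isIso_restrict_of_openImmersion coprod.inl _ U₀ ?_ hiso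
      intro y hy
      obtain ⟨(x | x), rfl⟩ := (coprodMk _ _).surjective y
      · rw [coprodMk_inl]; exact ⟨x, rfl⟩
      · exfalso
        rw [coprodMk_inr, ← Scheme.Hom.comp_apply, hp1] at hy
        exact imageι_not_mem U₁ U₀ hd.symm x hy
    · have hiso : IsIso ((coprod.inr ≫ coprod.desc U₀.ι.imageι U₁.ι.imageι) ∣_ U₁) := by
        rw [hp1]; exact isIso_imageι_restrict U₁
      refine isIso_restrict_of_openImmersion coprod.inr _ U₁ ?_ hiso
      intro y hy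
      obtain ⟨(x | x), rfl⟩ := (coprodMk _ _).surjective y
      · exfalso
        rw [coprodMk_inl, ← Scheme.Hom.comp_apply, hp0] at hy
        exact imageι_not_mem U₀ U₁ hd x hy
      · rw [coprodMk_inr]; exact ⟨x, rfl⟩

end Groth.Agent.Helper4.ModPairCoprod
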