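import Mathlib
import Groth.Prelude.Def_BlowUp2
import Groth.Prelude.Def_W4c6modpairsegaMP
import Groth.Agent.Lib.Helper4.ModPairAdm

/-!
Right calculus of fractions for abstract admissible blow-ups of modulus pairs.
-/

set_option autoImplicit false
set_option linter.style.haveILetI false

open CategoryTheory CategoryTheory.Limits AlgebraicGeometry AlgebraicGeometry.Scheme TopologicalSpace

namespace Groth.Agent.Helper4.ModPairFrac

universe u

open Groth.Agent.Helper4.CartierDense Groth.Agent.Helper4.ModPairAdm ModPair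

lemma isIso_of_isClosedImmersion_of_ker_eq_bot {X Y : Scheme.{u}} (e : X ⟶ Y)
    [IsClosedImmersion e] (h : e.ker = ⊥) : IsIso e := by
  haveI : IsIso e.imageι := (Scheme.isIso_subschemeι_iff_eq_bot e.ker).mpr h
  rw [← e.toImage_imageι]
  infer_instance

/-- Two morphisms over a separated base that agree on a scheme-theoretically dense part agree. -/
lemma ext_of_schDominant_of_isSeparated {W X Y Z : Scheme.{u}} {f g : X ⟶ Y}
    (s : Y ⟶ Z) [IsSeparated s] (h : f ≫ s = g ≫ s)
    (ι : W ⟶ X) [IsSchemeTheoreticallyDominant ι] (hU : ι ≫ f = ι ≫ g) : f = g := by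
  let X' : Over Z := Over.mk (f ≫ s)
  let Y' : Over Z := Over.mk s
  let U' : Over Z := Over.mk (ι ≫ f ≫ s)
  let f' : X' ⟶ Y' := Over.homMk f
  let g' : X' ⟶ Y' := Over.homMk g
  let ι' : U' ⟶ X' := Over.homMk ι
  have : IsSeparated Y'.hom := ‹_›
  have hι : ι' ≫ f' = ι' ≫ g' := by ext1; exact hU
  have hfac : (equalizer.lift ι' hι).left ≫ (equalizer.ι f' g').left = ι := by
    rw [← Over.comp_left, equalizer.lift_ι]; rfl
  have hker : (equalizer.ι f' g').left.ker = ⊥ := by
    rw [eq_bot_iff]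
    have h1 := Scheme.Hom.le_ker_comp (equalizer.lift ι' hι).left (equalizer.ι f' g').left
    rw [hfac, IsSchemeTheoreticallyDominant.ker_eq_bot (f := ι)] at h1
    exact h1
  have := isIso_of_isClosedImmersion_of_ker_eq_bot (equalizer.ι f' g').left hker
  rw [← cancel_epi (equalizer.ι f' g').left]
  exact congr($(equalizer.condition f' g').left)

variable {X Y Z : Scheme.{u}}

lemma map_mem_interior {I : X.IdealSheafData} {J : Y.IdealSheafData} {f : X ⟶ Y}
    (h : IsAmbient I J f) {x : X} (hx : x ∈ interior I) : f x ∈ interior J := by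
  intro hcon
  apply hx
  have h5 : x ∈ (J.comap f).support := by rw [IdealSheafData.support_comap]; exact hcon
  exact IdealSheafData.support_antitone h h5

lemma preimage_interior_of_isMinimal {I : X.IdealSheafData} {J : Y.IdealSheafData} {f : X ⟶ Y}
    (h : IsMinimal I J f) : f ⁻¹ᵁ interior J = interior I := by
  ext x
  have h' : I = J.comap f := h
  show f x ∉ J.support ↔ x ∉ I.support
  rw [h', IdealSheafData.support_comap]
  rfl

theorem id_isAdmBlowup (I : X.IdealSheafData) : IsAdmBlowup I I (𝟙 X) := by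
  refine ⟨(IdealSheafData.comap_id I).symm, inferInstance, ?_⟩
  infer_instance

theorem comp_isAdmBlowup {I : X.IdealSheafData} {J : Y.IdealSheafData} {K : Z.IdealSheafData}
    {f : X ⟶ Y} {g : Y ⟶ Z} (hf : IsAdmBlowup I J f) (hg : IsAdmBlowup J K g) :
    IsAdmBlowup I K (f ≫ g) := by
  have h1 : J = K.comap g := hg.1
  have h2 : I = J.comap f := hf.1
  refine ⟨?_, ?_, ?_⟩
  · show I = K.comap (f ≫ g)
    rw [IdealSheafData.comap_comp, ← h1]
    exact h2
  · haveI : IsProper f := hf.2.1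
    haveI : IsProper g := hg.2.1
    infer_instance
  · have h4 : IsIso (f ∣_ (g ⁻¹ᵁ interior K)) := by
      rw [preimage_interior_of_isMinimal hg.1]; exact hf.2.2
    have h5 : IsIso (g ∣_ interior K) := hg.2.2
    have e := morphismRestrict_comp f g (interior K)
    rw [e]
    exact @IsIso.comp_isIso _ _ _ _ _ _ _ h4 h5

theorem eq_of_comp_eq (IX : X.IdealSheafData) (hX : BlowUp.IsEffCartierIdeal IX)
    (IY : Y.IdealSheafData) (IZ : Z.IdealSheafData) (f₁ f₂ : X ⟶ Y) (h1 : IsAmbient IX IY f₁)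
    (h2 : IsAmbient IX IY f₂) (s : Y ⟶ Z) (hs : IsAdmBlowup IY IZ s) (h : f₁ ≫ s = f₂ ≫ s) :
    f₁ = f₂ := by
  haveI : IsProper s := hs.2.1
  haveI : IsIso (s ∣_ interior IZ) := hs.2.2
  haveI : IsSchemeTheoreticallyDominant (interior IX).ι :=
    isSchemeTheoreticallyDominant_compl IX hX
  refine ext_of_schDominant_of_isSeparated s h (interior IX).ι ?_
  have hr : ∀ (f : X ⟶ Y), IsAmbient IX IY f →
      Set.range ((interior IX).ι ≫ f) ⊆ Set.range (s ⁻¹ᵁ interior IZ).ι := by
    intro f hf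
    rintro _ ⟨x, rfl⟩
    rw [Scheme.Opens.range_ι]
    have hx : f x.1 ∈ interior IY := map_mem_interior hf x.2
    rw [← preimage_interior_of_isMinimal hs.1] at hx
    exact hx
  have e1 := IsOpenImmersion.lift_fac (s ⁻¹ᵁ interior IZ).ι ((interior IX).ι ≫ f₁) (hr f₁ h1)
  have e2 := IsOpenImmersion.lift_fac (s ⁻¹ᵁ interior IZ).ι ((interior IX).ι ≫ f₂) (hr f₂ h2)
  have hk : IsOpenImmersion.lift (s ⁻¹ᵁ interior IZ).ι ((interior IX).ι ≫ f₁) (hr f₁ h1) =
      IsOpenImmersion.lift (s ⁻¹ᵁ interior IZ).ι ((interior IX).ι ≫ f₂) (hr f₂ h2) := by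
    rw [← cancel_mono (s ∣_ interior IZ), ← cancel_mono (interior IZ).ι, Category.assoc,
      Category.assoc, morphismRestrict_ι, ← Category.assoc, ← Category.assoc, e1, e2,
      Category.assoc, Category.assoc, h]
  rw [← e1, ← e2, hk]

theorem hasRightCalculusOfFractions : (Pair.admBlowup.{u}).HasRightCalculusOfFractions := by
  haveI : (Pair.admBlowup.{u}).IsMultiplicative :=
    { id_mem := fun P => id_isAdmBlowup P.mod
      comp_mem := fun f g hf hg => comp_isAdmBlowup hf hg }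
  refine { exists_rightFraction := ?_, ext := ?_ }
  · intro P Q φ
    obtain ⟨h1, h2, h3⟩ := admBlowup_baseChange φ.Y'.mod P.mod Q.mod P.isEffCartier
      φ.f.hom φ.f.cond φ.s.hom φ.hs
    let P' : Pair.{u} := ⟨_, _, h1⟩
    let s' : P' ⟶ P :=
      ⟨mprodι φ.s.hom φ.f.hom Q.mod P.mod ≫ pullback.snd φ.s.hom φ.f.hom, le_refl _⟩
    let f' : P' ⟶ Q :=
      ⟨mprodι φ.s.hom φ.f.hom Q.mod P.mod ≫ pullback.fst φ.s.hom φ.f.hom, h3⟩
    refine ⟨⟨s', h2, f'⟩, ?_⟩
    apply Pair.Hom.ext
    show (mprodι φ.s.hom φ.f.hom Q.mod P.mod ≫ pullback.snd φ.s.hom φ.f.hom) ≫ φ.f.hom =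
      (mprodι φ.s.hom φ.f.hom Q.mod P.mod ≫ pullback.fst φ.s.hom φ.f.hom) ≫ φ.s.hom
    rw [Category.assoc, Category.assoc, pullback.condition]
  · intro P Q R f₁ f₂ s hs h
    refine ⟨P, 𝟙 P, id_isAdmBlowup P.mod, ?_⟩
    rw [Category.id_comp, Category.id_comp]
    apply Pair.Hom.ext
    exact eq_of_comp_eq P.mod P.isEffCartier Q.mod R.mod f₁.hom f₂.hom f₁.cond f₂.cond s.hom hs
      (congrArg Pair.Hom.hom h)

end Groth.Agent.Helper4.ModPairFrac
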