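import Mathlib
import Groth.Prelude.Def_BlowUp2
import Groth.Prelude.Def_W4c6modpairsegaMP
import Groth.Agent.Lib.Helper4.BlowupIso

/-!
Coproducts of modulus pairs.
-/

set_option autoImplicit false
set_option linter.style.haveILetI false

open CategoryTheory CategoryTheory.Limits AlgebraicGeometry AlgebraicGeometry.Scheme TopologicalSpace

namespace Groth.Agent.Helper4.ModPairSigma

universe u

section Cover

variable {Y : Scheme.{u}}

lemma le_of_openCover (𝒰 : Y.OpenCover) (A B : Y.IdealSheafData)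
    (h : ∀ i, A.comap (𝒰.f i) ≤ B.comap (𝒰.f i)) : A ≤ B := by
  refine IdealSheafData.le_of_iSup_eq_top (ι := Σ i : 𝒰.I₀, (𝒰.X i).affineOpens)
    (fun p => ⟨(𝒰.f p.1) ''ᵁ p.2.1, p.2.2.image_of_isOpenImmersion (𝒰.f p.1)⟩) ?_ ?_
  · rw [eq_top_iff]
    intro y _
    obtain ⟨i, x, rfl⟩ := 𝒰.exists_eq y
    obtain ⟨_, ⟨U, hU, rfl⟩, hxU, -⟩ := (𝒰.X i).isBasis_affineOpens.exists_subset_of_mem_open
      (Set.mem_univ x) isOpen_univ
    exact Opens.mem_iSup.mpr ⟨⟨i, ⟨U, hU⟩⟩, ⟨x, hxU, rfl⟩⟩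
  · rintro ⟨i, U⟩
    have h1 := IdealSheafData.ideal_comap_of_isOpenImmersion A (𝒰.f i) U
    have h2 := IdealSheafData.ideal_comap_of_isOpenImmersion B (𝒰.f i) U
    have h3 := h i U
    rw [h1, h2] at h3
    intro a ha
    have hsurj : Function.Surjective ((𝒰.f i).appIso U.1).inv.hom :=
      (ConcreteCategory.bijective_of_isIso ((𝒰.f i).appIso U.1).inv).2
    obtain ⟨a', rfl⟩ := hsurj a
    exact h3 ha

lemma isEffCartier_of_openCover (𝒰 : Y.OpenCover) (A : Y.IdealSheafData)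
    (h : ∀ i, BlowUp.IsEffCartierIdeal (A.comap (𝒰.f i))) : BlowUp.IsEffCartierIdeal A := by
  intro y
  obtain ⟨i, x, rfl⟩ := 𝒰.exists_eq y
  obtain ⟨U, hxU, f, hf, hfI⟩ := h i x
  have hbij : Function.Bijective ((𝒰.f i).appIso U.1).inv.hom :=
    ConcreteCategory.bijective_of_isIso ((𝒰.f i).appIso U.1).inv
  refine ⟨⟨(𝒰.f i) ''ᵁ U.1, U.2.image_of_isOpenImmersion _⟩, ⟨x, hxU, rfl⟩,
    ((𝒰.f i).appIso U.1).inv.hom f, ?_, ?_⟩
  · exact BlowupIso.map_mem_nonZeroDivisors_of_bijective _ hbij hf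
  · have h1 := IdealSheafData.ideal_comap_of_isOpenImmersion A (𝒰.f i) U
    rw [hfI] at h1
    rw [← Ideal.map_comap_of_surjective _ hbij.2
      (A.ideal ⟨(𝒰.f i) ''ᵁ U.1, U.2.image_of_isOpenImmersion _⟩), ← h1, Ideal.map_span,
      Set.image_singleton]

end Cover

section Sigma

variable {σ : Type u} (X : σ → Scheme.{u}) (I : ∀ i, (X i).IdealSheafData)

/-- The disjoint union of the closed immersions of the moduli. -/
noncomputable abbrev sigmaSub : (∐ fun i => (I i).subscheme) ⟶ ∐ X :=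
  Limits.Sigma.map (fun i => (I i).subschemeι)

lemma ι_sigmaSub (i : σ) :
    Sigma.ι (fun i => (I i).subscheme) i ≫ sigmaSub X I = (I i).subschemeι ≫ Sigma.ι X i :=
  Limits.Sigma.ι_map _ _

lemma sigmaSub_apply (i : σ) (w : (I i).subscheme) :
    sigmaSub X I (Sigma.ι (fun i => (I i).subscheme) i w) =
      Sigma.ι X i ((I i).subschemeι w) := by
  rw [← Scheme.Hom.comp_apply, ι_sigmaSub, Scheme.Hom.comp_apply]

lemma isPullback_sigmaSub (i : σ) :
    IsPullback (I i).subschemeι (Sigma.ι (fun i => (I i).subscheme) i) (Sigma.ι X i)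
      (sigmaSub X I) := by
  refine IsOpenImmersion.isPullback _ _ _ _ (ι_sigmaSub X I i) ?_
  ext z
  obtain ⟨j, w, rfl⟩ := (sigmaOpenCover (fun i => (I i).subscheme)).exists_eq z
  constructor
  · intro hz
    by_cases hji : j = i
    · subst hji
      exact ⟨w, rfl⟩
    · exfalso
      have hd := disjoint_opensRange_sigmaι X j i hji
      have h1 : sigmaSub X I (Sigma.ι (fun i => (I i).subscheme) j w) ∈
          (Sigma.ι X j).opensRange := ⟨(I j).subschemeι w, (sigmaSub_apply X I j w).symm⟩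
      exact (hd.le_bot ⟨h1, hz⟩).elim
  · rintro ⟨w', hw'⟩
    show sigmaSub X I (Sigma.ι (fun i => (I i).subscheme) j w) ∈ (Sigma.ι X i).opensRange
    have hw'' : Sigma.ι (fun i => (I i).subscheme) i w' =
      Sigma.ι (fun i => (I i).subscheme) j w := hw'
    rw [← hw'']
    exact ⟨(I i).subschemeι w', (sigmaSub_apply X I i w').symm⟩

instance isClosedImmersion_sigmaSub : IsClosedImmersion (sigmaSub X I) := by
  rw [IsZariskiLocalAtTarget.iff_of_openCover (P := @IsClosedImmersion) (sigmaOpenCover X)]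
  intro i
  have hpb := (isPullback_sigmaSub X I i).flip
  have e : pullback.snd (sigmaSub X I) (Sigma.ι X i) =
      hpb.isoPullback.inv ≫ (I i).subschemeι := by
    rw [Iso.eq_inv_comp]
    exact hpb.isoPullback_hom_snd
  show IsClosedImmersion (pullback.snd (sigmaSub X I) (Sigma.ι X i))
  rw [e]
  infer_instance

/-- The modulus on the disjoint union. -/
noncomputable def sigmaMod : (∐ X).IdealSheafData := (sigmaSub X I).ker

lemma comap_sigmaMod (i : σ) : (sigmaMod X I).comap (Sigma.ι X i) = I i := by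
  unfold sigmaMod
  rw [← IdealSheafData.ker_fst_of_isClosedImmersion (sigmaSub X I) (Sigma.ι X i)]
  have hpb := isPullback_sigmaSub X I i
  have e : pullback.fst (Sigma.ι X i) (sigmaSub X I) =
      hpb.isoPullback.inv ≫ (I i).subschemeι := by
    rw [Iso.eq_inv_comp]
    exact hpb.isoPullback_hom_fst
  rw [e, Scheme.Hom.ker_comp_of_isIso, IdealSheafData.ker_subschemeι]

lemma isEffCartier_sigmaMod (h : ∀ i, BlowUp.IsEffCartierIdeal (I i)) :
    BlowUp.IsEffCartierIdeal (sigmaMod X I) := by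
  refine isEffCartier_of_openCover (sigmaOpenCover X) _ (fun i => ?_)
  show BlowUp.IsEffCartierIdeal ((sigmaMod X I).comap (Sigma.ι X i))
  rw [comap_sigmaMod]
  exact h i

lemma sigmaMod_le_iff (K : (∐ X).IdealSheafData)
    (h : ∀ i, I i ≤ K.comap (Sigma.ι X i)) : sigmaMod X I ≤ K := by
  refine le_of_openCover (sigmaOpenCover X) _ _ (fun i => ?_)
  show (sigmaMod X I).comap (Sigma.ι X i) ≤ K.comap (Sigma.ι X i)
  rw [comap_sigmaMod]
  exact h i

end Sigma

section Pair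

variable {σ : Type u} (F : Discrete σ ⥤ ModPair.Pair.{u})

/-- The coproduct of a family of modulus pairs. -/
noncomputable def sigmaPair : ModPair.Pair.{u} where
  total := ∐ fun i => (F.obj ⟨i⟩).total
  mod := sigmaMod (fun i => (F.obj ⟨i⟩).total) (fun i => (F.obj ⟨i⟩).mod)
  isEffCartier := isEffCartier_sigmaMod _ _ (fun i => (F.obj ⟨i⟩).isEffCartier)

noncomputable def sigmaLeg (i : σ) : F.obj ⟨i⟩ ⟶ sigmaPair F :=
  ⟨Sigma.ι (fun i => (F.obj ⟨i⟩).total) i, by
    show (F.obj ⟨i⟩).mod ≤ (sigmaMod (fun i => (F.obj ⟨i⟩).total)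
      (fun i => (F.obj ⟨i⟩).mod)).comap (Sigma.ι (fun i => (F.obj ⟨i⟩).total) i)
    rw [comap_sigmaMod]⟩

noncomputable def sigmaCocone : Cocone F where
  pt := sigmaPair F
  ι := Discrete.natTrans (fun j => sigmaLeg F j.as)

noncomputable def sigmaDesc (s : Cocone F) : sigmaPair F ⟶ s.pt :=
  ⟨Sigma.desc (fun i => (s.ι.app ⟨i⟩).hom), by
    show sigmaMod _ _ ≤ s.pt.mod.comap _
    refine sigmaMod_le_iff _ _ _ (fun i => ?_)
    rw [← IdealSheafData.comap_comp, Sigma.ι_desc]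
    exact (s.ι.app ⟨i⟩).cond⟩

noncomputable def sigmaIsColimit : IsColimit (sigmaCocone F) where
  desc s := sigmaDesc F s
  fac s := by
    rintro ⟨i⟩
    apply ModPair.Pair.Hom.ext
    show Sigma.ι (fun i => (F.obj ⟨i⟩).total) i ≫
      Sigma.desc (fun i => (s.ι.app ⟨i⟩).hom) = (s.ι.app ⟨i⟩).hom
    exact Sigma.ι_desc _ _
  uniq s m hm := by
    apply ModPair.Pair.Hom.ext
    refine Sigma.hom_ext _ _ (fun i => ?_)
    show Sigma.ι (fun i => (F.obj ⟨i⟩).total) i ≫ m.hom =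
      Sigma.ι (fun i => (F.obj ⟨i⟩).total) i ≫ Sigma.desc (fun i => (s.ι.app ⟨i⟩).hom)
    rw [Sigma.ι_desc]
    exact congrArg ModPair.Pair.Hom.hom (hm ⟨i⟩)

noncomputable def forgetIsColimit :
    IsColimit (ModPair.Pair.forget.mapCocone (sigmaCocone F)) where
  desc s := Sigma.desc (fun i => s.ι.app ⟨i⟩)
  fac s := by
    rintro ⟨i⟩
    show Sigma.ι (fun i => (F.obj ⟨i⟩).total) i ≫
      Sigma.desc (fun i => s.ι.app ⟨i⟩) = s.ι.app ⟨i⟩
    exact Sigma.ι_desc _ _
  uniq s m hm := by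
    refine Sigma.hom_ext _ _ (fun i => ?_)
    show Sigma.ι (fun i => (F.obj ⟨i⟩).total) i ≫ m =
      Sigma.ι (fun i => (F.obj ⟨i⟩).total) i ≫ Sigma.desc (fun i => s.ι.app ⟨i⟩)
    rw [Sigma.ι_desc]
    exact hm ⟨i⟩

end Pair

theorem hasColimitsOfShape_and_preserves (σ : Type u) :
    HasColimitsOfShape (Discrete σ) ModPair.Pair.{u} ∧
      PreservesColimitsOfShape (Discrete σ) ModPair.Pair.forget.{u} :=
  ⟨⟨fun F => ⟨⟨⟨sigmaCocone F, sigmaIsColimit F⟩⟩⟩⟩,
    ⟨fun {F} => preservesColimit_of_preserves_colimit_cocone (sigmaIsColimit F)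
      (forgetIsColimit F)⟩⟩

end Groth.Agent.Helper4.ModPairSigma
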