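import Mathlib
import Groth.Agent.S9400
import Groth.Agent.S4710
import Groth.Agent.S9399
import Groth.Agent.S9398
import Groth.Agent.S9394
import Groth.Agent.S9392

set_option autoImplicit false
universe u
open CategoryTheory AlgebraicGeometry TopologicalSpace Opposite

namespace Groth.Agent.Helper4.NagataLocal

theorem isN2_of_ringEquiv {R S : Type u} [CommRing R] [IsDomain R] [CommRing S] [IsDomain S]
    (e : R ≃+* S) (h : CAlg.IsN2 R) : CAlg.IsN2 S := by
  letI : Algebra R S := e.toRingHom.toAlgebra
  haveI : IsLocalization.Away (1 : R) S :=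
    IsLocalization.away_of_isUnit_of_bijective S isUnit_one e.bijective
  exact Groth.Agent.S9392.result R (Submonoid.powers 1) S h

theorem isNagata_of_ringEquiv {R S : Type u} [CommRing R] [CommRing S]
    (e : R ≃+* S) (h : CAlg.IsNagata R) : CAlg.IsNagata S := by
  obtain ⟨hN, hq⟩ := h
  refine ⟨isNoetherianRing_of_ringEquiv R e, fun q _ => ?_⟩
  haveI : (q.comap e.toRingHom).IsPrime := Ideal.comap_isPrime _ _
  have h1 := hq (q.comap e.toRingHom)
  have hmap : q = Ideal.map (e : R →+* S) (q.comap e.toRingHom) :=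
    (Ideal.map_comap_of_surjective (e : R →+* S) e.surjective q).symm
  let e' : (R ⧸ q.comap e.toRingHom) ≃+* (S ⧸ q) := Ideal.quotientEquiv _ _ e hmap
  exact isN2_of_ringEquiv e' h1

theorem isNagata_of_isLocalization_away {R S : Type u} [CommRing R] [CommRing S] [Algebra R S]
    (f : R) [IsLocalization.Away f S] (h : CAlg.IsNagata R) : CAlg.IsNagata S := by
  have h1 := Groth.Agent.S4710.result R h (Submonoid.powers f)
  exact isNagata_of_ringEquiv
    (IsLocalization.algEquiv (Submonoid.powers f) (Localization (Submonoid.powers f)) S).toRingEquiv h1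

theorem isNagata_of_cover {R : Type u} [CommRing R] (s : Finset R)
    (hs : Ideal.span (s : Set R) = ⊤) (Rf : s → Type u) [∀ f, CommRing (Rf f)]
    [∀ f, Algebra R (Rf f)] [∀ f : s, IsLocalization.Away f.1 (Rf f)]
    (h : ∀ f, CAlg.IsNagata (Rf f)) : CAlg.IsNagata R := by
  refine Groth.Agent.S9400.result R (ι := s) (fun f => f.1) (by simpa using hs) ?_
  intro f
  exact isNagata_of_ringEquiv
    (IsLocalization.algEquiv (Submonoid.powers f.1) (Rf f) (Localization.Away f.1)).toRingEquiv (h f)

theorem isUJ_of_essFiniteType {R T : Type u} [CommRing R] [CommRing T] [Algebra R T]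
    [Algebra.EssFiniteType R T] (h : CAlg.IsUniversallyJapanese R) :
    CAlg.IsUniversallyJapanese T :=
  Groth.Agent.S9398.result R h T

theorem isUJ_of_isLocalization_away {R S : Type u} [CommRing R] [CommRing S] [Algebra R S]
    (f : R) [IsLocalization.Away f S] (h : CAlg.IsUniversallyJapanese R) :
    CAlg.IsUniversallyJapanese S := by
  haveI : Algebra.EssFiniteType R S := Algebra.EssFiniteType.of_isLocalization S (Submonoid.powers f)
  exact isUJ_of_essFiniteType h

theorem isUJ_of_ringEquiv {R S : Type u} [CommRing R] [CommRing S]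
    (e : R ≃+* S) (h : CAlg.IsUniversallyJapanese R) : CAlg.IsUniversallyJapanese S := by
  letI : Algebra R S := e.toRingHom.toAlgebra
  haveI : IsLocalization.Away (1 : R) S :=
    IsLocalization.away_of_isUnit_of_bijective S isUnit_one e.bijective
  exact isUJ_of_isLocalization_away (1 : R) h

theorem isUJ_of_cover {R : Type u} [CommRing R] (s : Finset R)
    (hs : Ideal.span (s : Set R) = ⊤) (Rf : s → Type u) [∀ f, CommRing (Rf f)]
    [∀ f, Algebra R (Rf f)] [∀ f : s, IsLocalization.Away f.1 (Rf f)]
    (h : ∀ f, CAlg.IsUniversallyJapanese (Rf f)) : CAlg.IsUniversallyJapanese R := by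
  refine Groth.Agent.S9399.result R (ι := s) (fun f => f.1) (by simpa using hs) ?_
  intro f
  exact isUJ_of_ringEquiv
    (IsLocalization.algEquiv (Submonoid.powers f.1) (Rf f) (Localization.Away f.1)).toRingEquiv (h f)

theorem nagata_affine (X : Scheme.{u}) {ι : Type u} (U : ι → X.Opens)
    (hU : iSup U = ⊤) (haff : ∀ i, IsAffineOpen (U i)) (hN : ∀ i, CAlg.IsNagata Γ(X, U i))
    (V : X.Opens) (hV : IsAffineOpen V) : CAlg.IsNagata Γ(X, V) := by
  refine of_affine_open_cover (X := X) (P := fun W => CAlg.IsNagata Γ(X, W.1))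
    (fun i => (⟨U i, haff i⟩ : X.affineOpens)) (by simpa using hU) ⟨V, hV⟩ ?_ ?_ hN
  · intro W f hW
    haveI := W.2.isLocalization_basicOpen f
    show CAlg.IsNagata Γ(X, X.basicOpen f)
    exact isNagata_of_isLocalization_away f hW
  · intro W s hs h
    haveI : ∀ f : s, IsLocalization.Away f.1 Γ(X, X.basicOpen f.1) :=
      fun f => W.2.isLocalization_basicOpen f.1
    exact isNagata_of_cover s hs (fun f => Γ(X, X.basicOpen f.1)) h

theorem uj_affine (X : Scheme.{u}) {ι : Type u} (U : ι → X.Opens)
    (hU : iSup U = ⊤) (haff : ∀ i, IsAffineOpen (U i))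
    (hN : ∀ i, CAlg.IsUniversallyJapanese Γ(X, U i))
    (V : X.Opens) (hV : IsAffineOpen V) : CAlg.IsUniversallyJapanese Γ(X, V) := by
  refine of_affine_open_cover (X := X) (P := fun W => CAlg.IsUniversallyJapanese Γ(X, W.1))
    (fun i => (⟨U i, haff i⟩ : X.affineOpens)) (by simpa using hU) ⟨V, hV⟩ ?_ ?_ hN
  · intro W f hW
    haveI := W.2.isLocalization_basicOpen f
    show CAlg.IsUniversallyJapanese Γ(X, X.basicOpen f)
    exact isUJ_of_isLocalization_away f hW
  · intro W s hs h
    haveI : ∀ f : s, IsLocalization.Away f.1 Γ(X, X.basicOpen f.1) :=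
      fun f => W.2.isLocalization_basicOpen f.1
    exact isUJ_of_cover s hs (fun f => Γ(X, X.basicOpen f.1)) h

end Groth.Agent.Helper4.NagataLocal
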