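import Mathlib
import Groth.Agent.S9394
import Groth.Agent.S9392

set_option autoImplicit false
universe u
open CategoryTheory AlgebraicGeometry TopologicalSpace Opposite

namespace Groth.Agent.Helper4.NagataLocal2

theorem nonempty_of_le {X : Scheme.{u}} {U V : X.Opens} (h : U ≤ V) [hU : Nonempty U] :
    Nonempty V := by
  obtain ⟨x, hx⟩ := hU
  exact ⟨⟨x, h hx⟩⟩

theorem nonempty_basicOpen {X : Scheme.{u}} [IsReduced X] {U : X.Opens} (f : Γ(X, U))
    (hf : f ≠ 0) : Nonempty (X.basicOpen f) := by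
  by_contra hne
  apply hf
  apply (basicOpen_eq_bot_iff f).mp
  rw [eq_bot_iff]
  intro x hx
  exact (hne ⟨⟨x, hx⟩⟩).elim

theorem n2_affine (X : Scheme.{u}) [IsIntegral X] {ι : Type u}
    (U : ι → X.Opens) [∀ i, Nonempty (U i)] (hU : iSup U = ⊤) (haff : ∀ i, IsAffineOpen (U i))
    (hJ : ∀ i, CAlg.IsN2 Γ(X, U i)) (V : X.Opens) [hVne : Nonempty V] (hV : IsAffineOpen V) :
    CAlg.IsN2 Γ(X, V) := by
  have key := of_affine_open_cover (X := X)
    (P := fun W => ∀ [Nonempty W.1], CAlg.IsN2 Γ(X, W.1))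
    (fun i => (⟨U i, haff i⟩ : X.affineOpens)) (by simpa using hU) ⟨V, hV⟩ ?_ ?_ ?_
  · exact key
  · intro W f hW hne
    change Nonempty (X.basicOpen f) at hne
    haveI : Nonempty W.1 := nonempty_of_le (X.basicOpen_le f)
    haveI := W.2.isLocalization_basicOpen f
    show CAlg.IsN2 Γ(X, X.basicOpen f)
    exact Groth.Agent.S9392.result Γ(X, W.1) (Submonoid.powers f) Γ(X, X.basicOpen f) hW
  · intro W s hs h hne
    classical
    let ι' : Type u := {f : Γ(X, W.1) // f ∈ s ∧ f ≠ 0}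
    haveI : Finite ι' := Finite.of_injective (fun f : ι' => (⟨f.1, f.2.1⟩ : s))
      (fun a b hab => Subtype.ext (congrArg (fun t : s => t.1) hab))
    haveI hne' : ∀ f : ι', Nonempty (X.basicOpen f.1) := fun f => nonempty_basicOpen f.1 f.2.2
    haveI : ∀ f : ι', IsLocalization.Away f.1 Γ(X, X.basicOpen f.1) :=
      fun f => W.2.isLocalization_basicOpen f.1
    have hspan : Ideal.span (Set.range fun f : ι' => f.1) = ⊤ := by
      have : (Set.range fun f : ι' => f.1) = (s : Set Γ(X, W.1)) \ {0} := by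
        ext g
        constructor
        · rintro ⟨f, rfl⟩
          exact ⟨f.2.1, f.2.2⟩
        · rintro ⟨hg1, hg2⟩
          exact ⟨⟨g, hg1, hg2⟩, rfl⟩
      rw [this, Ideal.span_sdiff_singleton_zero, hs]
    refine Groth.Agent.S9394.result Γ(X, W.1) (ι := ι') (fun f => f.1) hspan
      (fun f => Γ(X, X.basicOpen f.1)) ?_
    intro f
    exact @h ⟨f.1, f.2.1⟩ (hne' f)
  · intro i hne
    exact hJ i

end Groth.Agent.Helper4.NagataLocal2
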