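import Mathlib
import Groth.Agent.Lib.Helper4.NagataLocal
import Groth.Agent.Lib.Helper4.NagataLocal2

set_option autoImplicit false
universe u
open CategoryTheory AlgebraicGeometry TopologicalSpace Opposite

namespace Groth.Agent.Helper4.NagataLocal3

theorem n2_preimage {X Z : Scheme.{u}} (i : Z ⟶ X) [IsClosedImmersion i] [IsIntegral Z]
    (U : X.Opens) (hU : IsAffineOpen U) [Nonempty (i ⁻¹ᵁ U)] (hN : CAlg.IsNagata Γ(X, U)) :
    CAlg.IsN2 Γ(Z, i ⁻¹ᵁ U) := by
  have hsurj : Function.Surjective (i.app U).hom := i.app_surjective U hU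
  haveI : (RingHom.ker (i.app U).hom).IsPrime := RingHom.ker_isPrime _
  have h1 := hN.2 (RingHom.ker (i.app U).hom)
  exact NagataLocal.isN2_of_ringEquiv (RingHom.quotientKerEquivOfSurjective hsurj) h1

theorem forward (X : Scheme.{u})
    (hX : ∀ U : X.Opens, IsAffineOpen U → CAlg.IsNagata Γ(X, U))
    (Z : Scheme.{u}) (i : Z ⟶ X) [IsClosedImmersion i] [IsIntegral Z] (V : Z.Opens)
    [Nonempty V] (hV : IsAffineOpen V) : CAlg.IsN2 Γ(Z, V) := by
  let ι : Type u := {U : X.affineOpens // Nonempty (i ⁻¹ᵁ U.1)}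
  haveI : ∀ j : ι, Nonempty (i ⁻¹ᵁ j.1.1) := fun j => j.2
  refine NagataLocal2.n2_affine Z (ι := ι) (fun j => i ⁻¹ᵁ j.1.1) ?_
    (fun j => j.1.2.preimage i) (fun j => n2_preimage i j.1.1 j.1.2 (hX _ j.1.2)) V hV
  rw [eq_top_iff]
  intro z _
  obtain ⟨_, ⟨U, hU, rfl⟩, hzU, -⟩ :=
    X.isBasis_affineOpens.exists_subset_of_mem_open (Set.mem_univ (i z)) isOpen_univ
  exact Opens.mem_iSup.mpr ⟨⟨⟨U, hU⟩, ⟨⟨z, hzU⟩⟩⟩, hzU⟩

theorem isReduced_subscheme_vanishingIdeal {X : Scheme.{u}} (Zc : Closeds X) :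
    IsReduced (Scheme.IdealSheafData.vanishingIdeal Zc).subscheme := by
  let 𝓘 := Scheme.IdealSheafData.vanishingIdeal Zc
  haveI : ∀ U : 𝓘.subschemeCover.openCover.I₀, IsReduced (𝓘.subschemeCover.openCover.X U) := by
    intro U
    have hrad : (𝓘.ideal U).IsRadical := by
      rw [Scheme.IdealSheafData.vanishingIdeal_ideal]
      exact PrimeSpectrum.isRadical_vanishingIdeal _
    haveI : _root_.IsReduced (Γ(X, U.1) ⧸ 𝓘.ideal U) :=
      (Ideal.isRadical_iff_quotient_reduced _).mp hrad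
    show IsReduced (Spec (CommRingCat.of (Γ(X, U.1) ⧸ 𝓘.ideal U)))
    infer_instance
  exact IsReduced.of_openCover _ 𝓘.subschemeCover.openCover

theorem backward (X : Scheme.{u}) [IsLocallyNoetherian X]
    (hJ : ∀ (Z : Scheme.{u}) (i : Z ⟶ X) [IsClosedImmersion i] [IsIntegral Z]
      (V : Z.Opens) [Nonempty V], IsAffineOpen V → CAlg.IsN2 Γ(Z, V))
    (U : X.Opens) (hU : IsAffineOpen U) : CAlg.IsNagata Γ(X, U) := by
  refine ⟨IsLocallyNoetherian.component_noetherian ⟨U, hU⟩, fun p _ => ?_⟩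
  let pt : PrimeSpectrum Γ(X, U) := ⟨p, inferInstance⟩
  let x : X := hU.fromSpec pt
  let Zc : Closeds X := Closeds.closure {x}
  let 𝓘 := Scheme.IdealSheafData.vanishingIdeal Zc
  have hideal : 𝓘.ideal ⟨U, hU⟩ = p := by
    rw [Scheme.IdealSheafData.vanishingIdeal_ideal]
    have hpre : (hU.fromSpec ⁻¹' (Zc : Set X) : Set (PrimeSpectrum Γ(X, U))) = closure {pt} := by
      show hU.fromSpec ⁻¹' closure {x} = _
      rw [hU.fromSpec.isOpenEmbedding.isOpenMap.preimage_closure_eq_closure_preimage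
        hU.fromSpec.continuous]
      congr 1
      ext q
      simp only [Set.mem_preimage, Set.mem_singleton_iff]
      exact hU.fromSpec.isOpenEmbedding.injective.eq_iff
    have h2 := congrArg PrimeSpectrum.vanishingIdeal hpre
    rw [PrimeSpectrum.vanishingIdeal_closure, PrimeSpectrum.vanishingIdeal_singleton] at h2
    exact h2
  have hsupp : (𝓘.support : Set X) = closure {x} := by
    rw [Scheme.IdealSheafData.coe_support_vanishingIdeal]
    rfl
  have hirr : IsIrreducible (𝓘.support : Set X) := by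
    rw [hsupp]
    exact isIrreducible_singleton.closure
  haveI : IrreducibleSpace 𝓘.subscheme := Subtype.irreducibleSpace hirr
  haveI : IsReduced 𝓘.subscheme := isReduced_subscheme_vanishingIdeal Zc
  haveI : IsIntegral 𝓘.subscheme := isIntegral_of_irreducibleSpace_of_isReduced _
  have hxs : x ∈ (𝓘.support : Set X) := by
    rw [hsupp]
    exact subset_closure rfl
  have hxU : x ∈ U := by
    have := hU.range_fromSpec ▸ Set.mem_range_self (f := hU.fromSpec) pt
    exact this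
  haveI : Nonempty (𝓘.subschemeι ⁻¹ᵁ U) := ⟨⟨⟨x, hxs⟩, hxU⟩⟩
  have h1 := hJ 𝓘.subscheme 𝓘.subschemeι (𝓘.subschemeι ⁻¹ᵁ U) (hU.preimage _)
  have hsurj : Function.Surjective (𝓘.subschemeι.app U).hom :=
    𝓘.subschemeι_app_surjective ⟨U, hU⟩
  have hker : RingHom.ker (𝓘.subschemeι.app U).hom = p :=
    (𝓘.ker_subschemeι_app ⟨U, hU⟩).trans hideal
  let e : (Γ(X, U) ⧸ p) ≃+* Γ(𝓘.subscheme, 𝓘.subschemeι ⁻¹ᵁ U) :=
    (Ideal.quotEquivOfEq hker.symm).trans (RingHom.quotientKerEquivOfSurjective hsurj)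
  exact NagataLocal.isN2_of_ringEquiv e.symm h1

end Groth.Agent.Helper4.NagataLocal3
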