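import Mathlib
import Groth.Prelude.Def_CInt
import Groth.Agent.Lib.Helper4.CartierPropor
import Groth.Agent.Lib.Helper4.DepthOneCore
import Groth.Agent.Lib.Helper4.NormalDepthOne
import Groth.Agent.Lib.Helper4.EffCartierPull

/-!
# Effective Cartier divisors on a normal scheme are determined by their pullback along a proper
dominant morphism
-/

set_option autoImplicit false
set_option linter.style.haveILetI false

universe u

open CategoryTheory AlgebraicGeometry TopologicalSpace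

namespace Groth.Agent.Helper4.NormalCartierPull

open Groth.Agent.Helper4.CartierPropor

variable {S S' : Scheme.{u}}

theorem ext_of_stalkIdeal (D E : S.IdealSheafData)
    (h : ∀ x : S, stalkIdeal D x = stalkIdeal E x) : D = E := by
  apply Scheme.IdealSheafData.ext
  funext U
  rw [U.2.ideal_ext_iff]
  intro x hx
  rw [← stalkIdeal_eq D U x hx, ← stalkIdeal_eq E U x hx]
  exact h x

theorem germ_appLE (f : S' ⟶ S) (V : S.Opens) (U' : S'.Opens) (e : U' ≤ f ⁻¹ᵁ V) (x' : S')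
    (hx' : x' ∈ U') (s : Γ(S, V)) :
    S'.presheaf.germ U' x' hx' ((f.appLE V U' e).hom s) =
      (f.stalkMap x').hom (S.presheaf.germ V (f x') (e hx') s) := by
  have h1 : (f.appLE V U' e).hom s =
      (S'.presheaf.map (homOfLE e).op).hom ((f.app V).hom s) := rfl
  rw [h1]
  have h2 := TopCat.Presheaf.germ_res_apply S'.presheaf (homOfLE e) x' hx' ((f.app V).hom s)
  have h3 := Scheme.Hom.germ_stalkMap_apply f V x' (e hx') s
  exact h2.trans h3.symm

theorem stalkIdeal_comap (f : S' ⟶ S) (D : S.IdealSheafData) (x' : S') :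
    stalkIdeal (D.comap f) x' = (stalkIdeal D (f x')).map (f.stalkMap x').hom := by
  obtain ⟨_, ⟨V, hV, rfl⟩, hzV, -⟩ :=
    S.isBasis_affineOpens.exists_subset_of_mem_open (Set.mem_univ (f x')) isOpen_univ
  obtain ⟨_, ⟨U', hU', rfl⟩, hx'U', hU'V⟩ :=
    S'.isBasis_affineOpens.exists_subset_of_mem_open
      (show x' ∈ ((f ⁻¹ᵁ V : S'.Opens) : Set S') from hzV) (f ⁻¹ᵁ V).isOpen
  let Va : S.affineOpens := ⟨V, hV⟩
  let Ua : S'.affineOpens := ⟨U', hU'⟩
  have e : Ua.1 ≤ f ⁻¹ᵁ Va.1 := hU'V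
  have hx'Ua : x' ∈ Ua.1 := hx'U'
  have hzVa : f x' ∈ Va.1 := hzV
  rw [stalkIdeal_eq (D.comap f) Ua x' hx'Ua, stalkIdeal_eq D Va (f x') hzVa,
    EffCartierPull.ideal_comap_appLE f D Ua Va e, Ideal.map_map, Ideal.map_map]
  congr 1
  ext s
  exact germ_appLE f V U' e x' hx'U' s

theorem stalkMap_germ_mem_nonZeroDivisors (f : S' ⟶ S) (U : S.Opens)
    (hU' : CInt.IsSchematicallyDense (f ⁻¹ᵁ U)) (W : S.Opens) (g : Γ(S, W))
    (hunit : ∀ (y : S) (hy : y ∈ W), y ∈ U → IsUnit (S.presheaf.germ W y hy g))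
    (x' : S') (hx' : f x' ∈ W) :
    (f.stalkMap x').hom (S.presheaf.germ W (f x') hx' g) ∈
      nonZeroDivisors (S'.presheaf.stalk x') := by
  obtain ⟨g', hg'⟩ : ∃ g' : Γ(S', f ⁻¹ᵁ W), g' = (f.app W).hom g := ⟨_, rfl⟩
  have hgerm : ∀ (y' : S') (hy' : f y' ∈ W),
      (f.stalkMap y').hom (S.presheaf.germ W (f y') hy' g) =
        S'.presheaf.germ (f ⁻¹ᵁ W) y' hy' g' := by
    intro y' hy'
    rw [hg']
    exact Scheme.Hom.germ_stalkMap_apply f W y' hy' g
  rw [hgerm x' hx', mem_nonZeroDivisors_iff_right]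
  intro t ht
  obtain ⟨V', hx'V', σ, rfl⟩ := S'.presheaf.exists_germ_eq t
  obtain ⟨V₁, hV₁⟩ : ∃ V₁ : S'.Opens, V₁ = V' ⊓ f ⁻¹ᵁ W := ⟨_, rfl⟩
  have hV₁V' : V₁ ≤ V' := hV₁ ▸ inf_le_left
  have hV₁W : V₁ ≤ f ⁻¹ᵁ W := hV₁ ▸ inf_le_right
  have hx'V₁ : x' ∈ V₁ := by
    rw [hV₁]
    exact ⟨hx'V', hx'⟩
  obtain ⟨σ₁, hσ₁def⟩ : ∃ σ₁ : Γ(S', V₁), σ₁ = S'.presheaf.map (homOfLE hV₁V').op σ := ⟨_, rfl⟩
  obtain ⟨g₁, hg₁def⟩ : ∃ g₁ : Γ(S', V₁), g₁ = S'.presheaf.map (homOfLE hV₁W).op g' := ⟨_, rfl⟩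
  have hσ₁ : ∀ (y' : S') (hy' : y' ∈ V₁), S'.presheaf.germ V₁ y' hy' σ₁ =
      S'.presheaf.germ V' y' (hV₁V' hy') σ := by
    intro y' hy'
    rw [hσ₁def]
    exact TopCat.Presheaf.germ_res_apply S'.presheaf (homOfLE hV₁V') y' hy' σ
  have hg₁ : ∀ (y' : S') (hy' : y' ∈ V₁), S'.presheaf.germ V₁ y' hy' g₁ =
      S'.presheaf.germ (f ⁻¹ᵁ W) y' (hV₁W hy') g' := by
    intro y' hy'
    rw [hg₁def]
    exact TopCat.Presheaf.germ_res_apply S'.presheaf (homOfLE hV₁W) y' hy' g'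
  have hprod : S'.presheaf.germ V₁ x' hx'V₁ (σ₁ * g₁) = S'.presheaf.germ V₁ x' hx'V₁ 0 := by
    rw [map_mul, hσ₁ x' hx'V₁, hg₁ x' hx'V₁, ht, map_zero]
  obtain ⟨V₂, hx'V₂, i₁, i₂, hres⟩ := S'.presheaf.germ_eq x' hx'V₁ hx'V₁ _ _ hprod
  obtain ⟨σ₂, hσ₂def⟩ : ∃ σ₂ : Γ(S', V₂), σ₂ = S'.presheaf.map i₁.op σ₁ := ⟨_, rfl⟩
  have hσ₂ : ∀ (y' : S') (hy' : y' ∈ V₂), S'.presheaf.germ V₂ y' hy' σ₂ =
      S'.presheaf.germ V₁ y' (i₁.le hy') σ₁ := by
    intro y' hy'
    rw [hσ₂def]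
    exact TopCat.Presheaf.germ_res_apply S'.presheaf i₁ y' hy' σ₁
  have hσ₂0 : σ₂ = 0 := by
    apply hU' V₂
    rw [map_zero]
    apply TopCat.Presheaf.section_ext S'.sheaf (V₂ ⊓ f ⁻¹ᵁ U) _ 0
    intro y' hy'
    show S'.presheaf.germ (V₂ ⊓ f ⁻¹ᵁ U) y' hy'
      (S'.presheaf.map (homOfLE (inf_le_left : V₂ ⊓ f ⁻¹ᵁ U ≤ V₂)).op σ₂) =
        S'.presheaf.germ (V₂ ⊓ f ⁻¹ᵁ U) y' hy' 0
    rw [map_zero, TopCat.Presheaf.germ_res_apply S'.presheaf
      (homOfLE (inf_le_left : V₂ ⊓ f ⁻¹ᵁ U ≤ V₂)) y' hy' σ₂]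
    have hy'V₂ : y' ∈ V₂ := hy'.1
    have hy'V₁ : y' ∈ V₁ := i₁.le hy'V₂
    have h1 : S'.presheaf.germ V₂ y' hy'V₂ (S'.presheaf.map i₁.op (σ₁ * g₁)) = 0 := by
      rw [hres, map_zero, map_zero]
    rw [TopCat.Presheaf.germ_res_apply S'.presheaf i₁ y' hy'V₂ (σ₁ * g₁), map_mul] at h1
    have hu : IsUnit (S'.presheaf.germ V₁ y' hy'V₁ g₁) := by
      rw [hg₁ y' hy'V₁, ← hgerm y' (hV₁W hy'V₁)]
      exact (hunit (f y') (hV₁W hy'V₁) hy'.2).map (f.stalkMap y').hom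
    have h2 : S'.presheaf.germ V₁ y' hy'V₁ σ₁ = 0 := hu.mul_left_eq_zero.mp h1
    rw [hσ₂ y' hy'V₂]
    exact h2
  rw [← hσ₁ x' hx'V₁, ← hσ₂ x' hx'V₂, hσ₂0, map_zero]

theorem surjective_of_ker_eq_bot (f : S' ⟶ S) [IsProper f] (hdom : f.ker = ⊥) :
    Function.Surjective f := by
  have h1 : (f.ker.support : Set S) = closure (Set.range f) := Scheme.Hom.support_ker f
  have h2 : IsClosed (Set.range f) := f.isClosedMap.isClosed_range
  rw [hdom, h2.closure_eq, Scheme.IdealSheafData.support_bot] at h1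
  intro y
  have h3 : y ∈ ((⊤ : Closeds S) : Set S) := trivial
  rw [h1] at h3
  exact h3

theorem main [IsLocallyNoetherian S]
    (hnorm : ∀ x : S, IsDomain (S.presheaf.stalk x) ∧ IsIntegrallyClosed (S.presheaf.stalk x))
    (f : S' ⟶ S) [IsProper f] (hdom : f.ker = ⊥)
    (U : S.Opens) (hU' : CInt.IsSchematicallyDense (f ⁻¹ᵁ U))
    (D E : S.IdealSheafData)
    (hD : ∀ x : S, ∃ U : S.affineOpens, x ∈ (U : S.Opens) ∧ ∃ g : Γ(S, U),
      g ∈ nonZeroDivisors Γ(S, U) ∧ D.ideal U = Ideal.span {g})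
    (hE : ∀ x : S, ∃ U : S.affineOpens, x ∈ (U : S.Opens) ∧ ∃ g : Γ(S, U),
      g ∈ nonZeroDivisors Γ(S, U) ∧ E.ideal U = Ideal.span {g})
    (hDU : (D.support : Set S) ⊆ (U : Set S)ᶜ) (hEU : (E.support : Set S) ⊆ (U : Set S)ᶜ)
    (h : D.comap f = E.comap f) : D = E := by
  apply ext_of_stalkIdeal
  by_contra hcon
  push Not at hcon
  obtain ⟨x, hx⟩ := hcon
  obtain ⟨z, hzB, -, hzmin⟩ := DepthOneCore.exists_minimal_generization S
    {y | stalkIdeal D y ≠ stalkIdeal E y} x hx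
  have hmin : ∀ ζ : S, ζ ⤳ z → ζ ≠ z → stalkIdeal D ζ = stalkIdeal E ζ := by
    intro ζ hζ hne
    by_contra hh
    exact hne (hzmin ζ hh hζ)
  obtain ⟨x', rfl⟩ := surjective_of_ker_eq_bot f hdom z
  haveI : IsDomain (S.presheaf.stalk (f x')) := (hnorm _).1
  haveI : IsIntegrallyClosed (S.presheaf.stalk (f x')) := (hnorm _).2
  obtain ⟨UD, hzUD, gD, hgD, hDUD⟩ := hD (f x')
  obtain ⟨UE, hzUE, gE, hgE, hEUE⟩ := hE (f x')
  -- stalk ideals in terms of the generators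
  have hDy : ∀ (y : S) (hy : y ∈ UD.1), stalkIdeal D y =
      Ideal.span {S.presheaf.germ UD.1 y hy gD} := by
    intro y hy
    rw [stalkIdeal_eq D UD y hy, hDUD, Ideal.map_span, Set.image_singleton]
  have hEy : ∀ (y : S) (hy : y ∈ UE.1), stalkIdeal E y =
      Ideal.span {S.presheaf.germ UE.1 y hy gE} := by
    intro y hy
    rw [stalkIdeal_eq E UE y hy, hEUE, Ideal.map_span, Set.image_singleton]
  -- a common affine neighbourhood
  obtain ⟨_, ⟨W, hW, rfl⟩, hzW, hWUV⟩ := S.isBasis_affineOpens.exists_subset_of_mem_open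
    (show f x' ∈ ((UD.1 ⊓ UE.1 : S.Opens) : Set S) from ⟨hzUD, hzUE⟩) (UD.1 ⊓ UE.1).isOpen
  have hzW' : f x' ∈ W := hzW
  have hWD : W ≤ UD.1 := fun y hy => (hWUV hy).1
  have hWE : W ≤ UE.1 := fun y hy => (hWUV hy).2
  obtain ⟨b, hbdef⟩ : ∃ b : Γ(S, W), b = S.presheaf.map (homOfLE hWD).op gD := ⟨_, rfl⟩
  obtain ⟨m, hmdef⟩ : ∃ m : Γ(S, W), m = S.presheaf.map (homOfLE hWE).op gE := ⟨_, rfl⟩
  have hb : ∀ (y : S) (hy : y ∈ W), S.presheaf.germ W y hy b =
      S.presheaf.germ UD.1 y (hWD hy) gD := by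
    intro y hy
    rw [hbdef]
    exact TopCat.Presheaf.germ_res_apply S.presheaf (homOfLE hWD) y hy gD
  have hm : ∀ (y : S) (hy : y ∈ W), S.presheaf.germ W y hy m =
      S.presheaf.germ UE.1 y (hWE hy) gE := by
    intro y hy
    rw [hmdef]
    exact TopCat.Presheaf.germ_res_apply S.presheaf (homOfLE hWE) y hy gE
  have hdn : S.presheaf.germ UD.1 (f x') hzUD gD ∈ nonZeroDivisors (S.presheaf.stalk (f x')) :=
    germ_mem_nonZeroDivisors UD.2 gD hgD _ hzUD
  have hen : S.presheaf.germ UE.1 (f x') hzUE gE ∈ nonZeroDivisors (S.presheaf.stalk (f x')) :=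
    germ_mem_nonZeroDivisors UE.2 gE hgE _ hzUE
  have hgen : ∀ (ζ : S) (hζW : ζ ∈ W), ζ ⤳ f x' → ζ ≠ f x' →
      Ideal.span {S.presheaf.germ W ζ hζW b} = Ideal.span {S.presheaf.germ W ζ hζW m} := by
    intro ζ hζW hζ hne
    rw [hb ζ hζW, hm ζ hζW, ← hDy ζ (hWD hζW), ← hEy ζ (hWE hζW)]
    exact hmin ζ hζ hne
  have hdepth : LocCoh.depth (S.presheaf.stalk (f x')) (S.presheaf.stalk (f x')) = 1 := by
    by_cases h1 : S.presheaf.germ W (f x') hzW' m ∈
        Ideal.span ({S.presheaf.germ W (f x') hzW' b} : Set _)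
    · by_cases h2 : S.presheaf.germ W (f x') hzW' b ∈
          Ideal.span ({S.presheaf.germ W (f x') hzW' m} : Set _)
      · exfalso
        apply hzB
        rw [hDy _ hzUD, hEy _ hzUE, ← hb _ hzW', ← hm _ hzW']
        exact le_antisymm
          ((Ideal.span_singleton_le_iff_mem (I := Ideal.span {S.presheaf.germ W (f x') hzW' m})).mpr h2)
          ((Ideal.span_singleton_le_iff_mem (I := Ideal.span {S.presheaf.germ W (f x') hzW' b})).mpr h1)
      · apply DepthOneCore.depth_eq_one_of_primes _ (S.presheaf.germ W (f x') hzW' b)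
          (S.presheaf.germ W (f x') hzW' m) (by rw [hm _ hzW']; exact hen) h2
        intro p hp hpm
        haveI := hp
        obtain ⟨ζ, hζW, hζz, hne, hζ⟩ := DepthOneCore.exists_generization S hW (f x') hzW' p hpm
        apply hζ b m
        have hmem : S.presheaf.germ W ζ hζW b ∈ Ideal.span {S.presheaf.germ W ζ hζW m} := by
          rw [← hgen ζ hζW hζz hne]
          exact Ideal.mem_span_singleton_self _
        obtain ⟨c, hc⟩ := Ideal.mem_span_singleton'.mp hmem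
        exact ⟨c, hc.symm⟩
    · apply DepthOneCore.depth_eq_one_of_primes _ (S.presheaf.germ W (f x') hzW' m)
        (S.presheaf.germ W (f x') hzW' b) (by rw [hb _ hzW']; exact hdn) h1
      intro p hp hpm
      haveI := hp
      obtain ⟨ζ, hζW, hζz, hne, hζ⟩ := DepthOneCore.exists_generization S hW (f x') hzW' p hpm
      apply hζ m b
      have hmem : S.presheaf.germ W ζ hζW m ∈ Ideal.span {S.presheaf.germ W ζ hζW b} := by
        rw [hgen ζ hζW hζz hne]
        exact Ideal.mem_span_singleton_self _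
      obtain ⟨c, hc⟩ := Ideal.mem_span_singleton'.mp hmem
      exact ⟨c, hc.symm⟩
  haveI hdvr : IsDiscreteValuationRing (S.presheaf.stalk (f x')) :=
    NormalDepthOne.isDiscreteValuationRing_of_depth_eq_one _ hdepth
  -- units on `U`
  have hunitD : ∀ (y : S) (hy : y ∈ UD.1), y ∈ U → IsUnit (S.presheaf.germ UD.1 y hy gD) := by
    intro y hy hyU
    have h1 : y ∉ D.support := fun hs => hDU hs hyU
    have h2 := (stalkIdeal_eq_top_iff D y).mpr h1
    rw [hDy y hy] at h2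
    exact Ideal.span_singleton_eq_top.mp h2
  have hunitE : ∀ (y : S) (hy : y ∈ UE.1), y ∈ U → IsUnit (S.presheaf.germ UE.1 y hy gE) := by
    intro y hy hyU
    have h1 : y ∉ E.support := fun hs => hEU hs hyU
    have h2 := (stalkIdeal_eq_top_iff E y).mpr h1
    rw [hEy y hy] at h2
    exact Ideal.span_singleton_eq_top.mp h2
  obtain ⟨d, hddef⟩ : ∃ d : S.presheaf.stalk (f x'), d = S.presheaf.germ UD.1 (f x') hzUD gD :=
    ⟨_, rfl⟩
  obtain ⟨e, hedef⟩ : ∃ e : S.presheaf.stalk (f x'), e = S.presheaf.germ UE.1 (f x') hzUE gE :=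
    ⟨_, rfl⟩
  have hDz : stalkIdeal D (f x') = Ideal.span {d} := by rw [hddef]; exact hDy _ hzUD
  have hEz : stalkIdeal E (f x') = Ideal.span {e} := by rw [hedef]; exact hEy _ hzUE
  have hφd : (f.stalkMap x').hom d ∈ nonZeroDivisors (S'.presheaf.stalk x') := by
    rw [hddef]
    exact stalkMap_germ_mem_nonZeroDivisors f U hU' UD.1 gD hunitD x' hzUD
  have hφe : (f.stalkMap x').hom e ∈ nonZeroDivisors (S'.presheaf.stalk x') := by
    rw [hedef]
    exact stalkMap_germ_mem_nonZeroDivisors f U hU' UE.1 gE hunitE x' hzUE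
  have hpull : Ideal.span {(f.stalkMap x').hom d} = Ideal.span {(f.stalkMap x').hom e} := by
    have h1 : stalkIdeal (D.comap f) x' = stalkIdeal (E.comap f) x' := by rw [h]
    rw [stalkIdeal_comap, stalkIdeal_comap, hDz, hEz, Ideal.map_span, Ideal.map_span,
      Set.image_singleton, Set.image_singleton] at h1
    exact h1
  rcases ValuationRing.dvd_total d e with ⟨c, hc⟩ | ⟨c, hc⟩
  · have hcu : ¬ IsUnit c := by
      intro hu
      apply hzB
      rw [hDz, hEz, hc]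
      exact (Ideal.span_singleton_mul_right_unit hu d).symm
    have h1 : (f.stalkMap x').hom d ∈ Ideal.span {(f.stalkMap x').hom e} :=
      hpull ▸ Ideal.mem_span_singleton_self _
    obtain ⟨w, hw⟩ := Ideal.mem_span_singleton'.mp h1
    rw [hc, map_mul] at hw
    have h2 : (w * (f.stalkMap x').hom c) * (f.stalkMap x').hom d =
        1 * (f.stalkMap x').hom d := by
      rw [one_mul]
      calc (w * (f.stalkMap x').hom c) * (f.stalkMap x').hom d
          = w * ((f.stalkMap x').hom d * (f.stalkMap x').hom c) := by ring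
        _ = (f.stalkMap x').hom d := hw
    have h3 : w * (f.stalkMap x').hom c = 1 := (mul_cancel_right_mem_nonZeroDivisors hφd).mp h2
    have h4 : IsUnit ((f.stalkMap x').hom c) :=
      IsUnit.of_mul_eq_one w (by rw [mul_comm]; exact h3)
    exact hcu (isUnit_of_map_unit (f.stalkMap x').hom c h4)
  · have hcu : ¬ IsUnit c := by
      intro hu
      apply hzB
      rw [hDz, hEz, hc]
      exact Ideal.span_singleton_mul_right_unit hu e
    have h1 : (f.stalkMap x').hom e ∈ Ideal.span {(f.stalkMap x').hom d} :=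
      hpull.symm ▸ Ideal.mem_span_singleton_self _
    obtain ⟨w, hw⟩ := Ideal.mem_span_singleton'.mp h1
    rw [hc, map_mul] at hw
    have h2 : (w * (f.stalkMap x').hom c) * (f.stalkMap x').hom e =
        1 * (f.stalkMap x').hom e := by
      rw [one_mul]
      calc (w * (f.stalkMap x').hom c) * (f.stalkMap x').hom e
          = w * ((f.stalkMap x').hom e * (f.stalkMap x').hom c) := by ring
        _ = (f.stalkMap x').hom e := hw
    have h3 : w * (f.stalkMap x').hom c = 1 := (mul_cancel_right_mem_nonZeroDivisors hφe).mp h2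
    have h4 : IsUnit ((f.stalkMap x').hom c) :=
      IsUnit.of_mul_eq_one w (by rw [mul_comm]; exact h3)
    exact hcu (isUnit_of_map_unit (f.stalkMap x').hom c h4)

end Groth.Agent.Helper4.NormalCartierPull
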