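import Mathlib
import Groth.Prelude.Def_Coh
import Groth.Prelude.Def_ClSub2
import Groth.Prelude.Def_Pi1
import Groth.Agent.S9821

/-!
# Normality descends along fibre spaces (`O_Y ≅ f_* O_X`, `f` surjective)

The affine integrally-closedness lemma and the gluing pattern are adapted from helper9's
`IntSection` / `S17469`.
-/

set_option autoImplicit false
set_option linter.style.haveILetI false

universe u

open CategoryTheory CategoryTheory.Limits AlgebraicGeometry Opposite TopologicalSpace

namespace Groth.Agent.Helper4.NormalFib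

lemma isIntegrallyClosed_of_isAffineOpen {X : Scheme.{u}} [IsIntegral X]
    (hX : ∀ x : X, IsIntegrallyClosed (X.presheaf.stalk x)) (W : X.Opens) (hW : IsAffineOpen W)
    [Nonempty W] : IsIntegrallyClosed Γ(X, W) := by
  refine IsIntegrallyClosed.of_localization_maximal fun p hp0 hpm => ?_
  let y : PrimeSpectrum Γ(X, W) := ⟨p, hpm.isPrime⟩
  have hy : hW.fromSpec y ∈ W := (hW.isoSpec.inv _).2
  letI : Algebra Γ(X, W) (X.presheaf.stalk (hW.fromSpec y)) :=
    TopCat.Presheaf.algebra_section_stalk X.presheaf ⟨hW.fromSpec y, hy⟩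
  haveI : IsLocalization.AtPrime (X.presheaf.stalk (hW.fromSpec y)) p :=
    hW.isLocalization_stalk' y hy
  haveI := hX (hW.fromSpec y)
  exact IsIntegrallyClosed.of_equiv (IsLocalization.algEquiv p.primeCompl
    (X.presheaf.stalk (hW.fromSpec y)) (Localization.AtPrime p)).toRingEquiv

/-- On a normal integral scheme, a rational function integral over `Γ(X, U)` is a section
over `U`. -/
theorem exists_section_of_isIntegral {X : Scheme.{u}} [IsIntegral X]
    (hX : ∀ x : X, IsIntegrallyClosed (X.presheaf.stalk x)) (U : X.Opens)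
    (hξU : genericPoint X ∈ U) (β : X.presheaf.stalk (genericPoint X))
    (P : Polynomial Γ(X, U)) (hPm : P.Monic)
    (hev : Polynomial.eval₂ (X.presheaf.germ U (genericPoint X) hξU).hom β P = 0) :
    ∃ b : Γ(X, U), (X.presheaf.germ U (genericPoint X) hξU).hom b = β := by
  have hξ : ∀ (W : X.Opens), (W : Set X).Nonempty → genericPoint X ∈ W := fun W hW =>
    ((genericPoint_spec X).mem_open_set_iff W.isOpen).mpr (by simpa using hW)
  have hloc : ∀ (W : X.Opens) (hWU : W ≤ U), IsAffineOpen W → ∀ hW : genericPoint X ∈ W,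
      ∃ a : Γ(X, W), (X.presheaf.germ W (genericPoint X) hW).hom a = β := by
    intro W hWU hWaff hW
    haveI : Nonempty W := ⟨⟨genericPoint X, hW⟩⟩
    haveI : IsIntegrallyClosed Γ(X, W) := isIntegrallyClosed_of_isAffineOpen hX W hWaff
    haveI : IsFractionRing Γ(X, W) X.functionField :=
      functionField_isFractionRing_of_isAffineOpen X W hWaff
    have halg : algebraMap Γ(X, W) X.functionField =
        (X.presheaf.germ W (genericPoint X) hW).hom := rfl
    have h1 : IsIntegral Γ(X, W) (β : X.functionField) := by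
      refine ⟨P.map (X.presheaf.map (homOfLE hWU).op).hom, hPm.map _, ?_⟩
      rw [Polynomial.eval₂_map, halg, ← CommRingCat.hom_comp, TopCat.Presheaf.germ_res]
      exact hev
    obtain ⟨a, ha⟩ := IsIntegrallyClosed.isIntegral_iff.mp h1
    exact ⟨a, ha⟩
  have hcov : ∀ x : U, ∃ W : X.Opens, IsAffineOpen W ∧ x.1 ∈ W ∧ W ≤ U := by
    intro x
    obtain ⟨W, hW, hxW, hWU⟩ := exists_isAffineOpen_mem_and_subset (x := x.1) (U := U) x.2
    exact ⟨W, hW, hxW, fun y hy => hWU hy⟩
  choose W hWaff hxW hWU using hcov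
  have hξW : ∀ x, genericPoint X ∈ W x := fun x => hξ (W x) ⟨x.1, hxW x⟩
  choose a ha using fun x => hloc (W x) (hWU x) (hWaff x) (hξW x)
  have hcompat : TopCat.Presheaf.IsCompatible X.presheaf W a := by
    intro x y
    have hξxy : genericPoint X ∈ W x ⊓ W y := ⟨hξW x, hξW y⟩
    apply germ_injective_of_isIntegral X (genericPoint X) hξxy
    have e1 := TopCat.Presheaf.germ_res_apply X.presheaf
      (TopologicalSpace.Opens.infLELeft (W x) (W y)) (genericPoint X) hξxy (a x)
    have e2 := TopCat.Presheaf.germ_res_apply X.presheaf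
      (TopologicalSpace.Opens.infLERight (W x) (W y)) (genericPoint X) hξxy (a y)
    exact e1.trans ((ha x).trans ((ha y).symm.trans e2.symm))
  obtain ⟨s, hs, -⟩ := TopCat.Sheaf.existsUnique_gluing' X.sheaf W U
    (fun x => homOfLE (hWU x))
    (fun x hx => TopologicalSpace.Opens.mem_iSup.mpr ⟨⟨x, hx⟩, hxW ⟨x, hx⟩⟩)
    a hcompat
  refine ⟨s, ?_⟩
  let x0 : U := ⟨genericPoint X, hξU⟩
  have h1 : (X.presheaf.map (homOfLE (hWU x0)).op).hom s = a x0 := hs x0
  have e2 := TopCat.Presheaf.germ_res_apply X.presheaf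
    (homOfLE (hWU x0) : W x0 ⟶ U) (genericPoint X) (hξW x0) s
  have h2 : (X.presheaf.germ (W x0) (genericPoint X) (hξW x0)).hom
      ((X.presheaf.map (homOfLE (hWU x0)).op).hom s) = β := by
    rw [h1]; exact ha x0
  exact e2.symm.trans h2

/-- A surjective morphism of integral schemes sends the generic point to the generic point. -/
theorem map_genericPoint {X Y : Scheme.{u}} [IsIntegral X] [IsIntegral Y] (f : X ⟶ Y)
    [Surjective f] : f.base (genericPoint X) = genericPoint Y := by
  have h1 : IsGenericPoint (f.base (genericPoint X)) (closure (f.base '' (⊤ : Set X))) :=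
    (genericPoint_spec X).image f.continuous
  have h2 : closure (f.base '' (⊤ : Set X)) = (⊤ : Set Y) := by
    rw [Set.top_eq_univ, Set.image_univ, f.surjective.range_eq, closure_univ, Set.top_eq_univ]
  rw [h2] at h1
  exact h1.eq (genericPoint_spec Y)

theorem app_surjective_of_isIso {X Y : Scheme.{u}} (f : X ⟶ Y)
    (hfs : IsIso (ClSub.unitToPush f)) (V : Y.Opens) :
    Function.Surjective (f.app V).hom := by
  intro b
  haveI := hfs
  let ψ := inv (ClSub.unitToPush f)
  have h1 : ψ ≫ ClSub.unitToPush f = 𝟙 _ := IsIso.inv_hom_id _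
  have h2 : (ψ ≫ ClSub.unitToPush f).app V b = b := by
    rw [h1]; rfl
  rw [Scheme.Modules.Hom.comp_app] at h2
  exact ⟨ψ.app V b, h2⟩

/-- Main theorem: if `f : X ⟶ Y` is a surjective morphism of integral schemes with
`O_Y ≅ f_* O_X` and `X` is normal, then `Y` is normal. -/
theorem main {X Y : Scheme.{u}} [IsIntegral X] [IsIntegral Y] (f : X ⟶ Y) [Surjective f]
    (hfs : IsIso (ClSub.unitToPush f)) (hX : Pi1.IsNormalScheme X) : Pi1.IsNormalScheme Y := by
  rw [Groth.Agent.S9821.result Y]
  intro V hVne hV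
  have hXn : ∀ x : X, IsIntegrallyClosed (X.presheaf.stalk x) := fun x => (hX x).2
  have hfξ : f.base (genericPoint X) = genericPoint Y := map_genericPoint f
  have hηV : genericPoint Y ∈ V :=
    ((genericPoint_spec Y).mem_open_set_iff V.isOpen).mpr (by
      obtain ⟨x⟩ := hVne
      exact ⟨x.1, trivial, x.2⟩)
  have hfξV : f.base (genericPoint X) ∈ V := hfξ ▸ hηV
  have hξU : genericPoint X ∈ f ⁻¹ᵁ V := hfξV
  let φ : Y.presheaf.stalk (genericPoint Y) ⟶ X.presheaf.stalk (genericPoint X) :=
    Y.presheaf.stalkSpecializes (specializes_of_eq hfξ) ≫ f.stalkMap (genericPoint X)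
  have hcomp : Y.presheaf.germ V (genericPoint Y) hηV ≫ φ =
      f.app V ≫ X.presheaf.germ (f ⁻¹ᵁ V) (genericPoint X) hξU := by
    change Y.presheaf.germ V (genericPoint Y) hηV ≫
      Y.presheaf.stalkSpecializes (specializes_of_eq hfξ) ≫ f.stalkMap (genericPoint X) = _
    rw [← Category.assoc, TopCat.Presheaf.germ_stalkSpecializes, Scheme.Hom.germ_stalkMap]
  have hcomp' : φ.hom.comp (Y.presheaf.germ V (genericPoint Y) hηV).hom =
      (X.presheaf.germ (f ⁻¹ᵁ V) (genericPoint X) hξU).hom.comp (f.app V).hom := by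
    rw [← CommRingCat.hom_comp, ← CommRingCat.hom_comp, hcomp]
  have hφinj : Function.Injective φ.hom :=
    RingHom.injective (R := Y.functionField) (S := X.functionField) φ.hom
  haveI : IsFractionRing Γ(Y, V) Y.functionField :=
    functionField_isFractionRing_of_isAffineOpen Y V hV
  refine (isIntegrallyClosed_iff (R := Γ(Y, V)) Y.functionField).mpr ?_
  intro α hα
  obtain ⟨P, hPm, hP0⟩ := hα
  have halg : algebraMap Γ(Y, V) Y.functionField =
      (Y.presheaf.germ V (genericPoint Y) hηV).hom := rfl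
  rw [halg] at hP0
  have hev : Polynomial.eval₂ (X.presheaf.germ (f ⁻¹ᵁ V) (genericPoint X) hξU).hom (φ.hom α)
      (P.map (f.app V).hom) = 0 := by
    rw [Polynomial.eval₂_map, ← hcomp', ← Polynomial.hom_eval₂, hP0, map_zero]
  obtain ⟨b, hb⟩ := exists_section_of_isIntegral hXn (f ⁻¹ᵁ V) hξU (φ.hom α)
    (P.map (f.app V).hom) (hPm.map _) hev
  obtain ⟨a, ha⟩ := app_surjective_of_isIso f hfs V b
  refine ⟨a, ?_⟩
  rw [halg]
  apply hφinj
  have h3 := congrArg (fun g => g a) hcomp'
  simp only [RingHom.comp_apply] at h3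
  rw [h3, ha, hb]

end Groth.Agent.Helper4.NormalFib
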