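import Mathlib
import Groth.Agent.Lib.Helper4.FlatInter
import Groth.Agent.Lib.Helper4.ProjNilp

/-!
Projectivity modulo two ideals with zero intersection.
-/

set_option autoImplicit false

namespace Groth.Agent.Helper4

open scoped TensorProduct
open Function TensorProduct

universe u

/-- If `I ⊓ J = ⊥`, `M/IM` is flat over `R/I` and `M/JM` is flat over `R/J`, then `M` is flat. -/
theorem flat_of_inf_eq_bot {R : Type u} [CommRing R] (I J : Ideal R) (hIJ : I ⊓ J = ⊥)
    (M : Type u) [AddCommGroup M] [Module R M]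
    [Module.Flat (R ⧸ I) ((R ⧸ I) ⊗[R] M)] [Module.Flat (R ⧸ J) ((R ⧸ J) ⊗[R] M)] :
    Module.Flat R M := by
  rw [Module.Flat.iff_rTensor_injective']
  intro 𝔞
  let q₁ : R →ₗ[R] (R ⧸ I) := (Ideal.Quotient.mkₐ R I).toLinearMap
  let q₂ : R →ₗ[R] (R ⧸ J) := (Ideal.Quotient.mkₐ R J).toLinearMap
  have hq₁ : ∀ r : R, q₁ r = Ideal.Quotient.mk _ r := fun r => rfl
  have hq₂ : ∀ r : R, q₂ r = Ideal.Quotient.mk _ r := fun r => rfl
  refine rTensor_injective_of_two_quotients I J 𝔞.subtype q₁ q₂ ?_ ?_ ?_ ?_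
  · intro a ha y
    obtain ⟨r, rfl⟩ := Ideal.Quotient.mk_surjective y
    rw [Algebra.smul_def, Ideal.Quotient.algebraMap_eq, ← map_mul,
      Ideal.Quotient.eq_zero_iff_mem]
    exact Ideal.mul_mem_right _ _ ha
  · intro a ha y
    obtain ⟨r, rfl⟩ := Ideal.Quotient.mk_surjective y
    rw [Algebra.smul_def, Ideal.Quotient.algebraMap_eq, ← map_mul,
      Ideal.Quotient.eq_zero_iff_mem]
    exact Ideal.mul_mem_right _ _ ha
  · intro x h1 h2
    apply Subtype.ext
    have h1' : q₁ x.1 = 0 := h1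
    have h2' : q₂ x.1 = 0 := h2
    rw [hq₁, Ideal.Quotient.eq_zero_iff_mem] at h1'
    rw [hq₂, Ideal.Quotient.eq_zero_iff_mem] at h2'
    have : x.1 ∈ I ⊓ J := ⟨h1', h2'⟩
    rw [hIJ] at this
    exact this
  · intro a ha x h1
    apply Subtype.ext
    have h1' : q₁ x.1 = 0 := h1
    rw [hq₁, Ideal.Quotient.eq_zero_iff_mem] at h1'
    have : a * x.1 ∈ I ⊓ J := ⟨Ideal.mul_mem_left _ _ h1', Ideal.mul_mem_right _ _ ha⟩
    rw [hIJ] at this
    exact this

/-- Two-step section: kernel killed by `J * I`. -/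
theorem exists_section_of_mul_torsion_ker {R : Type u} [CommRing R] (I J : Ideal R) {M : Type u}
    [AddCommGroup M] [Module R M]
    [Module.Flat R M] [Module.Projective (R ⧸ I) ((R ⧸ I) ⊗[R] M)]
    [Module.Projective (R ⧸ J) ((R ⧸ J) ⊗[R] M)]
    (E : Type u) [AddCommGroup E] [Module R E] (p : E →ₗ[R] M) (hp : Surjective p)
    (hK : ∀ a ∈ J, ∀ b ∈ I, ∀ x ∈ LinearMap.ker p, a • b • x = 0) :
    ∃ s : M →ₗ[R] E, p ∘ₗ s = LinearMap.id := by
  set K := LinearMap.ker p with hKdef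
  set L : Submodule R E := I • K with hL
  have hLK : L ≤ K := Submodule.smul_le.mpr (fun a _ x hx => K.smul_mem a hx)
  let p' : (E ⧸ L) →ₗ[R] M := L.liftQ p hLK
  have hp' : Surjective p' := by
    intro m
    obtain ⟨e, rfl⟩ := hp m
    exact ⟨L.mkQ e, rfl⟩
  have hK' : ∀ a ∈ I, ∀ x ∈ LinearMap.ker p', a • x = 0 := by
    intro a ha x hx
    obtain ⟨e, rfl⟩ := L.mkQ_surjective x
    have he : e ∈ K := by
      rw [LinearMap.mem_ker] at hx
      exact hx
    rw [← map_smul, Submodule.mkQ_apply, Submodule.Quotient.mk_eq_zero]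
    exact Submodule.smul_mem_smul ha he
  obtain ⟨s', hs'⟩ := exists_section_of_torsion_ker I p' hp' hK'
  have hs'a : ∀ m, p' (s' m) = m := fun m => LinearMap.congr_fun hs' m
  let E₂ : Submodule R E := Submodule.comap L.mkQ (LinearMap.range s')
  let p₂ : E₂ →ₗ[R] M := p ∘ₗ E₂.subtype
  have hp₂ : Surjective p₂ := by
    intro m
    obtain ⟨e, he⟩ := L.mkQ_surjective (s' m)
    refine ⟨⟨e, ⟨m, he.symm⟩⟩, ?_⟩
    show p e = m
    have : p' (L.mkQ e) = p e := rfl
    rw [← this, he, hs'a]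
  have hK₂ : ∀ a ∈ J, ∀ x ∈ LinearMap.ker p₂, a • x = 0 := by
    intro a ha x hx
    have hx0 : p x.1 = 0 := hx
    obtain ⟨m, hm⟩ := x.2
    have hm0 : m = 0 := by
      have : p' (L.mkQ x.1) = p x.1 := rfl
      rw [← hs'a m, hm, this, hx0]
    have hxL : x.1 ∈ L := by
      rw [← Submodule.Quotient.mk_eq_zero, ← Submodule.mkQ_apply, ← hm, hm0, map_zero]
    apply Subtype.ext
    show a • x.1 = 0
    refine Submodule.smul_induction_on hxL ?_ ?_
    · intro b hb y hy
      exact hK a ha b hb y hy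
    · intro y z hy hz
      rw [smul_add, hy, hz, add_zero]
  obtain ⟨s₂, hs₂⟩ := exists_section_of_torsion_ker J p₂ hp₂ hK₂
  refine ⟨E₂.subtype ∘ₗ s₂, ?_⟩
  rw [← LinearMap.comp_assoc]
  exact hs₂

/-- If `I ⊓ J = ⊥`, `P/IP` is projective over `R/I` and `P/JP` is projective over `R/J`, then
`P` is projective. -/
theorem projective_of_inf_eq_bot {R : Type u} [CommRing R] (I J : Ideal R) (hIJ : I ⊓ J = ⊥)
    (P : Type u) [AddCommGroup P] [Module R P]
    (hI : Module.Projective (R ⧸ I) ((R ⧸ I) ⊗[R] P))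
    (hJ : Module.Projective (R ⧸ J) ((R ⧸ J) ⊗[R] P)) : Module.Projective R P := by
  haveI : Module.Flat R P := flat_of_inf_eq_bot I J hIJ P
  apply Module.Projective.of_lifting_property''
  intro f hf
  refine exists_section_of_mul_torsion_ker I J (P →₀ R) f hf ?_
  intro a ha b hb x _
  have : a * b ∈ I ⊓ J := ⟨Ideal.mul_mem_left _ _ hb, Ideal.mul_mem_right _ _ ha⟩
  rw [hIJ] at this
  have h0 : a * b = 0 := this
  rw [smul_smul, h0, zero_smul]

end Groth.Agent.Helper4
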