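import Mathlib
import Groth.Prelude.Def_Coh
import Groth.Prelude.Def_CohB1
import Groth.Prelude.Def_Pic
import Groth.Agent.Lib.Helper4.GenLocus
import Groth.Agent.Lib.Helper4.SemiLocalFree

/-!
# Sections of invertible modules on quasi-affine schemes with prescribed affine non-vanishing locus
-/

set_option autoImplicit false
set_option linter.style.haveILetI false

universe u

open CategoryTheory CategoryTheory.Limits AlgebraicGeometry Opposite TopologicalSpace
open Groth.Agent.Lead.QCoh Groth.Agent.Lead.FinType Groth.Agent.Lead.EpiStalk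
open Groth.Agent.Lead.StalkLoc

namespace Groth.Agent.Helper4.QAffSection

set_option backward.isDefEq.respectTransparency.types false in
/-- In a quasi-affine scheme, a finite subset of an open `W` is contained in an affine basic open
of a global function contained in `W`. -/
theorem exists_basicOpen_finite (X : Scheme.{u}) [X.IsQuasiAffine] (W : X.Opens) (E : Set X)
    (hE : E.Finite) (hEW : E ⊆ W) :
    ∃ h : Γ(X, ⊤), IsAffineOpen (X.basicOpen h) ∧ E ⊆ X.basicOpen h ∧ X.basicOpen h ≤ W := by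
  classical
  let Q : X → PrimeSpectrum Γ(X, ⊤) := fun e => X.toSpecΓ e
  have hQopen : IsOpenMap Q := X.toSpecΓ.isOpenEmbedding.isOpenMap
  have hQinj : Function.Injective Q := X.toSpecΓ.isOpenEmbedding.injective
  let C : Set (PrimeSpectrum Γ(X, ⊤)) := (Q '' (W : Set X))ᶜ
  have hCcl : IsClosed C := by
    rw [isClosed_compl_iff]
    exact hQopen _ W.isOpen
  let I : Ideal Γ(X, ⊤) := PrimeSpectrum.vanishingIdeal C
  let P : X → Ideal Γ(X, ⊤) := fun e => (Q e).asIdeal
  have hP : ∀ e, (P e).IsPrime := fun e => (Q e).isPrime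
  have hnot : ∀ e ∈ hE.toFinset, ¬ (I ≤ P e) := by
    intro e he hle
    have heW : e ∈ W := hEW (hE.mem_toFinset.mp he)
    have h1 : Q e ∈ PrimeSpectrum.zeroLocus (I : Set Γ(X, ⊤)) :=
      (PrimeSpectrum.mem_zeroLocus _ _).mpr hle
    rw [PrimeSpectrum.zeroLocus_vanishingIdeal_eq_closure, hCcl.closure_eq] at h1
    exact h1 ⟨e, heW, rfl⟩
  have hex : ∃ h ∈ I, ∀ e ∈ hE.toFinset, h ∉ P e := by
    by_contra hcon
    push Not at hcon
    by_cases hne : hE.toFinset.Nonempty
    · obtain ⟨e₀, he₀⟩ := hne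
      have hsub : ((I : Ideal Γ(X, ⊤)) : Set Γ(X, ⊤)) ⊆
          ⋃ e ∈ (↑hE.toFinset : Set X), ((P e : Ideal Γ(X, ⊤)) : Set Γ(X, ⊤)) := by
        intro h hh
        obtain ⟨e, he, hmem⟩ := hcon h hh
        simp only [Set.mem_iUnion]
        exact ⟨e, he, hmem⟩
      obtain ⟨e, he, hle⟩ := (Ideal.subset_union_prime (s := hE.toFinset) (f := P) e₀ e₀
        (fun i _ _ _ => hP i)).mp hsub
      exact hnot e he hle
    · obtain ⟨e, he, -⟩ := hcon 0 (zero_mem _)
      exact hne ⟨e, he⟩
  obtain ⟨h, hhI, hh⟩ := hex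
  have hD : (PrimeSpectrum.basicOpen h : Set (PrimeSpectrum Γ(X, ⊤))) ⊆
      Q '' (W : Set X) := by
    intro p hp
    by_contra hpC
    have hmem : h ∈ p.asIdeal := (PrimeSpectrum.mem_vanishingIdeal _ _).mp hhI p hpC
    exact hp hmem
  have hpre : X.basicOpen h = X.toSpecΓ ⁻¹ᵁ (PrimeSpectrum.basicOpen h) :=
    (X.toSpecΓ_preimage_basicOpen h).symm
  refine ⟨h, ?_, ?_, ?_⟩
  · rw [← Scheme.Hom.isAffineOpen_iff_of_isOpenImmersion X.toSpecΓ, hpre]
    convert! IsAffineOpen.Spec_basicOpen h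
    exact SetLike.coe_injective (Set.image_preimage_eq_of_subset
      (hD.trans (Set.image_subset_range _ _)))
  · intro e he
    rw [hpre]
    exact hh e (hE.mem_toFinset.mpr he)
  · intro x hx
    rw [hpre] at hx
    obtain ⟨w, hw, hwx⟩ := hD hx
    have hwx' : w = x := hQinj hwx
    exact hwx' ▸ hw

variable {X : Scheme.{u}}

noncomputable def freeOneIso (Z : Scheme.{u}) : FlatMod.freeMod Z 1 ≅ Coh.structureModule Z :=
  coproductUniqueIso (fun _ : Fin 1 => Coh.structureModule Z)

theorem isFinLocFreeOfRank_one (L : X.Modules) (hL : PicF.IsInvertible L) :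
    FlatMod.IsFinLocFreeOfRank 1 L := by
  intro x
  obtain ⟨U, hxU, ⟨e⟩⟩ := hL x
  exact ⟨U, hxU, ⟨e ≪≫ (freeOneIso _).symm⟩⟩

theorem tsec_ofTop (L : X.Modules) (s₀ : Γ(L, ⊤)) :
    GenLocus.tsec L ((L.unitHomEquiv).symm (ofTop L s₀)) = s₀ := by
  unfold GenLocus.tsec
  rw [Equiv.apply_symm_apply, secVal_ofTop]
  have h1 : (homOfLE (le_top : (⊤ : X.Opens) ≤ ⊤)) = 𝟙 _ := rfl
  rw [h1, op_id, L.presheaf.map_id]
  rfl

theorem main (X : Scheme.{u}) [X.IsQuasiAffine] (L : X.Modules) (hL : PicF.IsInvertible L)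
    (W : X.Opens) (E : Set X) (hE : E.Finite) (hEW : E ⊆ W) :
    ∃ s : Coh.structureModule X ⟶ L, IsAffineOpen (CohB1.genLocus L s) ∧
      E ⊆ CohB1.genLocus L s ∧ CohB1.genLocus L s ≤ W := by
  classical
  obtain ⟨h, hhaff, hEh, hhW⟩ := exists_basicOpen_finite X W E hE hEW
  obtain ⟨U₁, hEU₁, hU₁h, ⟨e₁⟩⟩ := SemiLocalFree.main X 1 L (isFinLocFreeOfRank_one L hL) E hE
    (X.basicOpen h) hhaff hEh
  obtain ⟨h', hh'aff, hEh', hh'U₁⟩ := exists_basicOpen_finite X U₁ E hE hEU₁
  obtain ⟨e₂'⟩ := SemiLocalFree.restrict_free_of_le L hh'U₁ 1 e₁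
  let e₂ : L.restrict (X.basicOpen h').ι ≅ unitM ((X.basicOpen h' : X.Opens) : Scheme.{u}) :=
    e₂' ≪≫ freeOneIso _
  have hE' : FlatMod.IsFinLocFree L := fun x => by
    obtain ⟨U, hx, hh⟩ := isFinLocFreeOfRank_one L hL x
    exact ⟨U, 1, hx, hh⟩
  haveI : SheafOfModules.IsFinitePresentation.{u, u, u} (R := X.ringCatSheaf) L :=
    isFP_of_isFinLocFree L hE'
  haveI : L.IsQuasicoherent := inferInstance
  haveI : QuasiSeparatedSpace X := inferInstance
  have hU₂T : X.basicOpen h' ≤ (X.basicOpen h').ι ''ᵁ (⊤ : ((X.basicOpen h' : X.Opens) :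
      Scheme.{u}).Opens) := (X.basicOpen h').ι_image_top.ge
  let t : Γ(L, X.basicOpen h') :=
    L.presheaf.map (homOfLE hU₂T).op (GenLocus.gen L (X.basicOpen h') e₂)
  obtain ⟨k, σ, hσ⟩ := exists_section_of_basicOpen_of_qcqs L ⊤
    (by simpa using isCompact_univ) h' t
  let s₀ : Γ(L, ⊤) := h' • σ
  let s : unitM X ⟶ L := (L.unitHomEquiv).symm (ofTop L s₀)
  have hts : GenLocus.tsec L s = s₀ := tsec_ofTop L s₀
  have key : CohB1.genLocus L s = X.basicOpen h' := by
    apply le_antisymm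
    · intro y hy
      have hbij := GenLocus.bijective_of_mem_genLocus L s y hy
      obtain ⟨Uy, hyU, ⟨ey⟩⟩ := hL y
      have hu := (GenLocus.bijective_iff_isUnit L s Uy ey y hyU).mp hbij
      have h1 := GenLocus.germ_tsec L s Uy ey y hyU
      rw [hts] at h1
      obtain ⟨c, hc⟩ := GenLocus.germ_gen_surjective L Uy ey y hyU
        (L.presheaf.germ ⊤ y trivial σ)
      have h2 : L.presheaf.germ ⊤ y trivial s₀ = (X.presheaf.germ ⊤ y trivial h' * c) •
          L.presheaf.germ _ y (GenLocus.mem_T Uy hyU) (GenLocus.gen L Uy ey) := by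
        show L.presheaf.germ ⊤ y trivial (h' • σ) = _
        rw [germ_smul, ← hc, mul_smul]
      have h3 : (X.presheaf.germ _ y (GenLocus.mem_T Uy hyU) (GenLocus.fsec L s Uy ey) -
          X.presheaf.germ ⊤ y trivial h' * c) •
          L.presheaf.germ _ y (GenLocus.mem_T Uy hyU) (GenLocus.gen L Uy ey) = 0 := by
        rw [sub_smul, ← h1, ← h2, sub_self]
      have h4 := GenLocus.germ_gen_injective L Uy ey y hyU _ h3
      rw [sub_eq_zero] at h4
      rw [h4] at hu
      have h5 : IsUnit (X.presheaf.germ ⊤ y trivial h') := isUnit_of_mul_isUnit_left hu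
      exact (X.mem_basicOpen h' y trivial).mpr h5
    · apply GenLocus.le_genLocus L s (X.basicOpen h')
      intro y hy
      apply (GenLocus.bijective_iff_isUnit L s (X.basicOpen h') e₂ y hy).mpr
      have h1 := GenLocus.germ_tsec L s (X.basicOpen h') e₂ y hy
      rw [hts] at h1
      have hunit : IsUnit (X.presheaf.germ ⊤ y trivial h') :=
        (X.mem_basicOpen h' y trivial).mp hy
      have h2 : L.presheaf.germ ⊤ y trivial s₀ = (X.presheaf.germ ⊤ y trivial h') ^ (k + 1) •
          L.presheaf.germ _ y (GenLocus.mem_T (X.basicOpen h') hy)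
            (GenLocus.gen L (X.basicOpen h') e₂) := by
        show L.presheaf.germ ⊤ y trivial (h' • σ) = _
        rw [germ_smul]
        have h3 : L.presheaf.germ ⊤ y trivial σ = L.presheaf.germ (X.basicOpen h') y hy
            (L.presheaf.map (homOfLE (X.basicOpen_le h')).op σ) :=
          (TopCat.Presheaf.germ_res_apply L.presheaf (homOfLE (X.basicOpen_le h')) y hy σ).symm
        rw [h3, hσ, germ_smul, map_pow]
        have h4 : X.presheaf.germ (X.basicOpen h') y hy
            (X.presheaf.map (homOfLE (X.basicOpen_le h')).op h') =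
            X.presheaf.germ ⊤ y trivial h' :=
          TopCat.Presheaf.germ_res_apply X.presheaf (homOfLE (X.basicOpen_le h')) y hy h'
        have h5 : L.presheaf.germ (X.basicOpen h') y hy t =
            L.presheaf.germ _ y (GenLocus.mem_T (X.basicOpen h') hy)
              (GenLocus.gen L (X.basicOpen h') e₂) :=
          TopCat.Presheaf.germ_res_apply L.presheaf (homOfLE hU₂T) y hy _
        rw [h4, h5, ← mul_smul, pow_succ']
      have h6 : (X.presheaf.germ _ y (GenLocus.mem_T (X.basicOpen h') hy)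
          (GenLocus.fsec L s (X.basicOpen h') e₂) - (X.presheaf.germ ⊤ y trivial h') ^ (k + 1)) •
          L.presheaf.germ _ y (GenLocus.mem_T (X.basicOpen h') hy)
            (GenLocus.gen L (X.basicOpen h') e₂) = 0 := by
        rw [sub_smul, ← h1, ← h2, sub_self]
      have h7 := GenLocus.germ_gen_injective L (X.basicOpen h') e₂ y hy _ h6
      rw [sub_eq_zero] at h7
      rw [h7]
      exact hunit.pow _
  refine ⟨s, ?_, ?_, ?_⟩
  · rw [key]; exact hh'aff
  · rw [key]; exact hEh'
  · rw [key]; exact hh'U₁.trans (hU₁h.trans hhW)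

end Groth.Agent.Helper4.QAffSection
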