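import Mathlib
import Groth.Prelude.Def_TorSh
import Groth.Prelude.Def_Coh
import Groth.Agent.Lead.QCoh
import Groth.Agent.Lead.QCoh4
import Groth.Agent.Lead.FinType
import Groth.Agent.Lib.Helper4.HartogsMod

/-!
# Torsion-free quasi-coherent modules of generic rank one embed in the sheaf of rational functions
-/

set_option autoImplicit false
set_option linter.style.haveILetI false

universe u

open CategoryTheory CategoryTheory.Limits AlgebraicGeometry Opposite TopologicalSpace
open Groth.Agent.Lead.QCoh Groth.Agent.Lead.FinType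

namespace Groth.Agent.Helper4.RatEmbed

variable (X : Scheme.{u}) [IsIntegral X]

/-- The spectrum of the function field. -/
noncomputable abbrev T : Scheme.{u} := Spec (X.presheaf.stalk (genericPoint X))

/-- The canonical morphism from the spectrum of the function field. -/
noncomputable abbrev fη : T X ⟶ X := X.fromSpecStalk (genericPoint X)

/-- The sheaf of rational functions. -/
noncomputable abbrev KX : X.Modules :=
  (Scheme.Modules.pushforward (X.fromSpecStalk (genericPoint X))).obj
    (Coh.structureModule (Spec (X.presheaf.stalk (genericPoint X))))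

variable {X}

theorem fη_apply (t : T X) : (fη X) t = genericPoint X := by
  letI : Field (X.presheaf.stalk (genericPoint X)) := inferInstanceAs (Field X.functionField)
  have hsub : Subsingleton (PrimeSpectrum (X.presheaf.stalk (genericPoint X))) := inferInstance
  have ht : t = IsLocalRing.closedPoint (X.presheaf.stalk (genericPoint X)) :=
    @Subsingleton.elim (PrimeSpectrum (X.presheaf.stalk (genericPoint X))) hsub t _
  rw [ht]
  exact Scheme.fromSpecStalk_closedPoint

theorem preimage_eq_top {U : X.Opens} (h : genericPoint X ∈ U) : (fη X) ⁻¹ᵁ U = ⊤ := by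
  apply le_antisymm le_top
  intro t _
  show (fη X) t ∈ U
  rw [fη_apply t]; exact h

theorem generic_mem {U : X.Opens} {y : X} (hy : y ∈ U) : genericPoint X ∈ U :=
  ((genericPoint_spec X).mem_open_set_iff U.isOpen).mpr ⟨y, trivial, hy⟩

/-- The rational function `c` as a section of the sheaf of rational functions over `U`. -/
noncomputable def ratSec (U : X.Opens) (c : X.presheaf.stalk (genericPoint X)) : Γ(KX X, U) :=
  toUnit ((fη X) ⁻¹ᵁ U) ((T X).presheaf.map (homOfLE (le_top : (fη X) ⁻¹ᵁ U ≤ ⊤)).op
    ((Scheme.ΓSpecIso (X.presheaf.stalk (genericPoint X))).inv c))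

theorem ratSec_add (U : X.Opens) (c d : X.presheaf.stalk (genericPoint X)) :
    ratSec U (c + d) = ratSec U c + ratSec U d := by
  unfold ratSec
  rw [map_add, map_add]
  rfl

theorem ratSec_res {U V : X.Opens} (i : V ⟶ U) (c : X.presheaf.stalk (genericPoint X)) :
    (KX X).presheaf.map i.op (ratSec U c) = ratSec V c := by
  unfold ratSec
  change toUnit ((fη X) ⁻¹ᵁ V) ((T X).presheaf.map ((Opens.map (fη X).base).map i).op
    ((T X).presheaf.map (homOfLE (le_top : (fη X) ⁻¹ᵁ U ≤ ⊤)).op
      ((Scheme.ΓSpecIso (X.presheaf.stalk (genericPoint X))).inv c))) = _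
  rw [map_map_apply' ((Opens.map (fη X).base).map i) (homOfLE (le_top : (fη X) ⁻¹ᵁ U ≤ ⊤))
    (homOfLE (le_top : (fη X) ⁻¹ᵁ V ≤ ⊤))]

theorem ratSec_smul {U : X.Opens} (h : genericPoint X ∈ U) (a : Γ(X, U))
    (c : X.presheaf.stalk (genericPoint X)) :
    a • ratSec U c = ratSec U (X.presheaf.germ U _ h a * c) := by
  unfold ratSec
  change toUnit ((fη X) ⁻¹ᵁ U) (((fη X).app U a) * ((T X).presheaf.map
    (homOfLE (le_top : (fη X) ⁻¹ᵁ U ≤ ⊤)).op
      ((Scheme.ΓSpecIso (X.presheaf.stalk (genericPoint X))).inv c))) = _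
  rw [Scheme.fromSpecStalk_app h, map_mul, map_mul]
  rfl

theorem ratSec_injective {U : X.Opens} (h : genericPoint X ∈ U)
    (c : X.presheaf.stalk (genericPoint X)) (hc : ratSec U c = 0) : c = 0 := by
  have h1 : (T X).presheaf.map (homOfLE (le_top : (fη X) ⁻¹ᵁ U ≤ ⊤)).op
      ((Scheme.ΓSpecIso (X.presheaf.stalk (genericPoint X))).inv c) = 0 := hc
  have h2 := congrArg ((T X).presheaf.map (homOfLE (preimage_eq_top h).ge).op) h1
  rw [map_zero, map_map_apply' (homOfLE (preimage_eq_top h).ge)
    (homOfLE (le_top : (fη X) ⁻¹ᵁ U ≤ ⊤)) (𝟙 (⊤ : (T X).Opens))] at h2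
  have h3 : (T X).presheaf.map (𝟙 (⊤ : (T X).Opens)).op
      ((Scheme.ΓSpecIso (X.presheaf.stalk (genericPoint X))).inv c) =
      (Scheme.ΓSpecIso (X.presheaf.stalk (genericPoint X))).inv c := by
    rw [op_id, CategoryTheory.Functor.map_id]; rfl
  rw [h3] at h2
  have h4 := congrArg (Scheme.ΓSpecIso (X.presheaf.stalk (genericPoint X))).hom h2
  rw [map_zero, Iso.inv_hom_id_apply] at h4
  exact h4

variable (F : X.Modules)

/-- The map on sections. -/
noncomputable def toRat
    (lam : F.presheaf.stalk (genericPoint X) →ₗ[X.presheaf.stalk (genericPoint X)]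
      X.presheaf.stalk (genericPoint X)) (U : X.Opens) (s : Γ(F, U)) : Γ(KX X, U) := by
  classical
  exact if h : genericPoint X ∈ U then ratSec U (lam (F.presheaf.germ U _ h s)) else 0

variable (lam : F.presheaf.stalk (genericPoint X) →ₗ[X.presheaf.stalk (genericPoint X)]
      X.presheaf.stalk (genericPoint X))

theorem toRat_pos {U : X.Opens} (h : genericPoint X ∈ U) (s : Γ(F, U)) :
    toRat F lam U s = ratSec U (lam (F.presheaf.germ U _ h s)) := by
  unfold toRat
  rw [dif_pos h]

theorem toRat_neg {U : X.Opens} (h : genericPoint X ∉ U) (s : Γ(F, U)) :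
    toRat F lam U s = 0 := by
  unfold toRat
  rw [dif_neg h]

theorem toRat_add (U : X.Opens) (s t : Γ(F, U)) :
    toRat F lam U (s + t) = toRat F lam U s + toRat F lam U t := by
  by_cases h : genericPoint X ∈ U
  · rw [toRat_pos F lam h, toRat_pos F lam h, toRat_pos F lam h, map_add, map_add, ratSec_add]
  · rw [toRat_neg F lam h, toRat_neg F lam h, toRat_neg F lam h, add_zero]

theorem toRat_res {U V : X.Opens} (i : V ⟶ U) (s : Γ(F, U)) :
    toRat F lam V (F.presheaf.map i.op s) = (KX X).presheaf.map i.op (toRat F lam U s) := by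
  by_cases hV : genericPoint X ∈ V
  · have hU : genericPoint X ∈ U := i.le hV
    rw [toRat_pos F lam hV, toRat_pos F lam hU, ratSec_res, TopCat.Presheaf.germ_res_apply]
  · rw [toRat_neg F lam hV]
    by_cases hU : genericPoint X ∈ U
    · symm
      apply HartogsMod.sec_ext
      intro y hy
      exact absurd (generic_mem hy) hV
    · rw [toRat_neg F lam hU, map_zero]

theorem toRat_smul (U : X.Opens) (a : Γ(X, U)) (s : Γ(F, U)) :
    toRat F lam U (a • s) = a • toRat F lam U s := by
  by_cases h : genericPoint X ∈ U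
  · rw [toRat_pos F lam h, toRat_pos F lam h, ratSec_smul h, germ_smul, map_smul, smul_eq_mul]
  · rw [toRat_neg F lam h, toRat_neg F lam h, smul_zero]

/-- The map of abelian presheaves. -/
noncomputable def toRatPresheaf : F.presheaf ⟶ (KX X).presheaf where
  app U := AddCommGrpCat.ofHom (AddMonoidHom.mk' (toRat F lam U.unop) (toRat_add F lam U.unop))
  naturality U V i := by
    ext s
    exact toRat_res F lam i.unop s

/-- The morphism of modules. -/
noncomputable def toRatHom : F ⟶ KX X :=
  SheafOfModules.Hom.mk (PresheafOfModules.homMk (M₁ := F.val) (M₂ := (KX X).val)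
    (toRatPresheaf F lam) (fun U r m => toRat_smul F lam U.unop r m))

theorem toRatHom_app (U : X.Opens) (s : Γ(F, U)) :
    (toRatHom F lam).app U s = toRat F lam U s := rfl

section Mono

variable [F.IsQuasicoherent]

theorem germ_eq_zero_of_generic (hF : TorSh.IsTorsionFree F) {U : X.Opens} (s : Γ(F, U))
    (hη : genericPoint X ∈ U) (hs : F.presheaf.germ U _ hη s = 0) (y : X) (hy : y ∈ U) :
    F.presheaf.germ U y hy s = 0 := by
  obtain ⟨_, ⟨W, hW, rfl⟩, hyW, hWU⟩ :=
    X.isBasis_affineOpens.exists_subset_of_mem_open hy U.isOpen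
  have hW' : IsAffineOpen W := hW
  have hWU' : W ≤ U := hWU
  have hηW : genericPoint X ∈ W := generic_mem hyW
  have h1 : F.presheaf.germ W _ hηW (F.presheaf.map (homOfLE hWU').op s) = 0 := by
    rw [TopCat.Presheaf.germ_res_apply]; exact hs
  obtain ⟨a, hηa, ha⟩ := (germ_eq_zero_iff F hW' _ hηW _).mp h1
  have ha0 : a ≠ 0 := by
    rintro rfl
    have hu : IsUnit (X.presheaf.germ W _ hηW (0 : Γ(X, W))) :=
      (X.mem_basicOpen 0 _ hηW).mp hηa
    rw [map_zero] at hu
    exact not_isUnit_zero hu
  have hne : X.presheaf.germ W y hyW a ≠ 0 := fun h0 =>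
    ha0 (germ_injective_of_isIntegral X y hyW (h0.trans (map_zero _).symm))
  have hreg : IsRegular (X.presheaf.germ W y hyW a) := isRegular_of_ne_zero hne
  have hsr := (hF y).isSMulRegular hreg
  have h2 := congrArg (F.presheaf.germ W y hyW) ha
  rw [germ_smul, map_zero, TopCat.Presheaf.germ_res_apply] at h2
  exact hsr (h2.trans (smul_zero _).symm)

theorem toRat_eq_zero (hF : TorSh.IsTorsionFree F) (hlam : Function.Injective lam)
    (U : X.Opens) (s : Γ(F, U)) (hs : toRat F lam U s = 0) : s = 0 := by
  apply HartogsMod.sec_ext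
  intro y hy
  have hη : genericPoint X ∈ U := generic_mem hy
  rw [toRat_pos F lam hη] at hs
  have h1 := ratSec_injective hη _ hs
  have h2 : F.presheaf.germ U _ hη s = 0 := hlam (h1.trans (map_zero lam).symm)
  rw [map_zero]
  exact germ_eq_zero_of_generic F hF s hη h2 y hy

theorem mono_toRatHom (hF : TorSh.IsTorsionFree F) (hlam : Function.Injective lam) :
    Mono (toRatHom F lam) := by
  apply (Scheme.Modules.toPresheaf X).mono_of_mono_map
  change Mono (Scheme.Modules.Hom.mapPresheaf (toRatHom F lam))
  haveI : ∀ U, Mono ((Scheme.Modules.Hom.mapPresheaf (toRatHom F lam)).app U) := by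
    intro U
    rw [AddCommGrpCat.mono_iff_injective]
    intro s t hst
    have h1 : toRat F lam U.unop s = toRat F lam U.unop t := hst
    have hsub : toRat F lam U.unop (s - t) = toRat F lam U.unop s - toRat F lam U.unop t :=
      map_sub (AddMonoidHom.mk' (toRat F lam U.unop) (toRat_add F lam U.unop)) s t
    rw [← sub_eq_zero]
    apply toRat_eq_zero F lam hF hlam U.unop
    rw [hsub, h1, sub_self]
  exact NatTrans.mono_of_mono_app _

end Mono

theorem exists_injective_linearMap
    (h1 : Module.finrank (X.presheaf.stalk (genericPoint X))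
      (F.presheaf.stalk (genericPoint X)) = 1) :
    ∃ lam : F.presheaf.stalk (genericPoint X) →ₗ[X.presheaf.stalk (genericPoint X)]
      X.presheaf.stalk (genericPoint X), Function.Injective lam := by
  letI : Field (X.presheaf.stalk (genericPoint X)) := inferInstanceAs (Field X.functionField)
  haveI : Module.Finite (X.presheaf.stalk (genericPoint X))
      (F.presheaf.stalk (genericPoint X)) :=
    Module.finite_of_finrank_pos (by rw [h1]; exact one_pos)
  have e : F.presheaf.stalk (genericPoint X) ≃ₗ[X.presheaf.stalk (genericPoint X)]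
      X.presheaf.stalk (genericPoint X) :=
    LinearEquiv.ofFinrankEq _ _ (by rw [h1, Module.finrank_self])
  exact ⟨e.toLinearMap, e.injective⟩

theorem main (X : Scheme.{u}) [IsIntegral X] (F : X.Modules) [F.IsQuasicoherent]
    (hF : TorSh.IsTorsionFree F)
    (h1 : Module.finrank (X.presheaf.stalk (genericPoint X))
      (F.presheaf.stalk (genericPoint X)) = 1) :
    ∃ i : F ⟶ KX X, Mono i := by
  obtain ⟨lam, hlam⟩ := exists_injective_linearMap F h1
  exact ⟨toRatHom F lam, mono_toRatHom F lam hF hlam⟩

end Groth.Agent.Helper4.RatEmbed
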