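import Mathlib
import Groth.Agent.Lib.Helper4.RatEmbed
import Groth.Agent.Lib.Helper4.GenFree
import Groth.Agent.Lead.QCoh2

/-!
# Quasi-coherent submodules of the sheaf of rational functions are torsion free of rank one
-/

set_option autoImplicit false
set_option linter.style.haveILetI false

universe u

open CategoryTheory CategoryTheory.Limits AlgebraicGeometry Opposite TopologicalSpace
open Groth.Agent.Lead.QCoh Groth.Agent.Lead.FinType

namespace Groth.Agent.Helper4.RatSub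

open Groth.Agent.Helper4.RatEmbed

variable {X : Scheme.{u}} [IsIntegral X]

/-- Torsion-freeness of a stalk can be checked on sections. -/
theorem isTorsionFree_stalk_of_sections (G : X.Modules) (x : X)
    (H : ∀ (U : X.Opens) (_ : x ∈ U) (a : Γ(X, U)) (s : Γ(G, U)), a ≠ 0 → a • s = 0 → s = 0) :
    Module.IsTorsionFree (X.presheaf.stalk x) (G.presheaf.stalk x) := by
  refine ⟨fun r hr θ₁ θ₂ h => ?_⟩
  have hr0 : r ≠ 0 := hr.ne_zero
  have h' : r • (θ₁ - θ₂) = 0 := by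
    rw [smul_sub, sub_eq_zero]; exact h
  rw [← sub_eq_zero]
  generalize θ₁ - θ₂ = θ at h'
  obtain ⟨V₁, hxV₁, ρ₀, rfl⟩ := X.presheaf.exists_germ_eq r
  obtain ⟨V₂, hxV₂, g₀, rfl⟩ := TopCat.Presheaf.exists_germ_eq G.presheaf θ
  let V₃ : X.Opens := V₁ ⊓ V₂
  have hxV₃ : x ∈ V₃ := ⟨hxV₁, hxV₂⟩
  have h31 : V₃ ≤ V₁ := inf_le_left
  have h32 : V₃ ≤ V₂ := inf_le_right
  obtain ⟨d, hd⟩ : ∃ d : Γ(G, V₃), d = X.presheaf.map (homOfLE h31).op ρ₀ •
      G.presheaf.map (homOfLE h32).op g₀ := ⟨_, rfl⟩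
  have hd0 : G.presheaf.germ V₃ x hxV₃ d = G.presheaf.germ V₃ x hxV₃ 0 := by
    rw [map_zero, hd, germ_smul, TopCat.Presheaf.germ_res_apply,
      TopCat.Presheaf.germ_res_apply]
    exact h'
  obtain ⟨O', hxO', i₁, i₂, hO'⟩ := TopCat.Presheaf.germ_eq G.presheaf x hxV₃ hxV₃ d 0 hd0
  have hρ0 : ρ₀ ≠ 0 := by
    rintro rfl
    exact hr0 (map_zero _)
  have hO1 : O' ≤ V₁ := i₁.le.trans h31
  have hO2 : O' ≤ V₂ := i₁.le.trans h32
  have ha0 : X.presheaf.map (homOfLE hO1).op ρ₀ ≠ 0 := by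
    intro h0
    apply hr0
    rw [← TopCat.Presheaf.germ_res_apply X.presheaf (homOfLE hO1) x hxO' ρ₀, h0, map_zero]
  have hsm : X.presheaf.map (homOfLE hO1).op ρ₀ • G.presheaf.map (homOfLE hO2).op g₀ = 0 := by
    have h1 := hO'
    rw [map_zero, hd, Scheme.Modules.map_smul, map_map_apply' i₁ (homOfLE h31) (homOfLE hO1),
      map_map_apply G i₁ (homOfLE h32) (homOfLE hO2)] at h1
    exact h1
  have key := H O' hxO' _ _ ha0 hsm
  rw [← TopCat.Presheaf.germ_res_apply G.presheaf (homOfLE hO2) x hxO' g₀, key, map_zero]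

/-- The rational function attached to a section of the sheaf of rational functions. -/
noncomputable def ofRat {U : X.Opens} (h : genericPoint X ∈ U) (σ : Γ(KX X, U)) :
    X.presheaf.stalk (genericPoint X) :=
  (Scheme.ΓSpecIso (X.presheaf.stalk (genericPoint X))).hom
    ((T X).presheaf.map (homOfLE (preimage_eq_top h).ge).op (ofUnit ((fη X) ⁻¹ᵁ U) σ))

theorem ratSec_ofRat {U : X.Opens} (h : genericPoint X ∈ U) (σ : Γ(KX X, U)) :
    ratSec U (ofRat h σ) = σ := by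
  unfold ratSec ofRat
  rw [Iso.hom_inv_id_apply, map_map_apply' (homOfLE (le_top : (fη X) ⁻¹ᵁ U ≤ ⊤))
    (homOfLE (preimage_eq_top h).ge) (𝟙 ((fη X) ⁻¹ᵁ U))]
  have h3 : (T X).presheaf.map (𝟙 ((fη X) ⁻¹ᵁ U)).op (ofUnit ((fη X) ⁻¹ᵁ U) σ) =
      ofUnit ((fη X) ⁻¹ᵁ U) σ := by
    rw [op_id, CategoryTheory.Functor.map_id]; rfl
  rw [h3]
  rfl

theorem ratSec_zero (U : X.Opens) : ratSec U (0 : X.presheaf.stalk (genericPoint X)) = 0 := by
  unfold ratSec
  rw [map_zero, map_zero]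
  rfl

theorem section_eq_zero_of_smul (G : X.Modules) (i : G ⟶ KX X) [Mono i] {U : X.Opens} (hη : genericPoint X ∈ U) (a : Γ(X, U))
    (s : Γ(G, U)) (ha : a ≠ 0) (has : a • s = 0) : s = 0 := by
  apply app_injective_of_mono i U
  rw [map_zero]
  have h1 : i.app U (a • s) = 0 := by rw [has, map_zero]
  rw [Scheme.Modules.Hom.app_smul, ← ratSec_ofRat hη (i.app U s), ratSec_smul hη] at h1
  have h2 := ratSec_injective hη _ h1
  have hga : X.presheaf.germ U _ hη a ≠ 0 := fun h0 =>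
    ha (germ_injective_of_isIntegral X _ hη (h0.trans (map_zero _).symm))
  have h3 : ofRat hη (i.app U s) = 0 := (mul_eq_zero.mp h2).resolve_left hga
  rw [← ratSec_ofRat hη (i.app U s), h3, ratSec_zero]

theorem isTorsionFree (G : X.Modules) (i : G ⟶ KX X) [Mono i] : TorSh.IsTorsionFree G := by
  intro x
  apply isTorsionFree_stalk_of_sections G x
  intro U hxU a s ha has
  exact section_eq_zero_of_smul G i (generic_mem hxU) a s ha has

theorem exists_section_ne_zero (G : X.Modules) (hG : ¬ Limits.IsZero G) :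
    ∃ (U : X.Opens) (s : Γ(G, U)), s ≠ 0 := by
  by_contra hcon
  push Not at hcon
  apply hG
  rw [Limits.IsZero.iff_id_eq_zero]
  apply Scheme.Modules.hom_ext
  intro U
  ext s
  rw [hcon U s, map_zero, map_zero]

theorem finrank_eq_one (G : X.Modules) (i : G ⟶ KX X) [Mono i] [G.IsQuasicoherent]
    (hG : ¬ Limits.IsZero G) :
    Module.finrank (X.presheaf.stalk (genericPoint X)) (G.presheaf.stalk (genericPoint X)) = 1 := by
  have htf := isTorsionFree G i
  obtain ⟨U₀, s₀, hs₀⟩ := exists_section_ne_zero G hG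
  -- `U₀` is nonempty
  have hne : (U₀ : Set X).Nonempty := by
    by_contra hemp
    apply hs₀
    apply HartogsMod.sec_ext
    intro y hy
    exact absurd ⟨y, hy⟩ hemp
  obtain ⟨y₀, hy₀⟩ := hne
  have hη₀ : genericPoint X ∈ U₀ := generic_mem hy₀
  have hv : G.presheaf.germ U₀ _ hη₀ s₀ ≠ 0 := by
    intro h0
    apply hs₀
    apply HartogsMod.sec_ext
    intro y hy
    rw [map_zero]
    exact germ_eq_zero_of_generic G htf s₀ hη₀ h0 y hy
  letI : Field (X.presheaf.stalk (genericPoint X)) := inferInstanceAs (Field X.functionField)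
  rw [finrank_eq_one_iff_of_nonzero' _ hv]
  intro w
  obtain ⟨V, hηV, t₀, rfl⟩ := TopCat.Presheaf.exists_germ_eq G.presheaf w
  obtain ⟨_, ⟨W, hW, rfl⟩, hηW, hWO⟩ := X.isBasis_affineOpens.exists_subset_of_mem_open
    (show genericPoint X ∈ ((U₀ ⊓ V : X.Opens) : Set X) from ⟨hη₀, hηV⟩) (U₀ ⊓ V).isOpen
  have hW' : IsAffineOpen W := hW
  have hWO' : W ≤ U₀ ⊓ V := hWO
  have hWU : W ≤ U₀ := hWO'.trans inf_le_left
  have hWV : W ≤ V := hWO'.trans inf_le_right
  obtain ⟨s, hs⟩ : ∃ s : Γ(G, W), s = G.presheaf.map (homOfLE hWU).op s₀ := ⟨_, rfl⟩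
  obtain ⟨t, ht⟩ : ∃ t : Γ(G, W), t = G.presheaf.map (homOfLE hWV).op t₀ := ⟨_, rfl⟩
  have hsg : G.presheaf.germ W _ hηW s = G.presheaf.germ U₀ _ hη₀ s₀ := by
    rw [hs]; exact TopCat.Presheaf.germ_res_apply _ _ _ _ _
  have htg : G.presheaf.germ W _ hηW t = G.presheaf.germ V _ hηV t₀ := by
    rw [ht]; exact TopCat.Presheaf.germ_res_apply _ _ _ _ _
  obtain ⟨cs, hcs⟩ : ∃ cs, cs = ofRat hηW (i.app W s) := ⟨_, rfl⟩
  obtain ⟨ct, hct⟩ : ∃ ct, ct = ofRat hηW (i.app W t) := ⟨_, rfl⟩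
  have hcs0 : cs ≠ 0 := by
    intro h0
    apply hv
    rw [← hsg]
    have h1 : i.app W s = 0 := by
      rw [← ratSec_ofRat hηW (i.app W s), ← hcs, h0, ratSec_zero]
    have h2 : s = 0 := app_injective_of_mono i W (h1.trans (map_zero _).symm)
    rw [h2, map_zero]
  obtain ⟨p, q, hηq, hpq⟩ := GenFree.exists_germ_mul_eq hW' (genericPoint X) hηW (ct * cs⁻¹)
  have huq : IsUnit (X.presheaf.germ W _ hηW q) := (X.mem_basicOpen q _ hηW).mp hηq
  have hz : q • t - p • s = 0 := by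
    apply app_injective_of_mono i W
    rw [map_zero, map_sub, Scheme.Modules.Hom.app_smul, Scheme.Modules.Hom.app_smul,
      ← ratSec_ofRat hηW (i.app W s), ← ratSec_ofRat hηW (i.app W t), ← hcs, ← hct,
      ratSec_smul hηW, ratSec_smul hηW, ← hpq]
    have h5 : X.presheaf.germ W _ hηW q * (ct * cs⁻¹) * cs = X.presheaf.germ W _ hηW q * ct := by
      rw [mul_assoc, mul_assoc, inv_mul_cancel₀ hcs0, mul_one]
    rw [h5, sub_self]
  refine ⟨ct * cs⁻¹, ?_⟩
  rw [← hsg, ← htg]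
  have h6 := congrArg (G.presheaf.germ W _ hηW) hz
  rw [map_zero, map_sub, germ_smul, germ_smul, sub_eq_zero] at h6
  -- h6 : germ q • germ t = germ p • germ s
  have h7 : X.presheaf.germ W _ hηW q • ((ct * cs⁻¹) • G.presheaf.germ W _ hηW s) =
      X.presheaf.germ W _ hηW q • G.presheaf.germ W _ hηW t := by
    rw [← mul_smul, hpq, h6]
  exact huq.smul_left_cancel.mp h7

end Groth.Agent.Helper4.RatSub
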