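import Mathlib
import Groth.Agent.H29.RegGlobalDim
import Groth.Agent.H29.ABMore
import Groth.Agent.H27.ReflLoc

set_option autoImplicit false
universe u
open CategoryTheory

namespace Groth.Agent.Helper4.ReflSurface

theorem free_of_isReflexive (A : Type u) [CommRing A] [IsRegularLocalRing A]
    (hdim : ringKrullDim A ≤ 2) (M : Type u) [AddCommGroup M] [Module A M] [Module.Finite A M]
    [Module.IsReflexive A M] : Module.Free A M := by
  obtain ⟨d, hd⟩ := Groth.Agent.H29.ringKrullDim_eq_natCast_of_isLocalRing A
  have hd2 : d ≤ 2 := by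
    rw [hd] at hdim
    exact_mod_cast hdim
  have hdepA : LocCoh.depth A A = d :=
    Groth.Agent.H29.depth_self_eq_ringKrullDim_of_isRegularLocalRing_aux d A hd
  have hdepM : (d : ℕ∞) ≤ LocCoh.depth A M := by
    rcases Nat.eq_zero_or_pos d with h0 | hpos
    · subst h0
      simp
    · have hk : d = 1 ∨ d = 2 := by omega
      refine Groth.Agent.H27.ReflLoc.le_idealDepth_of_isReflexive
        (IsLocalRing.maximalIdeal A) M d hk ?_
      change (d : ℕ∞) ≤ LocCoh.depth A A
      rw [hdepA]
  have hpd := Groth.Agent.H29.hasProjectiveDimensionLT_of_le_depth_add A d hd 0 M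
    (by simpa using hdepM)
  have hproj : Projective (ModuleCat.of A M) :=
    projective_iff_hasProjectiveDimensionLT_one.mpr hpd
  haveI : Module.Projective A M := (IsProjective.iff_projective M).mpr hproj
  exact Module.free_of_flat_of_isLocalRing

end Groth.Agent.Helper4.ReflSurface
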