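import Mathlib

/-!
Ring-level lemmas for relative effective Cartier divisors: `A` an `R`-algebra, `t ∈ A` a
nonzerodivisor with `A/(t)` flat over `R`.
-/

set_option autoImplicit false
set_option linter.style.haveILetI false

open TensorProduct

namespace Groth.Agent.Helper4.RelCartierAlg

universe u

section Basic

variable {R : Type*} [CommRing R] {A : Type*} [CommRing A] [Algebra R A]

/-- The sequence `A --t--> A --> A/(t)` is exact. -/
lemma exact_mul_mk (t : A) :
    Function.Exact (LinearMap.mulLeft R t)
      ((Submodule.mkQ (Ideal.span {t})).restrictScalars R) := by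
  intro y
  change (Ideal.Quotient.mk (Ideal.span {t})) y = 0 ↔ y ∈ Set.range (LinearMap.mulLeft R t)
  rw [Ideal.Quotient.eq_zero_iff_mem, Ideal.mem_span_singleton']
  constructor
  · rintro ⟨a, rfl⟩; exact ⟨a, by simp [mul_comm]⟩
  · rintro ⟨a, rfl⟩; exact ⟨a, by simp [mul_comm]⟩

lemma mulLeft_injective (t : A) (ht : t ∈ nonZeroDivisors A) :
    Function.Injective (LinearMap.mulLeft R t) := by
  intro x y hxy
  exact mul_cancel_left_mem_nonZeroDivisors ht |>.mp hxy

lemma mkQ_surjective (t : A) :
    Function.Surjective ((Submodule.mkQ (Ideal.span {t})).restrictScalars R) :=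
  Submodule.mkQ_surjective _

lemma rTensor_injective_of_exact_of_flat {M N P : Type*} [AddCommGroup M] [Module R M]
    [AddCommGroup N] [Module R N] [AddCommGroup P] [Module R P] [Module.Flat R P]
    (f : N →ₗ[R] P) (hf : Function.Surjective f) (g : M →ₗ[R] N) (hg : Function.Injective g)
    (H : Function.Exact g f) (Q : Type*) [AddCommGroup Q] [Module R Q] :
    Function.Injective (g.rTensor Q) := by
  have h := LinearMap.lTensor_injective_of_exact_of_flat f hf g hg H Q
  have e : g.rTensor Q = (TensorProduct.comm R Q N).toLinearMap ∘ₗ g.lTensor Q ∘ₗ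
      (TensorProduct.comm R M Q).toLinearMap := by
    ext; simp
  rw [e]
  exact (TensorProduct.comm R Q N).injective.comp (h.comp (TensorProduct.comm R M Q).injective)

/-- Multiplication by `t ⊗ 1` on `A ⊗ Q` is injective when `A/(t)` is flat. -/
lemma mulLeft_rTensor_injective (t : A) (ht : t ∈ nonZeroDivisors A)
    [Module.Flat R (A ⧸ Ideal.span {t})] (Q : Type*) [AddCommGroup Q] [Module R Q] :
    Function.Injective ((LinearMap.mulLeft R t).rTensor Q) :=
  rTensor_injective_of_exact_of_flat _ (mkQ_surjective t) _ (mulLeft_injective t ht)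
    (exact_mul_mk t) Q

lemma mulLeft_lTensor_injective (t : A) (ht : t ∈ nonZeroDivisors A)
    [Module.Flat R (A ⧸ Ideal.span {t})] (Q : Type*) [AddCommGroup Q] [Module R Q] :
    Function.Injective ((LinearMap.mulLeft R t).lTensor Q) :=
  LinearMap.lTensor_injective_of_exact_of_flat _ (mkQ_surjective t) _ (mulLeft_injective t ht)
    (exact_mul_mk t) Q

/-- `t ⊗ 1` is a nonzerodivisor of `A ⊗ B`. -/
lemma tmul_one_mem_nonZeroDivisors (t : A) (ht : t ∈ nonZeroDivisors A)
    [Module.Flat R (A ⧸ Ideal.span {t})] (B : Type*) [CommRing B] [Algebra R B] :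
    t ⊗ₜ[R] (1 : B) ∈ nonZeroDivisors (A ⊗[R] B) := by
  have key : ∀ z : A ⊗[R] B, (LinearMap.mulLeft R t).rTensor B z = t ⊗ₜ[R] (1 : B) * z := by
    intro z
    induction z using TensorProduct.induction_on with
    | zero => simp
    | tmul a b => simp [Algebra.TensorProduct.tmul_mul_tmul]
    | add x y hx hy => rw [map_add, mul_add, hx, hy]
  rw [mem_nonZeroDivisors_iff_left]
  intro z hz
  apply mulLeft_rTensor_injective t ht B
  rw [map_zero, key, hz]

end Basic

end Groth.Agent.Helper4.RelCartierAlg
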