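import Mathlib
import Groth.Agent.H10.FlatLemmas
import Groth.Agent.Lib.Helper4.RelCartierAlg

/-!
Sums and differences of relative effective Cartier divisors, ring level; flatness from flatness of
the divisor and of the complement.
-/

set_option autoImplicit false
set_option linter.style.haveILetI false

open TensorProduct

namespace Groth.Agent.Helper4.RelCartierAlg

universe u

section Ext

variable {R : Type u} [CommRing R] {A : Type u} [CommRing A] [Algebra R A]

/-- multiplication by `t₁` : `A/(t₂) → A/(t₁ t₂)`. -/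
noncomputable def mulQ (t₁ t₂ : A) :
    (A ⧸ Ideal.span {t₂}) →ₗ[R] (A ⧸ Ideal.span {t₁ * t₂}) :=
  (Submodule.mapQ (Ideal.span {t₂}) (Ideal.span {t₁ * t₂}) (LinearMap.mulLeft A t₁) (by
    intro x hx
    rw [Submodule.mem_comap, LinearMap.mulLeft_apply]
    obtain ⟨c, rfl⟩ := Ideal.mem_span_singleton'.mp hx
    exact Ideal.mem_span_singleton'.mpr ⟨c, by ring⟩)).restrictScalars R

/-- the projection `A/(t₁ t₂) → A/(t₁)`. -/
noncomputable def projQ (t₁ t₂ : A) :
    (A ⧸ Ideal.span {t₁ * t₂}) →ₗ[R] (A ⧸ Ideal.span {t₁}) :=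
  (Submodule.mapQ (Ideal.span {t₁ * t₂}) (Ideal.span {t₁}) LinearMap.id (by
    intro x hx
    rw [Submodule.mem_comap, LinearMap.id_apply]
    obtain ⟨c, rfl⟩ := Ideal.mem_span_singleton'.mp hx
    exact Ideal.mem_span_singleton'.mpr ⟨c * t₂, by ring⟩)).restrictScalars R

lemma mulQ_mk (t₁ t₂ x : A) :
    mulQ (R := R) t₁ t₂ (Submodule.Quotient.mk x) = Submodule.Quotient.mk (t₁ * x) := rfl

lemma projQ_mk (t₁ t₂ x : A) :
    projQ (R := R) t₁ t₂ (Submodule.Quotient.mk x) = Submodule.Quotient.mk x := rfl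

lemma mulQ_injective (t₁ t₂ : A) (ht₁ : t₁ ∈ nonZeroDivisors A) :
    Function.Injective (mulQ (R := R) t₁ t₂) := by
  rw [injective_iff_map_eq_zero]
  intro z hz
  obtain ⟨x, rfl⟩ := Submodule.Quotient.mk_surjective _ z
  rw [mulQ_mk, Submodule.Quotient.mk_eq_zero] at hz
  rw [Submodule.Quotient.mk_eq_zero]
  obtain ⟨c, hc⟩ := Ideal.mem_span_singleton'.mp hz
  refine Ideal.mem_span_singleton'.mpr ⟨c, ?_⟩
  apply (mul_cancel_left_mem_nonZeroDivisors ht₁).mp
  rw [← hc]; ring

lemma projQ_surjective (t₁ t₂ : A) : Function.Surjective (projQ (R := R) t₁ t₂) := by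
  intro z
  obtain ⟨x, rfl⟩ := Submodule.Quotient.mk_surjective _ z
  exact ⟨Submodule.Quotient.mk x, rfl⟩

lemma exact_mulQ_projQ (t₁ t₂ : A) :
    Function.Exact (mulQ (R := R) t₁ t₂) (projQ (R := R) t₁ t₂) := by
  intro z
  obtain ⟨y, rfl⟩ := Submodule.Quotient.mk_surjective _ z
  rw [projQ_mk, Submodule.Quotient.mk_eq_zero]
  constructor
  · intro hy
    obtain ⟨c, rfl⟩ := Ideal.mem_span_singleton'.mp hy
    refine ⟨Submodule.Quotient.mk c, ?_⟩
    rw [mulQ_mk, mul_comm t₁ c]
  · rintro ⟨w, hw⟩
    obtain ⟨c, rfl⟩ := Submodule.Quotient.mk_surjective _ w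
    rw [mulQ_mk] at hw
    have h1 : t₁ * c - y ∈ Ideal.span {t₁ * t₂} := (Submodule.Quotient.eq _).mp hw
    obtain ⟨d, hd⟩ := Ideal.mem_span_singleton'.mp h1
    refine Ideal.mem_span_singleton'.mpr ⟨c - d * t₂, ?_⟩
    linear_combination (-1 : A) * hd

/-- Sum of relative effective Cartier divisors. -/
theorem flat_quotient_mul (t₁ t₂ : A) (ht₁ : t₁ ∈ nonZeroDivisors A)
    [Module.Flat R (A ⧸ Ideal.span {t₁})] [Module.Flat R (A ⧸ Ideal.span {t₂})] :
    Module.Flat R (A ⧸ Ideal.span {t₁ * t₂}) :=
  Groth.Agent.H10.flat_of_exact_of_flat_left_right (mulQ t₁ t₂) (projQ t₁ t₂)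
    (mulQ_injective t₁ t₂ ht₁) (exact_mulQ_projQ t₁ t₂) (projQ_surjective t₁ t₂)

/-- Difference of relative effective Cartier divisors. -/
theorem flat_quotient_of_mul (t₁ t₂ : A) (ht₁ : t₁ ∈ nonZeroDivisors A)
    [Module.Flat R (A ⧸ Ideal.span {t₁})] [Module.Flat R (A ⧸ Ideal.span {t₁ * t₂})] :
    Module.Flat R (A ⧸ Ideal.span {t₂}) :=
  Groth.Agent.H10.flat_of_exact_of_flat_flat (mulQ t₁ t₂) (projQ t₁ t₂)
    (mulQ_injective t₁ t₂ ht₁) (exact_mulQ_projQ t₁ t₂) (projQ_surjective t₁ t₂)

end Ext

section Away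

variable {R : Type u} [CommRing R] {A : Type u} [CommRing A] [Algebra R A]

/-- If `A/(t)` is flat over `R` with `t` a nonzerodivisor and `A_t` is flat over `R`, then `A` is
flat over `R`. -/
theorem flat_of_flat_quotient_of_flat_away (t : A) (ht : t ∈ nonZeroDivisors A)
    [Module.Flat R (A ⧸ Ideal.span {t})] (C : Type u) [CommRing C] [Algebra A C] [Algebra R C]
    [IsScalarTower R A C] [IsLocalization.Away t C] [Module.Flat R C] : Module.Flat R A := by
  rw [Module.Flat.iff_lTensor_injective']
  intro I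
  rw [injective_iff_map_eq_zero]
  intro x hx
  -- step (i): x dies in `C ⊗ I`
  let lam : A →ₗ[R] C := (IsScalarTower.toAlgHom R A C).toLinearMap
  have h1 : (lam.rTensor I) x = 0 := by
    have hinj : Function.Injective (I.subtype.lTensor C) :=
      Module.Flat.lTensor_preserves_injective_linearMap _ (Submodule.injective_subtype I)
    apply hinj
    rw [map_zero, ← LinearMap.comp_apply, LinearMap.lTensor_comp_rTensor,
      ← LinearMap.rTensor_comp_lTensor, LinearMap.comp_apply, hx, map_zero]
  -- step (ii): some power of t kills x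
  have h2 : ∃ n : ℕ, (t ^ n) • x = 0 := by
    let ψ : A ⊗[R] I →ₗ[A] C ⊗[A] (A ⊗[R] I) := TensorProduct.mk A C (A ⊗[R] I) 1
    haveI : IsLocalizedModule (Submonoid.powers t) ψ :=
      IsLocalization.tensorProduct_isLocalizedModule (Submonoid.powers t) C
    let e := AlgebraTensorModule.cancelBaseChange R A C C I
    have hcomp : ∀ y : A ⊗[R] I, e (ψ y) = (lam.rTensor I) y := by
      intro y
      induction y using TensorProduct.induction_on with
      | zero => simp
      | tmul a i =>
        simp only [ψ, e, lam, TensorProduct.mk_apply, LinearMap.rTensor_tmul,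
          AlgebraTensorModule.cancelBaseChange_tmul]
        congr 1
        rw [Algebra.smul_def, mul_one]
        rfl
      | add y z hy hz => rw [map_add, map_add, map_add, hy, hz]
    have h3 : ψ x = 0 := by
      apply e.injective
      rw [hcomp, h1, map_zero]
    obtain ⟨⟨s, n, rfl⟩, hs⟩ := (IsLocalizedModule.eq_zero_iff (Submonoid.powers t) ψ).mp h3
    exact ⟨n, hs⟩
  -- step (iii): t acts injectively
  have key : ∀ y : A ⊗[R] I, (LinearMap.mulLeft R t).rTensor I y = t • y := by
    intro y
    induction y using TensorProduct.induction_on with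
    | zero => simp
    | tmul a i => simp [TensorProduct.smul_tmul']
    | add y z hy' hz' => rw [map_add, smul_add, hy', hz']
  have h4 : ∀ y : A ⊗[R] I, t • y = 0 → y = 0 := by
    intro y hy
    apply mulLeft_rTensor_injective (R := R) t ht I
    rw [map_zero, key, hy]
  obtain ⟨n, hn⟩ := h2
  induction n with
  | zero => simpa using hn
  | succ n ih =>
    apply ih
    apply h4
    rw [← mul_smul, ← pow_succ']
    exact hn

end Away

section Local

variable {A : Type u} [CommRing A] {C : Type u} [CommRing C] [Algebra A C]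

lemma mulLeft_rTensor_apply (t : C) (Q : Type*) [AddCommGroup Q] [Module A Q] (y : C ⊗[A] Q) :
    (LinearMap.mulLeft A t).rTensor Q y = t • y := by
  induction y using TensorProduct.induction_on with
  | zero => simp
  | tmul a i => simp [TensorProduct.smul_tmul']
  | add y z hy' hz' => rw [map_add, smul_add, hy', hz']

/-- Local criterion along a nonzerodivisor: `C` Noetherian local, `t ∈ 𝔪` a nonzerodivisor with
`C/(t)` flat over `A`; then `C` is flat over `A`. -/
theorem flat_of_flat_quotient_of_local [IsLocalRing C] [IsNoetherianRing C] (t : C)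
    (ht : t ∈ nonZeroDivisors C) (htm : t ∈ IsLocalRing.maximalIdeal C)
    [Module.Flat A (C ⧸ Ideal.span {t})] : Module.Flat A C := by
  rw [Module.Flat.iff_lTensor_injective]
  intro I hI
  let Φ : C ⊗[A] I →ₗ[C] C ⊗[A] A := I.subtype.baseChange C
  have hΦ : ∀ x, Φ x = I.subtype.lTensor C x := fun x => rfl
  let K : Submodule C (C ⊗[A] I) := LinearMap.ker Φ
  haveI : Module.Finite A I := Module.Finite.iff_fg.mpr hI
  haveI : IsNoetherian C (C ⊗[A] I) := isNoetherian_of_isNoetherianRing_of_finite C _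
  have hKfg : K.FG := IsNoetherian.noetherian K
  have hKle : K ≤ (Ideal.span {t}) • K := by
    intro x hx
    have hx0 : (I.subtype.lTensor C) x = 0 := hx
    let π : C →ₗ[A] C ⧸ Ideal.span {t} := (Submodule.mkQ (Ideal.span {t})).restrictScalars A
    have h1 : (π.rTensor I) x = 0 := by
      have hinj : Function.Injective (I.subtype.lTensor (C ⧸ Ideal.span {t})) :=
        Module.Flat.lTensor_preserves_injective_linearMap _ (Submodule.injective_subtype I)
      apply hinj
      rw [map_zero, ← LinearMap.comp_apply, LinearMap.lTensor_comp_rTensor,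
        ← LinearMap.rTensor_comp_lTensor, LinearMap.comp_apply, hx0, map_zero]
    have hex := rTensor_exact I (exact_mul_mk (R := A) t) (mkQ_surjective t)
    obtain ⟨y, hy⟩ := (hex x).mp h1
    have hy' : t • y = x := by rw [← mulLeft_rTensor_apply]; exact hy
    have hyK : y ∈ K := by
      change Φ y = 0
      have h2 : t • Φ y = 0 := by rw [← map_smul, hy']; exact hx
      apply mulLeft_rTensor_injective (R := A) t ht A
      rw [map_zero, mulLeft_rTensor_apply, h2]
    rw [← hy']
    exact Submodule.smul_mem_smul (Ideal.mem_span_singleton_self t) hyK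
  have hjac : Ideal.span {t} ≤ Ideal.jacobson ⊥ := by
    rw [IsLocalRing.jacobson_eq_maximalIdeal ⊥ bot_ne_top, Ideal.span_singleton_le_iff_mem]
    exact htm
  have hK0 : K = ⊥ := Submodule.eq_bot_of_le_smul_of_le_jacobson_bot _ K hKfg hKle hjac
  rw [injective_iff_map_eq_zero]
  intro x hx
  have hxK : x ∈ K := hx
  rw [hK0] at hxK
  exact hxK

/-- Quotient of a localization is flat over the base if the quotient is. -/
theorem flat_quotient_map_of_isLocalization {B : Type u} [CommRing B] [Algebra A B] [Algebra B C]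
    [IsScalarTower A B C] (M : Submonoid B) [IsLocalization M C] (I : Ideal B)
    [Module.Flat A (B ⧸ I)] : Module.Flat A (C ⧸ I.map (algebraMap B C)) := by
  haveI : IsScalarTower A (B ⧸ I) (C ⧸ I.map (algebraMap B C)) := by
    apply IsScalarTower.of_algebraMap_eq
    intro a
    change Ideal.Quotient.mk _ (algebraMap A C a) =
      algebraMap (B ⧸ I) (C ⧸ I.map (algebraMap B C)) (Ideal.Quotient.mk I (algebraMap A B a))
    rw [Ideal.Quotient.algebraMap_quotient_map_quotient, ← IsScalarTower.algebraMap_apply]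
  haveI : Module.Flat (B ⧸ I) (C ⧸ I.map (algebraMap B C)) :=
    IsLocalization.flat _ (Algebra.algebraMapSubmonoid (B ⧸ I) M)
  exact Module.Flat.trans A (B ⧸ I) (C ⧸ I.map (algebraMap B C))

end Local

end Groth.Agent.Helper4.RelCartierAlg
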