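import Mathlib
import Groth.Prelude.Def_BlowUp2
import Groth.Agent.Lib.Helper4.RelCartierAlg2
import Groth.Agent.Lib.Helper4.EffCartierPull
import Groth.Agent.Lib.Helper4.BlowupFormal
import Groth.Agent.Lib.Helper4.CartierDense

/-!
Relative effective Cartier divisors: dictionary between flatness of `𝓘.subschemeι ≫ f` and
flatness of the quotients `Γ(X,U)/𝓘(U)` over `Γ(S,V)`, and consequences.
-/

set_option autoImplicit false
set_option linter.style.haveILetI false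

open CategoryTheory CategoryTheory.Limits AlgebraicGeometry AlgebraicGeometry.Scheme TopologicalSpace

namespace Groth.Agent.Helper4.RelCartier

universe u
variable {X S : Scheme.{u}} (f : X ⟶ S) (𝓘 : X.IdealSheafData)

open Groth.Agent.Helper4.RelCartierAlg Groth.Agent.Helper4.BlowupFormal

lemma le_preimage (U : X.affineOpens) (V : S.affineOpens) (e : U.1 ≤ f ⁻¹ᵁ V.1) :
    𝓘.subschemeι ⁻¹ᵁ U.1 ≤ (𝓘.subschemeι ≫ f) ⁻¹ᵁ V.1 := fun _ hz => e hz

lemma comp_appLE (U : X.affineOpens) (V : S.affineOpens) (e : U.1 ≤ f ⁻¹ᵁ V.1) :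
    (𝓘.subschemeι ≫ f).appLE V.1 (𝓘.subschemeι ⁻¹ᵁ U.1) (le_preimage f 𝓘 U V e) =
      (f.appLE V.1 U.1 e ≫ CommRingCat.ofHom (Ideal.Quotient.mk (𝓘.ideal U))) ≫
        (𝓘.subschemeObjIso U).inv := by
  rw [Category.assoc, ← 𝓘.subschemeι_app U, Scheme.Hom.app_eq_appLE, Scheme.Hom.appLE_comp_appLE]

/-- `RingHom.Flat` of a composite with a quotient map, as flatness of the quotient module. -/
lemma flat_mk_comp_iff {R A : Type u} [CommRing R] [CommRing A] (φ : R →+* A) (I : Ideal A) :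
    ((Ideal.Quotient.mk I).comp φ).Flat ↔
      (letI := φ.toAlgebra; Module.Flat R (A ⧸ I)) := by
  letI := φ.toAlgebra
  have : (Ideal.Quotient.mk I).comp φ = algebraMap R (A ⧸ I) := rfl
  rw [this, RingHom.flat_algebraMap_iff]

/-- (D1) -/
theorem flat_quotient [Flat (𝓘.subschemeι ≫ f)] (U : X.affineOpens) (V : S.affineOpens)
    (e : U.1 ≤ f ⁻¹ᵁ V.1) :
    ((Ideal.Quotient.mk (𝓘.ideal U)).comp (f.appLE V.1 U.1 e).hom).Flat := by
  have h := Scheme.Hom.flat_appLE (𝓘.subschemeι ≫ f) V.2 (U.2.preimage 𝓘.subschemeι)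
    (le_preimage f 𝓘 U V e)
  rw [comp_appLE f 𝓘 U V e] at h
  exact (RingHom.Flat.respectsIso.cancel_right_isIso
    (f.appLE V.1 U.1 e ≫ CommRingCat.ofHom (Ideal.Quotient.mk (𝓘.ideal U)))
    (𝓘.subschemeObjIso U).inv).mp h

/-- (D2) -/
theorem flat_comp_of_forall_exists
    (h : ∀ x : X, ∃ (U : X.affineOpens) (V : S.affineOpens) (e : U.1 ≤ f ⁻¹ᵁ V.1), x ∈ U.1 ∧
      ((Ideal.Quotient.mk (𝓘.ideal U)).comp (f.appLE V.1 U.1 e).hom).Flat) :
    Flat (𝓘.subschemeι ≫ f) := by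
  rw [HasRingHomProperty.iff_exists_appLE (P := @Flat)
    (RingHom.Flat.stableUnderComposition.stableUnderCompositionWithLocalizationAway
      RingHom.Flat.holdsForLocalizationAway).left]
  intro z
  obtain ⟨U, V, e, hzU, hflat⟩ := h (𝓘.subschemeι z)
  refine ⟨V, ⟨𝓘.subschemeι ⁻¹ᵁ U.1, U.2.preimage _⟩, hzU, le_preimage f 𝓘 U V e, ?_⟩
  rw [comp_appLE f 𝓘 U V e]
  exact (RingHom.Flat.respectsIso.cancel_right_isIso
    (f.appLE V.1 U.1 e ≫ CommRingCat.ofHom (Ideal.Quotient.mk (𝓘.ideal U)))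
    (𝓘.subschemeObjIso U).inv).mpr hflat

/-- A common affine chart for two effective Cartier ideals, inside the preimage of an affine open
of the base. -/
lemma exists_chart₂ (𝓘₁ 𝓘₂ : X.IdealSheafData) (h₁ : BlowUp.IsEffCartierIdeal 𝓘₁)
    (h₂ : BlowUp.IsEffCartierIdeal 𝓘₂) (x : X) :
    ∃ (U : X.affineOpens) (V : S.affineOpens) (_ : U.1 ≤ f ⁻¹ᵁ V.1), x ∈ U.1 ∧
      ∃ t₁ t₂ : Γ(X, U.1), t₁ ∈ nonZeroDivisors Γ(X, U.1) ∧ t₂ ∈ nonZeroDivisors Γ(X, U.1) ∧
        𝓘₁.ideal U = Ideal.span {t₁} ∧ 𝓘₂.ideal U = Ideal.span {t₂} := by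
  obtain ⟨U₁, hx₁, f₁, hf₁, hI₁⟩ := h₁ x
  obtain ⟨U₂, hx₂, f₂, hf₂, hI₂⟩ := h₂ x
  obtain ⟨_, ⟨V, hV, rfl⟩, hxV, -⟩ :=
    S.isBasis_affineOpens.exists_subset_of_mem_open (Set.mem_univ (f x)) isOpen_univ
  obtain ⟨_, ⟨W, hW, rfl⟩, hxW, hWU⟩ := X.isBasis_affineOpens.exists_subset_of_mem_open
    (show x ∈ ((U₁.1 ⊓ U₂.1 ⊓ f ⁻¹ᵁ V : X.Opens) : Set X) from ⟨⟨hx₁, hx₂⟩, hxV⟩)
    (U₁.1 ⊓ U₂.1 ⊓ f ⁻¹ᵁ V).isOpen
  have hW₁ : (⟨W, hW⟩ : X.affineOpens) ≤ U₁ := fun y hy => (hWU hy).1.1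
  have hW₂ : (⟨W, hW⟩ : X.affineOpens) ≤ U₂ := fun y hy => (hWU hy).1.2
  obtain ⟨a1, a2⟩ := isEffCartier_restrict 𝓘₁ hW₁ f₁ hf₁ hI₁
  obtain ⟨b1, b2⟩ := isEffCartier_restrict 𝓘₂ hW₂ f₂ hf₂ hI₂
  exact ⟨⟨W, hW⟩, ⟨V, hV⟩, fun y hy => (hWU hy).2, hxW, _, _, a1, b1, a2, b2⟩

/-- Sum of relative effective Cartier divisors. -/
theorem flat_mul (𝓘₁ 𝓘₂ : X.IdealSheafData) (h₁ : BlowUp.IsEffCartierIdeal 𝓘₁)
    (h₂ : BlowUp.IsEffCartierIdeal 𝓘₂) [Flat (𝓘₁.subschemeι ≫ f)] [Flat (𝓘₂.subschemeι ≫ f)] :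
    Flat ((𝓘₁ * 𝓘₂).subschemeι ≫ f) := by
  apply flat_comp_of_forall_exists
  intro x
  obtain ⟨U, V, e, hxU, t₁, t₂, ht₁, ht₂, hI₁, hI₂⟩ := exists_chart₂ f 𝓘₁ 𝓘₂ h₁ h₂ x
  refine ⟨U, V, e, hxU, ?_⟩
  have hmul : (𝓘₁ * 𝓘₂).ideal U = Ideal.span {t₁ * t₂} := by
    change 𝓘₁.ideal U * 𝓘₂.ideal U = _
    rw [hI₁, hI₂, Ideal.span_singleton_mul_span_singleton]
  have q₁ := flat_quotient f 𝓘₁ U V e
  have q₂ := flat_quotient f 𝓘₂ U V e
  rw [hI₁, flat_mk_comp_iff] at q₁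
  rw [hI₂, flat_mk_comp_iff] at q₂
  rw [hmul, flat_mk_comp_iff]
  letI := (f.appLE V.1 U.1 e).hom.toAlgebra
  haveI := q₁
  haveI := q₂
  exact flat_quotient_mul t₁ t₂ ht₁

/-- Difference of relative effective Cartier divisors. -/
theorem flat_of_mul (𝓘₁ 𝓘 : X.IdealSheafData) (h₁ : BlowUp.IsEffCartierIdeal 𝓘₁)
    (h : BlowUp.IsEffCartierIdeal 𝓘) [Flat (𝓘₁.subschemeι ≫ f)]
    [Flat ((𝓘₁ * 𝓘).subschemeι ≫ f)] : Flat (𝓘.subschemeι ≫ f) := by
  apply flat_comp_of_forall_exists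
  intro x
  obtain ⟨U, V, e, hxU, t₁, t₂, ht₁, ht₂, hI₁, hI₂⟩ := exists_chart₂ f 𝓘₁ 𝓘 h₁ h x
  refine ⟨U, V, e, hxU, ?_⟩
  have hmul : (𝓘₁ * 𝓘).ideal U = Ideal.span {t₁ * t₂} := by
    change 𝓘₁.ideal U * 𝓘.ideal U = _
    rw [hI₁, hI₂, Ideal.span_singleton_mul_span_singleton]
  have q₁ := flat_quotient f 𝓘₁ U V e
  have q₂ := flat_quotient f (𝓘₁ * 𝓘) U V e
  rw [hI₁, flat_mk_comp_iff] at q₁
  rw [hmul, flat_mk_comp_iff] at q₂
  rw [hI₂, flat_mk_comp_iff]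
  letI := (f.appLE V.1 U.1 e).hom.toAlgebra
  haveI := q₁
  haveI := q₂
  exact flat_quotient_of_mul t₁ t₂ ht₁

end Groth.Agent.Helper4.RelCartier

namespace Groth.Agent.Helper4.RelCartier

universe u

open CategoryTheory CategoryTheory.Limits AlgebraicGeometry AlgebraicGeometry.Scheme TopologicalSpace
open Groth.Agent.Helper4.RelCartierAlg Groth.Agent.Helper4.BlowupFormal

/-- Base change of a nonzerodivisor with flat quotient, in a pushout square of rings. -/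
theorem nzd_of_isPushout {R A B P : CommRingCat.{u}} {φ : R ⟶ A} {γ : R ⟶ B} {a : A ⟶ P}
    {b : B ⟶ P} (H : IsPushout φ γ a b) (t : A) (ht : t ∈ nonZeroDivisors A)
    (hflat : ((Ideal.Quotient.mk (Ideal.span {t})).comp φ.hom).Flat) :
    a.hom t ∈ nonZeroDivisors P := by
  rw [flat_mk_comp_iff] at hflat
  algebraize [φ.hom, γ.hom]
  haveI := hflat
  let e := (CommRingCat.isPushout_tensorProduct R A B).isoIsPushout A B H
  have h1 : a.hom t = e.hom.hom (t ⊗ₜ[R] (1 : B)) := by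
    have := IsPushout.inl_isoIsPushout_hom A B (CommRingCat.isPushout_tensorProduct R A B) H
    rw [← this]
    rfl
  rw [h1]
  exact BlowupIso.map_mem_nonZeroDivisors_of_bijective e.hom.hom
    (ConcreteCategory.bijective_of_isIso e.hom) (tmul_one_mem_nonZeroDivisors t ht B)

/-- The inverse image of a relative effective Cartier divisor under any base change is an
effective Cartier divisor. -/
theorem isEffCartier_comap_fst {X S S' : Scheme.{u}} (f : X ⟶ S) (D : X.IdealSheafData)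
    (hD : BlowUp.IsEffCartierIdeal D) [Flat (D.subschemeι ≫ f)] (g : S' ⟶ S) :
    BlowUp.IsEffCartierIdeal (D.comap (pullback.fst f g)) := by
  intro y
  obtain ⟨U, V, e, hxU, t, -, ht, -, hI, -⟩ := exists_chart₂ f D D hD hD (pullback.fst f g y)
  have hgV : g (pullback.snd f g y) ∈ V.1 := by
    have : g (pullback.snd f g y) = f (pullback.fst f g y) := by
      rw [← Scheme.Hom.comp_apply, ← Scheme.Hom.comp_apply, pullback.condition]
    rw [this]; exact e hxU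
  obtain ⟨_, ⟨V', hV', rfl⟩, hyV', hV'V⟩ :=
    S'.isBasis_affineOpens.exists_subset_of_mem_open
      (show pullback.snd f g y ∈ (g ⁻¹ᵁ V.1 : Set S') from hgV) (g ⁻¹ᵁ V.1).isOpen
  have hV'V' : V' ≤ g ⁻¹ᵁ V.1 := hV'V
  have H : IsPullback (pullback.fst f g) (pullback.snd f g) f g := IsPullback.of_hasPullback f g
  set UY : (pullback f g).Opens := pullback.fst f g ⁻¹ᵁ U.1 ⊓ pullback.snd f g ⁻¹ᵁ V' with hUY
  have hyUY : y ∈ UY := ⟨hxU, hyV'⟩
  have hUYaff : IsAffineOpen UY := by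
    haveI : IsAffine V.1.toScheme := V.2
    haveI : IsAffine (V' : Scheme) := hV'
    haveI : IsAffine U.1.toScheme := U.2
    exact .of_isIso (Scheme.Hom.isPullback_resLE H hV'V' e hUY).isoPullback.hom
  have hpush := (AlgebraicGeometry.isIso_pushoutSection_iff H hV'V' e hUY).mp
    (AlgebraicGeometry.isIso_pushoutSection_of_isAffineOpen H hV'V' e hUY V.2 hV' U.2)
  have hle : UY ≤ pullback.fst f g ⁻¹ᵁ U.1 := inf_le_left
  refine ⟨⟨UY, hUYaff⟩, hyUY, ((pullback.fst f g).appLE U.1 UY hle).hom t, ?_, ?_⟩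
  · exact nzd_of_isPushout hpush t ht (hI ▸ flat_quotient f D U V e)
  · rw [EffCartierPull.ideal_comap_appLE (pullback.fst f g) D ⟨UY, hUYaff⟩ U hle, hI,
      Ideal.map_span, Set.image_singleton]

end Groth.Agent.Helper4.RelCartier

namespace Groth.Agent.Helper4.RelCartier

universe u

open CategoryTheory CategoryTheory.Limits AlgebraicGeometry AlgebraicGeometry.Scheme TopologicalSpace
open Groth.Agent.Helper4.RelCartierAlg Groth.Agent.Helper4.BlowupFormal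

/-- Flatness of `f` over an open `W` all of whose stalk maps are flat, on sections. -/
lemma flat_appLE_of_stalkMap {X S : Scheme.{u}} (f : X ⟶ S) (V : S.affineOpens) (W : X.Opens)
    (hW : IsAffineOpen W) (e : W ≤ f ⁻¹ᵁ V.1)
    (h : ∀ x ∈ W, (f.stalkMap x).hom.Flat) : (f.appLE V.1 W e).hom.Flat := by
  haveI : Flat (W.ι ≫ f) := by
    rw [Flat.iff_flat_stalkMap]
    intro w
    rw [Scheme.Hom.stalkMap_comp]
    exact RingHom.Flat.comp (h _ w.2)
      (RingHom.Flat.of_bijective (ConcreteCategory.bijective_of_isIso (W.ι.stalkMap w)))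
  haveI : IsAffine W.toScheme := hW
  have e' : (⊤ : W.toScheme.Opens) ≤ (W.ι ≫ f) ⁻¹ᵁ V.1 := fun w _ => e w.2
  have h1 := Scheme.Hom.flat_appLE (W.ι ≫ f) V.2 (isAffineOpen_top W.toScheme) e'
  have e'' : (⊤ : W.toScheme.Opens) ≤ W.ι ⁻¹ᵁ W := fun w _ => w.2
  have h2 : (W.ι ≫ f).appLE V.1 ⊤ e' = f.appLE V.1 W e ≫ W.ι.appLE W ⊤ e'' :=
    (Scheme.Hom.appLE_comp_appLE W.ι f V.1 W ⊤ e e'').symm
  rw [h2] at h1
  haveI : IsIso (W.ι.appLE W ⊤ e'') := by
    rw [Scheme.Opens.ι_appLE]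
    have heq : W.ι ''ᵁ ⊤ = W := W.ι_image_top
    have h3 : ∀ (hle : W.ι ''ᵁ ⊤ ≤ W), IsIso (X.presheaf.map (homOfLE hle).op) := by
      intro hle
      rw [show homOfLE hle = eqToHom heq from Subsingleton.elim _ _]
      infer_instance
    exact h3 _
  exact (RingHom.Flat.respectsIso.cancel_right_isIso (f.appLE V.1 W e) (W.ι.appLE W ⊤ e'')).mp h1

/-- A morphism is flat if it is flat away from a relative effective Cartier divisor. -/
theorem flat_of_flat_compl {X S : Scheme.{u}} (f : X ⟶ S) (𝓘 : X.IdealSheafData)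
    (hD : BlowUp.IsEffCartierIdeal 𝓘) [Flat (𝓘.subschemeι ≫ f)]
    (hflat : ∀ x : X, x ∉ 𝓘.support → (f.stalkMap x).hom.Flat) : Flat f := by
  rw [HasRingHomProperty.iff_exists_appLE (P := @Flat)
    (RingHom.Flat.stableUnderComposition.stableUnderCompositionWithLocalizationAway
      RingHom.Flat.holdsForLocalizationAway).left]
  intro x
  obtain ⟨U, V, e, hxU, t, -, ht, -, hI, -⟩ := exists_chart₂ f 𝓘 𝓘 hD hD x
  refine ⟨V, U, hxU, e, ?_⟩
  have q := flat_quotient f 𝓘 U V e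
  rw [hI, flat_mk_comp_iff] at q
  have hWle : X.basicOpen t ≤ f ⁻¹ᵁ V.1 := (X.basicOpen_le t).trans e
  have hC : (f.appLE V.1 (X.basicOpen t) hWle).hom.Flat := by
    apply flat_appLE_of_stalkMap f V (X.basicOpen t) (U.2.basicOpen t) hWle
    intro y hy
    apply hflat
    have h1 : y ∈ U.1 ⊓ 𝓘.support.compl := by
      rw [CartierDense.inf_compl_eq_basicOpen 𝓘 U t hI]; exact hy
    exact h1.2
  letI algAB : Algebra Γ(S, V.1) Γ(X, U.1) := (f.appLE V.1 U.1 e).hom.toAlgebra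
  letI algAC : Algebra Γ(S, V.1) Γ(X, X.basicOpen t) :=
    (f.appLE V.1 (X.basicOpen t) hWle).hom.toAlgebra
  haveI : IsScalarTower Γ(S, V.1) Γ(X, U.1) Γ(X, X.basicOpen t) := by
    apply IsScalarTower.of_algebraMap_eq
    intro r
    have := Scheme.Hom.appLE_map f e (homOfLE (X.basicOpen_le t)).op
    exact (congrArg (fun φ => φ.hom r) this).symm
  haveI := U.2.isLocalization_basicOpen t
  haveI := q
  haveI : Module.Flat Γ(S, V.1) Γ(X, X.basicOpen t) := hC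
  exact flat_of_flat_quotient_of_flat_away t ht Γ(X, X.basicOpen t)

end Groth.Agent.Helper4.RelCartier

namespace Groth.Agent.Helper4.RelCartier

universe u

open CategoryTheory CategoryTheory.Limits AlgebraicGeometry AlgebraicGeometry.Scheme TopologicalSpace
open Groth.Agent.Helper4.RelCartierAlg Groth.Agent.Helper4.BlowupFormal

/-- A morphism is flat at the points of a relative effective Cartier divisor where the local ring
of the source is Noetherian. -/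
theorem flat_stalkMap_of_mem_support {X S : Scheme.{u}} (f : X ⟶ S) (𝓘 : X.IdealSheafData)
    (hD : BlowUp.IsEffCartierIdeal 𝓘) [Flat (𝓘.subschemeι ≫ f)] (x : X) (hx : x ∈ 𝓘.support)
    [IsNoetherianRing (X.presheaf.stalk x)] : (f.stalkMap x).hom.Flat := by
  obtain ⟨U, V, e, hxU, t, -, ht, -, hI, -⟩ := exists_chart₂ f 𝓘 𝓘 hD hD x
  have hfxV : f x ∈ V.1 := e hxU
  have q := flat_quotient f 𝓘 U V e
  rw [hI, flat_mk_comp_iff] at q
  letI algAB : Algebra Γ(S, V.1) Γ(X, U.1) := (f.appLE V.1 U.1 e).hom.toAlgebra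
  letI algBC : Algebra Γ(X, U.1) (X.presheaf.stalk x) :=
    TopCat.Presheaf.algebra_section_stalk X.presheaf (⟨x, hxU⟩ : U.1)
  letI algAA' : Algebra Γ(S, V.1) (S.presheaf.stalk (f x)) :=
    TopCat.Presheaf.algebra_section_stalk S.presheaf (⟨f x, hfxV⟩ : V.1)
  letI algA'C : Algebra (S.presheaf.stalk (f x)) (X.presheaf.stalk x) :=
    (f.stalkMap x).hom.toAlgebra
  letI algAC : Algebra Γ(S, V.1) (X.presheaf.stalk x) :=
    ((X.presheaf.germ U.1 x hxU).hom.comp (f.appLE V.1 U.1 e).hom).toAlgebra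
  haveI tow1 : IsScalarTower Γ(S, V.1) Γ(X, U.1) (X.presheaf.stalk x) :=
    IsScalarTower.of_algebraMap_eq (fun _ => rfl)
  haveI tow2 : IsScalarTower Γ(S, V.1) (S.presheaf.stalk (f x)) (X.presheaf.stalk x) := by
    apply IsScalarTower.of_algebraMap_eq
    intro r
    change (X.presheaf.germ U.1 x hxU).hom ((f.appLE V.1 U.1 e).hom r) =
      (f.stalkMap x).hom ((S.presheaf.germ V.1 (f x) hfxV).hom r)
    have h1 := Scheme.Hom.germ_stalkMap f V.1 x hfxV
    have h2 := congrArg (fun φ => φ.hom r) h1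
    simp only [CommRingCat.comp_apply] at h2
    rw [h2, Scheme.Hom.appLE, CommRingCat.comp_apply]
    exact TopCat.Presheaf.germ_res_apply X.presheaf (homOfLE e) x hxU _
  haveI locC : IsLocalization.AtPrime (X.presheaf.stalk x)
      (U.2.primeIdealOf (⟨x, hxU⟩ : U.1)).asIdeal := U.2.isLocalization_stalk ⟨x, hxU⟩
  haveI locA' : IsLocalization.AtPrime (S.presheaf.stalk (f x))
      (V.2.primeIdealOf (⟨f x, hfxV⟩ : V.1)).asIdeal := V.2.isLocalization_stalk ⟨f x, hfxV⟩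
  haveI := q
  have q' := flat_quotient_map_of_isLocalization (A := Γ(S, V.1)) (C := X.presheaf.stalk x)
    (U.2.primeIdealOf (⟨x, hxU⟩ : U.1)).asIdeal.primeCompl (Ideal.span {t})
  rw [Ideal.map_span, Set.image_singleton] at q'
  haveI := q'
  have ht' : algebraMap Γ(X, U.1) (X.presheaf.stalk x) t ∈
      nonZeroDivisors (X.presheaf.stalk x) :=
    BlowupIso.germ_mem_nonZeroDivisors U.2 t ht x hxU
  have htm : algebraMap Γ(X, U.1) (X.presheaf.stalk x) t ∈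
      IsLocalRing.maximalIdeal (X.presheaf.stalk x) := by
    rw [IsLocalRing.mem_maximalIdeal, mem_nonunits_iff]
    intro hu
    have hxt : x ∈ X.basicOpen t := (X.mem_basicOpen t x hxU).mpr hu
    have h1 : x ∈ U.1 ⊓ 𝓘.support.compl := by
      rw [CartierDense.inf_compl_eq_basicOpen 𝓘 U t hI]; exact hxt
    exact h1.2 hx
  have hflatAC : Module.Flat Γ(S, V.1) (X.presheaf.stalk x) :=
    flat_of_flat_quotient_of_local _ ht' htm
  have hflatA'C : Module.Flat (S.presheaf.stalk (f x)) (X.presheaf.stalk x) :=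
    (Module.flat_iff_of_isLocalization (S.presheaf.stalk (f x))
      (V.2.primeIdealOf (⟨f x, hfxV⟩ : V.1)).asIdeal.primeCompl (X.presheaf.stalk x)).mpr hflatAC
  exact hflatA'C

end Groth.Agent.Helper4.RelCartier
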