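import Groth.Agent.Lib.Helper4.MaxComm
import Mathlib.FieldTheory.JacobsonNoether
import Mathlib.FieldTheory.SeparableDegree
import Mathlib.FieldTheory.SeparableClosure

/-!
# Separable maximal commutative subalgebras of central division algebras
-/

namespace Groth.Agent.Helper4

section Synonyms

variable {k D : Type*} [Field k] [DivisionRing D] [Algebra k D]

/-- `L` is a commutative subalgebra. -/
def IsCommSub (L : Subalgebra k D) : Prop := ∀ x ∈ L, ∀ y ∈ L, x * y = y * x

/-- A commutative subalgebra of a division algebra, as a type carrying a field structure. -/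
def Fld (L : Subalgebra k D) : Type _ := ↥L

/-- A subalgebra of a division algebra, as a type carrying a division ring structure. -/
def Dv (C : Subalgebra k D) : Type _ := ↥C

variable (L : Subalgebra k D)

noncomputable instance : Ring (Fld L) := inferInstanceAs (Ring ↥L)

noncomputable instance : Algebra k (Fld L) := inferInstanceAs (Algebra k ↥L)

instance : IsDomain (Fld L) := inferInstanceAs (IsDomain ↥L)

instance [FiniteDimensional k D] : FiniteDimensional k (Fld L) :=
  inferInstanceAs (FiniteDimensional k ↥L)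

noncomputable instance [h : Fact (IsCommSub L)] : CommRing (Fld L) :=
  { (inferInstance : Ring (Fld L)) with
    mul_comm := fun a b => Subtype.ext (h.out a.1 a.2 b.1 b.2) }

noncomputable instance [Fact (IsCommSub L)] [FiniteDimensional k D] : Field (Fld L) :=
  fieldOfFiniteDimensional k (Fld L)

noncomputable instance : Ring (Dv L) := inferInstanceAs (Ring ↥L)

noncomputable instance : Algebra k (Dv L) := inferInstanceAs (Algebra k ↥L)

instance : IsDomain (Dv L) := inferInstanceAs (IsDomain ↥L)

instance [FiniteDimensional k D] : FiniteDimensional k (Dv L) :=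
  inferInstanceAs (FiniteDimensional k ↥L)

noncomputable instance [FiniteDimensional k D] : DivisionRing (Dv L) :=
  divisionRingOfFiniteDimensional k (Dv L)

/-- constructor for elements of `Dv L` -/
def Dv.mk (y : D) (hy : y ∈ L) : Dv L := ⟨y, hy⟩

/-- constructor for elements of `Fld L` -/
def Fld.mk (y : D) (hy : y ∈ L) : Fld L := ⟨y, hy⟩

/-- the inclusion `Fld L → D` -/
def Fld.valHom [Fact (IsCommSub L)] : Fld L →ₐ[k] D where
  toFun y := y.1
  map_one' := rfl
  map_mul' _ _ := rfl
  map_zero' := rfl
  map_add' _ _ := rfl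
  commutes' _ := rfl

lemma isSeparable_val_iff [Fact (IsCommSub L)] (y : Fld L) :
    IsSeparable k (y.1 : D) ↔ IsSeparable k y := by
  unfold IsSeparable
  rw [← minpoly.algHom_eq (Fld.valHom L) (fun a b h => Subtype.ext h) y]
  rfl

variable {L}

lemma IsCommSub.le_centralizer (h : IsCommSub L) :
    L ≤ Subalgebra.centralizer k (L : Set D) :=
  fun y hy => (Subalgebra.mem_centralizer_iff k).2 (fun g hg => h g hg y hy)

noncomputable instance algFldDv [h : Fact (IsCommSub L)] :
    Algebra (Fld L) (Dv (Subalgebra.centralizer k (L : Set D))) :=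
  RingHom.toAlgebra'
    { toFun := fun y => ⟨y.1, h.out.le_centralizer y.2⟩
      map_one' := rfl
      map_mul' := fun _ _ => rfl
      map_zero' := rfl
      map_add' := fun _ _ => rfl }
    (fun y z => Subtype.ext (z.2 y.1 y.2))

instance [Fact (IsCommSub L)] :
    IsScalarTower k (Fld L) (Dv (Subalgebra.centralizer k (L : Set D))) :=
  IsScalarTower.of_algebraMap_eq (fun _ => rfl)

end Synonyms

section Main

variable {k D : Type*} [Field k] [DivisionRing D] [Algebra k D] [FiniteDimensional k D]

/-- If `L` is commutative with separable elements and `x` is separable and commutes with `L`,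
all elements of `k[L, x]` are separable. -/
lemma adjoin_isSeparable (L : Subalgebra k D) (x : D)
    (hM : IsCommSub (Algebra.adjoin k ((L : Set D) ∪ {x})))
    (hL : ∀ y ∈ L, IsSeparable k y) (hx : IsSeparable k x) :
    ∀ y ∈ Algebra.adjoin k ((L : Set D) ∪ {x}), IsSeparable k y := by
  have : Fact (IsCommSub (Algebra.adjoin k ((L : Set D) ∪ {x}))) := ⟨hM⟩
  let T : Subalgebra k D :=
    (separableClosure k (Fld (Algebra.adjoin k ((L : Set D) ∪ {x})))).toSubalgebra.map
      (Fld.valHom (Algebra.adjoin k ((L : Set D) ∪ {x})))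
  have hST : ((L : Set D) ∪ {x}) ⊆ T := by
    intro y hyS
    have hyM : y ∈ Algebra.adjoin k ((L : Set D) ∪ {x}) := Algebra.subset_adjoin hyS
    refine ⟨Fld.mk _ y hyM, ?_, rfl⟩
    change IsSeparable k (Fld.mk _ y hyM)
    rw [← isSeparable_val_iff]
    change IsSeparable k y
    rcases hyS with h | h
    · exact hL y h
    · rw [Set.mem_singleton_iff] at h
      rw [h]
      exact hx
  intro y hy
  obtain ⟨z, hz, rfl⟩ := Algebra.adjoin_le hST hy
  exact (isSeparable_val_iff _ z).2 hz

variable [Algebra.IsCentral k D]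

/-- A commutative separable subalgebra which is not its own centralizer can be enlarged. -/
lemma exists_larger_separable (L : Subalgebra k D) (hLc : IsCommSub L)
    (hLs : ∀ y ∈ L, IsSeparable k y) (hne : Subalgebra.centralizer k (L : Set D) ≠ L) :
    ∃ M : Subalgebra k D, IsCommSub M ∧ (∀ y ∈ M, IsSeparable k y) ∧ L ≤ M ∧ M ≠ L := by
  have : Fact (IsCommSub L) := ⟨hLc⟩
  have hLC : L ≤ Subalgebra.centralizer k (L : Set D) := hLc.le_centralizer
  have hLsimple : IsSimpleRing L := isSimpleRing_subalgebra_divisionRing k D L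
  have hCC : Subalgebra.centralizer k (Subalgebra.centralizer k (L : Set D) : Set D) = L :=
    centralizer_centralizer_eq k D L
  have : Algebra.IsCentral (Fld L) (Dv (Subalgebra.centralizer k (L : Set D))) := by
    constructor
    intro z hz
    rw [Subalgebra.mem_center_iff] at hz
    have hzCC : z.1 ∈ Subalgebra.centralizer k
        (Subalgebra.centralizer k (L : Set D) : Set D) := by
      rw [Subalgebra.mem_centralizer_iff]
      intro g hg
      exact congrArg Subtype.val (hz (Dv.mk _ g hg))
    have hzL : z.1 ∈ L := (SetLike.ext_iff.1 hCC z.1).1 hzCC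
    rw [Algebra.mem_bot]
    exact ⟨Fld.mk L z.1 hzL, rfl⟩
  have hneq : (⊥ : Subalgebra (Fld L) (Dv (Subalgebra.centralizer k (L : Set D)))) ≠ ⊤ := by
    intro h
    apply hne
    apply le_antisymm _ hLC
    intro g hg
    have hmem : Dv.mk (Subalgebra.centralizer k (L : Set D)) g hg ∈
        (⊥ : Subalgebra (Fld L) (Dv (Subalgebra.centralizer k (L : Set D)))) := by
      rw [h]
      trivial
    rw [Algebra.mem_bot] at hmem
    obtain ⟨y, hy⟩ := hmem
    have hyg : y.1 = g := congrArg Subtype.val hy
    rw [← hyg]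
    exact y.2
  have : Module.Finite (Fld L) (Dv (Subalgebra.centralizer k (L : Set D))) :=
    Module.Finite.of_restrictScalars_finite k _ _
  have : Algebra.IsAlgebraic (Fld L) (Dv (Subalgebra.centralizer k (L : Set D))) :=
    Algebra.IsAlgebraic.of_finite _ _
  obtain ⟨x, hx, hxsep⟩ := JacobsonNoether.exists_separable_and_not_isCentral' hneq
  have hxL : x.1 ∉ L := fun h => hx (Algebra.mem_bot.2 ⟨Fld.mk L x.1 h, rfl⟩)
  have hxC : x.1 ∈ Subalgebra.centralizer k (L : Set D) := x.2
  -- the enlarged subalgebra
  have hSS : ((L : Set D) ∪ {x.1}) ⊆ Subalgebra.centralizer k ((L : Set D) ∪ {x.1}) := by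
    intro s hs
    rw [SetLike.mem_coe, Subalgebra.mem_centralizer_iff]
    intro t ht
    rcases hs with hs | hs <;> rcases ht with ht | ht
    · exact hLc t ht s hs
    · rw [Set.mem_singleton_iff] at ht
      rw [ht]
      exact ((Subalgebra.mem_centralizer_iff k).1 hxC s hs).symm
    · rw [Set.mem_singleton_iff] at hs
      rw [hs]
      exact (Subalgebra.mem_centralizer_iff k).1 hxC t ht
    · rw [Set.mem_singleton_iff] at hs ht
      rw [hs, ht]
  have hMle : Algebra.adjoin k ((L : Set D) ∪ {x.1}) ≤
      Subalgebra.centralizer k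
        (Subalgebra.centralizer k ((L : Set D) ∪ {x.1}) : Set D) :=
    Algebra.adjoin_le Set.subset_centralizer_centralizer
  have hMc : IsCommSub (Algebra.adjoin k ((L : Set D) ∪ {x.1})) := by
    intro a ha b hb
    have ha' := hMle ha
    have hb' : b ∈ Subalgebra.centralizer k ((L : Set D) ∪ {x.1}) :=
      Subalgebra.centralizer_le k _ _ hSS (hMle hb)
    rw [Subalgebra.mem_centralizer_iff] at ha'
    exact (ha' b hb').symm
  have hLM : L ≤ Algebra.adjoin k ((L : Set D) ∪ {x.1}) :=
    fun y hy => Algebra.subset_adjoin (Or.inl hy)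
  have hxM : x.1 ∈ Algebra.adjoin k ((L : Set D) ∪ {x.1}) :=
    Algebra.subset_adjoin (Or.inr rfl)
  have hMC : Algebra.adjoin k ((L : Set D) ∪ {x.1}) ≤ Subalgebra.centralizer k (L : Set D) := by
    apply Algebra.adjoin_le
    rintro y (hy | hy)
    · exact hLC hy
    · rw [Set.mem_singleton_iff] at hy
      rw [hy]
      exact hxC
  have : Fact (IsCommSub (Algebra.adjoin k ((L : Set D) ∪ {x.1}))) := ⟨hMc⟩
  let algLM : Algebra (Fld L) (Fld (Algebra.adjoin k ((L : Set D) ∪ {x.1}))) :=
    RingHom.toAlgebra
      { toFun := fun y => ⟨y.1, hLM y.2⟩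
        map_one' := rfl
        map_mul' := fun _ _ => rfl
        map_zero' := rfl
        map_add' := fun _ _ => rfl }
  have : IsScalarTower k (Fld L) (Fld (Algebra.adjoin k ((L : Set D) ∪ {x.1}))) :=
    IsScalarTower.of_algebraMap_eq (fun _ => rfl)
  let j : Fld (Algebra.adjoin k ((L : Set D) ∪ {x.1})) →ₐ[Fld L]
      Dv (Subalgebra.centralizer k (L : Set D)) :=
    { toFun := fun y => ⟨y.1, hMC y.2⟩
      map_one' := rfl
      map_mul' := fun _ _ => rfl
      map_zero' := rfl
      map_add' := fun _ _ => rfl
      commutes' := fun _ => rfl }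
  have hj : Function.Injective j := by
    intro a b h
    have h' : (j a).1 = (j b).1 := congrArg Subtype.val h
    exact Subtype.ext h'
  have hx'sep : IsSeparable (Fld L)
      (Fld.mk (Algebra.adjoin k ((L : Set D) ∪ {x.1})) x.1 hxM) := by
    have h1 := minpoly.algHom_eq j hj (Fld.mk _ x.1 hxM)
    unfold IsSeparable
    rw [← h1]
    exact hxsep
  have : Algebra.IsSeparable k (Fld L) :=
    ⟨fun y => (isSeparable_val_iff L y).1 (hLs y.1 y.2)⟩
  have hx'k : IsSeparable k
      (Fld.mk (Algebra.adjoin k ((L : Set D) ∪ {x.1})) x.1 hxM) :=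
    IsSeparable.of_algebra_isSeparable_of_isSeparable k (E := Fld L) hx'sep
  have hxk : IsSeparable k x.1 := (isSeparable_val_iff _ (Fld.mk _ x.1 hxM)).2 hx'k
  refine ⟨Algebra.adjoin k ((L : Set D) ∪ {x.1}), hMc,
    adjoin_isSeparable L x.1 hMc hLs hxk, hLM, ?_⟩
  intro h
  exact hxL ((SetLike.ext_iff.1 h x.1).1 hxM)

/-- A finite-dimensional central division algebra contains a maximal commutative subalgebra which
is separable over the base field. -/
theorem exists_maximal_commutative_separable (k D : Type*) [Field k] [DivisionRing D]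
    [Algebra k D] [Algebra.IsCentral k D] [FiniteDimensional k D] :
    ∃ L : Subalgebra k D, (∀ x ∈ L, ∀ y ∈ L, x * y = y * x) ∧
      (∀ L' : Subalgebra k D, (∀ x ∈ L', ∀ y ∈ L', x * y = y * x) → L ≤ L' → L' = L) ∧
      Algebra.IsSeparable k L := by
  classical
  let P : ℕ → Prop := fun n => ∃ L : Subalgebra k D, IsCommSub L ∧
    (∀ y ∈ L, IsSeparable k y) ∧ Module.finrank k D - Module.finrank k L = n
  have hP : ∃ n, P n := by
    refine ⟨_, ⊥, ?_, ?_, rfl⟩
    · intro x hx y hy
      rw [Algebra.mem_bot] at hx hy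
      obtain ⟨a, rfl⟩ := hx
      obtain ⟨b, rfl⟩ := hy
      rw [← map_mul, ← map_mul, mul_comm]
    · intro y hy
      rw [Algebra.mem_bot] at hy
      obtain ⟨a, rfl⟩ := hy
      exact isSeparable_algebraMap a
  obtain ⟨L, hLc, hLs, hLn⟩ := Nat.find_spec hP
  have hmax : ∀ M : Subalgebra k D, IsCommSub M → (∀ y ∈ M, IsSeparable k y) → L ≤ M →
      M = L := by
    intro M hMc hMs hLM
    have h1 : Nat.find hP ≤ Module.finrank k D - Module.finrank k M :=
      Nat.find_min' hP ⟨M, hMc, hMs, rfl⟩
    have h2 : Module.finrank k M ≤ Module.finrank k D :=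
      Submodule.finrank_le (Subalgebra.toSubmodule M)
    have h3 : Module.finrank k L ≤ Module.finrank k M :=
      Submodule.finrank_mono (s := Subalgebra.toSubmodule L) (t := Subalgebra.toSubmodule M) hLM
    have h4 : Module.finrank k L = Module.finrank k M := by omega
    symm
    apply Subalgebra.toSubmodule_injective
    exact Submodule.eq_of_le_of_finrank_eq hLM h4
  have hC : Subalgebra.centralizer k (L : Set D) = L := by
    by_contra hne
    obtain ⟨M, hMc, hMs, hLM, hML⟩ := exists_larger_separable L hLc hLs hne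
    exact hML (hmax M hMc hMs hLM)
  refine ⟨L, hLc, ?_, ?_⟩
  · intro L' hL'c hLL'
    apply le_antisymm _ hLL'
    intro y hy
    rw [← hC, Subalgebra.mem_centralizer_iff]
    intro g hg
    exact hL'c g (hLL' hg) y hy
  · constructor
    intro y
    have h1 := minpoly.algHom_eq L.val Subtype.val_injective y
    unfold IsSeparable
    rw [← h1]
    exact hLs y.1 y.2

end Main

end Groth.Agent.Helper4
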