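import Mathlib

/-!
A hypersurface `R[X_σ]/(g)` with one partial derivative a unit modulo `g` is smooth.
-/

set_option autoImplicit false

namespace Groth.Agent.Helper4

open MvPolynomial

universe u

theorem smooth_quotient_span_singleton {R : Type u} [CommRing R] {σ : Type} [Finite σ]
    (g : MvPolynomial σ R) (i : σ)
    (h : IsUnit (Ideal.Quotient.mk (Ideal.span ({g} : Set (MvPolynomial σ R))) (pderiv i g))) :
    Algebra.Smooth R (MvPolynomial σ R ⧸ Ideal.span ({g} : Set (MvPolynomial σ R))) := by
  classical
  let v : Unit → MvPolynomial σ R := fun _ => g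
  have hv : Set.range v = {g} := Set.range_const
  let P0 : Algebra.PreSubmersivePresentation R
      (MvPolynomial σ R ⧸ (Ideal.span (Set.range v))) σ Unit :=
    Algebra.PreSubmersivePresentation.naive (v := v) (fun _ => i) (fun a b _ => Subsingleton.elim a b)
  have hjac : IsUnit P0.jacobian := by
    rw [Algebra.PreSubmersivePresentation.jacobian_eq_jacobiMatrix_det, Matrix.det_unique,
      Algebra.PreSubmersivePresentation.jacobiMatrix_naive]
    show IsUnit (Ideal.Quotient.mk (Ideal.span (Set.range v)) (pderiv i g))
    rw [hv]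
    exact h
  let P : Algebra.SubmersivePresentation R
      (MvPolynomial σ R ⧸ (Ideal.span (Set.range v))) σ Unit := ⟨P0, hjac⟩
  haveI : Algebra.IsStandardSmooth R (MvPolynomial σ R ⧸ (Ideal.span (Set.range v))) :=
    P.isStandardSmooth
  have hsm : Algebra.Smooth R (MvPolynomial σ R ⧸ (Ideal.span (Set.range v))) := inferInstance
  exact Algebra.Smooth.of_equiv (Ideal.quotientEquivAlgOfEq R (congrArg Ideal.span hv))

end Groth.Agent.Helper4
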