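import Mathlib.Topology.Spectral.ConstructibleTopology
import Mathlib.Topology.Connected.TotallyDisconnected
import Mathlib.Topology.Connected.Clopen
import Mathlib.Topology.Inseparable
import Mathlib.Tactic

/-!
# Spectral spaces: compactness of the constructible topology and clopen decompositions
-/

namespace Groth.Agent.Helper4

open Topology Set

section
variable {X : Type*} [TopologicalSpace X]

theorem compactSpace_constructible [SpectralSpace X] :
    @CompactSpace X (constructibleTopology X) :=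
  @Function.Surjective.compactSpace (WithConstructibleTopology X) X _ (constructibleTopology X)
    WithTopology.ofTopology (WithTopology.continuous_ofTopology _) _
    (WithTopology.ofTopology_surjective _)

theorem isClosed_constructible_of_isOpen_isCompact {s : Set X} (ho : IsOpen s)
    (hc : IsCompact s) : IsClosed[constructibleTopology X] s :=
  @IsClosed.mk X (constructibleTopology X) s
    (IsCompact.isOpen_constructibleTopology_of_isClosed (by rwa [compl_compl]) ho.isClosed_compl)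

theorem isOpen_constructible_of_isOpen [PrespectralSpace X] {s : Set X} (ho : IsOpen s) :
    IsOpen[constructibleTopology X] s := by
  obtain ⟨S, hS, rfl⟩ := PrespectralSpace.isTopologicalBasis.open_eq_sUnion ho
  have h : ∀ t ∈ S, IsOpen[constructibleTopology X] t := fun t ht =>
    IsCompact.isOpen_constructibleTopology_of_isOpen (hS ht).2 (hS ht).1
  let _ : TopologicalSpace X := constructibleTopology X
  exact isOpen_sUnion h

theorem isClosed_constructible_of_isClosed [PrespectralSpace X] {s : Set X} (hc : IsClosed s) :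
    IsClosed[constructibleTopology X] s :=
  @IsClosed.mk X (constructibleTopology X) s (isOpen_constructible_of_isOpen hc.isOpen_compl)

theorem isClosed_constructible_inter {s t : Set X} (hs : IsClosed[constructibleTopology X] s)
    (ht : IsClosed[constructibleTopology X] t) : IsClosed[constructibleTopology X] (s ∩ t) := by
  let _ : TopologicalSpace X := constructibleTopology X
  exact hs.inter ht

/-- Compactness of the constructible topology, in finite-intersection form. -/
theorem exists_finset_iInter_eq_empty [SpectralSpace X] {ι : Type*} (t : ι → Set X)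
    (ht : ∀ i, IsClosed[constructibleTopology X] (t i)) (h : ⋂ i, t i = ∅) :
    ∃ u : Finset ι, ⋂ i ∈ u, t i = ∅ := by
  have hcs := compactSpace_constructible (X := X)
  let _ : TopologicalSpace X := constructibleTopology X
  have : CompactSpace X := hcs
  obtain ⟨u, hu⟩ := isCompact_univ.elim_finite_subfamily_closed t ht (by rw [h, inter_empty])
  exact ⟨u, by rwa [univ_inter] at hu⟩

theorem exists_isCompact_isOpen_superset [SpectralSpace X] {Z : Set X} (hZ : IsClosed Z)
    {O : Set X} (hO : IsOpen O) (hZO : Z ⊆ O) :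
    ∃ V : Set X, IsOpen V ∧ IsCompact V ∧ Z ⊆ V ∧ V ⊆ O := by
  have hZc : IsCompact Z := hZ.isCompact
  have : ∀ z ∈ Z, ∃ B : Set X, (IsOpen B ∧ IsCompact B) ∧ z ∈ B ∧ B ⊆ O := fun z hz =>
    PrespectralSpace.isTopologicalBasis.exists_subset_of_mem_open (hZO hz) hO
  choose! B hB hzB hBO using this
  obtain ⟨t, ht⟩ := hZc.elim_nhds_subcover' (fun z _ => B z)
    (fun z hz => (hB z hz).1.mem_nhds (hzB z hz))
  refine ⟨⋃ z ∈ t, B z, isOpen_biUnion fun z _ => (hB z z.2).1,
    t.isCompact_biUnion fun z _ => (hB z z.2).2, ht, ?_⟩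
  exact iUnion₂_subset fun z _ => hBO z z.2

/-- A clopen decomposition of a closed subset meeting every point closure in a connected set
lifts to the whole spectral space. -/
theorem clopen_decomposition [SpectralSpace X]
    (Z : Set X) (_hZ : IsClosed Z)
    (hconn : ∀ x : X, IsConnected (Z ∩ closure {x}))
    (Z₁ Z₂ : Set X) (h₁ : IsClosed Z₁) (h₂ : IsClosed Z₂) (hdisj : Disjoint Z₁ Z₂)
    (hunion : Z₁ ∪ Z₂ = Z) :
    ∃ X₁ X₂ : Set X, IsClosed X₁ ∧ IsClosed X₂ ∧ Disjoint X₁ X₂ ∧ X₁ ∪ X₂ = Set.univ ∧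
      Z₁ = Z ∩ X₁ ∧ Z₂ = Z ∩ X₂ := by
  classical
  let G₁ : Set X := {x | ∃ z ∈ Z₁, x ⤳ z}
  let G₂ : Set X := {x | ∃ z ∈ Z₂, x ⤳ z}
  have hG₁def : ∀ x, x ∈ G₁ ↔ ∃ z ∈ Z₁, x ⤳ z := fun x => Iff.rfl
  have hG₂def : ∀ x, x ∈ G₂ ↔ ∃ z ∈ Z₂, x ⤳ z := fun x => Iff.rfl
  have hZ₁Z : Z₁ ⊆ Z := by rw [← hunion]; exact subset_union_left
  have hZ₂Z : Z₂ ⊆ Z := by rw [← hunion]; exact subset_union_right
  have hcover : ∀ x, x ∈ G₁ ∨ x ∈ G₂ := by
    intro x
    obtain ⟨z, hzZ, hzx⟩ := (hconn x).nonempty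
    rw [← hunion] at hzZ
    rcases hzZ with hz | hz
    · exact Or.inl ((hG₁def x).2 ⟨z, hz, specializes_iff_mem_closure.2 hzx⟩)
    · exact Or.inr ((hG₂def x).2 ⟨z, hz, specializes_iff_mem_closure.2 hzx⟩)
  have hGdisj : ∀ x, x ∈ G₁ → x ∈ G₂ → False := by
    intro x hx1 hx2
    obtain ⟨z₁, hz₁, hxz₁⟩ := (hG₁def x).1 hx1
    obtain ⟨z₂, hz₂, hxz₂⟩ := (hG₂def x).1 hx2
    have hpre := (hconn x).isPreconnected
    rw [isPreconnected_closed_iff] at hpre
    have hsub : Z ∩ closure {x} ⊆ Z₁ ∪ Z₂ := by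
      rw [hunion]
      exact inter_subset_left
    obtain ⟨y, -, hy1, hy2⟩ := hpre Z₁ Z₂ h₁ h₂ hsub
      ⟨z₁, ⟨hZ₁Z hz₁, specializes_iff_mem_closure.1 hxz₁⟩, hz₁⟩
      ⟨z₂, ⟨hZ₂Z hz₂, specializes_iff_mem_closure.1 hxz₂⟩, hz₂⟩
    exact Set.disjoint_left.1 hdisj hy1 hy2
  let ι := {p : Set X × Set X // (IsOpen p.1 ∧ IsCompact p.1 ∧ Z₁ ⊆ p.1) ∧
    (IsOpen p.2 ∧ IsCompact p.2 ∧ Z₂ ⊆ p.2)}
  let t : ι → Set X := fun p => p.1.1 ∩ p.1.2
  have ht : ∀ p : ι, IsClosed[constructibleTopology X] (t p) := fun p =>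
    isClosed_constructible_of_isOpen_isCompact (p.2.1.1.inter p.2.2.1)
      (p.2.1.2.1.inter_of_isOpen p.2.2.2.1 p.2.1.1 p.2.2.1)
  have hempty : ⋂ p, t p = ∅ := by
    rw [Set.eq_empty_iff_forall_notMem]
    intro x hx
    rw [Set.mem_iInter] at hx
    rcases hcover x with hx1 | hx2
    · have hsub2 : Z₂ ⊆ (closure {x})ᶜ := by
        intro z hz hzx
        exact hGdisj x hx1 ((hG₂def x).2 ⟨z, hz, specializes_iff_mem_closure.2 hzx⟩)
      obtain ⟨V, hVo, hVc, hZV, hVO⟩ :=
        exists_isCompact_isOpen_superset h₂ isClosed_closure.isOpen_compl hsub2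
      have hmem := hx ⟨(Set.univ, V), ⟨isOpen_univ, isCompact_univ, subset_univ _⟩,
        ⟨hVo, hVc, hZV⟩⟩
      exact hVO hmem.2 (subset_closure (mem_singleton x))
    · have hsub1 : Z₁ ⊆ (closure {x})ᶜ := by
        intro z hz hzx
        exact hGdisj x ((hG₁def x).2 ⟨z, hz, specializes_iff_mem_closure.2 hzx⟩) hx2
      obtain ⟨V, hVo, hVc, hZV, hVO⟩ :=
        exists_isCompact_isOpen_superset h₁ isClosed_closure.isOpen_compl hsub1
      have hmem := hx ⟨(V, Set.univ), ⟨hVo, hVc, hZV⟩,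
        ⟨isOpen_univ, isCompact_univ, subset_univ _⟩⟩
      exact hVO hmem.1 (subset_closure (mem_singleton x))
  obtain ⟨u, hu⟩ := exists_finset_iInter_eq_empty t ht hempty
  let U : Set X := ⋂ p ∈ u, (p : ι).1.1
  let V : Set X := ⋂ p ∈ u, (p : ι).1.2
  have hUo : IsOpen U := isOpen_biInter_finset fun p _ => p.2.1.1
  have hVo : IsOpen V := isOpen_biInter_finset fun p _ => p.2.2.1
  have hZ₁U : Z₁ ⊆ U := Set.subset_iInter₂ fun p _ => p.2.1.2.2
  have hZ₂V : Z₂ ⊆ V := Set.subset_iInter₂ fun p _ => p.2.2.2.2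
  have hUV : ∀ x, x ∈ U → x ∈ V → False := by
    intro x hxU hxV
    have hmem : x ∈ ⋂ p ∈ u, t p := by
      rw [Set.mem_iInter₂]
      intro p hp
      exact ⟨Set.mem_iInter₂.1 hxU p hp, Set.mem_iInter₂.1 hxV p hp⟩
    rw [hu] at hmem
    exact hmem
  have hG₁U : G₁ ⊆ U := by
    intro x hx
    obtain ⟨z, hz, hxz⟩ := (hG₁def x).1 hx
    exact hxz.mem_open hUo (hZ₁U hz)
  have hG₂V : G₂ ⊆ V := by
    intro x hx
    obtain ⟨z, hz, hxz⟩ := (hG₂def x).1 hx
    exact hxz.mem_open hVo (hZ₂V hz)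
  have hG₁eq : G₁ = U := by
    refine Set.Subset.antisymm hG₁U fun x hxU => ?_
    rcases hcover x with h | h
    · exact h
    · exact (hUV x hxU (hG₂V h)).elim
  have hG₂eq : G₂ = V := by
    refine Set.Subset.antisymm hG₂V fun x hxV => ?_
    rcases hcover x with h | h
    · exact (hUV x (hG₁U h) hxV).elim
    · exact h
  have hG₁o : IsOpen G₁ := by rw [hG₁eq]; exact hUo
  have hG₂o : IsOpen G₂ := by rw [hG₂eq]; exact hVo
  have hcompl : G₁ᶜ = G₂ := by
    ext x
    constructor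
    · intro hx
      rcases hcover x with h | h
      · exact (hx h).elim
      · exact h
    · intro hx h
      exact hGdisj x h hx
  refine ⟨G₁, G₂, ?_, ?_, ?_, ?_, ?_, ?_⟩
  · rw [← isOpen_compl_iff, hcompl]
    exact hG₂o
  · rw [← hcompl]
    exact hG₁o.isClosed_compl
  · exact Set.disjoint_left.2 fun x h1 h2 => hGdisj x h1 h2
  · ext x
    simp only [Set.mem_union, Set.mem_univ, iff_true]
    exact hcover x
  · ext z
    constructor
    · intro hz
      exact ⟨hZ₁Z hz, (hG₁def z).2 ⟨z, hz, specializes_rfl⟩⟩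
    · rintro ⟨hzZ, hzG⟩
      rw [← hunion] at hzZ
      rcases hzZ with h | h
      · exact h
      · exact (hGdisj z hzG ((hG₂def z).2 ⟨z, h, specializes_rfl⟩)).elim
  · ext z
    constructor
    · intro hz
      exact ⟨hZ₂Z hz, (hG₂def z).2 ⟨z, hz, specializes_rfl⟩⟩
    · rintro ⟨hzZ, hzG⟩
      rw [← hunion] at hzZ
      rcases hzZ with h | h
      · exact (hGdisj z ((hG₁def z).2 ⟨z, h, specializes_rfl⟩) hzG).elim
      · exact h

/-- In a spectral space, if `X₀` is a closed set of closed points and `U` is compact open then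
`X₀ ∩ U` is closed. -/
theorem isClosed_inter_of_closedPoints [SpectralSpace X] {X₀ : Set X} (hX₀ : IsClosed X₀)
    (hpt : ∀ x ∈ X₀, IsClosed ({x} : Set X)) {U : Set X} (hUo : IsOpen U) (hUc : IsCompact U) :
    IsClosed (X₀ ∩ U) := by
  rw [← closure_subset_iff_isClosed]
  intro y hy
  by_contra hyn
  let ι := {V : Set X // IsOpen V ∧ IsCompact V ∧ y ∈ V}
  let t : ι → Set X := fun V => (X₀ ∩ U) ∩ V.1
  have ht : ∀ V : ι, IsClosed[constructibleTopology X] (t V) := fun V =>
    isClosed_constructible_inter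
      (isClosed_constructible_inter (isClosed_constructible_of_isClosed hX₀)
        (isClosed_constructible_of_isOpen_isCompact hUo hUc))
      (isClosed_constructible_of_isOpen_isCompact V.2.1 V.2.2.1)
  have hempty : ⋂ V, t V = ∅ := by
    rw [Set.eq_empty_iff_forall_notMem]
    intro x hx
    rw [Set.mem_iInter] at hx
    have hxXU : x ∈ X₀ ∩ U := (hx ⟨Set.univ, isOpen_univ, isCompact_univ, mem_univ y⟩).1
    have hspec : x ⤳ y := by
      rw [specializes_iff_forall_open]
      intro s hs hys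
      obtain ⟨B, ⟨hBo, hBc⟩, hyB, hBs⟩ :=
        PrespectralSpace.isTopologicalBasis.exists_subset_of_mem_open hys hs
      exact hBs (hx ⟨B, hBo, hBc, hyB⟩).2
    have hyx : y ∈ closure ({x} : Set X) := specializes_iff_mem_closure.1 hspec
    rw [(hpt x hxXU.1).closure_eq, mem_singleton_iff] at hyx
    rw [hyx] at hyn
    exact hyn hxXU
  obtain ⟨u, hu⟩ := exists_finset_iInter_eq_empty t ht hempty
  let W : Set X := ⋂ V ∈ u, (V : ι).1
  have hWo : IsOpen W := isOpen_biInter_finset fun V _ => V.2.1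
  have hyW : y ∈ W := Set.mem_iInter₂.2 fun V _ => V.2.2.2
  obtain ⟨x, hxW, hxXU⟩ := mem_closure_iff.1 hy W hWo hyW
  have hmem : x ∈ ⋂ V ∈ u, t V := by
    rw [Set.mem_iInter₂]
    intro V hV
    exact ⟨hxXU, Set.mem_iInter₂.1 hxW V hV⟩
  rw [hu] at hmem
  exact hmem

theorem isClosed_constructible_union {s t : Set X} (hs : IsClosed[constructibleTopology X] s)
    (ht : IsClosed[constructibleTopology X] t) : IsClosed[constructibleTopology X] (s ∪ t) := by
  let _ : TopologicalSpace X := constructibleTopology X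
  exact hs.union ht

theorem quasiComponent_aux [SpectralSpace X] (x : X) (P Q : Set X) (hP : IsClosed P)
    (hQ : IsClosed Q) (hPQ : Disjoint P Q)
    (hS : P ∪ Q = ⋂ s : {s : Set X // IsClopen s ∧ x ∈ s}, s.1) (hx : x ∈ P) : Q = ∅ := by
  obtain ⟨U, hUo, hUc, hPU, hUQ⟩ := exists_isCompact_isOpen_superset hP hQ.isOpen_compl
    (fun y hy hyQ => Set.disjoint_left.1 hPQ hy hyQ)
  obtain ⟨V, hVo, hVc, hQV, hVP⟩ := exists_isCompact_isOpen_superset hQ hP.isOpen_compl
    (fun y hy hyP => Set.disjoint_left.1 hPQ hyP hy)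
  let bad : Set X := (U ∪ V)ᶜ ∪ (U ∩ V)
  have hbad : IsClosed[constructibleTopology X] bad :=
    isClosed_constructible_union
      (isClosed_constructible_of_isClosed (hUo.union hVo).isClosed_compl)
      (isClosed_constructible_of_isOpen_isCompact (hUo.inter hVo)
        (hUc.inter_of_isOpen hVc hUo hVo))
  let ι := {s : Set X // IsClopen s ∧ x ∈ s}
  let t : ι → Set X := fun s => s.1 ∩ bad
  have ht : ∀ s, IsClosed[constructibleTopology X] (t s) := fun s =>
    isClosed_constructible_inter (isClosed_constructible_of_isClosed s.2.1.isClosed) hbad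
  have hempty : ⋂ s, t s = ∅ := by
    rw [Set.eq_empty_iff_forall_notMem]
    intro y hy
    rw [Set.mem_iInter] at hy
    have hyS : y ∈ P ∪ Q := by
      rw [hS, Set.mem_iInter]
      exact fun s => (hy s).1
    have hybad : y ∈ bad := (hy ⟨Set.univ, isClopen_univ, Set.mem_univ x⟩).2
    rcases hyS with hyP | hyQ
    · rcases hybad with h | h
      · exact h (Or.inl (hPU hyP))
      · exact hVP h.2 hyP
    · rcases hybad with h | h
      · exact h (Or.inr (hQV hyQ))
      · exact hUQ h.1 hyQ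
  obtain ⟨u, hu⟩ := exists_finset_iInter_eq_empty t ht hempty
  let Z : Set X := ⋂ s ∈ u, (s : ι).1
  have hZclopen : IsClopen Z := isClopen_biInter_finset fun s _ => s.2.1
  have hxZ : x ∈ Z := Set.mem_iInter₂.2 fun s _ => s.2.2
  have hZbad : ∀ y ∈ Z, y ∉ bad := by
    intro y hyZ hyb
    have hmem : y ∈ ⋂ s ∈ u, t s := by
      rw [Set.mem_iInter₂]
      intro s hs
      exact ⟨Set.mem_iInter₂.1 hyZ s hs, hyb⟩
    rw [hu] at hmem
    exact hmem
  have hZ₁eq : Z ∩ U = Z ∩ Vᶜ := by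
    ext y
    constructor
    · rintro ⟨hyZ, hyU⟩
      exact ⟨hyZ, fun hyV => hZbad y hyZ (Or.inr ⟨hyU, hyV⟩)⟩
    · rintro ⟨hyZ, hyV⟩
      refine ⟨hyZ, ?_⟩
      by_contra hyU
      exact hZbad y hyZ (Or.inl (fun h => h.elim hyU hyV))
  have hZ₁clopen : IsClopen (Z ∩ U) :=
    ⟨by rw [hZ₁eq]; exact hZclopen.isClosed.inter hVo.isClosed_compl,
      hZclopen.isOpen.inter hUo⟩
  have hxZ₁ : x ∈ Z ∩ U := ⟨hxZ, hPU hx⟩
  have hSsub : P ∪ Q ⊆ Z ∩ U := by
    rw [hS]
    exact Set.iInter_subset (fun s : ι => s.1) ⟨Z ∩ U, hZ₁clopen, hxZ₁⟩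
  rw [Set.eq_empty_iff_forall_notMem]
  intro y hyQ
  exact hUQ (hSsub (Or.inr hyQ)).2 hyQ

/-- In a spectral space, connected components are intersections of clopen sets. -/
theorem connectedComponent_eq_iInter_isClopen_of_spectral [SpectralSpace X] (x : X) :
    connectedComponent x = ⋂ s : {s : Set X // IsClopen s ∧ x ∈ s}, s.1 := by
  refine Set.Subset.antisymm connectedComponent_subset_iInter_isClopen ?_
  have hxS : x ∈ ⋂ s : {s : Set X // IsClopen s ∧ x ∈ s}, s.1 :=
    Set.mem_iInter.2 fun s => s.2.2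
  have hSclosed : IsClosed (⋂ s : {s : Set X // IsClopen s ∧ x ∈ s}, s.1) :=
    isClosed_iInter fun s => s.2.1.isClosed
  refine IsPreconnected.subset_connectedComponent ?_ hxS
  rw [isPreconnected_closed_iff]
  intro A B hA hB hSAB hSA hSB
  by_contra hne
  rw [Set.not_nonempty_iff_eq_empty] at hne
  have hP := hSclosed.inter hA
  have hQ := hSclosed.inter hB
  have hdisj : Disjoint ((⋂ s : {s : Set X // IsClopen s ∧ x ∈ s}, s.1) ∩ A)
      ((⋂ s : {s : Set X // IsClopen s ∧ x ∈ s}, s.1) ∩ B) := by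
    rw [Set.disjoint_left]
    intro y hy1 hy2
    have hmem : y ∈ (⋂ s : {s : Set X // IsClopen s ∧ x ∈ s}, s.1) ∩ (A ∩ B) :=
      ⟨hy1.1, hy1.2, hy2.2⟩
    rw [hne] at hmem
    exact hmem
  have hun : ((⋂ s : {s : Set X // IsClopen s ∧ x ∈ s}, s.1) ∩ A) ∪
      ((⋂ s : {s : Set X // IsClopen s ∧ x ∈ s}, s.1) ∩ B) =
      ⋂ s : {s : Set X // IsClopen s ∧ x ∈ s}, s.1 := by
    rw [← Set.inter_union_distrib_left]
    exact Set.inter_eq_left.2 hSAB
  rcases hSAB hxS with hxA | hxB
  · have h0 := quasiComponent_aux x _ _ hP hQ hdisj hun ⟨hxS, hxA⟩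
    rw [h0] at hSB
    exact Set.not_nonempty_empty hSB
  · have h0 := quasiComponent_aux x _ _ hQ hP hdisj.symm
      (by rw [Set.union_comm]; exact hun) ⟨hxS, hxB⟩
    rw [h0] at hSA
    exact Set.not_nonempty_empty hSA

end

end Groth.Agent.Helper4
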