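import Mathlib

/-!
For a universally closed quasi-separated morphism `f`, the canonical morphism to the relative
normalization identifies structure sheaves.
-/

set_option autoImplicit false
set_option linter.style.haveILetI false

open CategoryTheory CategoryTheory.Limits AlgebraicGeometry AlgebraicGeometry.Scheme TopologicalSpace
  Opposite

namespace Groth.Agent.Helper4.SteinUC

universe u

lemma bijective_of_isLocalization_away {A B A₁ B₁ : Type*} [CommRing A] [CommRing B]
    [CommRing A₁] [CommRing B₁] [Algebra A A₁] [Algebra B B₁] (a : A) (b : B)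
    [IsLocalization.Away a A₁] [IsLocalization.Away b B₁]
    (e : A ≃+* B) (hab : e a = b) (ψ : A₁ →+* B₁)
    (hψ : ∀ x, ψ (algebraMap A A₁ x) = algebraMap B B₁ (e x)) : Function.Bijective ψ := by
  have H : (Submonoid.powers a).map e.toMonoidHom = Submonoid.powers b := by
    rw [Submonoid.map_powers]; congr 1
  have hE : ψ = (IsLocalization.ringEquivOfRingEquiv A₁ B₁ e H : A₁ →+* B₁) := by
    apply IsLocalization.ringHom_ext (Submonoid.powers a)
    ext x
    rw [RingHom.comp_apply, RingHom.comp_apply, hψ]
    exact (IsLocalization.ringEquivOfRingEquiv_eq H x).symm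
  rw [hE]
  exact (IsLocalization.ringEquivOfRingEquiv A₁ B₁ e H).bijective

variable {X S : Scheme.{u}} (f : X ⟶ S)

lemma isIntegral_app [UniversallyClosed f] (V : S.Opens) (hV : IsAffineOpen V) :
    (f.app V).hom.IsIntegral := by
  haveI : IsAffine (V : Scheme.{u}) := hV
  haveI : UniversallyClosed (f ∣_ V) := IsZariskiLocalAtTarget.restrict ‹_› V
  have h' : (f.app (V.ι ''ᵁ ⊤) ≫
      X.presheaf.map (eqToHom (image_morphismRestrict_preimage f V ⊤)).op).hom.IsIntegral := by
    have h := isIntegral_appTop_of_universallyClosed (f ∣_ V)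
    rw [morphismRestrict_appTop] at h
    exact h
  have h2 : (f.app (V.ι ''ᵁ ⊤)).hom.IsIntegral :=
    (RingHom.isIntegral_respectsIso.cancel_right_isIso _ _).mp h'
  have e : V.ι ''ᵁ ⊤ = V := by simp
  exact e ▸ h2

variable [UniversallyClosed f] [QuasiSeparated f]

lemma isIso_app_preimage (V : S.affineOpens) :
    IsIso (f.toNormalization.app (f.fromNormalization ⁻¹ᵁ V.1)) := by
  letI := (f.app V.1).hom.toAlgebra
  have hint : Algebra.IsIntegral Γ(S, V.1) Γ(X, f ⁻¹ᵁ V.1) := ⟨isIntegral_app f V.1 V.2⟩
  have htop : integralClosure Γ(S, V.1) Γ(X, f ⁻¹ᵁ V.1) = ⊤ :=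
    integralClosure_eq_top_iff.mpr hint
  have e := f.toNormalization_app_preimage V
  rw [e]
  refine @IsIso.comp_isIso _ _ _ _ _ _ _ inferInstance
    (@IsIso.comp_isIso _ _ _ _ _ _ _ ?_ inferInstance)
  rw [ConcreteCategory.isIso_iff_bijective]
  constructor
  · exact Subtype.val_injective
  · intro x
    exact ⟨⟨x, htop ▸ Algebra.mem_top⟩, rfl⟩

lemma isIso_app_basicOpen (V : S.affineOpens)
    (a : Γ(f.normalization, f.fromNormalization ⁻¹ᵁ V.1)) :
    IsIso (f.toNormalization.app (f.normalization.basicOpen a)) := by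
  have hW : IsAffineOpen (f.fromNormalization ⁻¹ᵁ V.1) := V.2.preimage f.fromNormalization
  haveI hiso := isIso_app_preimage f V
  have hpre : f.toNormalization ⁻¹ᵁ (f.normalization.basicOpen a) =
      X.basicOpen ((f.toNormalization.app (f.fromNormalization ⁻¹ᵁ V.1)).hom a) :=
    Scheme.preimage_basicOpen f.toNormalization a
  have hcpt : IsCompact (f.toNormalization ⁻¹ᵁ (f.fromNormalization ⁻¹ᵁ V.1) : Set X) :=
    (quasiCompact_iff_forall_isAffineOpen.mp inferInstance) _ hW
  have hqs : IsQuasiSeparated (f.toNormalization ⁻¹ᵁ (f.fromNormalization ⁻¹ᵁ V.1) : Set X) :=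
    f.toNormalization.isQuasiSeparated_preimage hW.isQuasiSeparated
  haveI l1 : IsLocalization.Away a Γ(f.normalization, f.normalization.basicOpen a) :=
    hW.isLocalization_basicOpen a
  haveI l2 : IsLocalization.Away ((f.toNormalization.app (f.fromNormalization ⁻¹ᵁ V.1)).hom a)
      Γ(X, X.basicOpen ((f.toNormalization.app (f.fromNormalization ⁻¹ᵁ V.1)).hom a)) :=
    isLocalization_basicOpen_of_qcqs hcpt hqs _
  have nat : f.normalization.presheaf.map (homOfLE (f.normalization.basicOpen_le a)).op ≫
      f.toNormalization.app (f.normalization.basicOpen a) ≫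
        X.presheaf.map (eqToHom hpre.symm).op =
      f.toNormalization.app (f.fromNormalization ⁻¹ᵁ V.1) ≫ X.presheaf.map (homOfLE
        (X.basicOpen_le ((f.toNormalization.app (f.fromNormalization ⁻¹ᵁ V.1)).hom a))).op := by
    rw [← Category.assoc, f.toNormalization.naturality, Category.assoc, ← Functor.map_comp]
    rfl
  have hbij : Function.Bijective (f.toNormalization.app (f.normalization.basicOpen a) ≫
      X.presheaf.map (eqToHom hpre.symm).op).hom := by
    refine bijective_of_isLocalization_away a
      ((f.toNormalization.app (f.fromNormalization ⁻¹ᵁ V.1)).hom a)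
      (asIso (f.toNormalization.app (f.fromNormalization ⁻¹ᵁ V.1))).commRingCatIsoToRingEquiv rfl
      _ ?_
    intro x
    exact congrArg (fun m => m.hom x) nat
  haveI : IsIso (f.toNormalization.app (f.normalization.basicOpen a) ≫
      X.presheaf.map (eqToHom hpre.symm).op) :=
    (ConcreteCategory.isIso_iff_bijective _).mpr hbij
  exact IsIso.of_isIso_comp_right (f.toNormalization.app (f.normalization.basicOpen a))
    (X.presheaf.map (eqToHom hpre.symm).op)

theorem isIso_app (U : f.normalization.Opens) : IsIso (f.toNormalization.app U) := by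
  let F : TopCat.Sheaf CommRingCat f.normalization := f.normalization.sheaf
  let G : TopCat.Sheaf CommRingCat f.normalization :=
    (TopCat.Sheaf.pushforward CommRingCat f.toNormalization.base).obj X.sheaf
  let φ : F ⟶ G := ⟨f.toNormalization.c⟩
  let B : (Σ V : S.affineOpens, Γ(f.normalization, f.fromNormalization ⁻¹ᵁ V.1)) →
      f.normalization.Opens := fun p => f.normalization.basicOpen p.2
  have hB : Opens.IsBasis (Set.range B) := by
    rw [Opens.isBasis_iff_nbhd]
    intro O x hx
    obtain ⟨_, ⟨V, hV, rfl⟩, hxV, -⟩ :=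
      S.isBasis_affineOpens.exists_subset_of_mem_open (Set.mem_univ (f.fromNormalization x))
        isOpen_univ
    have hW : IsAffineOpen (f.fromNormalization ⁻¹ᵁ V) := hV.preimage f.fromNormalization
    obtain ⟨a, ha1, ha2⟩ := hW.exists_basicOpen_le (V := O) ⟨x, hx⟩ hxV
    exact ⟨_, ⟨⟨⟨V, hV⟩, a⟩, rfl⟩, ha2, ha1⟩
  have hφ : IsIso φ := TopCat.Sheaf.isIso_iff_isIso_basis (B := B) hB
    (fun p => isIso_app_basicOpen f p.1 p.2)
  have h2 : IsIso ((TopCat.Sheaf.forget CommRingCat _).map φ) := inferInstance
  exact NatIso.isIso_app_of_isIso ((TopCat.Sheaf.forget CommRingCat _).map φ) (op U)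

end Groth.Agent.Helper4.SteinUC
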