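import Mathlib

/-!
# Surjective immersions are closed immersions; universally injective morphisms are separated
-/

set_option autoImplicit false
set_option linter.style.haveILetI false

universe u

open CategoryTheory CategoryTheory.Limits AlgebraicGeometry TopologicalSpace

namespace Groth.Agent.Helper4.SurjImm

theorem isClosedImmersion_of_isImmersion_of_surjective {X Y : Scheme.{u}} (f : X ⟶ Y)
    [IsImmersion f] [Surjective f] : IsClosedImmersion f := by
  have hrange : Set.range f = Set.univ := f.surjective.range_eq
  have hsurj : Surjective f.coborderRange.ι := by
    constructor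
    intro y
    have hy : y ∈ (f.coborderRange : Set Y) := by
      show y ∈ coborder (Set.range f)
      rw [hrange, IsClosed.coborder_eq isClosed_univ]
      exact Set.mem_univ y
    exact ⟨⟨y, hy⟩, rfl⟩
  haveI : IsIso f.coborderRange.ι :=
    (isIso_iff_isOpenImmersion_and_surjective _).mpr ⟨inferInstance, hsurj⟩
  rw [← f.liftCoborder_ι]
  infer_instance

theorem isSeparated_of_universallyInjective {X Y : Scheme.{u}} (f : X ⟶ Y)
    [UniversallyInjective f] : IsSeparated f := by
  haveI : Surjective (pullback.diagonal f) :=
    (UniversallyInjective.iff_diagonal f).mp inferInstance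
  exact ⟨isClosedImmersion_of_isImmersion_of_surjective _⟩

end Groth.Agent.Helper4.SurjImm
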