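import Mathlib
import Groth.Prelude.Def_W4c5adicflatcomplDec
import Groth.Agent.Lib.Helper4.DecayingAux
import Groth.Agent.Lib.Helper4.FSAdic
import Groth.Agent.S17544
import Groth.Agent.S17546

/-!
# Inverse limits of flat adic systems are adically free
-/

set_option autoImplicit false
universe u

namespace Groth.Agent.Helper4

open W4c5adicflatcompl

/-- In a tower of surjections every element of every level lifts to a compatible family. -/
theorem exists_compatible_of_surjective : ∀ (n : ℕ) (M : ℕ → Type u)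
    (ψ : ∀ n, M (n + 1) → M n) (_ : ∀ n, Function.Surjective (ψ n)) (y : M n),
    ∃ x : ∀ j, M j, (∀ j, ψ j (x (j + 1)) = x j) ∧ x n = y := by
  intro n
  induction n with
  | zero =>
    intro M ψ hψ y
    refine ⟨fun j => Nat.rec (motive := fun j => M j) y
      (fun j xj => Classical.choose (hψ j xj)) j, fun j => ?_, rfl⟩
    exact Classical.choose_spec (hψ j _)
  | succ n ih =>
    intro M ψ hψ y
    obtain ⟨x', hx', hy⟩ := ih (fun j => M (j + 1)) (fun j => ψ (j + 1)) (fun j => hψ (j + 1)) y
    refine ⟨fun j => Nat.casesOn (motive := fun j => M j) j (ψ 0 (x' 0)) (fun j => x' j),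
      fun j => ?_, hy⟩
    cases j with
    | zero => rfl
    | succ j => exact hx' j

/-- Nakayama for an ideal a power of which kills the module. -/
theorem eq_top_of_sup_smul_top_eq_top_of_pow_smul_eq_bot {R M : Type*} [CommRing R]
    [AddCommGroup M] [Module R M] (I : Ideal R) (k : ℕ)
    (hk : (I ^ k • ⊤ : Submodule R M) = ⊥) (N : Submodule R M)
    (h : N ⊔ I • (⊤ : Submodule R M) = ⊤) : N = ⊤ := by
  have key : ∀ m : ℕ, N ⊔ (I ^ m) • (⊤ : Submodule R M) = ⊤ := by
    intro m
    induction m with
    | zero => simp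
    | succ m ih =>
      rw [eq_top_iff]
      calc (⊤ : Submodule R M) = N ⊔ I • (⊤ : Submodule R M) := h.symm
        _ = N ⊔ I • (N ⊔ (I ^ m) • (⊤ : Submodule R M)) := by rw [ih]
        _ = N ⊔ (I • N ⊔ I • ((I ^ m) • (⊤ : Submodule R M))) := by rw [Submodule.smul_sup]
        _ ≤ N ⊔ (I ^ (m + 1)) • (⊤ : Submodule R M) := by
          rw [← sup_assoc]
          apply sup_le_sup
          · exact sup_le le_rfl Submodule.smul_le_right
          · rw [← Submodule.mul_smul, pow_succ']
  have h1 := key k
  rw [hk, sup_bot_eq] at h1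
  exact h1

section

variable {A : Type u} [CommRing A] (M : ℕ → Type u) [∀ n, AddCommGroup (M n)]
  [∀ n, Module A (M n)] (ψ : ∀ n, M (n + 1) →ₗ[A] M n)

/-- The maps of a tower down to level zero. -/
noncomputable def toZero : ∀ n, M n →ₗ[A] M 0
  | 0 => LinearMap.id
  | (n + 1) => (toZero n).comp (ψ n)

theorem toZero_sysLim (x : sysLim M ψ) (n : ℕ) :
    toZero M ψ n ((x : ∀ k, M k) n) = (x : ∀ k, M k) 0 := by
  induction n with
  | zero => rfl
  | succ n ih =>
    change toZero M ψ n (ψ n ((x : ∀ k, M k) (n + 1))) = _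
    rw [x.2 n, ih]

theorem ker_toZero (I : Ideal A) (hψ : ∀ n, Function.Surjective (ψ n))
    (hker : ∀ n, LinearMap.ker (ψ n) = (I ^ (n + 1) • ⊤ : Submodule A (M (n + 1))))
    (h0 : (I • ⊤ : Submodule A (M 0)) = ⊥) :
    ∀ n, LinearMap.ker (toZero M ψ n) = (I • ⊤ : Submodule A (M n)) := by
  intro n
  induction n with
  | zero =>
    rw [h0]
    exact LinearMap.ker_id
  | succ n ih =>
    change LinearMap.ker ((toZero M ψ n).comp (ψ n)) = _
    rw [LinearMap.ker_comp, ih]
    have h1 : (I • ⊤ : Submodule A (M n)) =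
        Submodule.map (ψ n) (I • ⊤ : Submodule A (M (n + 1))) := by
      rw [Submodule.map_smul'', Submodule.map_top, LinearMap.range_eq_top.mpr (hψ n)]
    rw [h1, Submodule.comap_map_eq, hker n]
    apply sup_eq_left.mpr
    exact Submodule.smul_mono_left (Ideal.pow_le_self (Nat.succ_ne_zero n))

end

open IsLocalRing in
theorem sysLim_main {A : Type u} [CommRing A] [IsNoetherianRing A] [IsLocalRing A]
    [IsAdicComplete (IsLocalRing.maximalIdeal A) A]
    (M : ℕ → Type u) [∀ n, AddCommGroup (M n)] [∀ n, Module A (M n)]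
    [∀ n, Module (A ⧸ IsLocalRing.maximalIdeal A ^ (n + 1)) (M n)]
    [∀ n, IsScalarTower A (A ⧸ IsLocalRing.maximalIdeal A ^ (n + 1)) (M n)]
    [∀ n, Module.Flat (A ⧸ IsLocalRing.maximalIdeal A ^ (n + 1)) (M n)]
    (ψ : ∀ n, M (n + 1) →ₗ[A] M n) (hψ : ∀ n, Function.Surjective (ψ n))
    (hker : ∀ n, LinearMap.ker (ψ n) =
      (IsLocalRing.maximalIdeal A ^ (n + 1) • ⊤ : Submodule A (M (n + 1)))) :
    ∃ (Z : Type u) (e : decaying (maximalIdeal A) Z A ≃ₗ[A] sysLim M ψ),
      (∀ n, Function.Surjective (sysProj M ψ n)) ∧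
      ∀ n, LinearMap.ker (sysProj M ψ n) =
          (IsLocalRing.maximalIdeal A ^ (n + 1) • ⊤ : Submodule A (sysLim M ψ)) := by
  classical
  -- `𝔪 ^ (n+1)` kills `M n`
  have hkill : ∀ n (a : A), a ∈ maximalIdeal A ^ (n + 1) → ∀ m : M n, a • m = 0 := by
    intro n a ha m
    rw [← mk_smul_eq (maximalIdeal A ^ (n + 1)) a m, Ideal.Quotient.eq_zero_iff_mem.mpr ha,
      zero_smul]
  have hkill' : ∀ n, (maximalIdeal A ^ (n + 1) • ⊤ : Submodule A (M n)) = ⊥ := by
    intro n
    rw [eq_bot_iff, Submodule.smul_le]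
    intro a ha m _
    rw [Submodule.mem_bot]
    exact hkill n a ha m
  have h0 : (maximalIdeal A • ⊤ : Submodule A (M 0)) = ⊥ := by
    have h1 := hkill' 0
    rwa [zero_add, pow_one] at h1
  have hkerZ := ker_toZero M ψ (maximalIdeal A) hψ hker h0
  -- a basis of `M 0`
  haveI hmax0 : (maximalIdeal A ^ (0 + 1)).IsMaximal := by
    rw [zero_add, pow_one]; infer_instance
  letI : Field (A ⧸ maximalIdeal A ^ (0 + 1)) := Ideal.Quotient.field _
  obtain ⟨Z, ⟨b⟩⟩ : ∃ Z : Type u,
      Nonempty (Module.Basis Z (A ⧸ maximalIdeal A ^ (0 + 1)) (M 0)) :=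
    ⟨_, ⟨Module.Basis.ofVectorSpace _ _⟩⟩
  refine ⟨Z, ?_⟩
  have hlift : ∀ y : M 0, ∃ x : sysLim M ψ, (x : ∀ k, M k) 0 = y := by
    intro y
    obtain ⟨x, hx, hy⟩ := exists_compatible_of_surjective 0 M (fun n => ψ n) hψ y
    exact ⟨⟨x, hx⟩, hy⟩
  choose E hE using fun z => hlift (b z)
  -- independence at level zero
  have hind0 : ∀ (S : Finset Z) (c : Z → A),
      ∑ z ∈ S, c z • ((E z : ∀ k, M k) 0) = 0 → ∀ z ∈ S, c z ∈ maximalIdeal A ^ (0 + 1) := by
    intro S c hc z hz
    have h1 : ∑ z ∈ S, (Ideal.Quotient.mk (maximalIdeal A ^ (0 + 1)) (c z)) • b z = 0 := by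
      rw [← hc]
      refine Finset.sum_congr rfl fun w _ => ?_
      rw [mk_smul_eq, hE]
    have h2 := linearIndependent_iff'.mp b.linearIndependent S
      (fun z => Ideal.Quotient.mk (maximalIdeal A ^ (0 + 1)) (c z)) h1 z hz
    exact Ideal.Quotient.eq_zero_iff_mem.mp h2
  -- spanning at level zero
  have hspan0 : Submodule.span A (Set.range fun z => (E z : ∀ k, M k) 0) = ⊤ := by
    have h1 : (fun z => (E z : ∀ k, M k) 0) = fun z => b z := funext hE
    rw [h1, ← Submodule.restrictScalars_span A (A ⧸ maximalIdeal A ^ (0 + 1))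
      Ideal.Quotient.mk_surjective, b.span_eq, Submodule.restrictScalars_top]
  -- spanning at level `n`
  have hspan : ∀ n, Submodule.span A (Set.range fun z => (E z : ∀ k, M k) n) = ⊤ := by
    intro n
    apply eq_top_of_sup_smul_top_eq_top_of_pow_smul_eq_bot (maximalIdeal A) (n + 1) (hkill' n)
    rw [← hkerZ n, ← Submodule.comap_map_eq, Submodule.map_span, ← Set.range_comp]
    have h1 : (⇑(toZero M ψ n) ∘ fun z => (E z : ∀ k, M k) n) =
        fun z => (E z : ∀ k, M k) 0 := funext fun z => toZero_sysLim M ψ (E z) n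
    rw [h1, hspan0, Submodule.comap_top]
  -- generators of the maximal ideal
  obtain ⟨r, a, ha⟩ : ∃ (r : ℕ) (a : Fin r → A), Ideal.span (Set.range a) = maximalIdeal A :=
    Submodule.fg_iff_exists_fin_generating_family.mp (IsNoetherian.noetherian (maximalIdeal A))
  -- independence at level `n`
  have hinj : ∀ n, LinearMap.ker (Finsupp.linearCombination (A ⧸ maximalIdeal A ^ (n + 1))
      (fun z => (E z : ∀ k, M k) n)) = ⊥ := by
    intro n
    have hΦsurj : Function.Surjective (Finsupp.linearCombination (A ⧸ maximalIdeal A ^ (n + 1))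
        (fun z => (E z : ∀ k, M k) n)) := by
      rw [← LinearMap.range_eq_top, Finsupp.range_linearCombination,
        ← Submodule.restrictScalars_eq_top_iff (S := A),
        Submodule.restrictScalars_span A (A ⧸ maximalIdeal A ^ (n + 1))
          Ideal.Quotient.mk_surjective]
      exact hspan n
    have hIn : Ideal.span (Set.range fun i => Ideal.Quotient.mk (maximalIdeal A ^ (n + 1)) (a i)) =
        (maximalIdeal A).map (Ideal.Quotient.mk (maximalIdeal A ^ (n + 1))) := by
      rw [← ha, Ideal.map_span, ← Set.range_comp]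
      rfl
    have hKle : LinearMap.ker (Finsupp.linearCombination (A ⧸ maximalIdeal A ^ (n + 1))
        (fun z => (E z : ∀ k, M k) n)) ≤
        Ideal.span (Set.range fun i => Ideal.Quotient.mk (maximalIdeal A ^ (n + 1)) (a i)) •
          LinearMap.ker (Finsupp.linearCombination (A ⧸ maximalIdeal A ^ (n + 1))
            (fun z => (E z : ∀ k, M k) n)) := by
      intro x hx
      rw [LinearMap.mem_ker] at hx
      apply mem_smul_ker_of_flat _ hΦsurj _ x hx
      -- all coefficients lie in the maximal ideal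
      have hc : ∀ z, ∃ c : A, Ideal.Quotient.mk (maximalIdeal A ^ (n + 1)) c = x z :=
        fun z => Ideal.Quotient.mk_surjective (x z)
      choose c hc using hc
      have h1 : ∑ z ∈ x.support, c z • ((E z : ∀ k, M k) n) = 0 := by
        rw [← hx, Finsupp.linearCombination_apply, Finsupp.sum]
        refine Finset.sum_congr rfl fun z _ => ?_
        rw [← hc z, mk_smul_eq]
      have h2 : ∑ z ∈ x.support, c z • ((E z : ∀ k, M k) 0) = 0 := by
        have h3 := congrArg (toZero M ψ n) h1
        rw [map_sum, map_zero] at h3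
        rw [← h3]
        refine Finset.sum_congr rfl fun z _ => ?_
        rw [map_smul, toZero_sysLim]
      have h3 : ∀ z, x z ∈ Ideal.span
          (Set.range fun i => Ideal.Quotient.mk (maximalIdeal A ^ (n + 1)) (a i)) := by
        intro z
        rw [hIn]
        by_cases hz : z ∈ x.support
        · have h4 := hind0 x.support c h2 z hz
          rw [zero_add, pow_one] at h4
          rw [← hc z]
          exact Ideal.mem_map_of_mem _ h4
        · rw [Finsupp.notMem_support_iff.mp hz]
          exact Submodule.zero_mem _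
      rw [← Finsupp.sum_single x, Finsupp.sum]
      refine Submodule.sum_mem _ fun z _ => ?_
      have h4 : Finsupp.single z (x z) =
          x z • (Finsupp.single z (1 : A ⧸ maximalIdeal A ^ (n + 1))) := by
        rw [Finsupp.smul_single, smul_eq_mul, mul_one]
      rw [h4]
      exact Submodule.smul_mem_smul (h3 z) Submodule.mem_top
    have hpow : ∀ j : ℕ, LinearMap.ker (Finsupp.linearCombination (A ⧸ maximalIdeal A ^ (n + 1))
        (fun z => (E z : ∀ k, M k) n)) ≤
        Ideal.span (Set.range fun i => Ideal.Quotient.mk (maximalIdeal A ^ (n + 1)) (a i)) ^ j •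
          LinearMap.ker (Finsupp.linearCombination (A ⧸ maximalIdeal A ^ (n + 1))
            (fun z => (E z : ∀ k, M k) n)) := by
      intro j
      induction j with
      | zero => rw [pow_zero, one_smul]
      | succ j ih =>
        calc _ ≤ _ := hKle
          _ ≤ _ • (_ ^ j • _) := Submodule.smul_mono le_rfl ih
          _ = _ := by rw [← Submodule.mul_smul, ← pow_succ']
    have h5 := hpow (n + 1)
    rw [hIn, ← Ideal.map_pow, Ideal.map_mk_eq_bot_of_le le_rfl, Submodule.bot_smul] at h5
    exact le_bot_iff.mp h5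
  have hind : ∀ n (S : Finset Z) (c : Z → A),
      ∑ z ∈ S, c z • ((E z : ∀ k, M k) n) = 0 → ∀ z ∈ S, c z ∈ maximalIdeal A ^ (n + 1) := by
    intro n S c hc z hz
    have h1 : (∑ w ∈ S, Finsupp.single w (Ideal.Quotient.mk (maximalIdeal A ^ (n + 1)) (c w)) :
        Z →₀ A ⧸ maximalIdeal A ^ (n + 1)) ∈
        LinearMap.ker (Finsupp.linearCombination (A ⧸ maximalIdeal A ^ (n + 1))
          (fun z => (E z : ∀ k, M k) n)) := by
      rw [LinearMap.mem_ker, map_sum, ← hc]
      refine Finset.sum_congr rfl fun w _ => ?_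
      rw [Finsupp.linearCombination_single, mk_smul_eq]
    rw [hinj n, Submodule.mem_bot] at h1
    have h2 := DFunLike.congr_fun h1 z
    rw [Finsupp.coe_finset_sum, Finset.sum_apply, Finsupp.coe_zero, Pi.zero_apply] at h2
    simp only [Finsupp.single_apply] at h2
    rw [Finset.sum_ite_eq' S z, if_pos hz] at h2
    exact Ideal.Quotient.eq_zero_iff_mem.mp h2
  -- the maps `φ n`
  have hmemA : ∀ (k : ℕ) (x : A), x ∈ (maximalIdeal A ^ k • ⊤ : Submodule A A) ↔
      x ∈ maximalIdeal A ^ k := by
    intro k x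
    rw [smul_eq_mul, Ideal.mul_top]
  have hsupp : ∀ n (g : decaying (maximalIdeal A) Z A),
      (Function.support fun z => (g : Z → A) z • ((E z : ∀ k, M k) n)).Finite := by
    intro n g
    refine (g.2 (n + 1)).subset fun z hz => ?_
    intro hcon
    exact hz (hkill n _ ((hmemA _ _).mp hcon) _)
  let φ : ∀ n, decaying (maximalIdeal A) Z A →ₗ[A] M n := fun n =>
    { toFun := fun g => ∑ᶠ z, (g : Z → A) z • ((E z : ∀ k, M k) n)
      map_add' := fun g g' => by
        rw [← finsum_add_distrib (hsupp n g) (hsupp n g')]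
        refine finsum_congr fun z => ?_
        rw [Submodule.coe_add, Pi.add_apply, add_smul]
      map_smul' := fun c g => by
        rw [RingHom.id_apply, smul_finsum' c (hsupp n g)]
        refine finsum_congr fun z => ?_
        rw [Submodule.coe_smul, Pi.smul_apply, smul_eq_mul, mul_smul] }
  have hφ : ∀ n g, φ n g = ∑ᶠ z, (g : Z → A) z • ((E z : ∀ k, M k) n) := fun n g => rfl
  have hcompat : ∀ n g, ψ n (φ (n + 1) g) = φ n g := by
    intro n g
    rw [hφ, hφ, map_finsum (ψ n) (hsupp (n + 1) g)]
    refine finsum_congr fun z => ?_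
    rw [map_smul, (E z).2 n]
  have hφker : ∀ n (g : decaying (maximalIdeal A) Z A),
      φ n g = 0 ↔ ∀ z, (g : Z → A) z ∈ maximalIdeal A ^ (n + 1) := by
    intro n g
    constructor
    · intro hg z
      rw [hφ, finsum_eq_sum_of_support_subset _
        (s := (hsupp n g).toFinset) (by rw [Set.Finite.coe_toFinset])] at hg
      by_cases hz : z ∈ (hsupp n g).toFinset
      · exact hind n _ _ hg z hz
      · rw [Set.Finite.mem_toFinset, Function.mem_support, not_not] at hz
        have h1 : ∑ w ∈ ({z} : Finset Z), (g : Z → A) w • ((E w : ∀ k, M k) n) = 0 := by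
          rw [Finset.sum_singleton, hz]
        exact hind n {z} _ h1 z (Finset.mem_singleton_self z)
    · intro hg
      rw [hφ]
      exact finsum_eq_zero_of_forall_eq_zero fun z => hkill n _ (hg z) _
  have hφsurj : ∀ n, Function.Surjective (φ n) := by
    intro n y
    have hy : y ∈ Submodule.span A (Set.range fun z => (E z : ∀ k, M k) n) := by
      rw [hspan n]; trivial
    obtain ⟨c, hc⟩ := Finsupp.mem_span_range_iff_exists_finsupp.mp hy
    refine ⟨⟨fun z => c z, fun k => c.support.finite_toSet.subset fun z hz => ?_⟩, ?_⟩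
    · rw [Finset.mem_coe, Finsupp.mem_support_iff]
      intro h0
      apply hz
      change c z ∈ _
      rw [h0]
      exact Submodule.zero_mem _
    · rw [hφ, ← hc, Finsupp.sum]
      apply finsum_eq_sum_of_support_subset
      intro z hz
      rw [Finset.mem_coe, Finsupp.mem_support_iff]
      intro h0
      apply hz
      change c z • _ = 0
      rw [h0, zero_smul]
  -- the limit map
  let Φ : decaying (maximalIdeal A) Z A →ₗ[A] sysLim M ψ :=
    { toFun := fun g => ⟨fun n => φ n g, fun n => hcompat n g⟩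
      map_add' := fun g g' => Subtype.ext (funext fun n => map_add (φ n) g g')
      map_smul' := fun c g => Subtype.ext (funext fun n => map_smul (φ n) c g) }
  have hΦ : ∀ g n, ((Φ g : sysLim M ψ) : ∀ k, M k) n = φ n g := fun g n => rfl
  have hΦinj : Function.Injective Φ := by
    rw [injective_iff_map_eq_zero]
    intro g hg
    apply Subtype.ext
    funext z
    apply IsHausdorff.haus' (I := maximalIdeal A)
    intro k
    rw [SModEq.zero, hmemA]
    have h1 : φ k g = 0 := by rw [← hΦ, hg]; rfl
    exact Ideal.pow_le_pow_right (Nat.le_succ k) ((hφker k g).mp h1 z)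
  haveI : IsAdicComplete (maximalIdeal A) (decaying (maximalIdeal A) Z A) :=
    Groth.Agent.S17546.result (maximalIdeal A) Z
  have hdown : ∀ (x : sysLim M ψ) (n : ℕ) (g : decaying (maximalIdeal A) Z A),
      φ n g = (x : ∀ k, M k) n → ∀ m, m ≤ n → φ m g = (x : ∀ k, M k) m := by
    intro x n
    induction n with
    | zero =>
      intro g hg m hm
      rw [Nat.le_zero.mp hm]
      exact hg
    | succ n ih =>
      intro g hg m hm
      rcases Nat.lt_or_ge m (n + 1) with h | h
      · apply ih g _ m (Nat.lt_succ_iff.mp h)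
        rw [← hcompat, hg, x.2 n]
      · rw [le_antisymm hm h]
        exact hg
  have hΦsurj : Function.Surjective Φ := by
    intro x
    choose G hG using fun n => hφsurj n ((x : ∀ k, M k) n)
    have hcauchy : ∀ {m n : ℕ}, m ≤ n →
        G m ≡ G n [SMOD (maximalIdeal A ^ m • ⊤ : Submodule A (decaying (maximalIdeal A) Z A))] := by
      intro m n hmn
      rw [SModEq.sub_mem]
      have h1 : φ m (G m - G n) = 0 := by
        rw [map_sub, hG m, hdown x n (G n) (hG n) m hmn, sub_self]
      have h2 := ((Groth.Agent.S17544.result (maximalIdeal A) Z (m + 1)).2 (G m - G n)).mpr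
        ((hφker m _).mp h1)
      exact Submodule.smul_mono_left (Ideal.pow_le_pow_right (Nat.le_succ m)) h2
    obtain ⟨g, hg⟩ := IsPrecomplete.prec (I := maximalIdeal A) inferInstance hcauchy
    refine ⟨g, Subtype.ext (funext fun k => ?_)⟩
    rw [hΦ]
    have h1 := hg (k + 1)
    rw [SModEq.sub_mem] at h1
    have h2 := ((Groth.Agent.S17544.result (maximalIdeal A) Z (k + 1)).2 (G (k + 1) - g)).mp h1
    have h3 := (hφker k _).mpr h2
    rw [map_sub, sub_eq_zero] at h3
    rw [← h3]
    exact hdown x (k + 1) (G (k + 1)) (hG (k + 1)) k (Nat.le_succ k)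
  refine ⟨LinearEquiv.ofBijective Φ ⟨hΦinj, hΦsurj⟩, ?_, ?_⟩
  · intro n y
    obtain ⟨g, hg⟩ := hφsurj n y
    exact ⟨Φ g, hg⟩
  · intro n
    apply le_antisymm
    · intro x hx
      obtain ⟨g, rfl⟩ := hΦsurj x
      have h1 : φ n g = 0 := hx
      have h2 := ((Groth.Agent.S17544.result (maximalIdeal A) Z (n + 1)).2 g).mpr
        ((hφker n g).mp h1)
      exact map_mem_pow_smul_top (maximalIdeal A) Φ (n + 1) h2
    · rw [Submodule.smul_le]
      intro c hc x _
      rw [LinearMap.mem_ker, map_smul]
      exact hkill n c hc _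

end Groth.Agent.Helper4
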