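import Mathlib
import Groth.Agent.Lib.Helper4.FSAdicCompl

/-!
The ideal generated by the maximal ideal of `B_q` in `B_q ⊗_A Â_p` is maximal.
-/

set_option autoImplicit false

namespace Groth.Agent.Helper4.TensorComplMax

open IsLocalRing TensorProduct

universe u

section abstract

variable {A : Type u} [CommRing A] (p : Ideal A)
  (Bq : Type u) [CommRing Bq] [IsLocalRing Bq] [Algebra A Bq]
  (Ah : Type u) [CommRing Ah] [Algebra A Ah]

theorem isMaximal_map_includeLeft
    (H1 : ∀ s : A, s ∉ p → IsUnit (algebraMap A Bq s))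
    (H2 : ∀ a ∈ p, algebraMap A Bq a ∈ maximalIdeal Bq)
    (H3 : ∀ α : Ah, ∃ (a₀ s : A) (σ : Ah), s ∉ p ∧ s • σ = 1 ∧
      α - a₀ • σ ∈ p.map (algebraMap A Ah))
    (g : Ah →ₐ[A] ResidueField Bq) :
    ((maximalIdeal Bq).map
      (Algebra.TensorProduct.includeLeftRingHom : Bq →+* TensorProduct A Bq Ah)).IsMaximal := by
  set ι : Bq →+* TensorProduct A Bq Ah := Algebra.TensorProduct.includeLeftRingHom with hι
  set I : Ideal (TensorProduct A Bq Ah) := (maximalIdeal Bq).map ι with hI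
  have hιb : ∀ b : Bq, ι b = b ⊗ₜ[A] (1 : Ah) := fun b => rfl
  -- Step 2a: b ⊗ μ ∈ I for μ ∈ pAh
  have h2a : ∀ (b : Bq) (μ : Ah), μ ∈ p.map (algebraMap A Ah) → b ⊗ₜ[A] μ ∈ I := by
    intro b μ hμ
    rw [Ideal.map] at hμ
    induction hμ using Submodule.span_induction with
    | mem μ hμ =>
      obtain ⟨a', ha', rfl⟩ := hμ
      have e : b ⊗ₜ[A] (algebraMap A Ah a') = ι (a' • b) := by
        rw [hιb, Algebra.algebraMap_eq_smul_one, TensorProduct.tmul_smul, TensorProduct.smul_tmul']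
      rw [e]
      apply Ideal.mem_map_of_mem
      rw [Algebra.smul_def]
      exact Ideal.mul_mem_right _ _ (H2 a' ha')
    | zero => rw [TensorProduct.tmul_zero]; exact I.zero_mem
    | add u v _ _ hu hv => rw [TensorProduct.tmul_add]; exact I.add_mem hu hv
    | smul γ u _ hu =>
      have e : b ⊗ₜ[A] (γ • u) = ((1 : Bq) ⊗ₜ[A] γ) * (b ⊗ₜ[A] u) := by
        rw [Algebra.TensorProduct.tmul_mul_tmul, one_mul, smul_eq_mul]
      rw [e]
      exact I.mul_mem_left _ hu
  -- Step 2: every element is congruent to some ι b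
  have h2 : ∀ t : TensorProduct A Bq Ah, ∃ b : Bq, t - ι b ∈ I := by
    intro t
    induction t using TensorProduct.induction_on with
    | zero => exact ⟨0, by rw [map_zero, sub_zero]; exact I.zero_mem⟩
    | tmul b α =>
      obtain ⟨a₀, s, σ, hs, hsσ, hμ⟩ := H3 α
      obtain ⟨us, hus⟩ := H1 s hs
      set b' : Bq := b * ↑us⁻¹ with hb'
      have hbs : s • b' = b := by
        rw [Algebra.smul_def, ← hus, hb', mul_comm b, ← mul_assoc, Units.mul_inv, one_mul]
      refine ⟨a₀ • b', ?_⟩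
      have e1 : b ⊗ₜ[A] σ = ι b' := by
        rw [hιb, ← hsσ, TensorProduct.tmul_smul, TensorProduct.smul_tmul', hbs]
      have e2 : b ⊗ₜ[A] α - ι (a₀ • b') = b ⊗ₜ[A] (α - a₀ • σ) := by
        rw [TensorProduct.tmul_sub, TensorProduct.tmul_smul, e1, hιb, hιb,
          TensorProduct.smul_tmul']
      rw [e2]
      exact h2a b _ hμ
    | add t₁ t₂ h₁ h₂ =>
      obtain ⟨b₁, hb₁⟩ := h₁
      obtain ⟨b₂, hb₂⟩ := h₂
      refine ⟨b₁ + b₂, ?_⟩
      have : t₁ + t₂ - ι (b₁ + b₂) = (t₁ - ι b₁) + (t₂ - ι b₂) := by rw [map_add]; ring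
      rw [this]
      exact I.add_mem hb₁ hb₂
  -- Step 3: the ring hom to the residue field
  let f : Bq →ₐ[A] ResidueField Bq := IsScalarTower.toAlgHom A Bq (ResidueField Bq)
  let Φ : TensorProduct A Bq Ah →ₐ[A] ResidueField Bq :=
    Algebra.TensorProduct.lift f g (fun _ _ => Commute.all _ _)
  have hΦι : ∀ b : Bq, Φ (ι b) = residue Bq b := by
    intro b
    rw [hιb]
    show Φ (b ⊗ₜ[A] (1 : Ah)) = _
    rw [Algebra.TensorProduct.lift_tmul, map_one, mul_one]
    rfl
  have hIker : I ≤ RingHom.ker Φ.toRingHom := by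
    rw [hI, Ideal.map_le_iff_le_comap]
    intro b hb
    rw [Ideal.mem_comap, RingHom.mem_ker]
    show Φ (ι b) = 0
    rw [hΦι]
    exact (residue_eq_zero_iff b).mpr hb
  have h1 : (1 : TensorProduct A Bq Ah) ∉ I := by
    intro h
    have := hIker h
    rw [RingHom.mem_ker, map_one] at this
    exact one_ne_zero this
  rw [Ideal.isMaximal_iff]
  refine ⟨h1, fun J x hIJ hxI hxJ => ?_⟩
  obtain ⟨b, hb⟩ := h2 x
  have hbu : IsUnit b := by
    by_contra hnu
    have hbm : b ∈ maximalIdeal Bq := (mem_maximalIdeal b).mpr hnu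
    have : ι b ∈ I := Ideal.mem_map_of_mem _ hbm
    apply hxI
    have e : x = (x - ι b) + ι b := by ring
    rw [e]
    exact I.add_mem hb this
  have hιbJ : ι b ∈ J := by
    have e : ι b = x - (x - ι b) := by ring
    rw [e]
    exact J.sub_mem hxJ (hIJ hb)
  have hu : IsUnit (ι b) := hbu.map ι
  have : J = ⊤ := Ideal.eq_top_of_isUnit_mem _ hιbJ hu
  rw [this]
  trivial

end abstract

end Groth.Agent.Helper4.TensorComplMax
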