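import Mathlib

/-!
For `k` a field, `S' ⊆ S` and a prime `p` of `R`: membership in `p (R ⊗ S')` can be tested in `R ⊗ S`.
-/

set_option autoImplicit false

namespace Groth.Agent.Helper4.TensorFiberImage

open scoped TensorProduct

universe u

variable (k : Type u) [Field k] (R S : Type u) [CommRing R] [Algebra k R] [CommRing S] [Algebra k S]
  (S' : Subalgebra k S)

theorem comp_algebraMap :
    (Algebra.TensorProduct.map (AlgHom.id k R) S'.val).toRingHom.comp
      (algebraMap R (R ⊗[k] S')) = algebraMap R (R ⊗[k] S) := by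
  ext r
  simp [Algebra.TensorProduct.algebraMap_apply]

theorem key (p : Ideal R) (z : R ⊗[k] S')
    (hz : Algebra.TensorProduct.map (AlgHom.id k R) S'.val z ∈
      p.map (algebraMap R (R ⊗[k] S))) : z ∈ p.map (algebraMap R (R ⊗[k] S')) := by
  let π' : R ⊗[k] S' →ₐ[k] (R ⧸ p) ⊗[k] S' :=
    Algebra.TensorProduct.map (Ideal.Quotient.mkₐ k p) (AlgHom.id k S')
  let π : R ⊗[k] S →ₐ[k] (R ⧸ p) ⊗[k] S :=
    Algebra.TensorProduct.map (Ideal.Quotient.mkₐ k p) (AlgHom.id k S)
  let jb : (R ⧸ p) ⊗[k] S' →ₐ[k] (R ⧸ p) ⊗[k] S :=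
    Algebra.TensorProduct.map (AlgHom.id k (R ⧸ p)) S'.val
  have hcomm : ∀ w, π (Algebra.TensorProduct.map (AlgHom.id k R) S'.val w) = jb (π' w) := by
    intro w
    induction w using TensorProduct.induction_on with
    | zero => simp
    | tmul r s => simp [π, π', jb]
    | add a b ha hb => rw [map_add, map_add, map_add, map_add, ha, hb]
  have hjb : Function.Injective jb := by
    have h1 : ⇑jb = ⇑(LinearMap.lTensor (R ⧸ p) S'.val.toLinearMap) := by
      ext w
      induction w using TensorProduct.induction_on with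
      | zero => simp
      | tmul r s => simp [jb]
      | add a b ha hb => rw [map_add, map_add, ha, hb]
    rw [h1]
    exact Module.Flat.lTensor_preserves_injective_linearMap _ Subtype.val_injective
  have hker' : RingHom.ker π' = p.map (algebraMap R (R ⊗[k] S')) := by
    have := Algebra.TensorProduct.rTensor_ker (R := k) (S := k) (C := S') (Ideal.Quotient.mkₐ k p)
      (Ideal.Quotient.mkₐ_surjective k p)
    have hk : RingHom.ker (Ideal.Quotient.mkₐ k p) = p := by
      ext r
      rw [RingHom.mem_ker, Ideal.Quotient.mkₐ_eq_mk, Ideal.Quotient.eq_zero_iff_mem]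
    rw [hk] at this
    exact this
  have hkerπ : p.map (algebraMap R (R ⊗[k] S)) ≤ RingHom.ker π := by
    rw [Ideal.map_le_iff_le_comap]
    intro r hr
    rw [Ideal.mem_comap, RingHom.mem_ker]
    simp [π, Algebra.TensorProduct.algebraMap_apply, Ideal.Quotient.eq_zero_iff_mem.mpr hr]
  have h0 : π (Algebra.TensorProduct.map (AlgHom.id k R) S'.val z) = 0 := hkerπ hz
  rw [hcomm] at h0
  have h1 : π' z = 0 := hjb (h0.trans (map_zero _).symm)
  rw [← hker']
  exact h1

end Groth.Agent.Helper4.TensorFiberImage
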