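import Mathlib

/-!
# Ideals all of whose associated primes are principal are principal (Noetherian domains)
-/

set_option autoImplicit false
set_option linter.style.haveILetI false

namespace Groth.Agent.Helper4.UfdPrincipal

/-- In a Noetherian domain, an ideal `J` such that every associated prime of `R ⧸ J` is generated
by a prime element is principal, generated by a nonzero element. -/
theorem principal_of_ass (R : Type*) [CommRing R] [IsDomain R] [IsNoetherianRing R] :
    ∀ J : Ideal R,
      (∀ P ∈ associatedPrimes R (R ⧸ J), ∃ p : R, Prime p ∧ P = Ideal.span {p}) →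
      ∃ g : R, g ≠ 0 ∧ J = Ideal.span {g} := by
  intro J
  induction J using WellFoundedGT.induction with
  | ind J ih =>
  intro hJ
  by_cases htop : J = ⊤
  · exact ⟨1, one_ne_zero, by rw [htop, Ideal.span_singleton_one]⟩
  haveI : Nontrivial (R ⧸ J) := Ideal.Quotient.nontrivial_iff.mpr htop
  obtain ⟨P, hP⟩ := associatedPrimes.nonempty R (R ⧸ J)
  obtain ⟨p, hp, rfl⟩ := hJ P hP
  have hJle : J ≤ Ideal.span {p} := by
    have hP' : IsAssociatedPrime (Ideal.span {p}) (R ⧸ J) := hP
    rw [isAssociatedPrime_iff] at hP'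
    obtain ⟨-, m, hm⟩ := hP'
    intro r hr
    rw [hm, Submodule.mem_colon_singleton, Submodule.mem_bot]
    obtain ⟨m', rfl⟩ := Ideal.Quotient.mk_surjective m
    rw [← Ideal.Quotient.mk_eq_mk, ← Submodule.Quotient.mk_smul, Ideal.Quotient.mk_eq_mk,
      Ideal.Quotient.eq_zero_iff_mem, smul_eq_mul]
    exact J.mul_mem_right _ hr
  let J₁ : Ideal R := Submodule.comap (LinearMap.mulLeft R p) J
  have hmemJ₁ : ∀ r, r ∈ J₁ ↔ p * r ∈ J := fun r => Iff.rfl
  have hJJ₁ : J = Ideal.span {p} * J₁ := by
    apply le_antisymm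
    · intro x hx
      obtain ⟨r, rfl⟩ := Ideal.mem_span_singleton'.mp (hJle hx)
      rw [mul_comm r p]
      exact Ideal.mul_mem_mul (Ideal.mem_span_singleton_self p)
        ((hmemJ₁ r).mpr (by rw [mul_comm p r]; exact hx))
    · rw [Ideal.span_singleton_mul_le_iff]
      intro z hz
      exact hz
  have hJleJ₁ : J ≤ J₁ := fun r hr => (hmemJ₁ r).mpr (J.mul_mem_left p hr)
  have hJne : J ≠ ⊥ := by
    rintro rfl
    have hbot : IsAssociatedPrime (⊥ : Ideal R) (R ⧸ (⊥ : Ideal R)) := by
      rw [isAssociatedPrime_iff]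
      refine ⟨Ideal.isPrime_bot, (Ideal.Quotient.mk ⊥) 1, ?_⟩
      ext r
      rw [Submodule.mem_colon_singleton]
      have e : r • (Ideal.Quotient.mk (⊥ : Ideal R)) 1 = (Ideal.Quotient.mk (⊥ : Ideal R)) r := by
        rw [← Ideal.Quotient.mk_eq_mk, ← Submodule.Quotient.mk_smul, Ideal.Quotient.mk_eq_mk,
          smul_eq_mul, mul_one]
      rw [e]
      constructor
      · intro h
        rw [Ideal.mem_bot.mp h, map_zero]
        exact Submodule.zero_mem _
      · intro h
        exact Ideal.Quotient.eq_zero_iff_mem.mp ((Submodule.mem_bot _).mp h)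
    obtain ⟨q, hq, hq'⟩ := hJ ⊥ hbot
    exact hq.ne_zero (Ideal.span_singleton_eq_bot.mp hq'.symm)
  have hlt : J < J₁ := by
    refine lt_of_le_of_ne hJleJ₁ ?_
    intro heq
    have hJJ : J = Ideal.span {p} * J := by
      conv_lhs => rw [hJJ₁]
      rw [← heq]
    have hpow : ∀ n : ℕ, J ≤ Ideal.span {p} ^ n := by
      intro n
      induction n with
      | zero => simp
      | succ n ih' =>
        calc J = Ideal.span {p} * J := hJJ
          _ ≤ Ideal.span {p} * Ideal.span {p} ^ n := Ideal.mul_mono_right ih'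
          _ = Ideal.span {p} ^ (n + 1) := (pow_succ' _ _).symm
    have hpne : Ideal.span {p} ≠ ⊤ := by
      rw [Ne, Ideal.span_singleton_eq_top]
      exact hp.not_isUnit
    have hinf := Ideal.iInf_pow_eq_bot_of_isDomain (Ideal.span {p}) hpne
    apply hJne
    rw [eq_bot_iff, ← hinf]
    exact le_iInf hpow
  let μ : R ⧸ J₁ →ₗ[R] R ⧸ J :=
    Submodule.mapQ J₁ J (LinearMap.mulLeft R p) (fun r hr => hr)
  have hμ : Function.Injective μ := by
    rw [injective_iff_map_eq_zero]
    intro x hx
    obtain ⟨r, rfl⟩ := Submodule.Quotient.mk_surjective _ x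
    rw [Submodule.mapQ_apply, Submodule.Quotient.mk_eq_zero] at hx
    rw [Submodule.Quotient.mk_eq_zero]
    exact hx
  obtain ⟨g₁, hg₁, hJ₁⟩ := ih J₁ hlt
    (fun P hP => hJ P (associatedPrimes.subset_of_injective hμ hP))
  refine ⟨p * g₁, mul_ne_zero hp.ne_zero hg₁, ?_⟩
  rw [hJJ₁, hJ₁, Ideal.span_singleton_mul_span_singleton]

/-- Localizing at a prime where the local ring is factorial: if all associated primes of `A ⧸ I`
have height one, then `I` becomes principal in the localization. -/
theorem exists_generator_of_ass_height_one {A R : Type*} [CommRing A] [IsNoetherianRing A]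
    (I : Ideal A) (𝔭 : Ideal A) [𝔭.IsPrime] [CommRing R] [Algebra A R]
    [IsLocalization.AtPrime R 𝔭] [IsDomain R] [UniqueFactorizationMonoid R]
    (hass : ∀ P' ∈ associatedPrimes A (A ⧸ I), P'.height = 1) :
    ∃ g : R, g ≠ 0 ∧ I.map (algebraMap A R) = Ideal.span {g} := by
  haveI : IsNoetherianRing R := IsLocalization.isNoetherianRing 𝔭.primeCompl R inferInstance
  let J : Ideal R := Submodule.localized' R 𝔭.primeCompl (Algebra.linearMap A R) I
  have hJ : J = I.map (algebraMap A R) := Ideal.localized'_eq_map R 𝔭.primeCompl I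
  rw [← hJ]
  apply principal_of_ass R J
  intro P hP
  haveI hPprime : P.IsPrime := hP.isPrime
  have h1 : P.comap (algebraMap A R) ∈ associatedPrimes A (A ⧸ I) :=
    Module.associatedPrimes.comap_mem_associatedPrimes_of_mem_associatedPrimes_of_isLocalizedModule_of_fg
      𝔭.primeCompl (Submodule.toLocalizedQuotient' R 𝔭.primeCompl (Algebra.linearMap A R) I) P hP
      ((isNoetherianRing_iff_ideal_fg A).mp inferInstance _)
  have h2 : (P.comap (algebraMap A R)).height = 1 := hass _ h1
  have h3 : P.height = 1 := by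
    rw [← IsLocalization.height_under 𝔭.primeCompl P]
    exact h2
  have hpn : P ≠ ⊥ := P.ne_bot_of_height_eq_one h3
  obtain ⟨x, hxmem, hxp⟩ := Ideal.IsPrime.exists_mem_prime_of_ne_bot hPprime hpn
  exact ⟨x, hxp, P.eq_span_singleton_of_height_eq_one h3 hxmem hxp⟩

end Groth.Agent.Helper4.UfdPrincipal
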