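import Mathlib

/-!
`R[a] ∩ R[a⁻¹]` is integral over `R`; `R[a] + R[a⁻¹] = R[a, a⁻¹]`.
-/

set_option autoImplicit false

namespace Groth.Agent.Helper4.UnitAdjoin

open Polynomial

universe u v

variable {R : Type u} [CommRing R] {L : Type v} [CommRing L] [Algebra R L]

theorem pow_mul_pow_of_le {a b : L} (hab : a * b = 1) {i j : ℕ} (h : j ≤ i) :
    a ^ i * b ^ j = a ^ (i - j) := by
  obtain ⟨k, rfl⟩ := Nat.exists_eq_add_of_le h
  rw [Nat.add_sub_cancel_left, pow_add, mul_assoc, mul_comm (a ^ k), ← mul_assoc, ← mul_pow, hab,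
    one_pow, one_mul]

theorem pow_mul_pow_of_lt {a b : L} (hab : a * b = 1) {i j : ℕ} (h : i ≤ j) :
    a ^ i * b ^ j = b ^ (j - i) := by
  rw [mul_comm]
  exact pow_mul_pow_of_le (by rw [mul_comm]; exact hab) h

/-- The finitely generated submodule used in the integrality argument. -/
def N (a b : L) (n m : ℕ) : Submodule R L :=
  Submodule.span R ((fun i => a ^ i) '' Set.Iic n ∪ (fun j => b ^ j) '' Set.Iic m)

theorem N_fg (a b : L) (n m : ℕ) : (N (R := R) a b n m).FG := by
  apply Submodule.fg_span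
  exact ((Set.finite_Iic n).image _).union ((Set.finite_Iic m).image _)

theorem pow_a_mem (a b : L) {n m i : ℕ} (hi : i ≤ n) : a ^ i ∈ N (R := R) a b n m :=
  Submodule.subset_span (Or.inl ⟨i, hi, rfl⟩)

theorem pow_b_mem (a b : L) {n m j : ℕ} (hj : j ≤ m) : b ^ j ∈ N (R := R) a b n m :=
  Submodule.subset_span (Or.inr ⟨j, hj, rfl⟩)

theorem mul_mem_N {a b : L} (hab : a * b = 1) {n m i j : ℕ} (hi : i ≤ n) (hj : j ≤ m) :
    a ^ i * b ^ j ∈ N (R := R) a b n m := by
  rcases le_total j i with h | h
  · rw [pow_mul_pow_of_le hab h]; exact pow_a_mem a b (by omega)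
  · rw [pow_mul_pow_of_lt hab h]; exact pow_b_mem a b (by omega)

theorem smul_mem_N {a b : L} (hab : a * b = 1) (p q : R[X]) (t : L) (hp : aeval a p = t)
    (hq : aeval b q = t) (z : L) (hz : z ∈ N (R := R) a b p.natDegree q.natDegree) :
    t * z ∈ N (R := R) a b p.natDegree q.natDegree := by
  induction hz using Submodule.span_induction with
  | mem z hz =>
    rcases hz with ⟨i, hi, rfl⟩ | ⟨j, hj, rfl⟩
    · -- t * a^i, use t = q(b)
      show t * a ^ i ∈ _
      rw [← hq, aeval_eq_sum_range, Finset.sum_mul]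
      refine Submodule.sum_mem _ (fun j hj => ?_)
      rw [smul_mul_assoc, mul_comm]
      exact Submodule.smul_mem _ _ (mul_mem_N hab hi (by
        have := Finset.mem_range.mp hj; omega))
    · show t * b ^ j ∈ _
      rw [← hp, aeval_eq_sum_range, Finset.sum_mul]
      refine Submodule.sum_mem _ (fun i hi => ?_)
      rw [smul_mul_assoc]
      exact Submodule.smul_mem _ _ (mul_mem_N hab (by
        have := Finset.mem_range.mp hi; omega) hj)
  | zero => rw [mul_zero]; exact Submodule.zero_mem _
  | add u v _ _ hu hv => rw [mul_add]; exact Submodule.add_mem _ hu hv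
  | smul r u _ hu => rw [mul_smul_comm]; exact Submodule.smul_mem _ _ hu

/-- If `a b = 1` then every element of `R[a] ∩ R[b]` is integral over `R`. -/
theorem isIntegral_of_mem_adjoin_of_mem_adjoin_inv {a b : L} (hab : a * b = 1) (t : L)
    (ha : t ∈ Algebra.adjoin R {a}) (hb : t ∈ Algebra.adjoin R {b}) : IsIntegral R t := by
  rw [Algebra.adjoin_singleton_eq_range_aeval] at ha hb
  obtain ⟨p, hp⟩ := ha
  obtain ⟨q, hq⟩ := hb
  have hp' : aeval a p = t := hp
  have hq' : aeval b q = t := hq
  set NN : Submodule R L := N (R := R) a b p.natDegree q.natDegree with hNN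
  have hstab : ∀ z ∈ NN, t * z ∈ NN := smul_mem_N hab p q t hp' hq'
  haveI : Module.Finite R NN := Module.Finite.iff_fg.mpr (N_fg a b _ _)
  let φ : Module.End R NN :=
    { toFun := fun z => ⟨t * z.1, hstab z.1 z.2⟩
      map_add' := fun u v => by
        apply Subtype.ext
        show t * (u.1 + v.1) = t * u.1 + t * v.1
        rw [mul_add]
      map_smul' := fun r u => by
        apply Subtype.ext
        show t * (r • u.1) = r • (t * u.1)
        rw [mul_smul_comm] }
  obtain ⟨P, hPm, -, hP0⟩ := LinearMap.exists_monic_and_natDegree_eq_and_aeval_eq_zero R φ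
  have hkey : ∀ (Q : R[X]) (z : NN), ((aeval φ Q) z : L) = aeval t Q * z.1 := by
    intro Q
    induction Q using Polynomial.induction_on' with
    | add Q₁ Q₂ h₁ h₂ =>
      intro z
      rw [map_add, map_add, LinearMap.add_apply, Submodule.coe_add, h₁, h₂, add_mul]
    | monomial k r =>
      intro z
      rw [aeval_monomial, aeval_monomial]
      induction k generalizing z with
      | zero =>
        rw [pow_zero, pow_zero, mul_one, mul_one]
        show ((algebraMap R (Module.End R NN) r) z : L) = _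
        rw [Module.algebraMap_end_apply, Submodule.coe_smul, Algebra.smul_def]
      | succ k ih =>
        rw [pow_succ, pow_succ, ← mul_assoc, ← mul_assoc]
        show ((algebraMap R (Module.End R NN) r * φ ^ k) (φ z) : L) = _
        rw [ih (φ z)]
        show algebraMap R L r * t ^ k * (t * z.1) = _
        ring
  have h1 : (1 : L) ∈ NN := by
    have := pow_a_mem (R := R) a b (n := p.natDegree) (m := q.natDegree) (Nat.zero_le _)
    rwa [pow_zero] at this
  have := hkey P ⟨1, h1⟩
  rw [hP0, LinearMap.zero_apply, Submodule.coe_zero, mul_one] at this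
  exact ⟨P, hPm, this.symm⟩

/-- `R[a] + R[b] = R[a, b]` when `a b = 1`. -/
theorem sup_adjoin_eq {a b : L} (hab : a * b = 1) :
    Subalgebra.toSubmodule (Algebra.adjoin R {a}) ⊔ Subalgebra.toSubmodule (Algebra.adjoin R {b}) =
      Subalgebra.toSubmodule (Algebra.adjoin R {a, b}) := by
  apply le_antisymm
  · refine sup_le ?_ ?_
    · exact Subalgebra.toSubmodule.monotone (Algebra.adjoin_mono (by simp))
    · exact Subalgebra.toSubmodule.monotone (Algebra.adjoin_mono (by simp))
  · set P : Submodule R L := Subalgebra.toSubmodule (Algebra.adjoin R {a}) ⊔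
      Subalgebra.toSubmodule (Algebra.adjoin R {b}) with hP
    have hA : ∀ u, u ∈ Algebra.adjoin R {a} → u ∈ P := fun u hu =>
      (le_sup_left : Subalgebra.toSubmodule (Algebra.adjoin R {a}) ≤ P) hu
    have hB : ∀ u, u ∈ Algebra.adjoin R {b} → u ∈ P := fun u hu =>
      (le_sup_right : Subalgebra.toSubmodule (Algebra.adjoin R {b}) ≤ P) hu
    have hcross : ∀ u v, u ∈ Algebra.adjoin R {a} → v ∈ Algebra.adjoin R {b} → u * v ∈ P := by
      intro u v hu hv
      rw [Algebra.adjoin_singleton_eq_range_aeval] at hu hv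
      obtain ⟨p, rfl⟩ := hu
      obtain ⟨q, rfl⟩ := hv
      show aeval a p * aeval b q ∈ P
      rw [aeval_eq_sum_range, aeval_eq_sum_range, Finset.sum_mul_sum]
      refine Submodule.sum_mem _ (fun i _ => Submodule.sum_mem _ (fun j _ => ?_))
      rw [smul_mul_smul_comm]
      refine Submodule.smul_mem _ _ ?_
      rcases le_total j i with h | h
      · rw [pow_mul_pow_of_le hab h]
        exact hA _ ((Algebra.adjoin R {a}).pow_mem (Algebra.self_mem_adjoin_singleton R a) _)
      · rw [pow_mul_pow_of_lt hab h]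
        exact hB _ ((Algebra.adjoin R {b}).pow_mem (Algebra.self_mem_adjoin_singleton R b) _)
    have hmul : ∀ u v, u ∈ P → v ∈ P → u * v ∈ P := by
      intro u v hu hv
      obtain ⟨u₁, hu₁, u₂, hu₂, rfl⟩ := Submodule.mem_sup.mp hu
      obtain ⟨v₁, hv₁, v₂, hv₂, rfl⟩ := Submodule.mem_sup.mp hv
      have e : (u₁ + u₂) * (v₁ + v₂) = u₁ * v₁ + u₁ * v₂ + (v₁ * u₂ + u₂ * v₂) := by ring
      rw [e]
      refine Submodule.add_mem _ (Submodule.add_mem _ ?_ ?_) (Submodule.add_mem _ ?_ ?_)
      · exact hA _ (Subalgebra.mul_mem _ hu₁ hv₁)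
      · exact hcross _ _ hu₁ hv₂
      · exact hcross _ _ hv₁ hu₂
      · exact hB _ (Subalgebra.mul_mem _ hu₂ hv₂)
    have h1 : (1 : L) ∈ P := hA _ (Subalgebra.one_mem _)
    have hle : Algebra.adjoin R {a, b} ≤ Submodule.toSubalgebra P h1 hmul := by
      apply Algebra.adjoin_le
      rintro z (rfl | rfl)
      · exact hA _ (Algebra.self_mem_adjoin_singleton R _)
      · exact hB _ (Algebra.self_mem_adjoin_singleton R _)
    intro z hz
    exact hle hz

/-- The intersection statement. -/
theorem inf_adjoin_eq_bot {A' : Type v} [CommRing A'] [Algebra R A'] [IsIntegrallyClosedIn R A']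
    (ψ : A' →ₐ[R] L) (hψ : Function.Injective ψ) {a b : L} (hab : a * b = 1)
    (ha : a ∈ ψ.range) :
    Subalgebra.toSubmodule (Algebra.adjoin R {a}) ⊓ Subalgebra.toSubmodule (Algebra.adjoin R {b}) =
      Subalgebra.toSubmodule (⊥ : Subalgebra R L) := by
  apply le_antisymm
  · rintro t ⟨hta, htb⟩
    have hint := isIntegral_of_mem_adjoin_of_mem_adjoin_inv hab t hta htb
    have hle : Algebra.adjoin R {a} ≤ ψ.range :=
      Algebra.adjoin_le (Set.singleton_subset_iff.mpr ha)
    obtain ⟨t', rfl⟩ := hle hta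
    have hint' : IsIntegral R t' := (isIntegral_algHom_iff ψ hψ).mp hint
    obtain ⟨r, rfl⟩ := IsIntegrallyClosedIn.isIntegral_iff.mp hint'
    show ψ (algebraMap R A' r) ∈ (⊥ : Subalgebra R L)
    rw [AlgHom.commutes]
    exact Subalgebra.algebraMap_mem _ r
  · refine le_inf ?_ ?_
    · exact Subalgebra.toSubmodule.monotone bot_le
    · exact Subalgebra.toSubmodule.monotone bot_le

end Groth.Agent.Helper4.UnitAdjoin
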