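import Mathlib
import Groth.Agent.Lib.Helper4.UfdPrincipal
import Groth.Agent.Lib.Helper4.SchDense
import Groth.Agent.Lib.Helper4.WeakAss
import Groth.Agent.Lib.Helper4.LocalPrincipal

/-!
# Unmixed codimension-one closed subschemes of locally factorial schemes are Cartier
-/

set_option autoImplicit false
set_option linter.style.haveILetI false

open CategoryTheory CategoryTheory.Limits AlgebraicGeometry TopologicalSpace Opposite

namespace Groth.Agent.Helper4.UnmixedCartier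

universe u

variable {X : Scheme.{u}}

/-- Associated primes of `Γ(X, U) ⧸ 𝓘(U)` have height one under the hypotheses "no embedded
points" and "maximal points of the closed subscheme have codimension one". -/
theorem height_eq_one_of_mem_associatedPrimes [IsLocallyNoetherian X] (𝓘 : X.IdealSheafData)
    (h1 : ∀ z : ↥𝓘.subscheme, IsAssociatedPrime
      (IsLocalRing.maximalIdeal ↑(𝓘.subscheme.presheaf.stalk z))
      ↑(𝓘.subscheme.presheaf.stalk z) → ∀ z' : ↥𝓘.subscheme, z' ⤳ z → z' = z)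
    (h2 : ∀ z : ↥𝓘.subscheme, (∀ z' : ↥𝓘.subscheme, z' ⤳ z → z' = z) →
      ringKrullDim (X.presheaf.stalk (𝓘.subschemeι z)) = 1)
    {U₀ : X.Opens} (hU₀ : IsAffineOpen U₀) (P' : Ideal Γ(X, U₀))
    (hP' : P' ∈ associatedPrimes Γ(X, U₀) (Γ(X, U₀) ⧸ 𝓘.ideal ⟨U₀, hU₀⟩)) :
    P'.height = 1 := by
  haveI hAnoeth : IsNoetherianRing Γ(X, U₀) :=
    IsLocallyNoetherian.component_noetherian ⟨U₀, hU₀⟩
  haveI hP'prime : P'.IsPrime := hP'.isPrime
  have hP'ass : IsAssociatedPrime P' (Γ(X, U₀) ⧸ 𝓘.ideal ⟨U₀, hU₀⟩) := hP'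
  rw [isAssociatedPrime_iff] at hP'ass
  obtain ⟨-, m, hm⟩ := hP'ass
  obtain ⟨t, rfl⟩ := Ideal.Quotient.mk_surjective m
  have hmemP' : ∀ r : Γ(X, U₀), r ∈ P' ↔ r * t ∈ 𝓘.ideal ⟨U₀, hU₀⟩ := by
    intro r
    rw [hm, Submodule.mem_colon_singleton, Submodule.mem_bot, ← Ideal.Quotient.mk_eq_mk,
      ← Submodule.Quotient.mk_smul, Ideal.Quotient.mk_eq_mk, Ideal.Quotient.eq_zero_iff_mem,
      smul_eq_mul]
  have hIP' : 𝓘.ideal ⟨U₀, hU₀⟩ ≤ P' := fun r hr =>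
    (hmemP' r).mpr (Ideal.mul_mem_right _ _ hr)
  -- the closed subscheme
  let ι := 𝓘.subschemeι
  let V : 𝓘.subscheme.Opens := ι ⁻¹ᵁ U₀
  have hV : IsAffineOpen V := hU₀.preimage ι
  let π : Γ(X, U₀) →+* Γ(𝓘.subscheme, V) := (ι.app U₀).hom
  have hπsurj : Function.Surjective π := 𝓘.subschemeι_app_surjective ⟨U₀, hU₀⟩
  have hπker : RingHom.ker π = 𝓘.ideal ⟨U₀, hU₀⟩ := 𝓘.ker_subschemeι_app ⟨U₀, hU₀⟩
  haveI hBnoeth : IsNoetherianRing Γ(𝓘.subscheme, V) :=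
    isNoetherianRing_of_surjective _ _ π hπsurj
  let 𝔮 : Ideal Γ(𝓘.subscheme, V) := P'.map π
  haveI h𝔮prime : 𝔮.IsPrime :=
    Ideal.map_isPrime_of_surjective hπsurj (by rw [hπker]; exact hIP')
  have h𝔮comap : 𝔮.comap π = P' := by
    rw [Ideal.comap_map_of_surjective π hπsurj]
    apply le_antisymm
    · apply sup_le le_rfl
      intro r hr
      have : r ∈ RingHom.ker π := hr
      rw [hπker] at this
      exact hIP' this
    · exact le_sup_left
  have h𝔮colon : 𝔮 = Submodule.colon (⊥ : Submodule Γ(𝓘.subscheme, V) Γ(𝓘.subscheme, V)) {π t} := by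
    ext r'
    obtain ⟨r, rfl⟩ := hπsurj r'
    rw [Submodule.mem_colon_singleton, Submodule.mem_bot, smul_eq_mul, ← map_mul,
      ← RingHom.mem_ker, hπker, ← hmemP', ← h𝔮comap, Ideal.mem_comap]
  let y : PrimeSpectrum Γ(𝓘.subscheme, V) := ⟨𝔮, h𝔮prime⟩
  let z : 𝓘.subscheme := hV.fromSpec y
  have hzV : z ∈ V := WeakAss.fromSpec_mem hV y
  have hloc := hV.isLocalization_stalk' y hzV
  haveI : IsNoetherianRing (𝓘.subscheme.presheaf.stalk z) :=
    @IsLocalization.isNoetherianRing Γ(𝓘.subscheme, V) _ 𝔮.primeCompl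
      (𝓘.subscheme.presheaf.stalk z) _
      (TopCat.Presheaf.algebra_section_stalk 𝓘.subscheme.presheaf ⟨z, hzV⟩) hloc hBnoeth
  have hassz : IsAssociatedPrime (IsLocalRing.maximalIdeal (𝓘.subscheme.presheaf.stalk z))
      (𝓘.subscheme.presheaf.stalk z) :=
    @SchDense.isAssociatedPrime_maximalIdeal_of_eq_colon Γ(𝓘.subscheme, V)
      (𝓘.subscheme.presheaf.stalk z) _ _
      (TopCat.Presheaf.algebra_section_stalk 𝓘.subscheme.presheaf ⟨z, hzV⟩) 𝔮 h𝔮prime hloc _ _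
      (π t) h𝔮colon
  have hmax := h1 z hassz
  have hdim := h2 z hmax
  -- the image point
  let y' : PrimeSpectrum Γ(X, U₀) := ⟨P', hP'prime⟩
  have hιz : ι z = hU₀.fromSpec y' := by
    have hnat := IsAffineOpen.SpecMap_appLE_fromSpec ι hU₀ hV (le_refl _)
    have h3 : (Spec.map (ι.appLE U₀ V (le_refl _)) ≫ hU₀.fromSpec) y = (hV.fromSpec ≫ ι) y := by
      rw [hnat]
    rw [Scheme.Hom.comp_apply, Scheme.Hom.comp_apply] at h3
    rw [← h3]
    congr 1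
    apply PrimeSpectrum.ext
    show Ideal.comap (ι.appLE U₀ V (le_refl _)).hom 𝔮 = P'
    rw [← h𝔮comap]
    congr 1
    show (ι.appLE U₀ V (le_refl _)).hom = (ι.app U₀).hom
    rw [← Scheme.Hom.app_eq_appLE]
  rw [hιz] at hdim
  have hy'U : hU₀.fromSpec y' ∈ U₀ := WeakAss.fromSpec_mem hU₀ y'
  have hloc' := hU₀.isLocalization_stalk' y' hy'U
  have hheight := @IsLocalization.AtPrime.ringKrullDim_eq_height Γ(X, U₀) _ P' hP'prime
    (X.presheaf.stalk (hU₀.fromSpec y')) _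
    (TopCat.Presheaf.algebra_section_stalk X.presheaf ⟨hU₀.fromSpec y', hy'U⟩) hloc'
  rw [hdim] at hheight
  have : ((1 : ℕ∞) : WithBot ℕ∞) = (P'.height : WithBot ℕ∞) := by exact_mod_cast hheight
  exact (WithBot.coe_injective this).symm

/-- The closed subscheme is an effective Cartier divisor. -/
theorem isEffCartier [IsLocallyNoetherian X] (𝓘 : X.IdealSheafData)
    (h1 : ∀ z : ↥𝓘.subscheme, IsAssociatedPrime
      (IsLocalRing.maximalIdeal ↑(𝓘.subscheme.presheaf.stalk z))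
      ↑(𝓘.subscheme.presheaf.stalk z) → ∀ z' : ↥𝓘.subscheme, z' ⤳ z → z' = z)
    (h2 : ∀ z : ↥𝓘.subscheme, (∀ z' : ↥𝓘.subscheme, z' ⤳ z → z' = z) →
      ringKrullDim (X.presheaf.stalk (𝓘.subschemeι z)) = 1)
    (h3 : ∀ x : ↥X, x ∈ 𝓘.support →
      IsDomain (X.presheaf.stalk x) ∧ UniqueFactorizationMonoid (X.presheaf.stalk x)) :
    BlowUp.IsEffCartierIdeal 𝓘 := by
  intro x
  by_cases hx : x ∈ 𝓘.support
  swap
  · exact LocalPrincipal.exists_affine_top 𝓘 x hx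
  obtain ⟨_, ⟨U₀, hU₀0, rfl⟩, hxU₀, -⟩ :=
    X.isBasis_affineOpens.exists_subset_of_mem_open (Set.mem_univ x) isOpen_univ
  have hU₀ : IsAffineOpen U₀ := hU₀0
  obtain ⟨hdom, hufd⟩ := h3 x hx
  haveI : IsNoetherianRing Γ(X, U₀) := IsLocallyNoetherian.component_noetherian ⟨U₀, hU₀⟩
  have key := @UfdPrincipal.exists_generator_of_ass_height_one Γ(X, U₀) (X.presheaf.stalk x) _ _
    (𝓘.ideal ⟨U₀, hU₀⟩) (hU₀.primeIdealOf ⟨x, hxU₀⟩).asIdeal _ _
    (TopCat.Presheaf.algebra_section_stalk X.presheaf ⟨x, hxU₀⟩)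
    (hU₀.isLocalization_stalk ⟨x, hxU₀⟩) hdom hufd
    (fun P' hP' => height_eq_one_of_mem_associatedPrimes 𝓘 h1 h2 hU₀ P' hP')
  obtain ⟨g, hg0, hg⟩ := key
  exact LocalPrincipal.exists_affine_principal 𝓘 x ⟨U₀, hU₀⟩ hxU₀ g
    (mem_nonZeroDivisors_of_ne_zero hg0) hg

end Groth.Agent.Helper4.UnmixedCartier
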