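import Mathlib
import Groth.Prelude.Def_BlowUp2
import Groth.Agent.Lib.Helper4.EffCartierPull
import Groth.Agent.Lib.Helper4.BlowupIso

/-!
# Pulling an effective Cartier divisor back to the spectrum of a valuation ring
-/

set_option autoImplicit false
set_option linter.style.haveILetI false

open CategoryTheory CategoryTheory.Limits AlgebraicGeometry TopologicalSpace Opposite

namespace Groth.Agent.Helper4.ValCartier

universe u

variable {X : Scheme.{u}}

/-- The `appLE` of a morphism `Spec R ⟶ X` factoring through an affine open. -/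
theorem appLE_SpecMap_fromSpec {V : X.Opens} (hV : IsAffineOpen V) (R : CommRingCat.{u})
    (ψ : Γ(X, V) ⟶ R) (e : (⊤ : (Spec R).Opens) ≤ (Spec.map ψ ≫ hV.fromSpec) ⁻¹ᵁ V) :
    (Spec.map ψ ≫ hV.fromSpec).appLE V ⊤ e = ψ ≫ (Scheme.ΓSpecIso R).inv := by
  apply Spec.map_injective
  have h1 := IsAffineOpen.SpecMap_appLE_fromSpec (Spec.map ψ ≫ hV.fromSpec) hV
    (isAffineOpen_top (Spec R)) e
  rw [IsAffineOpen.fromSpec_top, Scheme.isoSpec_Spec_inv, ← Category.assoc] at h1
  have h2 := (cancel_mono hV.fromSpec).mp h1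
  rw [h2, Spec.map_comp]

theorem le_preimage_SpecMap_fromSpec {V : X.Opens} (hV : IsAffineOpen V) (R : CommRingCat.{u})
    (ψ : Γ(X, V) ⟶ R) : (⊤ : (Spec R).Opens) ≤ (Spec.map ψ ≫ hV.fromSpec) ⁻¹ᵁ V := by
  intro z _
  show (Spec.map ψ ≫ hV.fromSpec) z ∈ V
  rw [Scheme.Hom.comp_apply]
  have : hV.fromSpec (Spec.map ψ z) ∈ hV.fromSpec.opensRange := ⟨_, rfl⟩
  rw [hV.opensRange_fromSpec] at this
  exact this

/-- The inverse image ideal along `Spec R ⟶ X` factoring through an affine open. -/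
theorem comap_SpecMap_fromSpec_ideal (I : X.IdealSheafData) {V : X.Opens} (hV : IsAffineOpen V)
    (R : CommRingCat.{u}) (ψ : Γ(X, V) ⟶ R) :
    (I.comap (Spec.map ψ ≫ hV.fromSpec)).ideal ⟨⊤, isAffineOpen_top (Spec R)⟩ =
      (I.ideal ⟨V, hV⟩).map (ψ ≫ (Scheme.ΓSpecIso R).inv).hom := by
  rw [EffCartierPull.ideal_comap_appLE (Spec.map ψ ≫ hV.fromSpec) I
    ⟨⊤, isAffineOpen_top (Spec R)⟩ ⟨V, hV⟩ (le_preimage_SpecMap_fromSpec hV R ψ),
    appLE_SpecMap_fromSpec]

/-- A non-nilpotent element of a local ring maps to a nonzero nonunit of some valuation ring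
under a local homomorphism, provided it is a nonunit. -/
theorem exists_valuationRing (L : Type u) [CommRing L] [IsLocalRing L] (g : L)
    (hg : ¬ IsNilpotent g) (hgu : ¬ IsUnit g) :
    ∃ (R : Type u) (_ : CommRing R) (_ : IsDomain R) (_ : ValuationRing R) (φ : L →+* R),
      φ g ≠ 0 ∧ ¬ IsUnit (φ g) := by
  have hnil : g ∉ nilradical L := fun h => hg (mem_nilradical.mp h)
  rw [nilradical_eq_sInf, Ideal.mem_sInf] at hnil
  push Not at hnil
  obtain ⟨q, hq, hgq⟩ := hnil
  haveI : q.IsPrime := hq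
  let D := L ⧸ q
  let K := FractionRing D
  let f₀ : L →+* K := (algebraMap D K).comp (Ideal.Quotient.mk q)
  obtain ⟨B, hB, hloc⟩ := IsLocalRing.exists_factor_valuationRing f₀
  let φ : L →+* B := f₀.codRestrict B.toSubring hB
  refine ⟨B, inferInstance, inferInstance, inferInstance, φ, ?_, ?_⟩
  · intro h0
    have h1 : f₀ g = 0 := congrArg Subtype.val h0
    have h2 : (Ideal.Quotient.mk q) g = 0 :=
      (IsFractionRing.injective D K) (by rw [map_zero]; exact h1)
    exact hgq (Ideal.Quotient.eq_zero_iff_mem.mp h2)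
  · intro hu
    exact hgu (hloc.map_nonunit g hu)

/-- A non-nilpotent element of a local ring maps to a nonzero element of some valuation ring
under a local homomorphism. -/
theorem exists_valuationRing_localHom (L : Type u) [CommRing L] [IsLocalRing L] (g : L)
    (hg : ¬ IsNilpotent g) :
    ∃ (R : Type u) (_ : CommRing R) (_ : IsDomain R) (_ : ValuationRing R) (φ : L →+* R),
      IsLocalHom φ ∧ φ g ≠ 0 := by
  have hnil : g ∉ nilradical L := fun h => hg (mem_nilradical.mp h)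
  rw [nilradical_eq_sInf, Ideal.mem_sInf] at hnil
  push Not at hnil
  obtain ⟨q, hq, hgq⟩ := hnil
  haveI : q.IsPrime := hq
  let D := L ⧸ q
  let K := FractionRing D
  let f₀ : L →+* K := (algebraMap D K).comp (Ideal.Quotient.mk q)
  obtain ⟨B, hB, hloc⟩ := IsLocalRing.exists_factor_valuationRing f₀
  let φ : L →+* B := f₀.codRestrict B.toSubring hB
  refine ⟨B, inferInstance, inferInstance, inferInstance, φ, hloc, ?_⟩
  intro h0
  have h1 : f₀ g = 0 := congrArg Subtype.val h0
  have h2 : (Ideal.Quotient.mk q) g = 0 :=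
    (IsFractionRing.injective D K) (by rw [map_zero]; exact h1)
  exact hgq (Ideal.Quotient.eq_zero_iff_mem.mp h2)

/-- An ideal maximal among those disjoint from a submonoid. -/
theorem exists_maximal_disjoint {α : Type*} [CommRing α] (I : Ideal α) (S : Submonoid α)
    (disjoint : Disjoint (I : Set α) S) :
    ∃ p : Ideal α, p.IsPrime ∧ I ≤ p ∧ Disjoint (p : Set α) S ∧
      ∀ J : Ideal α, p < J → ¬ Disjoint (J : Set α) S := by
  have ⟨p, hIp, hp⟩ := zorn_le_nonempty₀ {p : Ideal α | Disjoint (p : Set α) S}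
    (fun c hc hc' x hx ↦ ?_) I disjoint
  · exact ⟨p, Ideal.isPrime_of_maximally_disjoint _ _ hp.1 (fun _ ↦ hp.not_prop_of_gt), hIp, hp.1,
      fun _ ↦ hp.not_prop_of_gt⟩
  cases isEmpty_or_nonempty c
  · exact ⟨I, disjoint, fun J hJ ↦ isEmptyElim (⟨J, hJ⟩ : c)⟩
  refine ⟨sSup c, Set.disjoint_left.mpr fun x hx ↦ ?_, fun _ ↦ le_sSup⟩
  have ⟨p, hp⟩ := (Submodule.mem_iSup_of_directed _ hc'.directed).mp (sSup_eq_iSup' c ▸ hx)
  exact Set.disjoint_left.mp (hc p.2) hp

/-- Given `a v` in a local ring with `a * v` not nilpotent and `v` a nonunit, there is a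
homomorphism to a valuation ring `R` with `a ↦ nonzero`, `v ↦ nonunit`, and such that every
nonzero prime of `R` contains the image of `a`. -/
theorem exists_valuationRing_rankOne (L : Type u) [CommRing L] [IsLocalRing L] (a v : L)
    (hav : ¬ IsNilpotent (a * v)) (hv : ¬ IsUnit v) :
    ∃ (R : Type u) (_ : CommRing R) (_ : IsDomain R) (_ : ValuationRing R) (φ : L →+* R),
      φ a ≠ 0 ∧ ¬ IsUnit (φ v) ∧ ∀ P : Ideal R, P.IsPrime → P ≠ ⊥ → φ a ∈ P := by
  obtain ⟨R', iR, iD, iV, φ', hloc, hφ'⟩ := exists_valuationRing_localHom L (a * v) hav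
  have ha0 : φ' a ≠ 0 := by
    intro h0
    apply hφ'
    rw [map_mul, h0, zero_mul]
  have hdisj : Disjoint (((⊥ : Ideal R') : Set R')) (Submonoid.powers (φ' a)) := by
    rw [Set.disjoint_left]
    rintro x hx ⟨n, rfl⟩
    exact pow_ne_zero n ha0 ((Ideal.mem_bot).mp hx)
  obtain ⟨P₀, hP₀, -, hP₀d, hP₀max⟩ := exists_maximal_disjoint ⊥ (Submonoid.powers (φ' a)) hdisj
  haveI := hP₀
  have haP₀ : φ' a ∉ P₀ := fun h =>
    Set.disjoint_left.mp hP₀d h (Submonoid.mem_powers (φ' a))
  haveI : ValuationRing (R' ⧸ P₀) :=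
    Function.Surjective.valuationRing (Ideal.Quotient.mk P₀) Ideal.Quotient.mk_surjective
  refine ⟨R' ⧸ P₀, inferInstance, inferInstance, inferInstance,
    (Ideal.Quotient.mk P₀).comp φ', ?_, ?_, ?_⟩
  · intro h0
    exact haP₀ (Ideal.Quotient.eq_zero_iff_mem.mp h0)
  · intro hu
    obtain ⟨w, hw⟩ := isUnit_iff_exists_inv.mp hu
    obtain ⟨w', rfl⟩ := Ideal.Quotient.mk_surjective w
    have h1 : φ' v * w' - 1 ∈ P₀ := by
      rw [← Ideal.Quotient.eq_zero_iff_mem, map_sub, map_mul, map_one, sub_eq_zero]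
      exact hw
    have hP₀le : P₀ ≤ IsLocalRing.maximalIdeal R' := IsLocalRing.le_maximalIdeal hP₀.ne_top
    have h2 : φ' v ∈ IsLocalRing.maximalIdeal R' := by
      rw [IsLocalRing.mem_maximalIdeal, mem_nonunits_iff]
      intro hu'
      exact hv (hloc.map_nonunit v hu')
    have h3 : (1 : R') ∈ IsLocalRing.maximalIdeal R' := by
      have h4 := (IsLocalRing.maximalIdeal R').sub_mem
        ((IsLocalRing.maximalIdeal R').mul_mem_right w' h2) (hP₀le h1)
      simpa using h4
    exact (IsLocalRing.maximalIdeal.isMaximal R').ne_top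
      ((Ideal.eq_top_iff_one _).mpr h3)
  · intro P hP hPne
    haveI := hP
    have hle : P₀ ≤ P.comap (Ideal.Quotient.mk P₀) := by
      intro r hr
      rw [Ideal.mem_comap, Ideal.Quotient.eq_zero_iff_mem.mpr hr]
      exact P.zero_mem
    have hne : P₀ ≠ P.comap (Ideal.Quotient.mk P₀) := by
      intro heq
      apply hPne
      rw [← Ideal.map_comap_of_surjective _ Ideal.Quotient.mk_surjective P, ← heq,
        Ideal.map_quotient_self]
    have hlt : P₀ < P.comap (Ideal.Quotient.mk P₀) := lt_of_le_of_ne hle hne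
    have hnd := hP₀max _ hlt
    rw [Set.not_disjoint_iff] at hnd
    obtain ⟨x, hxQ, n, rfl⟩ := hnd
    have : φ' a ∈ P.comap (Ideal.Quotient.mk P₀) :=
      (Ideal.IsPrime.comap (Ideal.Quotient.mk P₀)).mem_of_pow_mem n hxQ
    exact this

section Support

variable {X : Scheme.{u}}

/-- Support of the inverse image ideal along `Spec R ⟶ X` factoring through an affine open on
which the ideal is principal. -/
theorem mem_support_comap_iff (I : X.IdealSheafData) {V : X.Opens} (hV : IsAffineOpen V)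
    (R : CommRingCat.{u}) (ψ : Γ(X, V) ⟶ R) (a : Γ(X, V)) (ha : I.ideal ⟨V, hV⟩ = Ideal.span {a})
    (z : Spec R) :
    z ∈ (I.comap (Spec.map ψ ≫ hV.fromSpec)).support ↔ ψ.hom a ∈ z.asIdeal := by
  rw [Scheme.IdealSheafData.mem_support_iff_of_mem (U := ⟨⊤, isAffineOpen_top (Spec R)⟩)
    (show z ∈ (⊤ : (Spec R).Opens) from trivial), comap_SpecMap_fromSpec_ideal, ha,
    Ideal.map_span, Set.image_singleton, Scheme.mem_zeroLocus_iff]
  constructor
  · intro h
    have h1 := h _ (Ideal.mem_span_singleton_self _)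
    rw [basicOpen_eq_of_affine'] at h1
    by_contra hcon
    apply h1
    show (Scheme.ΓSpecIso R).hom.hom ((ψ ≫ (Scheme.ΓSpecIso R).inv).hom a) ∉ z.asIdeal
    intro h2
    apply hcon
    have e : (Scheme.ΓSpecIso R).hom.hom ((ψ ≫ (Scheme.ΓSpecIso R).inv).hom a) = ψ.hom a := by
      show (Scheme.ΓSpecIso R).hom.hom ((Scheme.ΓSpecIso R).inv.hom (ψ.hom a)) = ψ.hom a
      exact Iso.inv_hom_id_apply (Scheme.ΓSpecIso R) (ψ.hom a)
    rw [← e]
    exact h2
  · intro h f hf
    obtain ⟨c, rfl⟩ := Ideal.mem_span_singleton.mp hf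
    intro hz
    rw [basicOpen_eq_of_affine'] at hz
    have hz' : (Scheme.ΓSpecIso R).hom.hom ((ψ ≫ (Scheme.ΓSpecIso R).inv).hom a * c) ∉
        z.asIdeal := hz
    apply hz'
    rw [map_mul]
    apply Ideal.mul_mem_right
    have e : (Scheme.ΓSpecIso R).hom.hom ((ψ ≫ (Scheme.ΓSpecIso R).inv).hom a) = ψ.hom a := by
      show (Scheme.ΓSpecIso R).hom.hom ((Scheme.ΓSpecIso R).inv.hom (ψ.hom a)) = ψ.hom a
      exact Iso.inv_hom_id_apply (Scheme.ΓSpecIso R) (ψ.hom a)
    rw [e]
    exact h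

end Support

end Groth.Agent.Helper4.ValCartier
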