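import Mathlib

/-!
# Orders of vanishing on an open subscheme
-/

set_option autoImplicit false
set_option linter.style.haveILetI false

universe u

open CategoryTheory AlgebraicGeometry TopologicalSpace Order

namespace Groth.Agent.Helper4.WDivOpen

variable {X : Scheme.{u}} [IsIntegral X] [IsLocallyNoetherian X] (U : X.Opens) [Nonempty U]

lemma isIso_stalkSpecializes_of_eq {p q : X} (h : p = q) (hs : p ⤳ q) :
    IsIso (X.presheaf.stalkSpecializes hs) := by
  subst h
  have h1 : X.presheaf.stalkSpecializes hs = 𝟙 _ :=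
    TopCat.Presheaf.stalkSpecializes_refl X.presheaf p
  rw [h1]
  infer_instance

theorem specializes_gen : genericPoint X ⤳ U.ι (genericPoint U.toScheme) :=
  (genericPoint_spec X).specializes trivial

/-- The comparison of function fields. -/
noncomputable def ψ : (U : Scheme.{u}).functionField →+* X.functionField :=
  (X.presheaf.stalkSpecializes (specializes_gen U)).hom.comp
    (asIso (U.ι.stalkMap (genericPoint U.toScheme))).commRingCatIsoToRingEquiv.symm.toRingHom

theorem ψ_bijective : Function.Bijective (ψ U) := by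
  haveI := isIso_stalkSpecializes_of_eq (genericPoint_eq_of_isOpenImmersion U.ι).symm
    (specializes_gen U)
  have h1 : Function.Bijective (X.presheaf.stalkSpecializes (specializes_gen U)).hom :=
    ConcreteCategory.bijective_of_isIso _
  exact h1.comp (RingEquiv.bijective _)

theorem ψ_algebraMap (u : U.toScheme) (c' : X.presheaf.stalk u.1) :
    ψ U (algebraMap (U.toScheme.presheaf.stalk u) (U : Scheme.{u}).functionField
      ((U.ι.stalkMap u).hom c')) =
      algebraMap (X.presheaf.stalk u.1) X.functionField c' := by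
  have hU : genericPoint U.toScheme ⤳ u := (genericPoint_spec U.toScheme).specializes trivial
  have h1 : algebraMap (U.toScheme.presheaf.stalk u) (U : Scheme.{u}).functionField
      ((U.ι.stalkMap u).hom c') =
      (U.ι.stalkMap (genericPoint U.toScheme)).hom
        ((X.presheaf.stalkSpecializes (U.ι.base.hom.map_specializes hU)).hom c') :=
    (Scheme.Hom.stalkSpecializes_stalkMap_apply U.ι (genericPoint U.toScheme) u hU c').symm
  rw [h1]
  show (X.presheaf.stalkSpecializes (specializes_gen U)).hom
      ((asIso (U.ι.stalkMap (genericPoint U.toScheme))).commRingCatIsoToRingEquiv.symm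
        ((asIso (U.ι.stalkMap (genericPoint U.toScheme))).commRingCatIsoToRingEquiv
          ((X.presheaf.stalkSpecializes (U.ι.base.hom.map_specializes hU)).hom c'))) = _
  rw [RingEquiv.symm_apply_apply]
  exact TopCat.Presheaf.stalkSpecializes_comp_apply X.presheaf _ _ c'

theorem coheight_val (u : U.toScheme) (hu : coheight u = 1) : coheight u.1 = 1 :=
  (coheight_eq_of_isOpenImmersion U.ι (x := u)).trans hu

theorem ordHom_transport (u : U.toScheme) (hu : coheight u = 1)
    [IsDiscreteValuationRing (X.presheaf.stalk u.1)] (g : (U : Scheme.{u}).functionField) :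
    Scheme.ordHom u.1 (coheight_val U u hu) (ψ U g) = Scheme.ordHom u hu g := by
  have hu' := coheight_val U u hu
  haveI : Ring.KrullDimLE 1 (X.presheaf.stalk u.1) := krullDimLE_of_coheight_le hu'.le
  haveI : Ring.KrullDimLE 1 (U.toScheme.presheaf.stalk u) := krullDimLE_of_coheight_le hu.le
  let e : X.presheaf.stalk u.1 ≃+* U.toScheme.presheaf.stalk u :=
    (asIso (U.ι.stalkMap u)).commRingCatIsoToRingEquiv
  have he : ∀ c', e c' = (U.ι.stalkMap u).hom c' := fun _ => rfl
  haveI : IsDiscreteValuationRing (U.toScheme.presheaf.stalk u) :=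
    IsDiscreteValuationRing.RingEquivClass.isDiscreteValuationRing e
  show Ring.ordFrac (X.presheaf.stalk u.1) (ψ U g) =
    Ring.ordFrac (U.toScheme.presheaf.stalk u) g
  obtain ⟨ϖ', hϖ'⟩ := IsDiscreteValuationRing.exists_irreducible (X.presheaf.stalk u.1)
  have hϖ : Irreducible (e ϖ') := (MulEquiv.irreducible_iff (f := e.toMulEquiv)).mpr hϖ'
  have stepA : ∀ c' : X.presheaf.stalk u.1, c' ≠ 0 →
      Ring.ordFrac (U.toScheme.presheaf.stalk u)
        (algebraMap (U.toScheme.presheaf.stalk u) (U : Scheme.{u}).functionField (e c')) =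
      Ring.ordFrac (X.presheaf.stalk u.1)
        (algebraMap (X.presheaf.stalk u.1) X.functionField c') := by
    intro c' hc'
    obtain ⟨n, a, hc⟩ := IsDiscreteValuationRing.eq_unit_mul_pow_irreducible hc' hϖ'
    rw [hc]
    simp only [map_mul, map_pow]
    rw [Ring.ordFrac_of_isUnit (a.isUnit.map e), Ring.ordFrac_of_isUnit a.isUnit,
      Ring.ordFrac_irreducible (K := (U : Scheme.{u}).functionField) hϖ,
      Ring.ordFrac_irreducible (K := X.functionField) hϖ']
  obtain ⟨x, y, hy, rfl⟩ := IsFractionRing.div_surjective (U.toScheme.presheaf.stalk u) g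
  have hy0 : y ≠ 0 := nonZeroDivisors.ne_zero hy
  obtain ⟨x', rfl⟩ := e.surjective x
  obtain ⟨y', rfl⟩ := e.surjective y
  have hy'0 : y' ≠ 0 := fun h => hy0 (by rw [h, map_zero])
  rw [map_div₀, map_div₀, map_div₀, he x', he y', ψ_algebraMap, ψ_algebraMap, ← he x', ← he y',
    stepA y' hy'0]
  by_cases hx'0 : x' = 0
  · rw [hx'0, map_zero, map_zero, map_zero, map_zero, map_zero]
  · rw [stepA x' hx'0]

theorem ord_transport (u : U.toScheme) (hu : coheight u = 1)
    [IsDiscreteValuationRing (X.presheaf.stalk u.1)] (g : (U : Scheme.{u}).functionField)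
    (hg : g ≠ 0) : Scheme.ord (ψ U g) u.1 = Scheme.ord g u := by
  have hψg : ψ U g ≠ 0 := fun h => hg ((ψ_bijective U).1 (h.trans (map_zero _).symm))
  rw [Scheme.ord_eq_iff (coheight_val U u hu) hψg, ordHom_transport U u hu g]
  exact (Scheme.ord_eq_iff hu hg).mp rfl

end Groth.Agent.Helper4.WDivOpen
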