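import Mathlib
import Groth.Agent.Lib.Helper4.WDivOpen

/-!
# Divisor class groups and open subschemes
-/

set_option autoImplicit false
set_option linter.style.haveILetI false

universe u

open CategoryTheory AlgebraicGeometry TopologicalSpace Order

namespace Groth.Agent.Helper4.WDivOpen

variable {X : Scheme.{u}} [IsIntegral X] [IsLocallyNoetherian X]

theorem coheight_of_val (U : X.Opens) (u : U.toScheme) (hx : coheight u.1 = 1) :
    coheight u = 1 :=
  (coheight_eq_of_isOpenImmersion U.ι (x := u)).symm.trans hx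

theorem restrict_iff
    (hR1 : ∀ x : X, coheight x = 1 → IsDiscreteValuationRing (X.presheaf.stalk x))
    (U : X.Opens) [Nonempty U] (hcod : ∀ x : X, x ∉ U → 2 ≤ coheight x)
    (D : X → ℤ) :
    (∃ f : X.functionField, f ≠ 0 ∧ ∀ x : X, coheight x = 1 → Scheme.ord f x = D x) ↔
      ∃ g : (U : Scheme.{u}).functionField, g ≠ 0 ∧
        ∀ u : (U : Scheme.{u}), coheight u = 1 → Scheme.ord g u = D u.1 := by
  constructor
  · rintro ⟨f, hf, h⟩
    obtain ⟨g, rfl⟩ := (ψ_bijective U).2 f
    have hg : g ≠ 0 := fun h0 => hf (by rw [h0, map_zero])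
    refine ⟨g, hg, fun u hu => ?_⟩
    haveI := hR1 u.1 (coheight_val U u hu)
    rw [← ord_transport U u hu g hg]
    exact h u.1 (coheight_val U u hu)
  · rintro ⟨g, hg, h⟩
    have hψg : ψ U g ≠ 0 := fun h0 => hg ((ψ_bijective U).1 (h0.trans (map_zero _).symm))
    refine ⟨ψ U g, hψg, fun x hx => ?_⟩
    have hxU : x ∈ U := by
      by_contra hxU
      have h2 := hcod x hxU
      rw [hx] at h2
      exact absurd h2 (by norm_num)
    haveI := hR1 x hx
    obtain ⟨u, rfl⟩ : ∃ u : U.toScheme, u.1 = x := ⟨⟨x, hxU⟩, rfl⟩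
    have hu := coheight_of_val U u hx
    have h1 := ord_transport U u hu g hg
    rw [h1]
    exact h u hu

theorem exact_at
    (hR1 : ∀ x : X, coheight x = 1 → IsDiscreteValuationRing (X.presheaf.stalk x))
    (z : X) (hz : coheight z = 1) (U : X.Opens) (hU : (U : Set X) = (closure {z})ᶜ)
    [Nonempty U] (D : X → ℤ)
    (g : (U : Scheme.{u}).functionField) (hg : g ≠ 0)
    (h : ∀ u : (U : Scheme.{u}), coheight u = 1 → Scheme.ord g u = D u.1) :
    ∃ (m : ℤ) (f : X.functionField), f ≠ 0 ∧ Scheme.ord f z = D z - m ∧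
      ∀ x : X, x ≠ z → coheight x = 1 → Scheme.ord f x = D x := by
  have hψg : ψ U g ≠ 0 := fun h0 => hg ((ψ_bijective U).1 (h0.trans (map_zero _).symm))
  refine ⟨D z - Scheme.ord (ψ U g) z, ψ U g, hψg, by ring, fun x hxz hx => ?_⟩
  have hxU : x ∈ U := by
    show x ∈ (U : Set X)
    rw [hU]
    intro hmem
    have hzx : z ⤳ x := specializes_iff_mem_closure.mpr hmem
    have hlt : x < z := by
      refine ⟨hzx, fun hxz' => hxz ?_⟩
      exact (Specializes.antisymm (show x ⤳ z from hxz') hzx).eq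
    have h1 := coheight_add_one_le hlt
    rw [hz, hx] at h1
    exact absurd h1 (by norm_num)
  haveI := hR1 x hx
  obtain ⟨u, rfl⟩ : ∃ u : U.toScheme, u.1 = x := ⟨⟨x, hxU⟩, rfl⟩
  have hu := coheight_of_val U u hx
  have h1 := ord_transport U u hu g hg
  rw [h1]
  exact h u hu

end Groth.Agent.Helper4.WDivOpen
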