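import Mathlib

/-!
# The divisor class group of the spectrum of a Noetherian factorial domain vanishes
-/

set_option autoImplicit false
set_option linter.style.haveILetI false

universe u

open CategoryTheory AlgebraicGeometry TopologicalSpace Order

namespace Groth.Agent.Helper4.WDivUFD

variable {X : Scheme.{u}} [IsIntegral X] [IsLocallyNoetherian X] [IsAffine X]

instance nonemptyTop : Nonempty (⊤ : X.Opens) := ⟨⟨genericPoint X, trivial⟩⟩

theorem height_primeIdealOf (x : X) (hx : coheight x = 1) :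
    ((isAffineOpen_top X).primeIdealOf ⟨x, trivial⟩).asIdeal.height = 1 := by
  have hU := isAffineOpen_top X
  let x₀ : (⊤ : X.Opens) := ⟨x, trivial⟩
  letI alg : Algebra Γ(X, ⊤) (X.presheaf.stalk x) :=
    TopCat.Presheaf.algebra_section_stalk X.presheaf x₀
  haveI hloc : IsLocalization.AtPrime (X.presheaf.stalk x) (hU.primeIdealOf x₀).asIdeal :=
    hU.isLocalization_stalk x₀
  have h1 := IsLocalization.AtPrime.ringKrullDim_eq_height (hU.primeIdealOf x₀).asIdeal
    (X.presheaf.stalk x)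
  rw [ringKrullDim_stalk_eq_coheight, hx] at h1
  exact_mod_cast h1.symm

theorem ordHom_of_not_mem (x : X) (hx : coheight x = 1) (σ : Γ(X, ⊤))
    (hσ : σ ∉ ((isAffineOpen_top X).primeIdealOf ⟨x, trivial⟩).asIdeal) :
    Scheme.ordHom x hx (X.germToFunctionField ⊤ σ) = 1 := by
  have hU := isAffineOpen_top X
  let x₀ : (⊤ : X.Opens) := ⟨x, trivial⟩
  letI alg : Algebra Γ(X, ⊤) (X.presheaf.stalk x) :=
    TopCat.Presheaf.algebra_section_stalk X.presheaf x₀
  haveI hloc : IsLocalization.AtPrime (X.presheaf.stalk x) (hU.primeIdealOf x₀).asIdeal :=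
    hU.isLocalization_stalk x₀
  haveI : Ring.KrullDimLE 1 (X.presheaf.stalk x) := krullDimLE_of_coheight_le hx.le
  have hu : IsUnit (X.presheaf.germ ⊤ x trivial σ) :=
    (IsLocalization.AtPrime.isUnit_to_map_iff (X.presheaf.stalk x)
      (hU.primeIdealOf x₀).asIdeal σ).mpr hσ
  rw [← Scheme.algebraMap_germ_eq_germToFunctionField (X := X) (U := ⊤) (x := x) trivial σ]
  exact Ring.ordFrac_of_isUnit hu

theorem ordHom_generator (x : X) (hx : coheight x = 1) (π : Γ(X, ⊤))
    (hπ : ((isAffineOpen_top X).primeIdealOf ⟨x, trivial⟩).asIdeal = Ideal.span {π}) :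
    Scheme.ordHom x hx (X.germToFunctionField ⊤ π) = WithZero.exp 1 := by
  have hU := isAffineOpen_top X
  let x₀ : (⊤ : X.Opens) := ⟨x, trivial⟩
  letI alg : Algebra Γ(X, ⊤) (X.presheaf.stalk x) :=
    TopCat.Presheaf.algebra_section_stalk X.presheaf x₀
  haveI hloc : IsLocalization.AtPrime (X.presheaf.stalk x) (hU.primeIdealOf x₀).asIdeal :=
    hU.isLocalization_stalk x₀
  have hmax : IsLocalRing.maximalIdeal (X.presheaf.stalk x) =
      Ideal.span {X.presheaf.germ ⊤ x trivial π} := by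
    rw [← IsLocalization.AtPrime.map_eq_maximalIdeal (hU.primeIdealOf x₀).asIdeal
      (X.presheaf.stalk x), hπ, Ideal.map_span, Set.image_singleton]
    rfl
  haveI : Ring.KrullDimLE 1 (X.presheaf.stalk x) := krullDimLE_of_coheight_le hx.le
  have hdim : ringKrullDim (X.presheaf.stalk x) = 1 := by
    rw [ringKrullDim_stalk_eq_coheight, hx]
    rfl
  have hpir : IsPrincipalIdealRing (X.presheaf.stalk x) :=
    ((tfae_of_isNoetherianRing_of_isLocalRing_of_isDomain (X.presheaf.stalk x)).out 4 0).mp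
      (show (IsLocalRing.maximalIdeal (X.presheaf.stalk x)).IsPrincipal from ⟨⟨_, hmax⟩⟩)
  haveI : IsDiscreteValuationRing (X.presheaf.stalk x) := by
    refine { hpir with not_a_field' := ?_ }
    intro hbot
    have hf : IsField (X.presheaf.stalk x) := IsLocalRing.isField_iff_maximalIdeal_eq.mpr hbot
    have h0 := ringKrullDim_eq_zero_of_isField hf
    rw [hdim] at h0
    exact one_ne_zero h0
  have hirr : Irreducible (X.presheaf.germ ⊤ x trivial π) :=
    (IsDiscreteValuationRing.irreducible_iff_uniformizer _).mpr hmax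
  rw [← Scheme.algebraMap_germ_eq_germToFunctionField (X := X) (U := ⊤) (x := x) trivial π]
  exact Ring.ordFrac_irreducible (K := X.functionField) hirr

theorem exists_generator [UniqueFactorizationMonoid Γ(X, ⊤)] (x : X) (hx : coheight x = 1) :
    ∃ π : Γ(X, ⊤), π ≠ 0 ∧
      ((isAffineOpen_top X).primeIdealOf ⟨x, trivial⟩).asIdeal = Ideal.span {π} := by
  haveI : IsNoetherianRing Γ(X, ⊤) :=
    IsLocallyNoetherian.component_noetherian ⟨⊤, isAffineOpen_top X⟩
  obtain ⟨p, hp⟩ : ∃ p : Ideal Γ(X, ⊤),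
      p = ((isAffineOpen_top X).primeIdealOf ⟨x, trivial⟩).asIdeal := ⟨_, rfl⟩
  haveI hpp : p.IsPrime := hp ▸ ((isAffineOpen_top X).primeIdealOf ⟨x, trivial⟩).isPrime
  have hht : p.height = 1 := hp ▸ height_primeIdealOf x hx
  have hne : p ≠ ⊥ := by
    intro h
    have h0 : p.height = 0 := Ideal.height_eq_zero_iff_eq_bot.mpr h
    rw [hht] at h0
    exact one_ne_zero h0
  obtain ⟨π, hπp, hπ⟩ := Ideal.IsPrime.exists_mem_prime_of_ne_bot hpp hne
  refine ⟨π, hπ.ne_zero, ?_⟩
  rw [← hp]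
  haveI : (Ideal.span {π}).IsPrime := (Ideal.span_singleton_prime hπ.ne_zero).mpr hπ
  have hle : Ideal.span {π} ≤ p := (Ideal.span_singleton_le_iff_mem _).mpr hπp
  have h1 : (1 : ℕ∞) ≤ (Ideal.span {π}).height := by
    rw [Order.one_le_iff_ne_zero, Ne, Ideal.height_eq_zero_iff_eq_bot,
      Ideal.span_singleton_eq_bot]
    exact hπ.ne_zero
  exact (Ideal.eq_of_le_of_height_le _ hle (by rw [hht]; exact h1)).symm

theorem not_mem_of_ne (x y : X) (hx : coheight x = 1) (hy : coheight y = 1) (hne : x ≠ y)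
    (π : Γ(X, ⊤))
    (hπ : ((isAffineOpen_top X).primeIdealOf ⟨x, trivial⟩).asIdeal = Ideal.span {π}) :
    π ∉ ((isAffineOpen_top X).primeIdealOf ⟨y, trivial⟩).asIdeal := by
  haveI : IsNoetherianRing Γ(X, ⊤) :=
    IsLocallyNoetherian.component_noetherian ⟨⊤, isAffineOpen_top X⟩
  intro hmem
  have hle : ((isAffineOpen_top X).primeIdealOf ⟨x, trivial⟩).asIdeal ≤
      ((isAffineOpen_top X).primeIdealOf ⟨y, trivial⟩).asIdeal := by
    rw [hπ]; exact (Ideal.span_singleton_le_iff_mem _).mpr hmem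
  have heq := Ideal.eq_of_le_of_height_le _ hle
    (by rw [height_primeIdealOf x hx, height_primeIdealOf y hy])
  apply hne
  have h1 := (isAffineOpen_top X).fromSpec_primeIdealOf ⟨x, trivial⟩
  have h2 := (isAffineOpen_top X).fromSpec_primeIdealOf ⟨y, trivial⟩
  have h3 : (isAffineOpen_top X).primeIdealOf ⟨x, trivial⟩ =
      (isAffineOpen_top X).primeIdealOf ⟨y, trivial⟩ := PrimeSpectrum.ext heq
  rw [h3] at h1
  exact h1.symm.trans h2

theorem exists_principal [UniqueFactorizationMonoid Γ(X, ⊤)]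
    (D : X → ℤ) (hD : ∀ x, coheight x ≠ 1 → D x = 0) (hfin : {x | D x ≠ 0}.Finite) :
    ∃ f : X.functionField, f ≠ 0 ∧ ∀ x : X, coheight x = 1 → Scheme.ord f x = D x := by
  classical
  choose π hπ0 hπ using fun (x : X) (hx : coheight x = 1) => exists_generator x hx
  obtain ⟨π', hπ'⟩ : ∃ π' : X → Γ(X, ⊤), ∀ x, π' x = if h : coheight x = 1 then π x h else 1 :=
    ⟨_, fun _ => rfl⟩
  have hπ'0 : ∀ x, π' x ≠ 0 := by
    intro x
    by_cases h : coheight x = 1
    · rw [hπ' x, dif_pos h]; exact hπ0 x h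
    · rw [hπ' x, dif_neg h]; exact one_ne_zero
  have hF0 : ∀ x, X.germToFunctionField ⊤ (π' x) ≠ 0 := fun x h =>
    hπ'0 x (Scheme.germToFunctionField_injective X ⊤ (h.trans (map_zero _).symm))
  have hf : (∏ x ∈ hfin.toFinset, (X.germToFunctionField ⊤ (π' x)) ^ (D x)) ≠ 0 := by
    rw [Finset.prod_ne_zero_iff]
    intro x _
    exact zpow_ne_zero _ (hF0 x)
  refine ⟨∏ x ∈ hfin.toFinset, (X.germToFunctionField ⊤ (π' x)) ^ (D x), hf, ?_⟩
  intro y hy
  rw [Scheme.ord_eq_iff hy hf, map_prod]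
  have hterm : ∀ x ∈ hfin.toFinset, x ≠ y →
      Scheme.ordHom y hy ((X.germToFunctionField ⊤ (π' x)) ^ (D x)) = 1 := by
    intro x hxS hxy
    have hx1 : coheight x = 1 := by
      by_contra h
      exact (hfin.mem_toFinset.mp hxS) (hD x h)
    rw [map_zpow₀]
    have h1 : Scheme.ordHom y hy (X.germToFunctionField ⊤ (π' x)) = 1 := by
      apply ordHom_of_not_mem
      rw [hπ' x, dif_pos hx1]
      exact not_mem_of_ne x y hx1 hy hxy _ (hπ x hx1)
    rw [h1, one_zpow]
  rw [Finset.prod_eq_single y hterm]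
  · rw [map_zpow₀]
    have h1 : Scheme.ordHom y hy (X.germToFunctionField ⊤ (π' y)) = WithZero.exp 1 := by
      apply ordHom_generator
      rw [hπ' y, dif_pos hy]
      exact hπ y hy
    rw [h1, ← WithZero.exp_zsmul, smul_eq_mul, mul_one]
    rfl
  · intro hyS
    have h0 : D y = 0 := by
      by_contra h
      exact hyS (hfin.mem_toFinset.mpr h)
    rw [h0, zpow_zero, map_one]

end Groth.Agent.Helper4.WDivUFD
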