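import Mathlib

/-!
Irreducibility of the homogeneous Weierstrass cubic over a field (Eisenstein at `Z`).
-/

set_option autoImplicit false

namespace Groth.Agent.Helper4.WeierstrassIrred

open MvPolynomial

universe u

variable (k : Type u) [Field k]

/-- `X 1` does not divide `X 0 ^ 2` in `k[X 0, X 1]`. -/
theorem not_X1_dvd_X0_sq : ¬ ((X 1 : MvPolynomial (Fin 2) k) ∣ X 0 ^ 2) := by
  rintro ⟨q, hq⟩
  have := congrArg (MvPolynomial.eval (![1, 0] : Fin 2 → k)) hq
  simp at this

theorem irreducible_aux (a₁ a₂ a₃ a₄ a₆ : k) :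
    Irreducible (Polynomial.X ^ 3 + Polynomial.C (C a₂ * X 1) * Polynomial.X ^ 2 +
      Polynomial.C (C a₄ * X 1 ^ 2 - C a₁ * X 0 * X 1) * Polynomial.X -
      Polynomial.C (X 0 ^ 2 * X 1 + C a₃ * X 0 * X 1 ^ 2 - C a₆ * X 1 ^ 3) :
      Polynomial (MvPolynomial (Fin 2) k)) := by
  set D := MvPolynomial (Fin 2) k
  set c₂ : D := C a₂ * X 1 with hc₂
  set c₁ : D := C a₄ * X 1 ^ 2 - C a₁ * X 0 * X 1 with hc₁
  set c₀ : D := X 0 ^ 2 * X 1 + C a₃ * X 0 * X 1 ^ 2 - C a₆ * X 1 ^ 3 with hc₀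
  set G : Polynomial D := Polynomial.X ^ 3 + Polynomial.C c₂ * Polynomial.X ^ 2 +
      Polynomial.C c₁ * Polynomial.X - Polynomial.C c₀ with hG
  have hmonic : G.Monic := by
    rw [hG]
    monicity!
  have hdeg : G.natDegree = 3 := by
    rw [hG]
    compute_degree!
  have hdeg' : G.degree = 3 := by
    rw [Polynomial.degree_eq_natDegree hmonic.ne_zero, hdeg]
    rfl
  have hP : (Ideal.span ({X 1} : Set D)).IsPrime :=
    (Ideal.span_singleton_prime (X_ne_zero _)).mpr X_prime
  have hco0 : G.coeff 0 = - c₀ := by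
    rw [hG]
    simp [Polynomial.coeff_X]
  have hco1 : G.coeff 1 = c₁ := by
    rw [hG]
    simp [Polynomial.coeff_X, Polynomial.coeff_C]
  have hco2 : G.coeff 2 = c₂ := by
    rw [hG]
    simp [Polynomial.coeff_X, Polynomial.coeff_C]
  refine Polynomial.irreducible_of_eisenstein_criterion hP ?_ ?_ ?_ ?_ hmonic.isPrimitive
  · rw [hmonic.leadingCoeff]
    intro h1
    exact hP.ne_top ((Ideal.eq_top_iff_one _).mpr h1)
  · intro n hn
    rw [hdeg'] at hn
    have hn' : n < 3 := by exact_mod_cast hn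
    rw [Ideal.mem_span_singleton]
    interval_cases n
    · rw [hco0, hc₀]
      exact (Dvd.intro_left (X 0 ^ 2 + C a₃ * X 0 * X 1 - C a₆ * X 1 ^ 2) (by ring)).neg_right
    · rw [hco1, hc₁]
      exact Dvd.intro_left (C a₄ * X 1 - C a₁ * X 0) (by ring)
    · rw [hco2, hc₂]
      exact Dvd.intro_left (C a₂) rfl
  · rw [hdeg']
    norm_num
  · rw [hco0, Ideal.span_singleton_pow, Ideal.mem_span_singleton, dvd_neg]
    rintro ⟨q, hq⟩
    apply not_X1_dvd_X0_sq k
    have h3 : (X 1 : D) * (X 0 ^ 2) = X 1 * (X 1 * (q - C a₃ * X 0 + C a₆ * X 1)) := by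
      have : c₀ = X 1 ^ 2 * q := hq
      rw [hc₀] at this
      linear_combination this
    exact ⟨_, mul_left_cancel₀ (X_ne_zero _) h3⟩

theorem irreducible_polynomial (W : WeierstrassCurve k) :
    Irreducible (WeierstrassCurve.Projective.polynomial W) := by
  let e := MvPolynomial.finSuccEquiv k 2
  have h1 : e (X 1) = Polynomial.C (X 0) := by
    have : (1 : Fin 3) = Fin.succ 0 := rfl
    rw [this, finSuccEquiv_X_succ]
  have h2 : e (X 2) = Polynomial.C (X 1) := by
    have : (2 : Fin 3) = Fin.succ 1 := rfl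
    rw [this, finSuccEquiv_X_succ]
  have h0 : e (X 0) = Polynomial.X := finSuccEquiv_X_zero
  have hC : ∀ a : k, e (C a) = Polynomial.C (C a) := by
    intro a
    have := e.commutes a
    simpa using this
  have key : e (WeierstrassCurve.Projective.polynomial W) =
      - (Polynomial.X ^ 3 + Polynomial.C (C W.a₂ * X 1) * Polynomial.X ^ 2 +
      Polynomial.C (C W.a₄ * X 1 ^ 2 - C W.a₁ * X 0 * X 1) * Polynomial.X -
      Polynomial.C (X 0 ^ 2 * X 1 + C W.a₃ * X 0 * X 1 ^ 2 - C W.a₆ * X 1 ^ 3)) := by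
    rw [WeierstrassCurve.Projective.polynomial]
    simp only [map_sub, map_add, map_mul, map_pow, h0, h1, h2, hC]
    ring
  have hirr : Irreducible (e (WeierstrassCurve.Projective.polynomial W)) := by
    have hu : IsUnit (-1 : Polynomial (MvPolynomial (Fin 2) k)) :=
      ⟨⟨-1, -1, by ring, by ring⟩, rfl⟩
    have e1 : ∀ G : Polynomial (MvPolynomial (Fin 2) k), -G = G * (-1) := fun G => by ring
    rw [key, e1, irreducible_mul_isUnit hu]
    exact irreducible_aux k W.a₁ W.a₂ W.a₃ W.a₄ W.a₆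
  exact (MulEquiv.irreducible_iff e).mp hirr

end Groth.Agent.Helper4.WeierstrassIrred
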